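import Mathlib
import Cfsg.Prelude.Def_Solvable

/-!
Basic theory of Frobenius complements (`Cfsg.IsFrobeniusComplement`), without Frobenius's theorem:
size of the kernel set, coprimality, centralizers, and what follows once the kernel is a subgroup `K`.
-/

set_option autoImplicit false

open scoped Pointwise
open Cfsg

namespace Cfsg.Agent.Frob

variable {G : Type*} [Group G] {H : Subgroup G}

theorem mem_smul_conj_iff (g x : G) : x ∈ MulAut.conj g • H ↔ g⁻¹ * x * g ∈ H := by
  rw [Subgroup.mem_pointwise_smul_iff_inv_smul_mem]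
  simp [MulAut.smul_def]

theorem eq_one_of_conj_mem (hH : IsFrobeniusComplement H) {g x : G} (hg : g ∉ H) (hx : x ∈ H)
    (hgx : g * x * g⁻¹ ∈ H) : x = 1 := by
  have h : g * x * g⁻¹ ∈ H ⊓ (MulAut.conj g • H) :=
    ⟨hgx, (mem_smul_conj_iff g _).mpr (by simpa [mul_assoc] using hx)⟩
  rw [hH.2.2 g hg, Subgroup.mem_bot, conj_eq_one_iff] at h
  exact h

theorem centralizer_le (hH : IsFrobeniusComplement H) {x : G} (hx : x ∈ H) (hx1 : x ≠ 1) :
    Subgroup.centralizer ({x} : Set G) ≤ H := by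
  intro g hg
  by_contra hgH
  refine hx1 (eq_one_of_conj_mem hH hgH hx ?_)
  rw [Subgroup.mem_centralizer_singleton_iff.mp hg, mul_inv_cancel_right]
  exact hx

theorem normalizer_eq (hH : IsFrobeniusComplement H) : Subgroup.normalizer (H : Set G) = H := by
  refine le_antisymm (fun g hg => ?_) Subgroup.le_normalizer
  by_contra hgH
  obtain ⟨x, hx, hx1⟩ := (Subgroup.bot_or_exists_ne_one H).resolve_left hH.1
  exact hx1 (eq_one_of_conj_mem hH hgH hx ((Subgroup.mem_normalizer_iff.mp hg x).mp hx))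

/-- a nontrivial element lies in at most one conjugate of the complement -/
theorem inv_mul_mem_of_mem_conj (hH : IsFrobeniusComplement H) {g f x : G} (hx1 : x ≠ 1)
    (hg : g⁻¹ * x * g ∈ H) (hf : f⁻¹ * x * f ∈ H) : g⁻¹ * f ∈ H := by
  by_contra h
  have h' : (g⁻¹ * f)⁻¹ ∉ H := fun h'' => h (by simpa using H.inv_mem h'')
  have := eq_one_of_conj_mem hH h' hg (by simpa [mul_assoc] using hf)
  apply hx1
  calc x = g * (g⁻¹ * x * g) * g⁻¹ := by group
    _ = 1 := by rw [this]; group

theorem one_mem_kernel : (1 : G) ∈ frobeniusKernel H := Or.inl rfl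

theorem mem_kernel_iff {x : G} : x ∈ frobeniusKernel H ↔ x = 1 ∨ ∀ g : G, g⁻¹ * x * g ∉ H := by
  simp only [frobeniusKernel, Set.mem_setOf_eq, mem_smul_conj_iff]

theorem conj_mem_kernel {x : G} (hx : x ∈ frobeniusKernel H) (g : G) : g * x * g⁻¹ ∈ frobeniusKernel H := by
  rw [mem_kernel_iff] at hx ⊢
  rcases hx with rfl | hx
  · exact Or.inl (by group)
  · refine Or.inr fun f hf => hx (g⁻¹ * f) ?_
    simpa [mul_assoc] using hf

theorem exists_conj_mem_of_notMem_kernel {x : G} (hx : x ∉ frobeniusKernel H) :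
    x ≠ 1 ∧ ∃ g : G, g⁻¹ * x * g ∈ H := by
  rw [mem_kernel_iff] at hx
  push Not at hx
  exact hx

theorem eq_one_of_mem_kernel_of_mem {x : G} (hx : x ∈ frobeniusKernel H) (hxH : x ∈ H) : x = 1 := by
  rcases mem_kernel_iff.mp hx with h | h
  · exact h
  · exact absurd (by simpa using hxH) (h 1)

section Finite

variable [Finite G]

theorem card_kernel (hH : IsFrobeniusComplement H) : Nat.card (frobeniusKernel H) = H.index := by
  classical
  let Φ : (G ⧸ H) × {x : H // x ≠ 1} → ((frobeniusKernel H)ᶜ : Set G) := fun p =>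
    ⟨p.1.out * (p.2.1 : G) * p.1.out⁻¹, by
      intro hmem
      rcases mem_kernel_iff.mp hmem with h | h
      · rw [conj_eq_one_iff] at h
        exact p.2.2 (Subtype.ext h)
      · refine h p.1.out ?_
        simp [mul_assoc]⟩
  have hΦ : Function.Bijective Φ := by
    constructor
    · rintro ⟨q, a⟩ ⟨r, b⟩ hab
      have heq : q.out * (a.1 : G) * q.out⁻¹ = r.out * (b.1 : G) * r.out⁻¹ := congrArg Subtype.val hab
      have hne : q.out * (a.1 : G) * q.out⁻¹ ≠ 1 := fun h => a.2 (Subtype.ext (conj_eq_one_iff.mp h))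
      have hq : q = r := by
        have := inv_mul_mem_of_mem_conj hH hne (g := q.out) (f := r.out)
          (by simp [mul_assoc]) (by rw [heq]; simp [mul_assoc])
        rw [← QuotientGroup.out_eq' q, ← QuotientGroup.out_eq' r]
        exact QuotientGroup.eq.mpr this
      subst hq
      exact Prod.ext rfl (Subtype.ext (Subtype.ext (mul_left_cancel (mul_right_cancel heq))))
    · rintro ⟨y, hy⟩
      obtain ⟨hy1, g, hg⟩ := exists_conj_mem_of_notMem_kernel hy
      obtain ⟨h, hh⟩ := QuotientGroup.mk_out_eq_mul H g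
      refine ⟨((g : G ⧸ H), ⟨⟨(h : G)⁻¹ * (g⁻¹ * y * g) * (h : G), ?_⟩, ?_⟩), Subtype.ext ?_⟩
      · exact H.mul_mem (H.mul_mem (H.inv_mem h.2) hg) h.2
      · intro hc
        have h' : (h : G)⁻¹ * (g⁻¹ * y * g) * ((h : G)⁻¹)⁻¹ = 1 := by simpa using congrArg Subtype.val hc
        rw [conj_eq_one_iff] at h'
        have h'' : g⁻¹ * y * g⁻¹⁻¹ = 1 := by simpa using h'
        exact hy1 (conj_eq_one_iff.mp h'')
      · show (g : G ⧸ H).out * ((h : G)⁻¹ * (g⁻¹ * y * g) * (h : G)) * ((g : G ⧸ H).out)⁻¹ = y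
        rw [hh]; group
  have h1 := Nat.card_congr (Equiv.ofBijective Φ hΦ)
  rw [Nat.card_prod, Nat.card_coe_set_eq, Set.ncard_compl] at h1
  have h2 : Nat.card {x : H // x ≠ 1} = Nat.card H - 1 := by
    let _ := Fintype.ofFinite H
    rw [Nat.card_eq_fintype_card, Nat.card_eq_fintype_card, Fintype.card_subtype_compl, Fintype.card_subtype_eq]
  have h3 := H.card_mul_index
  have h4 : (frobeniusKernel H).ncard ≤ Nat.card G := Set.ncard_le_card _
  rw [Nat.card_coe_set_eq]
  rw [h2] at h1
  have h5 : H.index * (Nat.card H - 1) + H.index = Nat.card G := by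
    rw [← h3, mul_comm (Nat.card H)]
    obtain ⟨m, hm⟩ := Nat.exists_eq_add_of_le (Nat.card_pos (α := H))
    rw [hm, show Nat.succ 0 + m - 1 = m by omega]
    ring
  change H.index * (Nat.card H - 1) = Nat.card G - (frobeniusKernel H).ncard at h1
  omega

theorem card_dvd_index_sub_one (hH : IsFrobeniusComplement H) : Nat.card H ∣ H.index - 1 := by
  classical
  let o : G ⧸ H := ((1 : G) : G ⧸ H)
  have ho : ∀ h : H, h • o = o := fun h => by
    show ((h * 1 : G) : G ⧸ H) = _
    rw [QuotientGroup.eq]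
    simp
  let X : SubMulAction H (G ⧸ H) :=
    { carrier := {q | q ≠ o}
      smul_mem' := fun h q hq hc => hq (MulAction.injective h (hc.trans (ho h).symm)) }
  have hst : ∀ q : X, MulAction.stabilizer H q = ⊥ := by
    rintro ⟨q, hq⟩
    obtain ⟨g, rfl⟩ := QuotientGroup.mk_surjective q
    rw [Subgroup.eq_bot_iff_forall]
    intro h hh
    have hh' : (((h : G) * g : G) : G ⧸ H) = g := congrArg Subtype.val hh
    rw [QuotientGroup.eq] at hh'
    have hg : g⁻¹ ∉ H := fun hg => hq (QuotientGroup.eq.mpr (by simpa using hg))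
    refine Subtype.ext (eq_one_of_conj_mem hH hg h.2 ?_)
    simpa [mul_assoc] using H.inv_mem hh'
  have e := Nat.card_congr (MulAction.selfEquivOrbitsQuotientProd hst)
  rw [Nat.card_prod] at e
  have hX : Nat.card X = H.index - 1 := by
    show Nat.card {q : G ⧸ H // q ≠ o} = _
    let _ := Fintype.ofFinite (G ⧸ H)
    rw [Nat.card_eq_fintype_card, Fintype.card_subtype_compl, Fintype.card_subtype_eq,
      Subgroup.index, Nat.card_eq_fintype_card]
  rw [hX] at e
  exact Dvd.intro_left _ e.symm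

theorem coprime_card_index (hH : IsFrobeniusComplement H) : (Nat.card H).Coprime H.index := by
  have h1 := (Nat.gcd_dvd_left (Nat.card H) H.index).trans (card_dvd_index_sub_one hH)
  have h2 := Nat.dvd_sub (Nat.gcd_dvd_right (Nat.card H) H.index) h1
  have hpos : 0 < H.index := Nat.pos_of_ne_zero Subgroup.index_ne_zero_of_finite
  rw [show H.index - (H.index - 1) = 1 by omega, Nat.dvd_one] at h2
  exact h2

end Finite

section Kernel

variable {K : Subgroup G}

theorem kernel_normal (hK : (K : Set G) = frobeniusKernel H) : K.Normal :=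
  ⟨fun n hn g => by
    rw [← SetLike.mem_coe, hK] at hn ⊢
    exact conj_mem_kernel hn g⟩

theorem kernel_inf_eq_bot (hK : (K : Set G) = frobeniusKernel H) : K ⊓ H = ⊥ := by
  rw [Subgroup.eq_bot_iff_forall]
  rintro x ⟨hx, hxH⟩
  replace hx : x ∈ frobeniusKernel H := hK ▸ (hx : x ∈ (K : Set G))
  exact eq_one_of_mem_kernel_of_mem hx hxH

theorem kernel_card [Finite G] (hH : IsFrobeniusComplement H) (hK : (K : Set G) = frobeniusKernel H) :
    Nat.card K = H.index :=
  (Nat.card_congr (Equiv.setCongr hK)).trans (card_kernel hH)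

theorem kernel_isComplement [Finite G] (hH : IsFrobeniusComplement H) (hK : (K : Set G) = frobeniusKernel H) :
    K.IsComplement' H :=
  Subgroup.isComplement'_of_card_mul_and_disjoint
    (by rw [kernel_card hH hK, mul_comm, H.card_mul_index]) (disjoint_iff.mpr (kernel_inf_eq_bot hK))

theorem kernel_index [Finite G] (hH : IsFrobeniusComplement H) (hK : (K : Set G) = frobeniusKernel H) :
    K.index = Nat.card H := by
  have h1 := K.card_mul_index
  rw [kernel_card hH hK, ← H.card_mul_index, mul_comm (Nat.card H)] at h1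
  exact Nat.eq_of_mul_eq_mul_left (Nat.pos_of_ne_zero Subgroup.index_ne_zero_of_finite) h1

theorem kernel_ne_bot [Finite G] (hH : IsFrobeniusComplement H) (hK : (K : Set G) = frobeniusKernel H) :
    K ≠ ⊥ := by
  intro h
  have h1 := kernel_card hH hK
  rw [h, Subgroup.card_bot] at h1
  exact hH.2.1 (Subgroup.index_eq_one.mp h1.symm)

/-- the centralizer of a nontrivial kernel element lies in the kernel -/
theorem centralizer_le_kernel (hH : IsFrobeniusComplement H) (hK : (K : Set G) = frobeniusKernel H) {k : G}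
    (hk : k ∈ K) (hk1 : k ≠ 1) : Subgroup.centralizer ({k} : Set G) ≤ K := by
  intro x hx
  by_contra hxK
  rw [← SetLike.mem_coe, hK] at hxK
  obtain ⟨hx1, g, hg⟩ := exists_conj_mem_of_notMem_kernel hxK
  have hne : g⁻¹ * x * g ≠ 1 := fun h => hx1 (by
    calc x = g * (g⁻¹ * x * g) * g⁻¹ := by group
      _ = 1 := by rw [h]; group)
  have hkx := Subgroup.mem_centralizer_singleton_iff.mp hx
  have hmem : g⁻¹ * k * g ∈ H := centralizer_le hH hg hne (Subgroup.mem_centralizer_singleton_iff.mpr (by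
    calc g⁻¹ * k * g * (g⁻¹ * x * g) = g⁻¹ * (k * x) * g := by group
      _ = g⁻¹ * (x * k) * g := by rw [hkx]
      _ = g⁻¹ * x * g * (g⁻¹ * k * g) := by group))
  rw [← SetLike.mem_coe, hK] at hk
  exact hk1 ((mem_kernel_iff.mp hk).elim id fun h => absurd hmem (h g))

/-- a normal subgroup contains the kernel or lies in it -/
theorem kernel_le_or_le [Finite G] (hH : IsFrobeniusComplement H) (hK : (K : Set G) = frobeniusKernel H)
    (N : Subgroup G) [hN : N.Normal] : K ≤ N ∨ N ≤ K := by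
  by_cases h : N ≤ K
  · exact Or.inr h
  left
  have hKn := kernel_normal hK
  obtain ⟨x, hx, hxK⟩ := SetLike.not_le_iff_exists.mp h
  rw [← SetLike.mem_coe, hK] at hxK
  obtain ⟨hx1, g, hg⟩ := exists_conj_mem_of_notMem_kernel hxK
  set y := g⁻¹ * x * g with hy
  have hyN : y ∈ N := by
    have := hN.conj_mem x hx g⁻¹
    rwa [inv_inv] at this
  have hy1 : y ≠ 1 := fun h => hx1 (by
    calc x = g * (g⁻¹ * x * g) * g⁻¹ := by group
      _ = 1 := by rw [← hy, h]; group)
  let f : K → K := fun k => ⟨y * (k : G) * y⁻¹ * (k : G)⁻¹, K.mul_mem (hKn.conj_mem _ k.2 y) (K.inv_mem k.2)⟩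
  have hf : Function.Injective f := by
    intro a b hab
    have h1 : y * (a : G) * y⁻¹ * (a : G)⁻¹ = y * (b : G) * y⁻¹ * (b : G)⁻¹ := congrArg Subtype.val hab
    have hc : (b : G)⁻¹ * (a : G) ∈ H := by
      refine centralizer_le hH hg hy1 (Subgroup.mem_centralizer_singleton_iff.mpr ?_)
      calc (b : G)⁻¹ * (a : G) * y = (b : G)⁻¹ * (y * (b : G) * y⁻¹ * (b : G)⁻¹)⁻¹ * (y * (b : G) * y⁻¹ * (b : G)⁻¹) * (a : G) * y := by group
        _ = (b : G)⁻¹ * (y * (b : G) * y⁻¹ * (b : G)⁻¹)⁻¹ * (y * (a : G) * y⁻¹ * (a : G)⁻¹) * (a : G) * y := by rw [h1]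
        _ = y * ((b : G)⁻¹ * (a : G)) := by group
    have : (b : G)⁻¹ * (a : G) ∈ K ⊓ H := ⟨K.mul_mem (K.inv_mem b.2) a.2, hc⟩
    rw [kernel_inf_eq_bot hK, Subgroup.mem_bot, inv_mul_eq_one] at this
    exact Subtype.ext this.symm
  intro k hk
  obtain ⟨a, ha⟩ := (Finite.injective_iff_surjective.mp hf) ⟨k, hk⟩
  rw [← show y * (a : G) * y⁻¹ * (a : G)⁻¹ = k from congrArg Subtype.val ha,
    show y * (a : G) * y⁻¹ * (a : G)⁻¹ = y * ((a : G) * y⁻¹ * (a : G)⁻¹) by group]
  exact N.mul_mem hyN (hN.conj_mem _ (N.inv_mem hyN) _)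

theorem kernel_characteristic [Finite G] (hH : IsFrobeniusComplement H)
    (hK : (K : Set G) = frobeniusKernel H) : K.Characteristic := by
  have hKn := kernel_normal hK
  rw [Subgroup.characteristic_iff_map_le]
  intro φ
  haveI : (K.map φ.toMonoidHom).Normal := hKn.map _ φ.surjective
  have hc : Nat.card (K.map φ.toMonoidHom) = Nat.card K :=
    Nat.card_congr (Subgroup.equivMapOfInjective _ _ φ.injective).toEquiv.symm
  rcases kernel_le_or_le hH hK (K.map φ.toMonoidHom) with h | h
  · exact (Subgroup.eq_of_le_of_card_ge h hc.le).ge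
  · exact h

end Kernel

end Cfsg.Agent.Frob
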