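import Mathlib

set_option autoImplicit false

namespace Cfsg.Agent.Recog

variable {G : Type*} [Group G]

theorem dihedral_conj_zpow {x s : G} (hs : s * s = 1) (h : s * x * s⁻¹ = x⁻¹) (k : ℤ) :
    s * x ^ k = x ^ (-k) * s := by
  have h1 : (s * x * s⁻¹) ^ k = s * x ^ k * s⁻¹ := (MulAut.conj s).toMonoidHom.map_zpow x k ▸ rfl
  rw [h, inv_zpow, ← zpow_neg] at h1
  rw [h1, inv_mul_cancel_right]

/-- the homomorphism out of a dihedral group given by an inverted element and an involution -/
def dihedralHom {n : ℕ} (x s : G) (hx : x ^ n = 1) (hs : s * s = 1) (h : s * x * s⁻¹ = x⁻¹) :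
    DihedralGroup n →* G :=
  let f : ZMod n →+ Additive G := ZMod.lift n ⟨(zmultiplesHom (Additive G)) (Additive.ofMul x), by
    simp only [zmultiplesHom_apply, natCast_zsmul]
    rw [← ofMul_pow, hx, ofMul_one]⟩
  { toFun := fun d => match d with
      | .r i => (f i).toMul
      | .sr i => s * (f i).toMul
    map_one' := by
      rw [DihedralGroup.one_def]
      simp
    map_mul' := by
      have hf : ∀ i : ZMod n, ∃ k : ℤ, (k : ZMod n) = i ∧ (f i).toMul = x ^ k := fun i => by
        obtain ⟨k, rfl⟩ := ZMod.intCast_surjective i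
        exact ⟨k, rfl, by simp [f, ZMod.lift_coe]⟩
      have hconj : ∀ i : ZMod n, s * (f i).toMul = (f (-i)).toMul * s := fun i => by
        obtain ⟨k, rfl, hk⟩ := hf i
        rw [hk, map_neg, toMul_neg, hk, ← zpow_neg, dihedral_conj_zpow hs h]
      have hconj' : ∀ i : ZMod n, (f i).toMul * s = s * (f (-i)).toMul := fun i => by
        rw [hconj (-i), neg_neg]
      rintro (i | i) (j | j)
      · rw [DihedralGroup.r_mul_r]; simp only [map_add, toMul_add]
      · rw [DihedralGroup.r_mul_sr]
        show s * (f (j - i)).toMul = (f i).toMul * (s * (f j).toMul)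
        rw [← mul_assoc, hconj', mul_assoc, ← toMul_add, ← map_add, neg_add_eq_sub]
      · rw [DihedralGroup.sr_mul_r]
        show s * (f (i + j)).toMul = s * (f i).toMul * (f j).toMul
        rw [map_add, toMul_add, mul_assoc]
      · rw [DihedralGroup.sr_mul_sr]
        show (f (j - i)).toMul = s * (f i).toMul * (s * (f j).toMul)
        rw [hconj, mul_assoc, ← mul_assoc s, hs, one_mul, ← toMul_add, ← map_add, neg_add_eq_sub] }

theorem dihedralHom_r {n : ℕ} (x s : G) (hx : x ^ n = 1) (hs : s * s = 1) (h : s * x * s⁻¹ = x⁻¹) :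
    dihedralHom x s hx hs h (.r 1) = x := by
  simp only [dihedralHom, MonoidHom.coe_mk, OneHom.coe_mk]
  rw [← Int.cast_one, ZMod.lift_coe]
  simp

theorem dihedralHom_sr {n : ℕ} (x s : G) (hx : x ^ n = 1) (hs : s * s = 1) (h : s * x * s⁻¹ = x⁻¹) :
    dihedralHom x s hx hs h (.sr 0) = s := by
  simp [dihedralHom]

end Cfsg.Agent.Recog
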