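import Mathlib
import Cfsg.Prelude.Def_Local
import Cfsg.Agent.Lib.Grp.LocalFitting
import Cfsg.Agent.Lib.Invol.Transport
import Cfsg.Agent.Lib.Transfer.Transitivity

/-!
Local subgroups of `p`-constrained groups are `p`-constrained.
-/

namespace Cfsg.Agent.Recog.LocalConstrained

open Cfsg.Agent
open scoped Pointwise

variable {p : ℕ} [hp : Fact p.Prime]

theorem pPrimeCore_eq_bot_of_centralizer {W : Type*} [Group W] [Finite W]
    (hW : Subgroup.centralizer (Cfsg.pCore p W : Set W) ≤ Cfsg.pCore p W) :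
    Cfsg.pPrimeCore p W = ⊥ := by
  have h1 := Grp.pPrimeCore_isNormal (p := p) (G := W)
  have h2 := Grp.pCore_isNormal (p := p) (G := W)
  have hdis : Cfsg.pPrimeCore p W ⊓ Cfsg.pCore p W = ⊥ := Grp.inf_eq_bot_of_coprime (by
    obtain ⟨m, hm⟩ := IsPGroup.iff_card.mp (Grp.pCore_isPGroup (p := p) (G := W))
    rw [hm]; exact (Grp.pPrimeCore_coprime (p := p) (G := W)).pow_right m)
  rw [← hdis]
  exact (inf_eq_left.mpr (le_trans (fun x hx => Subgroup.mem_centralizer_iff.mpr fun y hy =>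
    (Subgroup.commute_of_normal_of_disjoint _ _ h1 h2 (disjoint_iff.mpr hdis) x y hx hy).symm) hW)).symm

theorem isPConstrained_of_surjective {Z W : Type*} [Group Z] [Finite Z] [Group W] [Finite W]
    (f : Z →* W) (hf : Function.Surjective f) (hker : (Nat.card f.ker).Coprime p)
    (hW : Subgroup.centralizer (Cfsg.pCore p W : Set W) ≤ Cfsg.pCore p W) :
    Cfsg.IsPConstrained p Z := by
  have hk : f.ker = Cfsg.pPrimeCore p Z := by
    refine le_antisymm (Grp.le_pPrimeCore inferInstance hker) ?_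
    rw [← Subgroup.map_eq_bot_iff, ← le_bot_iff, ← pPrimeCore_eq_bot_of_centralizer hW]
    exact Grp.le_pPrimeCore (Grp.pPrimeCore_isNormal.map _ hf)
      ((Grp.pPrimeCore_coprime (p := p)).coprime_dvd_left (Subgroup.card_map_dvd _ f))
  have := Grp.pPrimeCore_isNormal (p := p) (G := Z)
  let e : Z ⧸ Cfsg.pPrimeCore p Z ≃* W :=
    (QuotientGroup.quotientMulEquivOfEq hk.symm).trans (QuotientGroup.quotientKerEquivOfSurjective f hf)
  have hY : Cfsg.pPrimePCore p Z = (Cfsg.pCore p W).comap f := by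
    rw [Cfsg.pPrimePCore, ← Invol.map_pCore_equiv e]
    ext z
    simp only [Subgroup.mem_comap]
    exact ⟨fun h => ⟨_, h, rfl⟩, fun ⟨w, hw, he⟩ => (show w = QuotientGroup.mk' _ z from e.injective he) ▸ hw⟩
  show ∀ P : Sylow p ↥(Cfsg.pPrimePCore p Z), _
  set Y := Cfsg.pPrimePCore p Z with hYdef
  intro P
  let φ : Y →* Cfsg.pCore p W :=
    MonoidHom.codRestrict (f.comp Y.subtype) _ fun y => Subgroup.mem_comap.mp (hY.le y.2)
  have hφ : Function.Surjective φ := fun ⟨w, hw⟩ => by
    obtain ⟨z, rfl⟩ := hf w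
    exact ⟨⟨z, hY.ge (Subgroup.mem_comap.mpr hw)⟩, rfl⟩
  have h1 : ((P.mapSurjective hφ : Sylow p (Cfsg.pCore p W)) : Subgroup (Cfsg.pCore p W)) = ⊤ :=
    ((P.mapSurjective hφ).is_maximal' ((Grp.pCore_isPGroup (p := p)).of_equiv Subgroup.topEquiv.symm)
      le_top).symm
  intro u hu
  refine hY.ge (Subgroup.mem_comap.mpr (hW (Subgroup.mem_centralizer_iff.mpr fun w hw => ?_)))
  obtain ⟨y, hy, hye⟩ : (⟨w, hw⟩ : Cfsg.pCore p W) ∈
      ((P.mapSurjective hφ : Sylow p (Cfsg.pCore p W)) : Subgroup (Cfsg.pCore p W)) := by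
    rw [h1]; trivial
  have e1 : f (y : Z) = w := congrArg Subtype.val hye
  rw [← e1, ← map_mul, ← map_mul, Subgroup.mem_centralizer_iff.mp hu y ⟨y, hy, rfl⟩]

theorem isPConstrained_of_equiv {Z W : Type*} [Group Z] [Finite Z] [Group W] [Finite W] (e : Z ≃* W)
    (hW : Cfsg.IsPConstrained p W) : Cfsg.IsPConstrained p Z := by
  have hn := Grp.pPrimeCore_isNormal (p := p) (G := W)
  refine isPConstrained_of_surjective ((QuotientGroup.mk' (Cfsg.pPrimeCore p W)).comp e.toMonoidHom)
    ((QuotientGroup.mk'_surjective _).comp e.surjective) ?_ (Transfer.Transitivity.centralizer_pCore_quotient hW)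
  have h : ((QuotientGroup.mk' (Cfsg.pPrimeCore p W)).comp e.toMonoidHom).ker =
      (Cfsg.pPrimeCore p W).map e.symm.toMonoidHom := by
    rw [← MonoidHom.comap_ker, QuotientGroup.ker_mk']
    exact Subgroup.comap_equiv_eq_map_symm e _
  rw [h, Subgroup.card_map_of_injective e.symm.injective]
  exact Grp.pPrimeCore_coprime

/-- The core-free case: a subgroup between `C(T)` and `N(T)`. -/
theorem centralizer_pCore_le {X : Type*} [Group X] [Finite X]
    (hX : Subgroup.centralizer (Cfsg.pCore p X : Set X) ≤ Cfsg.pCore p X)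
    {T Y : Subgroup X} (hT : IsPGroup p T) (h1 : Subgroup.centralizer (T : Set X) ≤ Y)
    (h2 : Y ≤ Subgroup.normalizer (T : Set X))
    (h3 : T ≤ Y ∨ Y ≤ Subgroup.centralizer (T : Set X)) :
    Subgroup.centralizer (Cfsg.pCore p Y : Set Y) ≤ Cfsg.pCore p Y := by
  have hXn := Grp.pCore_isNormal (p := p) (G := X)
  have hYn := Grp.pCore_isNormal (p := p) (G := Y)
  have key : ∀ y : Y, y ∈ Subgroup.centralizer (Cfsg.pCore p Y : Set Y) → (orderOf y).Coprime p → y = 1 := by
    intro y hy hyo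
    have hyo' : (orderOf (y : X)).Coprime p := by rwa [Subgroup.orderOf_coe]
    have hyT : (y : X) ∈ Subgroup.centralizer (T : Set X) := by
      rcases h3 with h3 | h3
      · refine Subgroup.mem_centralizer_iff.mpr fun t ht => ?_
        have htn : (T.subgroupOf Y).Normal := Subgroup.normal_subgroupOf_iff_le_normalizer h3 |>.mpr h2
        have := Subgroup.mem_centralizer_iff.mp hy ⟨t, h3 ht⟩
          (Grp.le_pCore htn (hT.comap_subtype) (show (⟨t, h3 ht⟩ : Y) ∈ T.subgroupOf Y from ht))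
        exact congrArg Subtype.val this
      · exact h3 y.2
    have hU : Cfsg.pCore p X ⊓ Subgroup.centralizer (T : Set X) ≤ Subgroup.centralizer {(y : X)} := by
      intro u hu
      have hun : ((Cfsg.pCore p X ⊓ Subgroup.centralizer (T : Set X)).subgroupOf Y).Normal := by
        refine ⟨fun a ha g => ⟨?_, ?_⟩⟩
        · exact hXn.conj_mem _ ha.1 _
        · refine Subgroup.mem_centralizer_iff.mpr fun t ht => ?_
          have ht' : (g : X)⁻¹ * t * g ∈ T := (Subgroup.mem_normalizer_iff''.mp (h2 g.2) t).mp ht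
          have := Subgroup.mem_centralizer_iff.mp ha.2 _ ht'
          simp only [Subgroup.coe_subtype, Subgroup.coe_mul, Subgroup.coe_inv] at this ⊢
          calc t * ((g : X) * (a : X) * (g : X)⁻¹) = (g : X) * (((g : X)⁻¹ * t * g) * a) * (g : X)⁻¹ := by group
            _ = _ := by rw [this]; group
      have hup : IsPGroup p ((Cfsg.pCore p X ⊓ Subgroup.centralizer (T : Set X)).subgroupOf Y) :=
        ((Grp.pCore_isPGroup (p := p) (G := X)).to_le inf_le_left).comap_subtype
      have := Subgroup.mem_centralizer_iff.mp hy ⟨u, h1 hu.2⟩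
        (Grp.le_pCore hun hup (show (⟨u, h1 hu.2⟩ : Y) ∈ _ from hu))
      refine Subgroup.mem_centralizer_singleton_iff.mpr ?_
      exact congrArg Subtype.val this
    have hy1 := hX (Grp.mem_centralizer_pCore hT hyo' hyT hU)
    obtain ⟨k, hk⟩ := IsPGroup.iff_orderOf.mp (Grp.pCore_isPGroup (p := p) (G := X)) ⟨_, hy1⟩
    have hk' : orderOf (y : X) = p ^ k := by
      rw [← hk]; exact (Subgroup.orderOf_coe (⟨_, hy1⟩ : Cfsg.pCore p X))
    have : orderOf y = 1 := by
      rw [← Subgroup.orderOf_coe]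
      exact Nat.eq_one_of_dvd_coprimes (hyo'.pow_right k) dvd_rfl hk'.dvd
    exact orderOf_eq_one_iff.mp this
  refine Grp.le_pCore inferInstance ?_
  rw [IsPGroup.iff_orderOf]
  rintro ⟨u, hu⟩
  obtain ⟨k, m, hm, hkm⟩ := Nat.exists_eq_pow_mul_and_not_dvd (orderOf_pos u).ne' p hp.out.ne_one
  refine ⟨k, ?_⟩
  have hco : (orderOf (u ^ p ^ k)).Coprime p := by
    rw [orderOf_pow' _ (pow_ne_zero k hp.out.ne_zero), hkm, Nat.gcd_mul_right_left,
      Nat.mul_div_cancel_left _ (pow_pos hp.out.pos k)]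
    exact (hp.out.coprime_iff_not_dvd.mpr hm).symm
  have h0 := key _ (pow_mem hu (p ^ k)) hco
  have hm1 : m = 1 := by
    have := orderOf_dvd_of_pow_eq_one h0
    rw [hkm] at this
    have h' := Nat.eq_one_of_dvd_coprimes ((hp.out.coprime_iff_not_dvd.mpr hm).symm.pow_right k)
      dvd_rfl (Dvd.intro_left _ rfl |>.trans this)
    exact h'
  rw [Subgroup.orderOf_mk, hkm, hm1, mul_one]

/-- A subgroup between `C(T)` and `N(T)` of a `p`-constrained group is `p`-constrained. -/
theorem isPConstrained_local {X : Type*} [Group X] [Finite X] (hX : Cfsg.IsPConstrained p X)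
    {T Y : Subgroup X} (hT : IsPGroup p T) (h1 : Subgroup.centralizer (T : Set X) ≤ Y)
    (h2 : Y ≤ Subgroup.normalizer (T : Set X))
    (h3 : T ≤ Y ∨ Y ≤ Subgroup.centralizer (T : Set X)) :
    Cfsg.IsPConstrained p Y := by
  have hn := Grp.pPrimeCore_isNormal (p := p) (G := X)
  set f := QuotientGroup.mk' (Cfsg.pPrimeCore p X)
  have hC : Subgroup.centralizer (T.map f : Set (X ⧸ Cfsg.pPrimeCore p X)) ≤ Y.map f := by
    rw [← Grp.map_centralizer_pGroup hT]; exact Subgroup.map_mono h1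
  have hN : Y.map f ≤ Subgroup.normalizer (T.map f : Set (X ⧸ Cfsg.pPrimeCore p X)) :=
    (Subgroup.map_mono h2).trans (Subgroup.le_normalizer_map f)
  have h3' : T.map f ≤ Y.map f ∨ Y.map f ≤ Subgroup.centralizer (T.map f : Set (X ⧸ Cfsg.pPrimeCore p X)) := by
    rcases h3 with h3 | h3
    · exact Or.inl (Subgroup.map_mono h3)
    · refine Or.inr ?_
      rw [← Grp.map_centralizer_pGroup hT]; exact Subgroup.map_mono h3
  refine isPConstrained_of_surjective (f.subgroupMap Y) (f.subgroupMap_surjective Y) ?_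
    (centralizer_pCore_le (Transfer.Transitivity.centralizer_pCore_quotient hX) (hT.map f) hC hN h3')
  refine (Grp.pPrimeCore_coprime (p := p) (G := X)).coprime_dvd_left ?_
  rw [show (f.subgroupMap Y).ker = (Cfsg.pPrimeCore p X).subgroupOf Y from ?_]
  · exact Subgroup.card_comap_dvd_of_injective _ _ Subtype.val_injective
  · ext y
    rw [MonoidHom.mem_ker, Subgroup.mem_subgroupOf, Subtype.ext_iff]
    exact QuotientGroup.eq_one_iff (y : X)

/-- A group with a normal `p`-subgroup whose centralizer is `p`-constrained is `p`-constrained. -/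
theorem isPConstrained_of_normal {X : Type*} [Group X] [Finite X] (T : Subgroup X) (hT : IsPGroup p T)
    (hTn : T.Normal) (C : Subgroup X) [C.Normal] (hC1 : Subgroup.centralizer (T : Set X) ≤ C)
    (hC2 : C ≤ Subgroup.centralizer (T : Set X)) (hC : Cfsg.IsPConstrained p C) :
    Cfsg.IsPConstrained p X := by
  have hKn := Grp.pPrimeCore_isNormal (p := p) (G := X)
  set K := Cfsg.pPrimeCore p X
  set f := QuotientGroup.mk' K with hf
  have hTR : T.map f ≤ Cfsg.pCore p (X ⧸ K) :=
    Grp.le_pCore (hTn.map _ (QuotientGroup.mk'_surjective _)) (hT.map f)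
  have hTY : T ≤ Cfsg.pPrimePCore p X := fun t ht => Subgroup.mem_comap.mpr (hTR ⟨t, ht, rfl⟩)
  have hCK : (Cfsg.pPrimeCore p C).map C.subtype ≤ K := by
    rw [Grp.pPrimeCore_map_eq]; exact inf_le_left
  set D := Cfsg.pPrimePCore p C with hD
  have hDY : D.map C.subtype ≤ Cfsg.pPrimePCore p X := by
    let g : C →* X ⧸ K := f.comp C.subtype
    have hD' : IsPGroup p (D.map g) := by
      have hCn := Grp.pPrimeCore_isNormal (p := p) (G := C)
      have hle : Cfsg.pPrimeCore p C ≤ g.ker := fun c hc => by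
        rw [MonoidHom.mem_ker]
        exact (QuotientGroup.eq_one_iff (c : X)).mpr (hCK ⟨c, hc, rfl⟩)
      have e : g = (QuotientGroup.lift _ g hle).comp (QuotientGroup.mk' (Cfsg.pPrimeCore p C)) := by
        ext c; rfl
      rw [e, ← Subgroup.map_map]
      refine IsPGroup.map ?_ _
      rw [hD, Cfsg.pPrimePCore, Subgroup.map_comap_eq_self_of_surjective (QuotientGroup.mk'_surjective _)]
      exact Grp.pCore_isPGroup
    haveI : D.Normal := by
      haveI := Grp.pCore_isNormal (p := p) (G := C ⧸ Cfsg.pPrimeCore p C)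
      rw [hD, Cfsg.pPrimePCore]; infer_instance
    haveI : (C.map f).Normal := (inferInstance : C.Normal).map f (QuotientGroup.mk'_surjective _)
    let g' : C →* (C.map f) := f.subgroupMap C
    have hD'' : IsPGroup p (D.map g') := by
      have e : g = (C.map f).subtype.comp g' := rfl
      rw [e, ← Subgroup.map_map] at hD'
      exact hD'.of_equiv (Subgroup.equivMapOfInjective _ _ Subtype.val_injective).symm
    have h2 := Grp.le_pCore (p := p) (G := C.map f)
      ((‹D.Normal›).map g' (f.subgroupMap_surjective C)) hD''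
    intro x hx
    obtain ⟨c, hc, rfl⟩ := hx
    exact Subgroup.mem_comap.mpr (Grp.pCore_map_le (C.map f) ⟨g' c, h2 ⟨c, hc, rfl⟩, rfl⟩)
  show ∀ P : Sylow p ↥(Cfsg.pPrimePCore p X), _
  set Y := Cfsg.pPrimePCore p X with hY
  intro P u hu
  haveI hYn : Y.Normal := by
    haveI := Grp.pCore_isNormal (p := p) (G := X ⧸ K)
    rw [hY, Cfsg.pPrimePCore]; infer_instance
  have hTP : T.subgroupOf Y ≤ (P : Subgroup Y) := by
    rw [← sup_eq_right]
    exact P.3 (hT.comap_subtype.to_sup_of_normal_left P.isPGroup') le_sup_right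
  have huC : u ∈ C := hC1 (Subgroup.mem_centralizer_iff.mpr fun t ht =>
    Subgroup.mem_centralizer_iff.mp hu t ⟨⟨t, hTY ht⟩, hTP ht, rfl⟩)
  let ψ : D →* Y := (C.subtype.comp D.subtype).codRestrict Y fun d => hDY ⟨d, d.2, rfl⟩
  obtain ⟨S⟩ : Nonempty (Sylow p D) := Sylow.nonempty
  obtain ⟨P', hP'⟩ := (S.isPGroup'.map ψ).exists_le_sylow
  obtain ⟨y, hy⟩ := MulAction.exists_smul_eq Y P P'
  have hu' : (y : X) * u * (y : X)⁻¹ ∈ Subgroup.centralizer ((P' : Subgroup Y).map Y.subtype : Set X) := by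
    refine Subgroup.mem_centralizer_iff.mpr ?_
    rintro _ ⟨z, hz, rfl⟩
    rw [← hy] at hz
    have hz' : z ∈ MulAut.conj y • (P : Subgroup Y) := hz
    obtain ⟨w, hw, rfl⟩ := Subgroup.mem_map.mp hz'
    have := Subgroup.mem_centralizer_iff.mp hu (w : X) ⟨w, hw, rfl⟩
    simp only [MulDistribMulAction.toMonoidHom_apply, MulDistribMulAction.toMonoidEnd_apply,
      MulAut.smul_def, MulAut.conj_apply, Subgroup.coe_subtype, Subgroup.coe_mul, Subgroup.coe_inv]
    calc (y : X) * w * (y : X)⁻¹ * ((y : X) * u * (y : X)⁻¹) = (y : X) * ((w : X) * u) * (y : X)⁻¹ := by group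
      _ = _ := by rw [this]; group
  have huC' : (y : X) * u * (y : X)⁻¹ ∈ C := (inferInstance : C.Normal).conj_mem u huC (y : X)
  have hmem := hC S (x := ⟨_, huC'⟩) (Subgroup.mem_centralizer_iff.mpr fun s hs => by
    obtain ⟨s, hs', rfl⟩ := hs
    refine Subtype.ext ?_
    exact Subgroup.mem_centralizer_iff.mp hu' _ ⟨ψ s, hP' ⟨s, hs', rfl⟩, rfl⟩)
  have hmemY : (y : X) * u * (y : X)⁻¹ ∈ Y := hDY ⟨_, hmem, rfl⟩
  have := Y.mul_mem (Y.mul_mem (Y.inv_mem y.2) hmemY) y.2
  rwa [show (y : X)⁻¹ * ((y : X) * u * (y : X)⁻¹) * y = u by group] at this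

end Cfsg.Agent.Recog.LocalConstrained
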