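import Cfsg.Agent.Lib.Recog.HuppertCases

/-!
The case of a primitive prime divisor.
-/

set_option autoImplicit false

namespace Cfsg.Agent.Recog.HuppertPrimitive

open Cfsg.Agent Cfsg.Agent.Recog.HuppertCases Polynomial

universe u v

variable {q : ℕ} [Fact q.Prime] {V : Type v} [AddCommGroup V] [Module (ZMod q) V] [Finite V]
  {G : Type u} [Group G] [Finite G] {ρ : G →* (V ≃ₗ[ZMod q] V)}

/-- base change of an endomorphism to the algebraic closure, in coordinates -/
noncomputable def coords :
    Module.End (ZMod q) V →* Module.End (AlgebraicClosure (ZMod q))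
      (Fin (Module.finrank (ZMod q) V) → AlgebraicClosure (ZMod q)) where
  toFun f := Matrix.toLinAlgEquiv' ((LinearMap.toMatrixAlgEquiv (Module.finBasis (ZMod q) V) f).map
    (algebraMap (ZMod q) (AlgebraicClosure (ZMod q))))
  map_one' := by simp [Matrix.map_one]
  map_mul' f g := by rw [map_mul, Matrix.map_mul, map_mul]

theorem coords_injective :
    Function.Injective (coords (q := q) (V := V)) := fun f g h => by
  refine (LinearMap.toMatrixAlgEquiv (Module.finBasis (ZMod q) V)).injective ?_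
  exact Matrix.map_injective (algebraMap (ZMod q) _).injective (Matrix.toLinAlgEquiv'.injective h)

theorem charpoly_coords (f : Module.End (ZMod q) V) :
    LinearMap.charpoly (coords f) = (LinearMap.charpoly f).map (algebraMap (ZMod q) (AlgebraicClosure (ZMod q))) := by
  rw [← LinearMap.charpoly_toMatrix f (Module.finBasis (ZMod q) V), ← Matrix.charpoly_map, ← Matrix.charpoly_toLin']
  rfl

theorem r_ne_q {r : ℕ} (hP : Zsigmondy.Primitive q (Module.finrank (ZMod q) V) r)
    (hn : 0 < Module.finrank (ZMod q) V) : r ≠ q := by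
  rintro rfl
  have h1 : r ∣ r ^ Module.finrank (ZMod r) V := dvd_pow_self r hn.ne'
  have h2 : 1 ≤ r ^ Module.finrank (ZMod r) V := Nat.one_le_pow _ _ hP.1.pos
  have h3 := Nat.dvd_sub h1 hP.2.1
  rw [show r ^ Module.finrank (ZMod r) V - (r ^ Module.finrank (ZMod r) V - 1) = 1 by omega] at h3
  exact hP.1.one_lt.ne' (Nat.dvd_one.mp h3)

theorem order_lt {r : ℕ} (hP : Zsigmondy.Primitive q (Module.finrank (ZMod q) V) r)
    (hn : 0 < Module.finrank (ZMod q) V) : Module.finrank (ZMod q) V < r := by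
  haveI := Fact.mk hP.1
  have hq := (Fact.out : q.Prime)
  have h0 : ((q : ℕ) : ZMod r) ≠ 0 := by
    rw [Ne, ZMod.natCast_eq_zero_iff, Nat.prime_dvd_prime_iff_eq hP.1 hq]
    exact r_ne_q hP hn
  have h1 := ZMod.pow_card_sub_one_eq_one h0
  by_contra hc
  push Not at hc
  exact hP.2.2 (r - 1) (by have := hP.1.two_le; omega) (by have := hP.1.two_le; omega)
    ((Zsigmondy.dvd_pow_sub_one_iff hq.one_lt.le).mpr h1)

/-- an element of primitive prime order has all its conjugate eigenvalues, all different from one -/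
theorem eigen {r : ℕ} (hρ : Function.Injective ρ) (hn : 0 < Module.finrank (ZMod q) V)
    (hP : Zsigmondy.Primitive q (Module.finrank (ZMod q) V) r) {y : G} (hy : orderOf y = r) :
    ∃ (φ : G →* Matrix (Fin (Module.finrank (ZMod q) V)) (Fin (Module.finrank (ZMod q) V)) (AlgebraicClosure (ZMod q)))
      (μ : Fin (Module.finrank (ZMod q) V) → AlgebraicClosure (ZMod q)),
      Function.Injective φ ∧ Function.Injective μ ∧ φ y = Matrix.diagonal μ ∧ (∀ v : V, ρ y v = v → v = 0) ∧
      (∀ g, (φ g).charpoly = (LinearMap.charpoly (toEnd ρ g)).map (algebraMap (ZMod q) (AlgebraicClosure (ZMod q)))) := by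
  classical
  set n := Module.finrank (ZMod q) V
  let K := AlgebraicClosure (ZMod q)
  haveI := Fact.mk hP.1
  have hrq := r_ne_q hP hn
  let ψ : G →* Module.End K (Fin n → K) := coords.comp (toEnd ρ)
  have hψ : Function.Injective ψ := coords_injective.comp (fun a b h => hρ (LinearEquiv.toLinearMap_injective h))
  set M := ψ y
  have hMr : M ^ r = 1 := by rw [← map_pow, ← hy, pow_orderOf_eq_one, map_one]
  have hM1 : M ≠ 1 := fun h => hP.1.one_lt.ne' (by
    rw [← hy, orderOf_eq_one_iff]; exact hψ (h.trans (map_one _).symm))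
  set χ := LinearMap.charpoly (toEnd ρ y)
  have hχ : LinearMap.charpoly M = χ.map (algebraMap (ZMod q) K) := charpoly_coords _
  have hdeg : (LinearMap.charpoly M).natDegree = n := by rw [LinearMap.charpoly_natDegree, Module.finrank_fin_fun]
  have hroot : ∀ c : K, (LinearMap.charpoly M).IsRoot c → c ^ r = 1 := fun c hc => by
    obtain ⟨w, hw⟩ := ((Module.End.hasEigenvalue_iff_isRoot_charpoly M c).mpr hc).exists_hasEigenvector
    have h1 := hw.pow_apply r
    rw [hMr, Module.End.one_apply] at h1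
    have h2 : (c ^ r - 1) • w = 0 := by rw [sub_smul, one_smul, ← h1, sub_self]
    exact sub_eq_zero.mp ((smul_eq_zero.mp h2).resolve_right hw.2)
  obtain ⟨lam, hlam, hlam1⟩ : ∃ c : K, (LinearMap.charpoly M).IsRoot c ∧ c ≠ 1 := by
    by_contra hno
    push Not at hno
    have hsplit := (IsAlgClosed.splits (LinearMap.charpoly M)).eq_prod_roots_of_monic (LinearMap.charpoly_monic M)
    have hall : ∀ c ∈ (LinearMap.charpoly M).roots, c = 1 := fun c hc => hno c (Polynomial.isRoot_of_mem_roots hc)
    rw [Multiset.eq_replicate_card.mpr hall, Multiset.map_replicate, Multiset.prod_replicate, map_one] at hsplit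
    have hCH := LinearMap.aeval_self_charpoly M
    rw [hsplit, map_pow, map_sub, aeval_X, map_one] at hCH
    set m := Multiset.card (LinearMap.charpoly M).roots
    have hq := (Fact.out : q.Prime)
    haveI : CharP K q := charP_of_injective_algebraMap (algebraMap (ZMod q) K).injective q
    have h1 : (M - 1) ^ q ^ m = 0 := pow_eq_zero_of_le (Nat.lt_pow_self hq.one_lt).le hCH
    haveI : Nontrivial (Fin n → K) := by
      haveI : Nonempty (Fin n) := ⟨⟨0, hn⟩⟩
      infer_instance
    haveI : Nontrivial (Module.End K (Fin n → K)) := inferInstance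
    haveI : CharP (Module.End K (Fin n → K)) q := charP_of_injective_algebraMap
      (algebraMap K (Module.End K (Fin n → K))).injective q
    haveI : ExpChar (Module.End K (Fin n → K)) q := ExpChar.prime hq
    rw [sub_pow_expChar_pow_of_commute (p := q) (h := Commute.one_right M), one_pow, sub_eq_zero] at h1
    refine hM1 (orderOf_eq_one_iff.mp (Nat.eq_one_of_dvd_coprimes ?_ (orderOf_dvd_of_pow_eq_one hMr)
      (orderOf_dvd_of_pow_eq_one h1)))
    exact ((Nat.coprime_primes hP.1 hq).mpr hrq).pow_right m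
  have hlr : lam ^ r = 1 := hroot lam hlam
  have hord : orderOf lam = r := orderOf_eq_prime hlr hlam1
  have hconj : ∀ i : ℕ, (LinearMap.charpoly M).IsRoot (lam ^ q ^ i) := by
    intro i
    induction i with
    | zero => simpa using hlam
    | succ i ih =>
      rw [hχ, IsRoot.def, eval_map_algebraMap] at ih ⊢
      rw [pow_succ, pow_mul, ← expand_aeval, ZMod.expand_card, map_pow, ih, zero_pow (Fact.out : q.Prime).ne_zero]
  let μ : Fin n → K := fun i => lam ^ q ^ (i : ℕ)
  have hμ : Function.Injective μ := by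
    have key : ∀ i j : ℕ, i < j → j < n → lam ^ q ^ i ≠ lam ^ q ^ j := by
      intro i j hij hj heq
      have hle : q ^ i ≤ q ^ j := Nat.pow_le_pow_right (Fact.out : q.Prime).pos hij.le
      have hl0 : lam ≠ 0 := fun h0 => by rw [h0, zero_pow hP.1.ne_zero] at hlr; exact zero_ne_one hlr
      have h1 : orderOf lam ∣ q ^ j - q ^ i :=
        orderOf_dvd_of_pow_eq_one (by rw [pow_sub₀ _ hl0 hle, ← heq, mul_inv_cancel₀ (pow_ne_zero _ hl0)])
      rw [hord,
        show q ^ j = q ^ i * q ^ (j - i) by rw [← pow_add, Nat.add_sub_cancel' hij.le],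
        show q ^ i * q ^ (j - i) - q ^ i = q ^ i * (q ^ (j - i) - 1) by rw [Nat.mul_sub, mul_one]] at h1
      rcases hP.1.dvd_mul.mp h1 with h2 | h2
      · exact hrq ((Nat.prime_dvd_prime_iff_eq hP.1 Fact.out).mp (hP.1.dvd_of_dvd_pow h2))
      · exact hP.2.2 (j - i) (by omega) (by omega) h2
    intro i j hij
    rcases lt_trichotomy (i : ℕ) j with h | h | h
    · exact absurd hij (key i j h j.2)
    · exact Fin.ext h
    · exact absurd hij.symm (key j i h i.2)
  have hall : ∀ c, (LinearMap.charpoly M).IsRoot c → ∃ i, μ i = c := by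
    intro c hc
    by_contra hne
    push Not at hne
    have hsub : insert c (Finset.univ.image μ) ⊆ (LinearMap.charpoly M).roots.toFinset := by
      intro a ha
      rw [Multiset.mem_toFinset, mem_roots (LinearMap.charpoly_monic M).ne_zero]
      rcases Finset.mem_insert.mp ha with rfl | ha
      · exact hc
      · obtain ⟨i, -, rfl⟩ := Finset.mem_image.mp ha
        exact hconj i
    have h2 := (Finset.card_le_card hsub).trans ((Multiset.toFinset_card_le _).trans (card_roots' _))
    rw [Finset.card_insert_of_notMem (fun hh => by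
        obtain ⟨i, -, hi⟩ := Finset.mem_image.mp hh; exact hne i hi), Finset.card_image_of_injective _ hμ,
      Finset.card_univ, Fintype.card_fin, hdeg] at h2
    omega
  choose w hw using fun i : Fin n =>
    ((Module.End.hasEigenvalue_iff_isRoot_charpoly M (μ i)).mpr (hconj i)).exists_hasEigenvector
  have hli : LinearIndependent K w := Module.End.eigenvectors_linearIndependent' M μ hμ w hw
  haveI : Nonempty (Fin n) := ⟨⟨0, hn⟩⟩
  let bw := basisOfLinearIndependentOfCardEqFinrank hli (by rw [Fintype.card_fin, Module.finrank_fin_fun])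
  have hbw : ∀ i, bw i = w i := fun i => by rw [coe_basisOfLinearIndependentOfCardEqFinrank]
  refine ⟨((LinearMap.toMatrixAlgEquiv bw : _ ≃ₐ[K] _) : _ →* _).comp ψ, μ,
    (LinearMap.toMatrixAlgEquiv bw).injective.comp hψ, hμ, ?_, ?_, fun g => ?_⟩
  · show LinearMap.toMatrixAlgEquiv bw M = _
    ext i j
    rw [LinearMap.toMatrixAlgEquiv_apply, hbw, (hw j).apply_eq_smul, ← hbw, map_smul, Finsupp.smul_apply,
      Module.Basis.repr_self, Finsupp.single_apply, Matrix.diagonal_apply, smul_eq_mul]
    by_cases hij : i = j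
    · subst hij; simp
    · rw [if_neg (Ne.symm hij), if_neg hij, mul_zero]
  · intro v hv
    by_contra hv0
    have h1 : χ.IsRoot 1 := (Module.End.hasEigenvalue_iff_isRoot_charpoly _ _).mp
      (Module.End.hasEigenvalue_of_hasEigenvector (x := v) ⟨Module.End.mem_eigenspace_iff.mpr (by simpa [toEnd_apply] using hv), hv0⟩)
    have h2 : (LinearMap.charpoly M).IsRoot 1 := by
      rw [hχ, IsRoot.def, eval_one_map, h1, map_zero]
    obtain ⟨i, hi⟩ := hall 1 h2
    have := orderOf_dvd_of_pow_eq_one hi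
    rw [hord] at this
    exact hrq ((Nat.prime_dvd_prime_iff_eq hP.1 Fact.out).mp (hP.1.dvd_of_dvd_pow this))
  · show (LinearMap.toMatrix bw bw (ψ g)).charpoly = _
    rw [LinearMap.charpoly_toMatrix]
    exact charpoly_coords _

/-- The primitive prime case: semilinear, or the equality case. -/
theorem main [Nontrivial V] [Group.IsSolvable G] (hρ : Function.Injective ρ) (ht : Trans ρ) {r : ℕ}
    (hP : Zsigmondy.Primitive q (Module.finrank (ZMod q) V) r) :
    Semi ρ ∨ (r = Module.finrank (ZMod q) V + 1 ∧ ¬ r ^ 2 ∣ q ^ Module.finrank (ZMod q) V - 1 ∧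
      ∃ s j : ℕ, s.Prime ∧ s ≠ q ∧ Module.finrank (ZMod q) V * Module.finrank (ZMod q) V = s ^ j) := by
  classical
  set n := Module.finrank (ZMod q) V with hn_def
  have hn : 0 < n := Module.finrank_pos
  haveI := Fact.mk hP.1
  have hrn := order_lt hP hn
  have hrq := r_ne_q hP hn
  haveI : CharP (AlgebraicClosure (ZMod q)) q :=
    charP_of_injective_algebraMap (algebraMap (ZMod q) (AlgebraicClosure (ZMod q))).injective q
  have hcast : ∀ p : ℕ, p.Prime → p ≠ q → (p : AlgebraicClosure (ZMod q)) ≠ 0 := fun p hp hne => by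
    rw [Ne, CharP.cast_eq_zero_iff _ q, Nat.prime_dvd_prime_iff_eq Fact.out hp]; exact hne.symm
  have mkGood : ∀ (x : G) (e : ℕ), 1 ≤ e → orderOf x = r ^ e → ∃ φ μ,
      HuppertKey.Good (n := n) (K := AlgebraicClosure (ZMod q)) φ r e x μ := by
    intro x e he hx
    have hy : orderOf (x ^ r ^ (e - 1)) = r := by
      rw [orderOf_pow' _ (pow_ne_zero _ hP.1.ne_zero), hx, Nat.gcd_eq_right (pow_dvd_pow r (by omega)),
        Nat.pow_div (by omega) hP.1.pos, show e - (e - 1) = 1 by omega, pow_one]
    obtain ⟨φ, μ, h1, h2, h3, -, -⟩ := eigen hρ hn hP hy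
    exact ⟨φ, μ, h1, hP.1, he, hx, hrn, hcast r hP.1 hrq, h2, h3⟩
  have hdvd : r ∣ Nat.card G := hP.2.1.trans (card_sub_one_dvd ht)
  by_cases hOr : pCore r G = ⊥
  swap
  · left
    set R := pCore r G
    have hRn : R.Normal := Grp.pCore_isNormal
    have hRp : IsPGroup r R := Grp.pCore_isPGroup
    haveI : Nontrivial R := (Subgroup.nontrivial_iff_ne_bot R).mpr hOr
    haveI : Nontrivial (Subgroup.center R) := hRp.center_nontrivial
    have hrc : r ∣ Nat.card (Subgroup.center R) := by
      obtain ⟨k, hk⟩ := (hRp.to_subgroup (Subgroup.center R)).exists_card_eq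
      rcases Nat.eq_zero_or_pos k with rfl | hk0
      · exact absurd (hk.trans (pow_zero r)) (Finite.one_lt_card (α := Subgroup.center R)).ne'
      · rw [hk]; exact dvd_pow_self r hk0.ne'
    obtain ⟨z, hz⟩ := exists_prime_orderOf_dvd_card' r hrc
    set y : G := ((z : R) : G) with hy
    have hyo : orderOf y = r := by rw [hy, Subgroup.orderOf_coe, Subgroup.orderOf_coe, hz]
    obtain ⟨φ, μ, h1, h2, h3, hfix, -⟩ := eigen hρ hn hP hyo
    have hG : HuppertKey.Good φ r 1 y μ :=
      ⟨h1, hP.1, le_rfl, by rw [hyo, pow_one], hrn, hcast r hP.1 hrq, h2, by simpa using h3⟩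
    have hcy : ∀ a ∈ R, Commute a (y ^ r ^ (1 - 1)) := fun a ha => by
      simpa [hy, Commute, SemiconjBy] using congrArg Subtype.val (Subgroup.mem_center_iff.mp z.2 ⟨a, ha⟩)
    refine semilinear hRn (fun a ha b hb => hG.comm (hcy a ha) (hcy b hb)) fun W hW => ?_
    by_contra hne
    push Not at hne
    obtain ⟨hWb, hWt⟩ := hne
    have hyR : y ∈ R := (z : R).2
    have hpw : ∀ h : G, h ∈ Subgroup.zpowers y → h ∈ R := fun h hh => (Subgroup.zpowers_le.mpr hyR) hh
    letI : MulAction (Subgroup.zpowers y) W :=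
      { smul := fun h w => ⟨ρ (h : G) (w : V), hW h (hpw h h.2) w w.2⟩
        one_smul := fun w => Subtype.ext (by show ρ ((1 : Subgroup.zpowers y) : G) (w : V) = w; simp)
        mul_smul := fun a b w => Subtype.ext (rho_mul _ _ _) }
    have hyp : IsPGroup r (Subgroup.zpowers y) :=
      IsPGroup.of_card (n := 1) (by rw [Nat.card_zpowers, hyo, pow_one])
    have hmod := hyp.card_modEq_card_fixedPoints W
    have hfp : MulAction.fixedPoints (Subgroup.zpowers y) W = {0} := by
      ext w
      refine ⟨fun hw => Subtype.ext (hfix _ (congrArg Subtype.val (hw ⟨y, Subgroup.mem_zpowers y⟩))), ?_⟩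
      intro hw h
      rw [Set.mem_singleton_iff.mp hw]
      exact Subtype.ext (map_zero (ρ (h : G)))
    rw [hfp, Nat.card_coe_set_eq, Set.ncard_singleton, Module.natCard_eq_pow_finrank (K := ZMod q), Nat.card_zmod] at hmod
    exact hP.2.2 _ (Nat.pos_of_ne_zero fun h0 => hWb (Submodule.finrank_eq_zero.mp h0)) (Submodule.finrank_lt hWt)
      ((Nat.modEq_iff_dvd' (Nat.one_le_pow _ _ (Fact.out : q.Prime).pos)).mp hmod.symm)
  right
  -- the element
  obtain ⟨e, x, he, hx, he2⟩ : ∃ (e : ℕ) (x : G), 1 ≤ e ∧ orderOf x = r ^ e ∧ (r ^ 2 ∣ q ^ n - 1 → 2 ≤ e) := by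
    by_cases h2 : r ^ 2 ∣ q ^ n - 1
    swap
    · obtain ⟨x, hx⟩ := exists_prime_orderOf_dvd_card' r hdvd
      exact ⟨1, x, le_rfl, by rw [hx, pow_one], fun h => absurd h h2⟩
    obtain ⟨P⟩ : Nonempty (Sylow r G) := Sylow.nonempty
    set R := (P : Subgroup G)
    have hR2 : r ^ 2 ∣ Nat.card R := P.pow_dvd_card_of_pow_dvd_card (h2.trans (card_sub_one_dvd ht))
    have hRp : IsPGroup r R := P.isPGroup'
    haveI : Nontrivial R := Finite.one_lt_card_iff_nontrivial.mp
      ((Nat.one_lt_pow two_ne_zero hP.1.one_lt).trans_le (Nat.le_of_dvd Nat.card_pos hR2))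
    haveI : Nontrivial (Subgroup.center R) := hRp.center_nontrivial
    have hrc : r ∣ Nat.card (Subgroup.center R) := by
      obtain ⟨k, hk⟩ := (hRp.to_subgroup (Subgroup.center R)).exists_card_eq
      rcases Nat.eq_zero_or_pos k with rfl | hk0
      · exact absurd (hk.trans (pow_zero r)) (Finite.one_lt_card (α := Subgroup.center R)).ne'
      · rw [hk]; exact dvd_pow_self r hk0.ne'
    obtain ⟨z, hz⟩ := exists_prime_orderOf_dvd_card' r hrc
    set y : G := ((z : R) : G) with hy
    have hyo : orderOf y = r := by rw [hy, Subgroup.orderOf_coe, Subgroup.orderOf_coe, hz]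
    obtain ⟨φ, μ, h1, h2', h3, hfix, hcp⟩ := eigen hρ hn hP hyo
    have hG : HuppertKey.Good φ r 1 y μ :=
      ⟨h1, hP.1, le_rfl, by rw [hyo, pow_one], hrn, hcast r hP.1 hrq, h2', by simpa using h3⟩
    have hcy : ∀ a : R, Commute (a : G) (y ^ r ^ (1 - 1)) := fun a => by
      simpa [hy, Commute, SemiconjBy] using congrArg Subtype.val (Subgroup.mem_center_iff.mp z.2 a)
    have hd : ∀ a : R, φ (a : G) = Matrix.diagonal fun i => φ (a : G) i i := fun a => hG.central (hcy a)
    let j₀ : Fin n := ⟨0, hn⟩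
    let f : R →* AlgebraicClosure (ZMod q) :=
      { toFun := fun a => φ (a : G) j₀ j₀
        map_one' := by simp
        map_mul' := fun a b => by rw [Subgroup.coe_mul, map_mul, hd a, Matrix.diagonal_mul, Matrix.diagonal_apply_eq] }
    have hf : Function.Injective f := by
      rw [← MonoidHom.ker_eq_bot_iff, Subgroup.eq_bot_iff_forall]
      intro a ha
      by_contra hne
      have hpa : r ∣ orderOf a := by
        obtain ⟨k, hk⟩ := hRp a
        obtain ⟨l, -, hl⟩ := (Nat.dvd_prime_pow hP.1).mp (orderOf_dvd_of_pow_eq_one hk)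
        rcases Nat.eq_zero_or_pos l with rfl | hl0
        · exact absurd (orderOf_eq_one_iff.mp (by simpa using hl)) hne
        · rw [hl]; exact dvd_pow_self r hl0.ne'
      set b : R := a ^ (orderOf a / r)
      have hbo : orderOf b = r := by
        rw [orderOf_pow_orderOf_div (orderOf_pos a).ne' hpa]
      obtain ⟨φ', μ', -, -, -, hfix', -⟩ := eigen hρ hn hP (show orderOf (b : G) = r by rw [Subgroup.orderOf_coe, hbo])
      have hb1 : φ (b : G) j₀ j₀ = 1 := by
        have : f b = 1 := by rw [map_pow, show f a = 1 from ha, one_pow]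
        exact this
      have hroot : (LinearMap.charpoly (toEnd ρ (b : G))).IsRoot 1 := by
        have h5 : (φ (b : G)).charpoly.IsRoot 1 := by
          rw [hd b, Matrix.charpoly_diagonal, IsRoot.def, eval_prod]
          exact Finset.prod_eq_zero (Finset.mem_univ j₀) (by simp [hb1])
        rw [hcp, IsRoot.def, eval_one_map] at h5
        exact (map_eq_zero _).mp h5
      obtain ⟨w, hw⟩ := ((Module.End.hasEigenvalue_iff_isRoot_charpoly _ _).mpr hroot).exists_hasEigenvector
      exact hw.2 (hfix' w (by simpa [toEnd_apply] using hw.apply_eq_smul))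
    haveI : IsCyclic R := isCyclic_of_injective_ringHom f hf
    obtain ⟨g, hg⟩ := IsCyclic.exists_ofOrder_eq_natCard (α := R)
    refine ⟨2, (g ^ (Nat.card R / r ^ 2) : R), one_le_two, ?_, fun _ => le_rfl⟩
    rw [Subgroup.orderOf_coe, ← hg, orderOf_pow_orderOf_div (orderOf_pos g).ne' (hg ▸ hR2)]
  obtain ⟨φ, μ, hG⟩ := mkGood x e he hx
  have hxo : orderOf (x ^ r ^ (e - 1)) = r := by
    rw [orderOf_pow' _ (pow_ne_zero _ hP.1.ne_zero), hx, Nat.gcd_eq_right (pow_dvd_pow r (by omega)),
      Nat.pow_div (by omega) hP.1.pos, show e - (e - 1) = 1 by omega, pow_one]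
  obtain ⟨s, hs, hmoved⟩ := exists_moved hOr hxo
  haveI := Fact.mk hs
  have hsr : s ≠ r := by
    rintro rfl
    exact hmoved fun t ht => by rw [hOr, Subgroup.mem_bot] at ht; rw [ht]; exact Commute.one_left _
  have hsq : s ≠ q := by
    rintro rfl
    exact hmoved fun t htm => by rw [pCore_q_eq_bot hρ ht, Subgroup.mem_bot] at htm; rw [htm]; exact Commute.one_left _
  haveI : Finite (Subgroup G) := Finite.of_injective _ SetLike.coe_injective
  obtain ⟨S, hSmem, hSmin⟩ := Set.Finite.exists_minimal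
    (s := {S : Subgroup G | S ≤ pCore s G ∧ (∀ t ∈ S, x * t * x⁻¹ ∈ S) ∧ ¬ ∀ t ∈ S, Commute t (x ^ r ^ (e - 1))})
    (Set.toFinite _) ⟨pCore s G, le_rfl, fun t ht => (Grp.pCore_isNormal).conj_mem t ht x, hmoved⟩
  obtain ⟨hSle, hSx, hSnc⟩ := hSmem
  have hmin : ∀ T : Subgroup G, T ≤ S → T ≠ S → (∀ t ∈ T, x * t * x⁻¹ ∈ T) → ∀ t ∈ T, Commute t (x ^ r ^ (e - 1)) := by
    intro T hTS hne hTx
    by_contra hc
    exact hne (le_antisymm hTS (hSmin ⟨hTS.trans hSle, hTx, hc⟩ hTS))
  obtain ⟨hb, heq⟩ := hG.bound ((Grp.pCore_isPGroup (p := s) (G := G)).to_le hSle) hsr (hcast s hs hsq) hSx hSnc hmin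
  have hr_le : r ≤ r ^ e := Nat.le_self_pow (by omega) r
  have hrn1 : r = n + 1 := by omega
  have hre : r ^ e = n + 1 := by omega
  refine ⟨hrn1, fun h2 => ?_, s, ?_⟩
  · have h3 := Nat.pow_le_pow_right hP.1.pos (he2 h2)
    have h4 : r * r ≤ r ^ e := by rwa [pow_two] at h3
    nlinarith [hP.1.two_le]
  · obtain ⟨j, hj⟩ := heq hre
    exact ⟨j, hs, hsq, hj⟩

end Cfsg.Agent.Recog.HuppertPrimitive
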