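import Cfsg.Agent.Lib.Recog.HuppertCases

/-!
Dimension two, and dimension six over the field of two elements.
-/

set_option autoImplicit false

namespace Cfsg.Agent.Recog.HuppertSmall

open Cfsg.Agent Cfsg.Agent.Recog.HuppertCases

universe u v

variable {q : ℕ} [Fact q.Prime] {V : Type v} [AddCommGroup V] [Module (ZMod q) V] [Finite V]
  {G : Type u} [Group G] [Finite G] {ρ : G →* (V ≃ₗ[ZMod q] V)}

theorem sc_comm (hρ : Function.Injective ρ) {g : G} (hg : Sc ρ g) (h : G) : Commute g h := by
  obtain ⟨c, hc⟩ := hg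
  refine hρ (LinearEquiv.ext fun v => ?_)
  rw [rho_mul, rho_mul, hc, hc, map_smul]

/-- image of a subgroup of a normal subgroup -/
theorem comm_map {P : Subgroup G} {H : Subgroup P} (hH : ∀ a ∈ H, ∀ b ∈ H, Commute a b) :
    ∀ a ∈ H.map P.subtype, ∀ b ∈ H.map P.subtype, Commute a b := by
  rintro _ ⟨a, ha, rfl⟩ _ ⟨b, hb, rfl⟩
  exact (hH a ha b hb).map P.subtype

set_option maxHeartbeats 1600000 in
theorem dim_two [Nontrivial V] [Group.IsSolvable G] (hρ : Function.Injective ρ) (ht : Trans ρ)
    (h2 : Module.finrank (ZMod q) V = 2) : Semi ρ ∨ q ∈ ({3, 5, 7, 11, 23} : Set ℕ) := by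
  classical
  by_cases hir : ∃ A : Subgroup G, A.Normal ∧ (∀ a ∈ A, ∀ b ∈ A, Commute a b) ∧ Irred ρ A
  · obtain ⟨A, hA, hab, hirr⟩ := hir
    exact Or.inl (semilinear hA hab hirr)
  right
  push Not at hir
  have hscal : ∀ A : Subgroup G, A.Normal → (∀ a ∈ A, ∀ b ∈ A, Commute a b) → ∀ a ∈ A, Sc ρ a := by
    intro A hA hab
    obtain ⟨d, hd0, hdn, -, -, hd1⟩ := reducible hρ ht hA hab (hir A hA hab)
    exact hd1 (by omega)
  have hq := (Fact.out : q.Prime)
  have hdet : ∀ a b : G, ∀ c : ZMod q, (∀ v, ρ (a * b * a⁻¹ * b⁻¹) v = c • v) → c ^ 2 = 1 := by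
    intro a b c hc
    have h1 : LinearMap.det (toEnd ρ (a * b * a⁻¹ * b⁻¹)) = 1 := by
      have key : ∀ g : G, LinearMap.det (toEnd ρ g) * LinearMap.det (toEnd ρ g⁻¹) = 1 := fun g => by
        rw [← map_mul, ← map_mul, mul_inv_cancel, map_one, map_one]
      simp only [map_mul]
      calc _ = (LinearMap.det (toEnd ρ a) * LinearMap.det (toEnd ρ a⁻¹)) *
            (LinearMap.det (toEnd ρ b) * LinearMap.det (toEnd ρ b⁻¹)) := by ring
        _ = 1 := by rw [key, key, one_mul]
    rw [show toEnd ρ (a * b * a⁻¹ * b⁻¹) = c • (1 : Module.End (ZMod q) V) from LinearMap.ext fun v => by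
      show ρ _ v = _
      rw [hc v]; simp, LinearMap.det_smul, map_one, mul_one, h2] at h1
    exact h1
  have hsc_comm : ∀ g, Sc ρ g → ∀ h : G, Commute g h := fun g hg h => sc_comm hρ hg h
  -- odd cores are scalar
  have hodd : ∀ s : ℕ, s.Prime → s ≠ 2 → ∀ a ∈ pCore s G, Sc ρ a := by
    intro s hs hs2
    haveI := Fact.mk hs
    set P := pCore s G
    haveI hPn : P.Normal := Grp.pCore_isNormal
    have hP : IsPGroup s P := Grp.pCore_isPGroup
    refine hscal P hPn ?_
    by_contra hne
    push Not at hne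
    obtain ⟨a₀, ha₀, b₀, hb₀, hab⟩ := hne
    have hctop : Subgroup.center P ≠ ⊤ := fun h => hab (by
      have := (Subgroup.mem_center_iff.mp (h ▸ Subgroup.mem_top (⟨a₀, ha₀⟩ : P)) ⟨b₀, hb₀⟩).symm
      exact congrArg Subtype.val this)
    haveI : Nontrivial (P ⧸ Subgroup.center P) := by
      rw [QuotientGroup.nontrivial_iff]; exact hctop
    haveI := (hP.to_quotient (Subgroup.center P)).center_nontrivial
    obtain ⟨⟨z, hz⟩, hz1⟩ := exists_ne (1 : Subgroup.center (P ⧸ Subgroup.center P))
    obtain ⟨a, rfl⟩ := QuotientGroup.mk'_surjective _ z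
    obtain ⟨b, hb⟩ : ∃ b : P, ¬ Commute a b := by
      by_contra h'; push Not at h'
      refine hz1 (Subtype.ext ?_)
      show QuotientGroup.mk' _ a = 1
      rw [← MonoidHom.mem_ker, QuotientGroup.ker_mk', Subgroup.mem_center_iff]
      exact fun g => (h' g).symm.eq
    have hc : a * b * a⁻¹ * b⁻¹ ∈ Subgroup.center P := by
      rw [← QuotientGroup.ker_mk' (Subgroup.center P), MonoidHom.mem_ker]
      simp only [map_mul, map_inv]
      rw [← (Subgroup.mem_center_iff.mp hz (QuotientGroup.mk' _ b)), mul_inv_cancel_right, mul_inv_cancel]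
    have hZn : ((Subgroup.center P).map P.subtype).Normal := inferInstance
    obtain ⟨c, hcs⟩ := hscal _ hZn (comm_map fun x hx y _ => (Subgroup.mem_center_iff.mp hx y).symm) _
      ⟨_, hc, rfl⟩
    have hc2 := hdet (a : G) (b : G) c (fun v => by simpa using hcs v)
    set w : G := ((a * b * a⁻¹ * b⁻¹ : P) : G) with hw
    have hw2 : w ^ 2 = 1 := eq_one_of_fix hρ fun v => by
      rw [pow_two, rho_mul, hw]
      show ρ (P.subtype (a * b * a⁻¹ * b⁻¹)) (ρ (P.subtype (a * b * a⁻¹ * b⁻¹)) v) = v
      rw [hcs, hcs, smul_smul, ← pow_two, hc2, one_smul]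
    obtain ⟨k, hk⟩ := hP (a * b * a⁻¹ * b⁻¹)
    have hcop : Nat.Coprime 2 (s ^ k) := ((Nat.coprime_primes Nat.prime_two hs).mpr (Ne.symm hs2)).pow_right k
    have hw1 : w = 1 := orderOf_eq_one_iff.mp (Nat.eq_one_of_dvd_coprimes hcop (orderOf_dvd_of_pow_eq_one hw2)
      (orderOf_dvd_of_pow_eq_one (by rw [hw, ← Subgroup.coe_pow, hk]; rfl)))
    refine hb ?_
    have : a * b * a⁻¹ * b⁻¹ = 1 := Subtype.ext hw1
    rw [mul_inv_eq_one, mul_inv_eq_iff_eq_mul] at this
    exact this
  set P := pCore 2 G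
  haveI hPn : P.Normal := Grp.pCore_isNormal
  have hP : IsPGroup 2 P := Grp.pCore_isPGroup
  -- centralising the 2-core means scalar or inside it
  have hCP : (∀ a ∈ P, Sc ρ a) → False := by
    intro hPs
    have hallsc : ∀ g, g ∈ fittingSubgroup G → ∀ h : G, Commute g h := by
      intro g hg h
      have hle : fittingSubgroup G ≤ Subgroup.centralizer {h} := by
        rw [Grp.fittingSubgroup_eq_iSup_pCore]
        refine iSup_le fun p a ha => Subgroup.mem_centralizer_singleton_iff.mpr ?_
        by_cases hp : (p : ℕ) = 2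
        · exact sc_comm hρ (hPs a (by rw [hp] at ha; exact ha)) h
        · exact sc_comm hρ (hodd p p.2 hp a ha) h
      exact Subgroup.mem_centralizer_singleton_iff.mp (hle hg)
    have hFtop : ∀ g : G, g ∈ fittingSubgroup G := fun g =>
      Grp.centralizer_fittingSubgroup_le (Subgroup.mem_centralizer_iff.mpr fun t ht => (hallsc t ht g).eq)
    have hall := hscal ⊤ inferInstance fun a _ b _ => hallsc a (hFtop a) b
    obtain ⟨v₀, hv₀⟩ := exists_ne (0 : V)
    obtain ⟨w, hw⟩ : ∃ w, w ∉ Submodule.span (ZMod q) {v₀} := by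
      by_contra h'; push Not at h'
      have := congrArg (fun W : Submodule (ZMod q) V => Module.finrank (ZMod q) W)
        (Submodule.eq_top_iff'.mpr h')
      simp [finrank_span_singleton hv₀, h2] at this
    obtain ⟨g, hg⟩ := ht v₀ w hv₀ (fun h0 => hw (h0 ▸ Submodule.zero_mem _))
    obtain ⟨c, hc⟩ := hall g (Subgroup.mem_top g)
    exact hw (Submodule.mem_span_singleton.mpr ⟨c, by rw [← hc, hg]⟩)
  have hq2 : q ≠ 2 := by
    rintro rfl
    exact hCP fun a ha => by rw [show P = ⊥ from pCore_q_eq_bot hρ ht, Subgroup.mem_bot] at ha; exact ⟨1, by simp [ha]⟩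
  have hctop : Subgroup.center P ≠ ⊤ := fun h => hCP (hscal P hPn fun a ha b hb => by
    have := (Subgroup.mem_center_iff.mp (h ▸ Subgroup.mem_top (⟨a, ha⟩ : P)) ⟨b, hb⟩).symm
    exact congrArg Subtype.val this)
  -- the second centre
  let Q : Subgroup G := (Subgroup.upperCentralSeries P 2).map P.subtype
  haveI : (Subgroup.upperCentralSeries P 2).Characteristic := inferInstance
  have hQn : Q.Normal := inferInstance
  have hQc : ∀ t ∈ Q, ∀ u ∈ P, ∃ e : ZMod q, e ^ 2 = 1 ∧ ∀ v, ρ (t * u * t⁻¹ * u⁻¹) v = e • v := by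
    rintro _ ⟨t, ht', rfl⟩ u hu
    have h1 : t * (⟨u, hu⟩ : P) * t⁻¹ * (⟨u, hu⟩ : P)⁻¹ ∈ Subgroup.upperCentralSeries P 1 :=
      Subgroup.mem_upperCentralSeries_succ_iff.mp ht' ⟨u, hu⟩
    rw [Subgroup.upperCentralSeries_one] at h1
    have hZn : ((Subgroup.center P).map P.subtype).Normal := inferInstance
    obtain ⟨c, hcs⟩ := hscal _ hZn (comm_map fun x hx y _ => (Subgroup.mem_center_iff.mp hx y).symm) _ ⟨_, h1, rfl⟩
    exact ⟨c, hdet _ _ c (fun v => by simpa using hcs v), fun v => by simpa using hcs v⟩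
  obtain ⟨A, hA, B, hB, hAB⟩ : ∃ a ∈ Q, ∃ b ∈ Q, ¬ Commute a b := by
    by_contra h'
    push Not at h'
    haveI : Nontrivial (P ⧸ Subgroup.center P) := by
      rw [QuotientGroup.nontrivial_iff]; exact hctop
    haveI := (hP.to_quotient (Subgroup.center P)).center_nontrivial
    obtain ⟨⟨z, hz⟩, hz1⟩ := exists_ne (1 : Subgroup.center (P ⧸ Subgroup.center P))
    obtain ⟨a, rfl⟩ := QuotientGroup.mk'_surjective _ z
    have ha2 : a ∈ Subgroup.upperCentralSeries P 2 := Subgroup.mem_upperCentralSeries_succ_iff.mpr fun b => by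
      rw [Subgroup.upperCentralSeries_one, ← QuotientGroup.ker_mk' (Subgroup.center P), MonoidHom.mem_ker]
      rw [map_commutatorElement, commutatorElement_eq_one_iff_mul_comm]
      exact (Subgroup.mem_center_iff.mp hz (QuotientGroup.mk' _ b)).symm
    refine hz1 (Subtype.ext ?_)
    show QuotientGroup.mk' _ a = 1
    rw [← MonoidHom.mem_ker, QuotientGroup.ker_mk', Subgroup.mem_center_iff]
    intro g
    exact Subtype.ext (hsc_comm _ (hscal Q hQn h' _ ⟨a, ha2, rfl⟩) g).eq.symm
  have hAP : A ∈ P := Subgroup.map_subtype_le _ hA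
  have hBP : B ∈ P := Subgroup.map_subtype_le _ hB
  let MA := toEnd ρ A
  let MB := toEnd ρ B
  have hinvl : ∀ g : G, toEnd ρ g⁻¹ * toEnd ρ g = 1 := fun g => by rw [← map_mul, inv_mul_cancel, map_one]
  have hinvr : ∀ g : G, toEnd ρ g * toEnd ρ g⁻¹ = 1 := fun g => by rw [← map_mul, mul_inv_cancel, map_one]
  have hsign : ∀ t ∈ Q, ∀ u ∈ P, ∃ e : ZMod q, (e = 1 ∨ e = -1) ∧
      toEnd ρ t * toEnd ρ u = e • (toEnd ρ u * toEnd ρ t) := by
    intro t ht' u hu
    obtain ⟨e, he, hev⟩ := hQc t ht' u hu
    refine ⟨e, sq_eq_one_iff.mp he, LinearMap.ext fun v => ?_⟩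
    have := hev (ρ (u * t) v)
    rw [← rho_mul, show t * u * t⁻¹ * u⁻¹ * (u * t) = t * u by group, rho_mul, rho_mul] at this
    simpa [toEnd_apply] using this
  have hneg : MA * MB = -(MB * MA) := by
    obtain ⟨e, he, heq⟩ := hsign A hA B hBP
    rcases he with rfl | rfl
    · refine absurd (hρ ?_) hAB
      exact LinearEquiv.toLinearMap_injective (by
        have := heq; rw [one_smul, ← map_mul, ← map_mul] at this; exact this)
    · simpa using heq
  have hsq : ∀ t ∈ Q, ∀ u ∈ P, toEnd ρ t * toEnd ρ t * toEnd ρ u = toEnd ρ u * (toEnd ρ t * toEnd ρ t) := by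
    intro t ht' u hu
    obtain ⟨e, he, heq⟩ := hsign t ht' u hu
    have he2 : e * e = 1 := by rcases he with rfl | rfl <;> simp
    rw [mul_assoc, heq, mul_smul_comm, ← mul_assoc, heq, smul_mul_assoc, smul_smul, he2, one_smul, mul_assoc]
  have hscsq : ∀ t ∈ Q, ∃ c : ZMod q, c ≠ 0 ∧ toEnd ρ t * toEnd ρ t = c • 1 := by
    intro t ht'
    have htP : t ∈ P := Subgroup.map_subtype_le _ ht'
    have hZn : ((Subgroup.center P).map P.subtype).Normal := inferInstance
    have hmem : (⟨t, htP⟩ : P) * ⟨t, htP⟩ ∈ Subgroup.center P := Subgroup.mem_center_iff.mpr fun u => by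
      refine Subtype.ext (hρ (LinearEquiv.toLinearMap_injective ?_))
      have := hsq t ht' u u.2
      rw [← map_mul, ← map_mul, ← map_mul] at this
      exact this.symm
    obtain ⟨c, hcs⟩ := hscal _ hZn (comm_map fun x hx y _ => (Subgroup.mem_center_iff.mp hx y).symm) _ ⟨_, hmem, rfl⟩
    refine ⟨c, ?_, LinearMap.ext fun v => ?_⟩
    · rintro rfl
      obtain ⟨v₀, hv₀⟩ := exists_ne (0 : V)
      have := hcs v₀
      rw [zero_smul] at this
      exact hv₀ ((ρ _).injective (this.trans (map_zero _).symm))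
    · have := hcs v
      simp [toEnd_apply, rho_mul] at this ⊢
      exact this
  have hq2' : (2 : ZMod q) ≠ 0 := by
    intro h0
    have : ((2 : ℕ) : ZMod q) = 0 := by exact_mod_cast h0
    rw [ZMod.natCast_eq_zero_iff] at this
    exact hq2 ((Nat.prime_dvd_prime_iff_eq hq Nat.prime_two).mp this)
  have hanti : ∀ {X : Module.End (ZMod q) V}, X = -X → X = 0 := fun {X} hX => by
    have : (2 : ZMod q) • X = 0 := by rw [two_smul]; nth_rewrite 1 [hX]; exact neg_add_cancel X
    exact (smul_eq_zero.mp this).resolve_left hq2'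
  obtain ⟨α, hα0, hα⟩ := hscsq A hA
  obtain ⟨β, hβ0, hβ⟩ := hscsq B hB
  let m : Fin 4 → Module.End (ZMod q) V := ![1, MA, MB, MA * MB]
  have hli : LinearIndependent (ZMod q) m := by
    rw [Fintype.linearIndependent_iff]
    intro g hg
    simp only [Fin.sum_univ_four, m, Matrix.cons_val_zero, Matrix.cons_val_one, Matrix.cons_val] at hg
    have hBA : MB * MA = -(MA * MB) := by rw [hneg, neg_neg]
    -- conjugating by the two generators
    have hA1 : MA * MA = α • 1 := hα
    have hB1 : MB * MB = β • 1 := hβ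
    have c1 := congrArg (fun X => MA * X * MA) hg
    simp only [mul_add, add_mul, mul_smul_comm, smul_mul_assoc, mul_one, mul_zero, zero_mul] at c1
    rw [show MA * (MA * MB) * MA = -((MA * MA) * (MA * MB)) by
      rw [← mul_assoc, mul_assoc (MA * MA), hBA, mul_neg], show MA * MB * MA = -((MA * MA) * MB) by
      rw [mul_assoc, hBA, mul_neg, ← mul_assoc]] at c1
    simp only [hA1, smul_mul_assoc, one_mul, smul_neg] at c1
    have c2 : g 0 • (1 : Module.End (ZMod q) V) + g 1 • MA - g 2 • MB - g 3 • (MA * MB) = 0 := by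
      have : α • (g 0 • (1 : Module.End (ZMod q) V) + g 1 • MA - g 2 • MB - g 3 • (MA * MB)) = 0 := by
        rw [← c1]; module
      exact (smul_eq_zero.mp this).resolve_left hα0
    have e1 : g 0 • (1 : Module.End (ZMod q) V) + g 1 • MA = 0 := by
      apply hanti
      rw [eq_neg_iff_add_eq_zero]
      calc _ = (g 0 • (1 : Module.End (ZMod q) V) + g 1 • MA + g 2 • MB + g 3 • (MA * MB)) +
            (g 0 • (1 : Module.End (ZMod q) V) + g 1 • MA - g 2 • MB - g 3 • (MA * MB)) := by abel
        _ = 0 := by rw [hg, c2, add_zero]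
    have e2 : g 2 • MB + g 3 • (MA * MB) = 0 := by
      have := hg; rw [e1, zero_add] at this; exact this
    have e3 : g 2 • (1 : Module.End (ZMod q) V) + g 3 • MA = 0 := by
      have := congrArg (fun X => X * toEnd ρ B⁻¹) e2
      simp only [add_mul, smul_mul_assoc, zero_mul, mul_assoc, MB, hinvr, mul_one] at this
      exact this
    have key : ∀ x y : ZMod q, x • (1 : Module.End (ZMod q) V) + y • MA = 0 → x = 0 ∧ y = 0 := by
      intro x y hxy
      have c3 := congrArg (fun X => MB * X * MB) hxy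
      simp only [mul_add, add_mul, mul_smul_comm, smul_mul_assoc, mul_one, mul_zero, zero_mul] at c3
      rw [show MB * MA * MB = -((MB * MB) * MA) by rw [mul_assoc, hneg, mul_neg, ← mul_assoc]] at c3
      simp only [hB1, smul_mul_assoc, one_mul, smul_neg] at c3
      have c4 : x • (1 : Module.End (ZMod q) V) - y • MA = 0 := by
        have : β • (x • (1 : Module.End (ZMod q) V) - y • MA) = 0 := by rw [← c3]; module
        exact (smul_eq_zero.mp this).resolve_left hβ0
      have hx : x • (1 : Module.End (ZMod q) V) = 0 := by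
        apply hanti
        rw [eq_neg_iff_add_eq_zero]
        calc _ = (x • (1 : Module.End (ZMod q) V) + y • MA) + (x • (1 : Module.End (ZMod q) V) - y • MA) := by abel
          _ = 0 := by rw [hxy, c4, add_zero]
      rw [hx, zero_add] at hxy
      have hMA : MA ≠ 0 := fun h0 => hα0 (by
        have := hα; rw [show toEnd ρ A = 0 from h0, mul_zero, eq_comm, smul_eq_zero] at this
        exact this.resolve_right one_ne_zero)
      exact ⟨(smul_eq_zero.mp hx).resolve_right one_ne_zero, (smul_eq_zero.mp hxy).resolve_right hMA⟩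
    obtain ⟨g0, g1⟩ := key _ _ e1
    obtain ⟨g2, g3⟩ := key _ _ e3
    intro i; fin_cases i <;> assumption
  have hE4 : Module.finrank (ZMod q) (Module.End (ZMod q) V) = 4 := by rw [Module.finrank_linearMap, h2]
  let bm := basisOfLinearIndependentOfCardEqFinrank hli (by rw [Fintype.card_fin, hE4])
  have hcscal : ∀ X : Module.End (ZMod q) V, X * MA = MA * X → X * MB = MB * X → ∃ c : ZMod q, X = c • 1 := by
    intro X hXA hXB
    have hall : ∀ Y, X * Y = Y * X := by
      intro Y
      rw [← bm.sum_repr Y, Finset.mul_sum, Finset.sum_mul]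
      refine Finset.sum_congr rfl fun i _ => ?_
      rw [mul_smul_comm, smul_mul_assoc, coe_basisOfLinearIndependentOfCardEqFinrank]
      congr 1
      fin_cases i
      · simp [m]
      · exact hXA
      · exact hXB
      · show X * (MA * MB) = MA * MB * X
        rw [← mul_assoc, hXA, mul_assoc, hXB, mul_assoc]
    obtain ⟨c, hc⟩ := eigen_scalar (T := X) fun v => by
      by_cases hv : v = 0
      · exact ⟨0, by simp [hv]⟩
      obtain ⟨f, hf⟩ := Module.Projective.exists_dual_ne_zero (ZMod q) hv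
      refine ⟨f (X v) / f v, ?_⟩
      have := LinearMap.congr_fun (hall (LinearMap.smulRight f v)) v
      simp only [Module.End.mul_apply, LinearMap.smulRight_apply, map_smul] at this
      rw [div_eq_inv_mul, mul_smul, ← this, inv_smul_smul₀ hf]
    exact ⟨c, LinearMap.ext fun v => by simp [hc v]⟩
  -- the non-scalar cosets
  let nn : Fin 3 → Module.End (ZMod q) V := ![MA, MB, MA * MB]
  have hnn : ∀ i, nn i = m i.succ := fun i => by fin_cases i <;> rfl
  have hQm : ∀ t ∈ Q, ∃ (i : Fin 4) (c : ZMod q), toEnd ρ t = c • m i := by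
    intro t ht'
    obtain ⟨e, he, hea⟩ := hsign t ht' A hAP
    obtain ⟨f, hf, hfb⟩ := hsign t ht' B hBP
    have hBA : MB * MA = -(MA * MB) := by rw [hneg, neg_neg]
    set X := toEnd ρ t
    have hXA : X * MA = e • (MA * X) := hea
    have hXB : X * MB = f • (MB * X) := hfb
    have hA1 : MA * MA = α • 1 := hα
    have hB1 : MB * MB = β • 1 := hβ
    rcases he with rfl | rfl <;> rcases hf with rfl | rfl <;> simp only [one_smul, neg_one_smul] at hXA hXB
    · obtain ⟨c, hc⟩ := hcscal X hXA hXB
      exact ⟨0, c, by simpa [m] using hc⟩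
    · -- commutes with `A`, anticommutes with `B`
      obtain ⟨c, hc⟩ := hcscal (X * MA) (by rw [hXA, mul_assoc, hXA])
        (by rw [mul_assoc, hneg, mul_neg, ← mul_assoc, hXB, neg_mul, neg_neg, mul_assoc])
      refine ⟨1, c / α, ?_⟩
      have := congrArg (fun Y => Y * MA) hc
      simp only [mul_assoc, hA1, mul_smul_comm, mul_one, smul_mul_assoc, one_mul] at this
      show X = (c / α) • MA
      rw [div_eq_inv_mul, mul_smul, ← this, inv_smul_smul₀ hα0]
    · obtain ⟨c, hc⟩ := hcscal (X * MB) (by rw [mul_assoc, hBA, mul_neg, ← mul_assoc, hXA, neg_mul, neg_neg, mul_assoc])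
        (by rw [hXB, mul_assoc, hXB])
      refine ⟨2, c / β, ?_⟩
      have := congrArg (fun Y => Y * MB) hc
      simp only [mul_assoc, hB1, mul_smul_comm, mul_one, smul_mul_assoc, one_mul] at this
      show X = (c / β) • MB
      rw [div_eq_inv_mul, mul_smul, ← this, inv_smul_smul₀ hβ0]
    · have k1 : X * (MA * MB) * MA = MA * (X * (MA * MB)) := by
        calc X * (MA * MB) * MA = X * (MA * (MB * MA)) := by simp only [mul_assoc]
          _ = -(X * MA * (MA * MB)) := by rw [hBA, mul_neg, mul_neg, mul_assoc]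
          _ = MA * X * (MA * MB) := by rw [hXA, neg_mul, neg_neg]
          _ = _ := mul_assoc _ _ _
      have k2 : X * (MA * MB) * MB = MB * (X * (MA * MB)) := by
        calc X * (MA * MB) * MB = -(X * (MB * MA) * MB) := by rw [hBA, mul_neg, neg_mul, neg_neg]
          _ = -(X * MB * MA * MB) := by rw [mul_assoc X MB MA]
          _ = MB * X * MA * MB := by rw [hXB, neg_mul, neg_mul, neg_neg]
          _ = _ := by simp only [mul_assoc]
      obtain ⟨c, hc⟩ := hcscal (X * (MA * MB)) k1 k2
      refine ⟨3, -(c / (α * β)), ?_⟩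
      have := congrArg (fun Y => Y * (MA * MB)) hc
      have hsq2 : (MA * MB) * (MA * MB) = -((α * β) • 1) := by
        rw [mul_assoc, ← mul_assoc MB, hBA, neg_mul, mul_neg, mul_assoc MA MB, hB1, mul_smul_comm, mul_smul_comm,
          mul_one, hA1, smul_smul, mul_comm]
      simp only [mul_assoc X, hsq2, mul_neg, mul_smul_comm, mul_one, smul_mul_assoc, one_mul] at this
      show X = -(c / (α * β)) • (MA * MB)
      rw [div_eq_inv_mul, neg_smul, mul_smul, ← this, smul_neg, neg_neg, inv_smul_smul₀ (mul_ne_zero hα0 hβ0)]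
  have hco : ∀ (i j : Fin 4) (c d : ZMod q), c • m i = d • m j → i ≠ j → c = 0 := by
    intro i j c d h hij
    have hb : ∀ l, bm.repr (m l) = Finsupp.single l 1 := fun l => by
      rw [← show bm l = m l by rw [coe_basisOfLinearIndependentOfCardEqFinrank], Module.Basis.repr_self]
    have h' := congrArg (fun Y => bm.repr Y i) h
    simpa [hb, Finsupp.single_apply, Ne.symm hij] using h'
  have hnsc : ∀ i, ∀ c : ZMod q, nn i ≠ c • 1 := by
    intro i c hic
    exact one_ne_zero (hco i.succ 0 1 c (by rw [one_smul, ← hnn, hic]; simp [m]) (Fin.succ_ne_zero i))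
  let rep : Fin 3 → G := ![A, B, A * B]
  have hrep : ∀ i, rep i ∈ Q ∧ toEnd ρ (rep i) = nn i := by
    intro i; fin_cases i
    · exact ⟨hA, rfl⟩
    · exact ⟨hB, rfl⟩
    · exact ⟨Q.mul_mem hA hB, map_mul _ _ _⟩
  have himg : ∀ (g : G) (i : Fin 3), ∃ (j : Fin 3) (c : ZMod q), toEnd ρ g * nn i * toEnd ρ g⁻¹ = c • nn j := by
    intro g i
    obtain ⟨k, c, hk⟩ := hQm _ (hQn.conj_mem _ (hrep i).1 g)
    rw [map_mul, map_mul, (hrep i).2] at hk
    rcases Fin.eq_zero_or_eq_succ k with rfl | ⟨j, rfl⟩
    · refine absurd ?_ (hnsc i c)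
      have := congrArg (fun Y => toEnd ρ g⁻¹ * Y * toEnd ρ g) hk
      simp only [← mul_assoc, hinvl, one_mul] at this
      rw [mul_assoc (nn i), hinvl, mul_one] at this
      rw [this]; simp [m, hinvl]
    · exact ⟨j, c, by rw [hk, hnn]⟩
  choose σ sc hσ using himg
  have hσu : ∀ (g : G) (i j : Fin 3) (c : ZMod q), toEnd ρ g * nn i * toEnd ρ g⁻¹ = c • nn j → j = σ g i := by
    intro g i j c h
    by_contra hne
    have heq := h.symm.trans (hσ g i)
    rw [hnn, hnn] at heq
    have hc0 : c ≠ 0 := by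
      rintro rfl
      rw [zero_smul] at h
      have := congrArg (fun Y => toEnd ρ g⁻¹ * Y * toEnd ρ g) h
      simp only [← mul_assoc, hinvl, one_mul, mul_zero, zero_mul] at this
      rw [mul_assoc, hinvl, mul_one] at this
      exact hnsc i 0 (by rw [this, zero_smul])
    exact hc0 (hco _ _ c (sc g i) heq fun e => hne (Fin.succ_injective _ e))
  have hσmul : ∀ g h i, σ (g * h) i = σ g (σ h i) := by
    intro g h i
    refine (hσu (g * h) i _ (sc h i * sc g (σ h i)) ?_).symm
    rw [map_mul, _root_.mul_inv_rev, map_mul,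
      show toEnd ρ g * toEnd ρ h * nn i * (toEnd ρ h⁻¹ * toEnd ρ g⁻¹) = toEnd ρ g * (toEnd ρ h * nn i * toEnd ρ h⁻¹) *
        toEnd ρ g⁻¹ by simp only [mul_assoc], hσ h i, mul_smul_comm, smul_mul_assoc, hσ g, smul_smul]
  have hσ1 : ∀ i, σ 1 i = i := fun i => (hσu 1 i i 1 (by simp)).symm
  let π : G →* Equiv.Perm (Fin 3) :=
    { toFun := fun g => ⟨σ g, σ g⁻¹, fun i => by rw [← hσmul, inv_mul_cancel, hσ1],
        fun i => by rw [← hσmul, mul_inv_cancel, hσ1]⟩
      map_one' := Equiv.ext fun i => hσ1 i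
      map_mul' := fun g h => Equiv.ext fun i => hσmul g h i }
  have hker : ∀ g ∈ π.ker, ∀ i, toEnd ρ g * nn i = sc g i • (nn i * toEnd ρ g) := by
    intro g hg i
    have h1 : σ g i = i := Equiv.ext_iff.mp (MonoidHom.mem_ker.mp hg) i
    have := congrArg (fun Y => Y * toEnd ρ g) (hσ g i)
    simp only [mul_assoc, hinvl, mul_one, smul_mul_assoc] at this
    rw [h1] at this
    exact this
  have hscsign : ∀ g ∈ π.ker, ∀ i : Fin 3, i ≠ 2 → sc g i ^ 2 = 1 := by
    intro g hg i hi
    obtain ⟨γ, hγ0, hγ⟩ : ∃ γ : ZMod q, γ ≠ 0 ∧ nn i * nn i = γ • 1 := by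
      fin_cases i
      · exact ⟨α, hα0, hα⟩
      · exact ⟨β, hβ0, hβ⟩
      · exact absurd rfl hi
    have h1 := hker g hg i
    have h2' : toEnd ρ g * (nn i * nn i) = (sc g i * sc g i) • (nn i * nn i * toEnd ρ g) := by
      rw [← mul_assoc, h1, smul_mul_assoc, mul_assoc, h1, mul_smul_comm, smul_smul, mul_assoc]
    rw [hγ, mul_smul_comm, smul_mul_assoc, mul_one, one_mul, smul_smul] at h2'
    have h3 : (γ - sc g i * sc g i * γ) • toEnd ρ g = 0 := by rw [sub_smul, ← h2', sub_self]
    have hne : toEnd ρ g ≠ 0 := fun h0 => by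
      have := hinvl g; rw [h0, mul_zero] at this; exact zero_ne_one this
    have h4 := (smul_eq_zero.mp h3).resolve_right hne
    have h5 : γ * (1 - sc g i ^ 2) = 0 := by rw [pow_two]; linear_combination h4
    exact (sub_eq_zero.mp ((mul_eq_zero.mp h5).resolve_left hγ0)).symm
  have hscne : ∀ g ∈ π.ker, ∀ i, sc g i ≠ 0 := by
    intro g hg i h0
    have := congrArg (fun Y => toEnd ρ g⁻¹ * Y) (hker g hg i)
    rw [h0] at this
    simp only [zero_smul, mul_zero, ← mul_assoc, hinvl, one_mul] at this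
    exact hnsc i 0 (by rw [this, zero_smul])
  have huniq : ∀ (i : Fin 3) (g : G) (c d : ZMod q), c • (nn i * toEnd ρ g) = d • (nn i * toEnd ρ g) → c = d := by
    intro i g c d h
    by_contra hne
    have h1 : (c - d) • (nn i * toEnd ρ g) = 0 := by rw [sub_smul, h, sub_self]
    have h2' := congrArg (fun Y => Y * toEnd ρ g⁻¹) ((smul_eq_zero.mp h1).resolve_left (sub_ne_zero.mpr hne))
    simp only [mul_assoc, hinvr, mul_one, zero_mul] at h2'
    exact hnsc i 0 (by rw [h2', zero_smul])
  have hscmul : ∀ i, ∀ g ∈ π.ker, ∀ h ∈ π.ker, sc (g * h) i = sc g i * sc h i := by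
    intro i g hg h hh
    refine huniq i (g * h) _ _ ?_
    rw [← hker _ (π.ker.mul_mem hg hh) i, map_mul, mul_assoc, hker h hh i, mul_smul_comm, ← mul_assoc, hker g hg i,
      smul_mul_assoc, smul_smul, mul_assoc, mul_comm]
  let εi : ∀ i : Fin 3, i ≠ 2 → (π.ker →* rootsOfUnity 2 (ZMod q)) := fun i hi => MonoidHom.codRestrict
    { toFun := fun (g : π.ker) => Units.mk0 (sc (g : G) i) (hscne g g.2 i)
      map_one' := Units.ext (huniq i 1 _ 1 (by
        show sc (1 : G) i • _ = _
        rw [← hker 1 π.ker.one_mem i]; simp))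
      map_mul' := fun (g h : π.ker) => Units.ext (hscmul i g g.2 h h.2) }
    (rootsOfUnity 2 (ZMod q)) (fun (g : π.ker) => by
      rw [mem_rootsOfUnity]; exact Units.ext (by simpa using hscsign g g.2 i hi))
  let ε := (εi 0 (by decide)).prod (εi 1 (by decide))
  have hεker : ∀ g ∈ ε.ker, Sc ρ (g : G) := by
    intro g hg
    rw [MonoidHom.mem_ker] at hg
    have h0 : sc (g : G) 0 = 1 := by
      have := congrArg (fun u : rootsOfUnity 2 (ZMod q) => ((u : (ZMod q)ˣ) : ZMod q)) (congrArg Prod.fst hg)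
      simpa [ε, εi] using this
    have h1 : sc (g : G) 1 = 1 := by
      have := congrArg (fun u : rootsOfUnity 2 (ZMod q) => ((u : (ZMod q)ˣ) : ZMod q)) (congrArg Prod.snd hg)
      simpa [ε, εi] using this
    have e0 := hker g g.2 0
    have e1 := hker g g.2 1
    rw [h0, one_smul] at e0
    rw [h1, one_smul] at e1
    obtain ⟨c, hc⟩ := hcscal _ e0 e1
    exact ⟨c, fun v => by simpa [toEnd_apply] using LinearMap.congr_fun hc v⟩
  obtain ⟨v₀, hv₀⟩ := exists_ne (0 : V)
  let κ : ε.ker →* (ZMod q)ˣ :=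
    { toFun := fun g => Units.mk0 (hεker g g.2).choose (fun h0 => hv₀ ((ρ ((g : π.ker) : G)).injective (by
        rw [(hεker g g.2).choose_spec, h0, zero_smul, map_zero])))
      map_one' := Units.ext (smul_left_injective (ZMod q) hv₀ (by
        generalize_proofs h1 h2 h3
        have := (Exists.choose_spec h2) v₀
        simp only [Units.val_one, one_smul, Units.val_mk0]
        rw [← this]; simp))
      map_mul' := fun g h => Units.ext (smul_left_injective (ZMod q) hv₀ (by
        generalize_proofs p1 p2 p3 p4 p5 p6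
        simp only [Units.val_mul, Units.val_mk0]
        rw [← Exists.choose_spec p2 v₀, mul_smul, ← Exists.choose_spec p6 v₀, ← Exists.choose_spec p4]
        exact rho_mul _ _ _)) }
  have hκ : Function.Injective κ := fun g h hgh => by
    refine Subtype.ext (Subtype.ext (hρ (LinearEquiv.ext fun v => ?_)))
    rw [(hεker g g.2).choose_spec, (hεker h h.2).choose_spec]
    congr 1
    exact congrArg Units.val hgh
  have hroots : Nat.card (rootsOfUnity 2 (ZMod q)) ∣ 2 := by
    have h1 : Nat.card (rootsOfUnity 2 (ZMod q)) ≤ 2 := card_rootsOfUnity (ZMod q) 2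
    have h2' : 0 < Nat.card (rootsOfUnity 2 (ZMod q)) := Nat.card_pos
    rcases (show Nat.card (rootsOfUnity 2 (ZMod q)) = 1 ∨ Nat.card (rootsOfUnity 2 (ZMod q)) = 2 by omega) with h | h <;>
      rw [h]
    norm_num
  have e3 : Nat.card ε.ker ∣ q - 1 := by
    rw [← Nat.card_congr (MonoidHom.ofInjective hκ).toEquiv.symm, ← Nat.totient_prime hq]
    have := Subgroup.card_subgroup_dvd_card κ.range
    rwa [Nat.card_eq_fintype_card (α := (ZMod q)ˣ), ZMod.card_units_eq_totient] at this
  have e2 : Nat.card π.ker ∣ 4 * (q - 1) := by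
    rw [← Subgroup.card_mul_index ε.ker, mul_comm, Subgroup.index_ker]
    refine Nat.mul_dvd_mul ((Subgroup.card_subgroup_dvd_card ε.range).trans ?_) e3
    rw [Nat.card_prod]
    exact Nat.mul_dvd_mul hroots hroots
  have e1 : Nat.card G ∣ 24 * (q - 1) := by
    rw [← Subgroup.card_mul_index π.ker, mul_comm, Subgroup.index_ker, show 24 * (q - 1) = 6 * (4 * (q - 1)) by ring]
    refine Nat.mul_dvd_mul ((Subgroup.card_subgroup_dvd_card π.range).trans ?_) e2
    rw [Nat.card_eq_fintype_card, Fintype.card_perm, Fintype.card_fin]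
    decide
  have hdiv := (card_sub_one_dvd ht).trans e1
  rw [h2, show q ^ 2 - 1 = (q + 1) * (q - 1) by rw [show q ^ 2 - 1 = q ^ 2 - 1 ^ 2 by norm_num, Nat.sq_sub_sq]] at hdiv
  have h24 : q + 1 ∣ 24 := Nat.dvd_of_mul_dvd_mul_right (by have := hq.two_le; omega) hdiv
  have hle := Nat.le_of_dvd (by norm_num) h24
  have hp := hq
  have hle' : q ≤ 23 := by omega
  have hge := hq.two_le
  simp only [Set.mem_insert_iff, Set.mem_singleton_iff]
  interval_cases q <;> first | omega | (exfalso; revert hp; norm_num; done) | (exfalso; revert h24; norm_num; done)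

set_option maxHeartbeats 1600000 in
theorem dim_six [Nontrivial V] [Group.IsSolvable G] (hρ : Function.Injective ρ) (ht : Trans ρ)
    (hq : q = 2) (h6 : Module.finrank (ZMod q) V = 6) : Semi ρ := by
  classical
  subst hq
  by_cases hir : ∃ A : Subgroup G, A.Normal ∧ (∀ a ∈ A, ∀ b ∈ A, Commute a b) ∧ Irred ρ A
  · obtain ⟨A, hA, hab, hirr⟩ := hir
    exact semilinear hA hab hirr
  exfalso
  push Not at hir
  have hab137 : ∀ A : Subgroup G, A.Normal → (∀ a ∈ A, ∀ b ∈ A, Commute a b) →
      Nat.card A = 1 ∨ Nat.card A = 3 ∨ Nat.card A = 7 := by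
    intro A hA hab
    obtain ⟨d, hd0, hdn, hdd, hAd, -⟩ := reducible hρ ht hA hab (hir A hA hab)
    rw [h6] at hdn hdd
    interval_cases d <;> norm_num at hdd
    · exact Or.inl (Nat.eq_one_of_dvd_one hAd)
    · rcases (Nat.dvd_prime (by norm_num : Nat.Prime 3)).mp hAd with h | h <;> omega
    · rcases (Nat.dvd_prime (by norm_num : Nat.Prime 7)).mp hAd with h | h <;> omega
  have h63 : 63 ∣ Nat.card G := by
    have := card_sub_one_dvd ht
    rwa [h6] at this
  -- the centre of a core
  have hcen : ∀ s : ℕ, s.Prime → pCore s G ≠ ⊥ → (s = 3 ∨ s = 7) ∧ Nat.card (Subgroup.center (pCore s G)) = s := by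
    intro s hs hne
    haveI := Fact.mk hs
    haveI : (pCore s G).Normal := Grp.pCore_isNormal
    have hP : IsPGroup s (pCore s G) := Grp.pCore_isPGroup
    haveI : Nontrivial (pCore s G) := (Subgroup.nontrivial_iff_ne_bot _).mpr hne
    haveI := hP.center_nontrivial
    have hcard : Nat.card ((Subgroup.center (pCore s G)).map (pCore s G).subtype) = Nat.card (Subgroup.center (pCore s G)) :=
      Subgroup.card_map_of_injective (pCore s G).subtype_injective
    obtain ⟨k, hk⟩ := (hP.to_subgroup (Subgroup.center (pCore s G))).exists_card_eq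
    have hk1 : 1 < Nat.card (Subgroup.center (pCore s G)) := Finite.one_lt_card
    have h := hab137 _ inferInstance
      (comm_map (P := pCore s G) (H := Subgroup.center (pCore s G)) fun x hx y _ => (Subgroup.mem_center_iff.mp hx y).symm)
    rw [hcard] at h
    have hk0 : k ≠ 0 := by rintro rfl; rw [pow_zero] at hk; omega
    have hsd : s ∣ Nat.card (Subgroup.center (pCore s G)) := hk ▸ dvd_pow_self s hk0
    rcases h with h | h | h
    · omega
    · rw [h] at hsd; have := (Nat.prime_dvd_prime_iff_eq hs (by norm_num)).mp hsd; omega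
    · rw [h] at hsd; have := (Nat.prime_dvd_prime_iff_eq hs (by norm_num)).mp hsd; omega
  have hGL : Nat.card G ∣ 20158709760 := by
    let b := Module.finBasisOfFinrankEq (ZMod 2) V h6
    let f : G →* GL (Fin 6) (ZMod 2) :=
      ((LinearMap.toMatrixAlgEquiv b : Module.End (ZMod 2) V →* Matrix (Fin 6) (Fin 6) (ZMod 2)).comp (toEnd ρ)).toHomUnits
    have hf : Function.Injective f := fun g h hgh =>
      hρ (LinearEquiv.toLinearMap_injective ((LinearMap.toMatrixAlgEquiv b).injective (congrArg Units.val hgh)))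
    have h1 := Subgroup.card_subgroup_dvd_card f.range
    rw [← Nat.card_congr (MonoidHom.ofInjective hf).toEquiv, Matrix.card_GL_field, ZMod.card] at h1
    simpa [Fin.prod_univ_six] using h1
  have hcls : ∀ A : Subgroup G, A.Normal → (∀ a ∈ A, ∀ b ∈ A, Commute a b) → Subgroup.centralizer (A : Set G) ≤ A →
      Nat.card A ≤ 7 → False := by
    intro A hA hab hC h7
    have h137 := hab137 A hA hab
    have hle : Nat.card G ≤ Nat.card A * Nat.card A := by
      rcases h137 with h1 | h37
      · have : A = ⊥ := Subgroup.card_eq_one.mp h1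
        subst this
        have htop : (⊤ : Subgroup G) ≤ ⊥ := le_trans (fun g _ => Subgroup.mem_centralizer_iff.mpr fun x hx => by
          rw [SetLike.mem_coe, Subgroup.mem_bot] at hx; simp [hx]) hC
        have : Nat.card G = 1 := by
          rw [← Subgroup.card_top, le_bot_iff.mp htop, Subgroup.card_bot]
        rw [this, Subgroup.card_bot]
      · obtain ⟨p, hp, hAp⟩ : ∃ p, p.Prime ∧ Nat.card A = p := by
          rcases h37 with h | h <;> exact ⟨_, by norm_num, h⟩
        haveI := Fact.mk hp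
        haveI : IsCyclic A := isCyclic_of_prime_card hAp
        obtain ⟨⟨a, haA⟩, hgen⟩ := IsCyclic.exists_generator (α := A)
        have hCa : Subgroup.centralizer {a} ≤ A := fun g hg => hC (Subgroup.mem_centralizer_iff.mpr fun x hx => by
          obtain ⟨k, hk⟩ := hgen ⟨x, hx⟩
          have hk' : a ^ k = x := by simpa using congrArg Subtype.val hk
          rw [← hk']
          exact ((Subgroup.mem_centralizer_singleton_iff.mp hg : g * a = a * g) |> fun e => (Commute.zpow_right e k).symm.eq))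
        let f : G ⧸ Subgroup.centralizer {a} → A := Quotient.lift (fun g => (⟨g * a * g⁻¹, hA.conj_mem a haA g⟩ : A))
          (fun g h hgh => Subtype.ext (by
            have h1 : g⁻¹ * h ∈ Subgroup.centralizer {a} := QuotientGroup.leftRel_apply.mp hgh
            have h2 := Subgroup.mem_centralizer_singleton_iff.mp h1
            show g * a * g⁻¹ = h * a * h⁻¹
            calc g * a * g⁻¹ = g * (a * (g⁻¹ * h)) * h⁻¹ := by group
              _ = g * (g⁻¹ * h * a) * h⁻¹ := by rw [h2]
              _ = _ := by group))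
        have hf : Function.Injective f := by
          intro x y
          induction x using QuotientGroup.induction_on with
          | _ g =>
            induction y using QuotientGroup.induction_on with
            | _ h =>
              intro hxy
              have h1 : g * a * g⁻¹ = h * a * h⁻¹ := congrArg Subtype.val hxy
              refine QuotientGroup.eq.mpr (Subgroup.mem_centralizer_singleton_iff.mpr ?_)
              calc g⁻¹ * h * a = g⁻¹ * (h * a * h⁻¹) * h := by group
                _ = g⁻¹ * (g * a * g⁻¹) * h := by rw [h1]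
                _ = _ := by group
        rw [← Subgroup.card_mul_index (Subgroup.centralizer {a})]
        exact Nat.mul_le_mul (Subgroup.card_le_of_le hCa) (Nat.card_le_card_of_injective f hf)
    have := Nat.le_of_dvd Nat.card_pos h63
    nlinarith
  have hbot : ∀ s : ℕ, s.Prime → s ≠ 3 → s ≠ 7 → pCore s G = ⊥ := by
    intro s hs h3 h7
    by_contra hne
    rcases (hcen s hs hne).1 with h | h <;> contradiction
  haveI : Fact (Nat.Prime 3) := ⟨by norm_num⟩
  haveI : Fact (Nat.Prime 7) := ⟨by norm_num⟩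
  set P := pCore 3 G
  set R := pCore 7 G
  haveI hPn : P.Normal := Grp.pCore_isNormal
  haveI hRn : R.Normal := Grp.pCore_isNormal
  have hFle : ∀ H : Subgroup G, P ≤ H → R ≤ H → fittingSubgroup G ≤ H := by
    intro H hP hR
    rw [Grp.fittingSubgroup_eq_iSup_pCore]
    refine iSup_le fun s => ?_
    by_cases h3 : (s : ℕ) = 3
    · rw [h3]; exact hP
    by_cases h7 : (s : ℕ) = 7
    · rw [h7]; exact hR
    · rw [hbot s s.2 h3 h7]; exact bot_le
  have hsmall : ∀ H : Subgroup G, (Nat.card H = 1 ∨ Nat.card H = 3 ∨ Nat.card H = 7) → ∀ a ∈ H, ∀ b ∈ H, Commute a b := by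
    intro H hH a ha b hb
    haveI : IsCyclic H := by
      rcases hH with h | h | h
      · haveI := (Nat.card_eq_one_iff_unique.mp h).1; infer_instance
      · exact isCyclic_of_prime_card h
      · exact isCyclic_of_prime_card h
    letI := IsCyclic.commGroup (α := H)
    exact congrArg Subtype.val (mul_comm (⟨a, ha⟩ : H) ⟨b, hb⟩)
  by_cases hR : R = ⊥
  · have hFP : fittingSubgroup G = P :=
      le_antisymm (hFle P le_rfl (hR ▸ bot_le)) Grp.pCore_le_fittingSubgroup
    by_cases hPab : ∀ a ∈ P, ∀ b ∈ P, Commute a b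
    · refine hcls P hPn hPab ?_ ?_
      · rw [← hFP]; exact Grp.centralizer_fittingSubgroup_le
      · rcases hab137 P hPn hPab with h | h | h <;> omega
    obtain ⟨x, hx⟩ := exists_prime_orderOf_dvd_card' 7 ((show 7 ∣ 63 by norm_num).trans h63)
    have hPp : IsPGroup 3 P := Grp.pCore_isPGroup
    have h81 : Nat.card P ∣ 3 ^ 4 := by
      obtain ⟨w, hw⟩ := hPp.exists_card_eq
      rw [hw]
      refine pow_dvd_pow 3 ?_
      by_contra hc
      push Not at hc
      have : 3 ^ 5 ∣ 20158709760 := ((pow_dvd_pow 3 hc).trans (hw ▸ Subgroup.card_subgroup_dvd_card P)).trans hGL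
      norm_num at this
    letI : MulAction (Subgroup.zpowers x) P :=
      { smul := fun g t => ⟨(g : G) * t * (g : G)⁻¹, hPn.conj_mem t t.2 g⟩
        one_smul := fun t => Subtype.ext (by show ((1 : Subgroup.zpowers x) : G) * t * _ = t; simp)
        mul_smul := fun g h t => Subtype.ext (by
          show ((g * h : Subgroup.zpowers x) : G) * t * ((g * h : Subgroup.zpowers x) : G)⁻¹ =
            (g : G) * ((h : G) * t * (h : G)⁻¹) * (g : G)⁻¹
          simp [mul_assoc]) }
    have hxp : IsPGroup 7 (Subgroup.zpowers x) := IsPGroup.of_card (n := 1) (by rw [Nat.card_zpowers, hx, pow_one])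
    have hmod := hxp.card_modEq_card_fixedPoints P
    let Fx : Subgroup P := (Subgroup.centralizer {x}).subgroupOf P
    have hfix : MulAction.fixedPoints (Subgroup.zpowers x) P = (Fx : Set P) := by
      ext t
      simp only [Fx, SetLike.mem_coe, Subgroup.mem_subgroupOf, Subgroup.mem_centralizer_singleton_iff]
      refine ⟨fun h => ?_, fun h g => ?_⟩
      · have h1 : x * t * x⁻¹ = (t : G) := congrArg Subtype.val (h ⟨x, Subgroup.mem_zpowers x⟩)
        exact (mul_inv_eq_iff_eq_mul.mp h1).symm
      · obtain ⟨k, hk⟩ := g.2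
        refine Subtype.ext ?_
        show (g : G) * t * (g : G)⁻¹ = t
        rw [← hk, ((Commute.zpow_right (h : Commute (t : G) x) k).symm).eq, mul_inv_cancel_right]
    rw [hfix] at hmod
    have hFd : Nat.card Fx ∣ Nat.card P := Subgroup.card_subgroup_dvd_card Fx
    obtain ⟨i, hi, hiP⟩ := (Nat.dvd_prime_pow (by norm_num)).mp h81
    obtain ⟨j, hj, hjF⟩ := (Nat.dvd_prime_pow (by norm_num)).mp (hFd.trans h81)
    have hmod' : 3 ^ i ≡ 3 ^ j [MOD 7] := by rw [← hiP, ← hjF]; exact hmod
    have hij : i = j := by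
      have key : ∀ a < 5, ∀ b < 5, 3 ^ a % 7 = 3 ^ b % 7 → a = b := by decide
      exact key i (by omega) j (by omega) hmod'
    have hFtop : Fx = ⊤ := Subgroup.eq_top_of_card_eq Fx (by rw [hjF, hiP, hij])
    have hxF : x ∈ fittingSubgroup G := Grp.centralizer_fittingSubgroup_le (Subgroup.mem_centralizer_iff.mpr fun t ht => by
      rw [hFP] at ht
      have : (⟨t, ht⟩ : P) ∈ Fx := hFtop ▸ Subgroup.mem_top _
      exact Subgroup.mem_centralizer_singleton_iff.mp this)
    rw [hFP] at hxF
    obtain ⟨k, hk⟩ := hPp ⟨x, hxF⟩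
    have : orderOf x ∣ 3 ^ k := orderOf_dvd_of_pow_eq_one (congrArg Subtype.val hk)
    rw [hx] at this
    have := (Nat.prime_dvd_prime_iff_eq (by norm_num) (by norm_num)).mp ((by norm_num : Nat.Prime 7).dvd_of_dvd_pow this)
    omega
  · have hR7 : Nat.card R = 7 := by
      have hRp : IsPGroup 7 R := Grp.pCore_isPGroup
      obtain ⟨w, hw⟩ := hRp.exists_card_eq
      have hw2 : w ≤ 2 := by
        by_contra hc
        push Not at hc
        have : 7 ^ 3 ∣ 20158709760 := ((pow_dvd_pow 7 hc).trans (hw ▸ Subgroup.card_subgroup_dvd_card R)).trans hGL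
        norm_num at this
      have hcomm : ∀ a ∈ R, ∀ b ∈ R, Commute a b := by
        intro a ha b hb
        have h2 : Nat.card R = 7 ^ 2 ∨ Nat.card R = 7 ∨ Nat.card R = 1 := by
          rw [hw]
          rcases (show w = 0 ∨ w = 1 ∨ w = 2 by omega) with rfl | rfl | rfl
          · exact Or.inr (Or.inr rfl)
          · exact Or.inr (Or.inl rfl)
          · exact Or.inl rfl
        rcases h2 with h | h | h
        · exact congrArg Subtype.val ((IsPGroup.isMulCommutative_of_card_eq_prime_sq (p := 7) h).is_comm.comm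
            (⟨a, ha⟩ : R) ⟨b, hb⟩)
        · exact hsmall R (Or.inr (Or.inr h)) a ha b hb
        · exact hsmall R (Or.inl h) a ha b hb
      rcases hab137 R hRn hcomm with h | h | h
      · exact absurd (Subgroup.card_eq_one.mp h) hR
      · have hw0 : w ≠ 0 := by rintro rfl; rw [pow_zero] at hw; omega
        have : (7 : ℕ) ∣ 3 := by rw [← h, hw]; exact dvd_pow_self 7 hw0
        omega
      · exact h
    have hRab := hsmall R (Or.inr (Or.inr hR7))
    have hP : P = ⊥ := by
      by_contra hne
      haveI : P.Normal := hPn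
      obtain ⟨-, hc3⟩ := hcen 3 (by norm_num) hne
      let Z := (Subgroup.center P).map P.subtype
      haveI : Z.Normal := inferInstance
      have hZ3 : Nat.card Z = 3 := by rw [Subgroup.card_map_of_injective P.subtype_injective]; exact hc3
      have hZR : Z ≤ Subgroup.centralizer (R : Set G) := Grp.commute_of_coprime_normal (by rw [hZ3, hR7]; norm_num)
      have hcommW : ∀ a ∈ Z ⊔ R, ∀ b ∈ Z ⊔ R, Commute a b := by
        intro a ha b hb
        have hle : Z ⊔ R ≤ Subgroup.centralizer ((Z ⊔ R : Subgroup G) : Set G) := by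
          refine sup_le ?_ ?_ <;> rw [Subgroup.le_centralizer_iff] <;> refine sup_le ?_ ?_
          · intro z hz; exact Subgroup.mem_centralizer_iff.mpr fun y hy => hsmall Z (Or.inr (Or.inl hZ3)) y hy z hz
          · exact Subgroup.le_centralizer_iff.mp hZR
          · exact hZR
          · intro z hz; exact Subgroup.mem_centralizer_iff.mpr fun y hy => hRab y hy z hz
        exact (Subgroup.mem_centralizer_iff.mp (hle ha) b hb).symm
      have hW := hab137 _ inferInstance hcommW
      have h3 : 3 ∣ Nat.card (Z ⊔ R : Subgroup G) := hZ3 ▸ Subgroup.card_dvd_of_le le_sup_left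
      have h7 : 7 ∣ Nat.card (Z ⊔ R : Subgroup G) := hR7 ▸ Subgroup.card_dvd_of_le le_sup_right
      omega
    have hFR : fittingSubgroup G = R :=
      le_antisymm (hFle R (hP ▸ bot_le) le_rfl) Grp.pCore_le_fittingSubgroup
    exact hcls R hRn hRab (by rw [← hFR]; exact Grp.centralizer_fittingSubgroup_le) hR7.le

end Cfsg.Agent.Recog.HuppertSmall
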