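import Mathlib

/-!
The element orders of `PSL(2, q)`, `q = p ^ f`: the divisors of `p`, `(q - 1) / d`, `(q + 1) / d`,
where `d = gcd 2 (q - 1)`.
-/

set_option autoImplicit false

namespace Cfsg.Agent.PSL2Spec

open Matrix Polynomial

/-- coefficients of `x ^ n` for `x ^ 2 = t x - 1` -/
def u {F : Type*} [CommRing F] (t : F) : ℕ → F × F
  | 0 => (0, 1)
  | n + 1 => ((u t n).1 * t + (u t n).2, -(u t n).1)

theorem pow_eq {F A : Type*} [CommRing F] [Ring A] [Algebra F A] (t : F) (x : A)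
    (hx : x * x = t • x - 1) (n : ℕ) : x ^ n = (u t n).1 • x + (u t n).2 • (1 : A) := by
  induction n with
  | zero => simp [u]
  | succ n ih =>
    rw [pow_succ, ih, u, add_mul, smul_mul_assoc, hx, smul_mul_assoc, one_mul, smul_sub, smul_smul,
      add_smul, neg_smul]
    abel

variable {F : Type*} [Field F] [Fintype F]

local notation "SL" => Matrix.SpecialLinearGroup (Fin 2) F
local notation "PSL" => Matrix.ProjectiveSpecialLinearGroup (Fin 2) F

/-- the projection -/
def proj : SL →* PSL := QuotientGroup.mk' _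

theorem sl_sq (A : SL) : (A : Matrix (Fin 2) (Fin 2) F) * (A : Matrix (Fin 2) (Fin 2) F)
    = (A : Matrix (Fin 2) (Fin 2) F).trace • (A : Matrix (Fin 2) (Fin 2) F) - 1 := by
  have h := A.2
  rw [Matrix.det_fin_two] at h
  ext i j
  fin_cases i <;> fin_cases j <;>
    simp [Matrix.mul_apply, Fin.sum_univ_two, Matrix.trace_fin_two] <;> grind

theorem proj_eq_one_iff (A : SL) :
    proj A = 1 ↔ ∃ c : F, c ^ 2 = 1 ∧ (A : Matrix (Fin 2) (Fin 2) F) = c • 1 := by
  rw [proj, QuotientGroup.mk'_apply, QuotientGroup.eq_one_iff, Matrix.SpecialLinearGroup.mem_center_iff,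
    Fintype.card_fin]
  refine exists_congr fun c => and_congr_right fun _ => ?_
  have : Matrix.scalar (Fin 2) c = c • (1 : Matrix (Fin 2) (Fin 2) F) := by
    ext i j; simp [Matrix.one_apply, Matrix.diagonal_apply]
  rw [this]
  exact eq_comm

/-- the divisor `gcd 2 (q - 1)` -/
def dd (F : Type*) [Fintype F] : ℕ := Nat.gcd 2 (Fintype.card F - 1)

theorem dd_dvd : dd F ∣ Fintype.card F - 1 ∧ dd F ∣ Fintype.card F + 1 := by
  refine ⟨Nat.gcd_dvd_right _ _, ?_⟩
  have h1 := Nat.gcd_dvd_right 2 (Fintype.card F - 1)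
  have h2 := Nat.gcd_dvd_left 2 (Fintype.card F - 1)
  have hpos := Fintype.card_pos (α := F)
  rw [show Fintype.card F + 1 = (Fintype.card F - 1) + 2 by omega]
  exact Nat.dvd_add h1 h2

theorem eq_or_eq_neg_of_sq {K : Type*} [Field K] {x : K} (h : x ^ 2 = 1) : x = 1 ∨ x = -1 :=
  sq_eq_one_iff.mp h

/-- a power of the image is trivial if an eigenvalue power squares to one -/
theorem proj_pow_eq_one {K : Type*} [Field K] [Algebra F K] (A : SL) (lam : K) (hlam : lam ≠ 0)
    (hroot : lam * lam = algebraMap F K (A : Matrix (Fin 2) (Fin 2) F).trace * lam - 1)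
    (hne : lam ≠ lam⁻¹) (n : ℕ) (hn : lam ^ (2 * n) = 1) : proj A ^ n = 1 := by
  set t := (A : Matrix (Fin 2) (Fin 2) F).trace with ht
  have hroot' : lam⁻¹ * lam⁻¹ = algebraMap F K t * lam⁻¹ - 1 := by
    field_simp
    linear_combination hroot
  have e1 := pow_eq t lam (by rw [Algebra.smul_def]; exact hroot) n
  have e2 := pow_eq t lam⁻¹ (by rw [Algebra.smul_def]; exact hroot') n
  simp only [Algebra.smul_def, mul_one] at e1 e2
  have hc : (lam ^ n) ^ 2 = 1 := by rw [← pow_mul, mul_comm, hn]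
  have hinv : (lam⁻¹) ^ n = lam ^ n := by
    rw [inv_pow]; exact inv_eq_of_mul_eq_one_right (by rw [← pow_two]; exact hc)
  rw [hinv, e1] at e2
  have hu : (u t n).1 = 0 := by
    have h : algebraMap F K (u t n).1 * (lam - lam⁻¹) = 0 := by linear_combination e2
    rcases mul_eq_zero.mp h with h | h
    · exact (map_eq_zero _).mp h
    · exact absurd (sub_eq_zero.mp h) hne
  rw [hu, map_zero, zero_mul, zero_add] at e1
  rw [← map_pow, proj_eq_one_iff]
  refine ⟨(u t n).2, ?_, ?_⟩
  · apply (algebraMap F K).injective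
    rw [map_pow, ← e1, hc, map_one]
  · rw [Matrix.SpecialLinearGroup.coe_pow, pow_eq t _ (by rw [ht]; exact sl_sq A) n, hu, zero_smul, zero_add]

theorem exists_root (t : F) :
    ∃ lam : AlgebraicClosure F, lam * lam = algebraMap F _ t * lam - 1 := by
  obtain ⟨lam, h⟩ := IsAlgClosed.exists_root
    (Polynomial.X ^ 2 - Polynomial.C (algebraMap F (AlgebraicClosure F) t) * Polynomial.X + 1)
    (by
      have h : (Polynomial.X ^ 2 - Polynomial.C (algebraMap F (AlgebraicClosure F) t) * Polynomial.X + 1).degree = 2 := by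
        compute_degree!
      rw [h]; decide)
  refine ⟨lam, ?_⟩
  simp at h
  linear_combination h

theorem order_dvd (p : ℕ) [Fact p.Prime] [CharP F p] (g : PSL) :
    orderOf g ∣ p ∨ orderOf g ∣ (Fintype.card F - 1) / dd F ∨ orderOf g ∣ (Fintype.card F + 1) / dd F := by
  obtain ⟨A, rfl⟩ := QuotientGroup.mk'_surjective _ g
  change orderOf (proj A) ∣ p ∨ _
  set M := (A : Matrix (Fin 2) (Fin 2) F) with hM
  set q := Fintype.card F with hq
  obtain ⟨lam, hl⟩ := exists_root M.trace
  have hl0 : lam ≠ 0 := fun h => by rw [h] at hl; simp at hl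
  by_cases hne : lam = lam⁻¹
  · left
    have hl2 : lam ^ 2 = 1 := by rw [pow_two]; nth_rw 2 [hne]; exact mul_inv_cancel₀ hl0
    have ht : ∃ c : F, c ^ 2 = 1 ∧ M.trace = 2 * c := by
      rcases eq_or_eq_neg_of_sq hl2 with h | h <;> rw [h] at hl
      · refine ⟨1, one_pow 2, ?_⟩
        apply (algebraMap F (AlgebraicClosure F)).injective
        rw [map_mul, map_one, map_ofNat]; linear_combination -hl
      · refine ⟨-1, neg_one_sq, ?_⟩
        apply (algebraMap F (AlgebraicClosure F)).injective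
        rw [map_mul, map_neg, map_one, map_ofNat]; linear_combination hl
    obtain ⟨c, hc, htc⟩ := ht
    have hnil : (M - c • 1) * (M - c • 1) = 0 := by
      have hsq := sl_sq A
      rw [← hM, htc] at hsq
      rw [sub_mul, mul_sub, mul_sub, hsq, smul_mul_assoc, mul_smul_comm, smul_mul_assoc, one_mul, mul_one,
        mul_smul_comm, mul_one, smul_smul, ← pow_two c, hc, one_smul, two_mul, add_smul]
      abel
    apply orderOf_dvd_of_pow_eq_one
    rw [← map_pow, proj_eq_one_iff]
    refine ⟨c ^ p, by rw [← pow_mul, mul_comm, pow_mul, hc, one_pow], ?_⟩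
    rw [Matrix.SpecialLinearGroup.coe_pow, ← hM]
    haveI : CharP (Matrix (Fin 2) (Fin 2) F) p := inferInstance
    have hsplit : M = c • 1 + (M - c • 1) := by abel
    have hcomm : Commute (c • (1 : Matrix (Fin 2) (Fin 2) F)) (M - c • 1) :=
      (Commute.one_left _).smul_left c
    have h2p : 2 ≤ p := (Fact.out : p.Prime).two_le
    calc M ^ p = (c • 1 + (M - c • 1)) ^ p := by rw [← hsplit]
      _ = (c • (1 : Matrix (Fin 2) (Fin 2) F)) ^ p + (M - c • 1) ^ p := add_pow_char_of_commute p hcomm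
      _ = c ^ p • 1 := by
        rw [_root_.smul_pow, one_pow, show p = 2 + (p - 2) by omega, pow_add (M - c • 1), pow_two, hnil, zero_mul, add_zero]
  right
  have hfix : (lam ^ q) * (lam ^ q) = algebraMap F _ M.trace * lam ^ q - 1 := by
    have h := congrArg (· ^ q) hl
    obtain ⟨k, hk⟩ : ∃ k : ℕ, q = p ^ k := by
      obtain ⟨⟨k, hk0⟩, hkp, hk⟩ := FiniteField.card F p
      exact ⟨k, hk⟩
    haveI : CharP (AlgebraicClosure F) p := inferInstance
    simp only [hk] at h ⊢
    rw [mul_pow, sub_pow_char_pow, one_pow, mul_pow] at h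
    rw [h, ← map_pow, ← hk, hq, FiniteField.pow_card]
  have hcases : lam ^ q = lam ∨ lam ^ q = lam⁻¹ := by
    have h : (lam ^ q - lam) * (lam ^ q - lam⁻¹) = 0 := by
      have e : algebraMap F (AlgebraicClosure F) M.trace = lam + lam⁻¹ := by
        field_simp; linear_combination -hl
      rw [e] at hfix
      linear_combination hfix + mul_inv_cancel₀ hl0
    rcases mul_eq_zero.mp h with h | h
    · exact Or.inl (sub_eq_zero.mp h)
    · exact Or.inr (sub_eq_zero.mp h)
  have hd2 : dd F ∣ 2 := Nat.gcd_dvd_left _ _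
  have hq1 : 1 ≤ q := Fintype.card_pos
  rcases hcases with h | h
  · left
    apply orderOf_dvd_of_pow_eq_one
    refine proj_pow_eq_one A lam hl0 hl hne _ ?_
    have h1 : lam ^ (q - 1) = 1 := mul_right_cancel₀ hl0 (by rw [← pow_succ, Nat.sub_add_cancel hq1, h, one_mul])
    obtain ⟨e, he⟩ := hd2
    have h2 : 2 * ((q - 1) / dd F) = (q - 1) * e := by
      conv_lhs => rw [he, mul_comm (dd F) e, mul_assoc, Nat.mul_div_cancel' dd_dvd.1]
      rw [mul_comm]
    rw [h2, pow_mul, h1, one_pow]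
  · right
    apply orderOf_dvd_of_pow_eq_one
    refine proj_pow_eq_one A lam hl0 hl hne _ ?_
    have h1 : lam ^ (q + 1) = 1 := by rw [pow_succ, h, inv_mul_cancel₀ hl0]
    obtain ⟨e, he⟩ := hd2
    have h2 : 2 * ((q + 1) / dd F) = (q + 1) * e := by
      conv_lhs => rw [he, mul_comm (dd F) e, mul_assoc, Nat.mul_div_cancel' dd_dvd.2]
      rw [mul_comm]
    rw [h2, pow_mul, h1, one_pow]

theorem exists_order_char (p : ℕ) [Fact p.Prime] [CharP F p] : ∃ g : PSL, orderOf g = p := by
  let A : SL := ⟨!![1, 1; 0, 1], by simp [Matrix.det_fin_two]⟩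
  refine ⟨proj A, orderOf_eq_prime ?_ fun h => ?_⟩
  · rw [← map_pow, proj_eq_one_iff]
    refine ⟨1, one_pow 2, ?_⟩
    have hn : ∀ n : ℕ, (!![1, 1; 0, 1] : Matrix (Fin 2) (Fin 2) F) ^ n = !![1, (n : F); 0, 1] := by
      intro n
      induction n with
      | zero => simp [Matrix.one_fin_two]
      | succ n ih => rw [pow_succ, ih, Matrix.mul_fin_two]; simp [add_comm]
    rw [Matrix.SpecialLinearGroup.coe_pow]
    show (!![1, 1; 0, 1] : Matrix (Fin 2) (Fin 2) F) ^ p = _
    rw [hn, CharP.cast_eq_zero, one_smul, Matrix.one_fin_two]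
  · obtain ⟨c, -, hc⟩ := (proj_eq_one_iff A).mp h
    have := congrFun (congrFun hc 0) 1
    simp [A] at this

theorem exists_order_split : ∃ g : PSL, orderOf g = (Fintype.card F - 1) / dd F := by
  classical
  obtain ⟨a, ha⟩ := IsCyclic.exists_generator (α := Fˣ)
  have hoa : orderOf a = Fintype.card F - 1 := by
    rw [orderOf_eq_card_of_forall_mem_zpowers ha, Nat.card_units, Nat.card_eq_fintype_card]
  let A : SL := ⟨!![(a : F), 0; 0, (a⁻¹ : Fˣ)], by simp [Matrix.det_fin_two]⟩
  have hn : ∀ n : ℕ, ((A ^ n : SL) : Matrix (Fin 2) (Fin 2) F) = !![((a ^ n : Fˣ) : F), 0; 0, ((a⁻¹ ^ n : Fˣ) : F)] := by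
    intro n
    induction n with
    | zero => simp [Matrix.one_fin_two]
    | succ n ih =>
      rw [pow_succ, Matrix.SpecialLinearGroup.coe_mul, ih]
      show _ * !![(a : F), 0; 0, (a⁻¹ : Fˣ)] = _
      rw [Matrix.mul_fin_two]; simp [pow_succ]
  have hiff : ∀ n : ℕ, proj A ^ n = 1 ↔ a ^ (2 * n) = 1 := by
    intro n
    rw [← map_pow, proj_eq_one_iff]
    constructor
    · rintro ⟨c, hc, h⟩
      rw [hn] at h
      have h00 := congrFun (congrFun h 0) 0
      simp at h00
      apply Units.ext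
      rw [pow_mul', Units.val_pow_eq_pow_val, Units.val_pow_eq_pow_val, h00, hc, Units.val_one]
    · intro h
      refine ⟨((a ^ n : Fˣ) : F), by rw [← Units.val_pow_eq_pow_val, ← pow_mul, mul_comm, h, Units.val_one], ?_⟩
      have hi : a⁻¹ ^ n = a ^ n := by
        rw [inv_pow]; exact inv_eq_of_mul_eq_one_right (by rw [← pow_add, ← two_mul, h])
      rw [hn, hi]
      ext i j; fin_cases i <;> fin_cases j <;> simp
  refine ⟨proj A, ?_⟩
  apply Nat.dvd_antisymm
  · apply orderOf_dvd_of_pow_eq_one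
    rw [hiff]
    obtain ⟨e, he⟩ : dd F ∣ 2 := Nat.gcd_dvd_left _ _
    have h2 : 2 * ((Fintype.card F - 1) / dd F) = (Fintype.card F - 1) * e := by
      conv_lhs => rw [he, mul_comm (dd F) e, mul_assoc, Nat.mul_div_cancel' dd_dvd.1]
      rw [mul_comm]
    rw [h2, pow_mul, ← hoa, pow_orderOf_eq_one, one_pow]
  · have h := orderOf_dvd_of_pow_eq_one ((hiff _).mp (pow_orderOf_eq_one (proj A)))
    rw [hoa] at h
    have hg : Fintype.card F - 1 ∣ Nat.gcd (2 * orderOf (proj A)) ((Fintype.card F - 1) * orderOf (proj A)) :=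
      Nat.dvd_gcd h (Nat.dvd_mul_right _ _)
    rw [Nat.gcd_mul_right] at hg
    exact (Nat.div_dvd_iff_dvd_mul dd_dvd.1 (Nat.gcd_pos_of_pos_left _ two_pos)).mpr hg

theorem exists_order_nonsplit (p : ℕ) [Fact p.Prime] [CharP F p] :
    ∃ g : PSL, orderOf g = (Fintype.card F + 1) / dd F := by
  classical
  set q := Fintype.card F with hq
  have hq2 : 1 < q := Fintype.one_lt_card
  let K := AlgebraicClosure F
  haveI : CharP K p := inferInstance
  have hqK : ((q : ℕ) : K) = 0 := by
    obtain ⟨k, hkp, hk⟩ := FiniteField.card F p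
    rw [hq, hk]; push_cast; rw [CharP.cast_eq_zero]; exact zero_pow k.pos.ne'
  haveI : NeZero ((q + 1 : ℕ) : K) := ⟨by push_cast; rw [hqK, zero_add]; exact one_ne_zero⟩
  obtain ⟨lam, hlam⟩ : ∃ lam : K, IsPrimitiveRoot lam (q + 1) := by
    obtain ⟨r, hr⟩ := IsAlgClosed.exists_root (Polynomial.cyclotomic (q + 1) K)
      (Polynomial.degree_cyclotomic_pos _ K (Nat.succ_pos q)).ne'
    exact ⟨r, Polynomial.isRoot_cyclotomic_iff.mp hr⟩
  have hl0 : lam ≠ 0 := hlam.ne_zero (Nat.succ_ne_zero q)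
  have hlq : lam ^ q = lam⁻¹ := eq_inv_of_mul_eq_one_left (by rw [← pow_succ]; exact hlam.pow_eq_one)
  obtain ⟨t, ht⟩ : ∃ t : F, algebraMap F K t = lam + lam⁻¹ := by
    have hf : (lam + lam⁻¹) ^ q = lam + lam⁻¹ := by
      obtain ⟨k, hkp, hk⟩ := FiniteField.card F p
      rw [hk] at hq
      rw [hq, add_pow_char_pow, inv_pow, ← hq, hlq, inv_inv, add_comm]
    have hne : (Polynomial.X ^ q - Polynomial.X : Polynomial K) ≠ 0 := FiniteField.X_pow_card_sub_X_ne_zero K hq2
    have hsub : (Finset.univ : Finset F).map ⟨algebraMap F K, (algebraMap F K).injective⟩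
        ⊆ (Polynomial.X ^ q - Polynomial.X : Polynomial K).roots.toFinset := by
      intro y hy
      obtain ⟨x, -, rfl⟩ := Finset.mem_map.mp hy
      rw [Multiset.mem_toFinset, Polynomial.mem_roots hne]
      show Polynomial.IsRoot _ (algebraMap F K x)
      simp [← map_pow, hq, FiniteField.pow_card]
    have heq := Finset.eq_of_subset_of_card_le hsub (by
      rw [Finset.card_map, Finset.card_univ]
      refine (Multiset.toFinset_card_le _).trans ((Polynomial.card_roots' _).trans ?_)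
      rw [FiniteField.X_pow_card_sub_X_natDegree_eq K hq2])
    have hm : lam + lam⁻¹ ∈ (Polynomial.X ^ q - Polynomial.X : Polynomial K).roots.toFinset := by
      rw [Multiset.mem_toFinset, Polynomial.mem_roots hne]
      simp [hf]
    rw [← heq] at hm
    obtain ⟨t, -, ht⟩ := Finset.mem_map.mp hm
    exact ⟨t, ht⟩
  let A : SL := ⟨!![0, -1; 1, t], by simp [Matrix.det_fin_two]⟩
  have hroot : lam * lam = algebraMap F K (A : Matrix (Fin 2) (Fin 2) F).trace * lam - 1 := by
    rw [show (A : Matrix (Fin 2) (Fin 2) F).trace = t by simp [A, Matrix.trace_fin_two], ht, add_mul,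
      inv_mul_cancel₀ hl0, add_sub_cancel_right]
  refine ⟨proj A, ?_⟩
  obtain ⟨e, he⟩ : dd F ∣ 2 := Nat.gcd_dvd_left _ _
  apply Nat.dvd_antisymm
  · apply orderOf_dvd_of_pow_eq_one
    have hne : lam ≠ lam⁻¹ := by
      intro h
      have h2 : lam ^ 2 = 1 := by rw [pow_two]; nth_rw 2 [h]; exact mul_inv_cancel₀ hl0
      have := Nat.le_of_dvd two_pos (hlam.dvd_of_pow_eq_one 2 h2)
      omega
    refine proj_pow_eq_one A lam hl0 hroot hne _ ?_
    have h2 : 2 * ((q + 1) / dd F) = (q + 1) * e := by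
      conv_lhs => rw [he, mul_comm (dd F) e, mul_assoc, Nat.mul_div_cancel' dd_dvd.2]
      rw [mul_comm]
    rw [h2, pow_mul, hlam.pow_eq_one, one_pow]
  · set n := orderOf (proj A) with hn
    obtain ⟨c, hc, hA⟩ := (proj_eq_one_iff (A ^ n)).mp (by rw [map_pow, hn, pow_orderOf_eq_one])
    have e1 := pow_eq (A : Matrix (Fin 2) (Fin 2) F).trace (A : Matrix (Fin 2) (Fin 2) F) (sl_sq A) n
    rw [← Matrix.SpecialLinearGroup.coe_pow, hA] at e1
    have h10 := congrFun (congrFun e1 1) 0
    have h00 := congrFun (congrFun e1 0) 0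
    simp [A] at h10 h00
    have e2 := pow_eq (A : Matrix (Fin 2) (Fin 2) F).trace lam (by rw [Algebra.smul_def]; exact hroot) n
    simp only [Algebra.smul_def, mul_one] at e2
    simp [A] at e2
    rw [← h10, ← h00, map_zero, zero_mul, zero_add] at e2
    have h2n : lam ^ (2 * n) = 1 := by rw [pow_mul', e2, ← map_pow, hc, map_one]
    have hdvd := hlam.dvd_of_pow_eq_one _ h2n
    have hg : q + 1 ∣ Nat.gcd (2 * n) ((q + 1) * n) := Nat.dvd_gcd hdvd (Nat.dvd_mul_right _ _)
    rw [Nat.gcd_mul_right] at hg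
    have hgd : Nat.gcd 2 (q + 1) = dd F := by
      show _ = Nat.gcd 2 (Fintype.card F - 1)
      rw [← hq, show q + 1 = (q - 1) + 2 by omega, Nat.gcd_add_self_right]
    rw [hgd] at hg
    exact (Nat.div_dvd_iff_dvd_mul dd_dvd.2 (Nat.gcd_pos_of_pos_left _ two_pos)).mpr hg

/-- the spectrum of `PSL(2, q)` -/
theorem range_orderOf (p : ℕ) [Fact p.Prime] [CharP F p] :
    Set.range (orderOf : PSL → ℕ) =
      {n | n ∣ p ∨ n ∣ (Fintype.card F - 1) / dd F ∨ n ∣ (Fintype.card F + 1) / dd F} := by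
  ext n
  constructor
  · rintro ⟨g, rfl⟩; exact order_dvd p g
  · intro h
    have key : ∀ g : PSL, n ∣ orderOf g → n ∈ Set.range (orderOf : PSL → ℕ) := fun g hg =>
      ⟨g ^ (orderOf g / n), orderOf_pow_orderOf_div (orderOf_pos g).ne' hg⟩
    rcases h with h | h | h
    · obtain ⟨g, hg⟩ := exists_order_char (F := F) p; exact key g (hg ▸ h)
    · obtain ⟨g, hg⟩ := exists_order_split (F := F); exact key g (hg ▸ h)
    · obtain ⟨g, hg⟩ := exists_order_nonsplit (F := F) p; exact key g (hg ▸ h)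

end Cfsg.Agent.PSL2Spec
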