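import Mathlib
import Cfsg.Agent.Lib.Recog.DihedralHom
import Cfsg.Agent.Lib.Grp.Frattini

/-!
# 2-groups of maximal class

A 2-group whose derived subgroup has index four has a cyclic subgroup of index two, so it is a
dihedral, generalised quaternion or semidihedral group; these are the 2-groups of maximal class.
-/

set_option autoImplicit false
set_option linter.style.haveILetI false
set_option linter.unusedSectionVars false

open scoped commutatorElement

namespace Cfsg.Agent.MaxClass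

open Subgroup

universe u

variable {S : Type u} [Group S]

theorem isCoprime_two_pow_odd (m : ℕ) (j : ℤ) : IsCoprime ((2 : ℤ) ^ m) (2 * j + 1) :=
  IsCoprime.pow_left (R := ℤ) ⟨-j, 1, by ring⟩

theorem two_pow_dvd_sq {m : ℕ} (hm : 1 ≤ m) {r : ℤ} (h : (2 : ℤ) ^ m ∣ r * r - 1) :
    (2 : ℤ) ^ (m - 1) ∣ r - 1 ∨ (2 : ℤ) ^ (m - 1) ∣ r + 1 := by
  obtain ⟨m, rfl⟩ : ∃ k, m = k + 1 := ⟨m - 1, by omega⟩
  rw [Nat.add_sub_cancel]
  rcases Int.even_or_odd r with ⟨k, hk⟩ | ⟨k, hk⟩
  · exfalso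
    have h2 : (2 : ℤ) ∣ r * r - 1 := dvd_trans (dvd_pow_self 2 (by omega)) h
    have h3 : (2 : ℤ) ∣ r * r := Dvd.dvd.mul_right ⟨k, by omega⟩ r
    omega
  subst hk
  rcases Int.even_or_odd k with ⟨j, hj⟩ | ⟨j, hj⟩
  · left
    have h' : (2 : ℤ) ^ (m + 1) ∣ (2 * (2 * k)) * (2 * j + 1) := by
      convert h using 1; subst hj; ring
    have h2 := (isCoprime_two_pow_odd (m + 1) j).dvd_of_dvd_mul_right h'
    rw [pow_succ'] at h2
    simpa using (mul_dvd_mul_iff_left (two_ne_zero (α := ℤ))).1 h2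
  · right
    have h' : (2 : ℤ) ^ (m + 1) ∣ (2 * (2 * (k + 1))) * (2 * j + 1) := by
      convert h using 1; subst hj; ring
    have h2 := (isCoprime_two_pow_odd (m + 1) j).dvd_of_dvd_mul_right h'
    rw [pow_succ'] at h2
    exact ((mul_dvd_mul_iff_left (two_ne_zero (α := ℤ))).1 h2).trans (dvd_of_eq (by ring))

theorem half_dvd_cases {m : ℕ} (hm : 1 ≤ m) {x : ℤ} (h : (2 : ℤ) ^ (m - 1) ∣ x) :
    (2 : ℤ) ^ m ∣ x ∨ (2 : ℤ) ^ m ∣ x - 2 ^ (m - 1) := by
  obtain ⟨m, rfl⟩ : ∃ k, m = k + 1 := ⟨m - 1, by omega⟩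
  simp only [Nat.add_sub_cancel] at h ⊢
  obtain ⟨c, rfl⟩ := h
  rcases Int.even_or_odd c with ⟨d, rfl⟩ | ⟨d, rfl⟩
  · exact Or.inl ⟨d, by ring⟩
  · exact Or.inr ⟨d, by ring⟩

theorem dvd_two_mul {m : ℕ} (hm : 1 ≤ m) {x : ℤ} : (2 : ℤ) ^ m ∣ 2 * x ↔ (2 : ℤ) ^ (m - 1) ∣ x := by
  obtain ⟨m, rfl⟩ : ∃ k, m = k + 1 := ⟨m - 1, by omega⟩
  rw [Nat.add_sub_cancel, pow_succ']
  exact mul_dvd_mul_iff_left two_ne_zero

/-- `a` generates a subgroup of index two and order `2 ^ m`, and `b` lies outside it. -/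
structure Cyc2 (m : ℕ) (a b : S) : Prop where
  ord : orderOf a = 2 ^ m
  card : Nat.card S = 2 ^ (m + 1)
  nmem : b ∉ zpowers a

namespace Cyc2

variable {m : ℕ} {a b : S} (h : Cyc2 m a b)
include h

theorem finite : Finite S := Nat.finite_of_card_ne_zero (by rw [h.card]; positivity)

theorem zpow_eq {i j : ℤ} : a ^ i = a ^ j ↔ (2 : ℤ) ^ m ∣ j - i := by
  rw [zpow_eq_zpow_iff_modEq, h.ord, Int.modEq_iff_dvd]
  push_cast
  rfl

theorem zpow_eq_one {i : ℤ} : a ^ i = 1 ↔ (2 : ℤ) ^ m ∣ i := by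
  rw [← orderOf_dvd_iff_zpow_eq_one, h.ord]
  push_cast
  rfl

theorem index : (zpowers a).index = 2 := by
  have := (zpowers a).card_mul_index
  rw [Nat.card_zpowers, h.ord, h.card, pow_succ] at this
  exact Nat.eq_of_mul_eq_mul_left (Nat.two_pow_pos m) this

theorem normal : (zpowers a).Normal := normal_of_index_eq_two h.index

theorem cases (g : S) : (∃ i : ℤ, g = a ^ i) ∨ ∃ i : ℤ, g = b * a ^ i := by
  by_cases hg : g ∈ zpowers a
  · obtain ⟨i, rfl⟩ := mem_zpowers_iff.1 hg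
    exact Or.inl ⟨i, rfl⟩
  · have : b⁻¹ * g ∈ zpowers a := by
      rw [mul_mem_iff_of_index_two h.index, inv_mem_iff]
      exact iff_of_false h.nmem hg
    obtain ⟨i, hi⟩ := mem_zpowers_iff.1 this
    exact Or.inr ⟨i, by rw [hi, mul_inv_cancel_left]⟩

theorem mul_nmem (i : ℤ) : b * a ^ i ∉ zpowers a := fun hh =>
  h.nmem ((mul_mem_cancel_right (zpow_mem_zpowers a i)).1 hh)

theorem closure_eq_top : closure {a, b} = ⊤ := by
  refine eq_top_iff.2 fun g _ => ?_
  have ha : a ∈ closure {a, b} := subset_closure (Set.mem_insert _ _)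
  have hb : b ∈ closure {a, b} := subset_closure (Set.mem_insert_of_mem _ rfl)
  rcases h.cases g with ⟨i, rfl⟩ | ⟨i, rfl⟩
  · exact zpow_mem ha i
  · exact mul_mem hb (zpow_mem ha i)

theorem exists_conj : ∃ r : ℤ, b * a * b⁻¹ = a ^ r := by
  obtain ⟨r, hr⟩ := mem_zpowers_iff.1 (h.normal.conj_mem a (mem_zpowers a) b)
  exact ⟨r, hr.symm⟩

theorem exists_sq : ∃ s : ℤ, b * b = a ^ s := by
  obtain ⟨s, hs⟩ := mem_zpowers_iff.1 (mul_self_mem_of_index_two h.index b)
  exact ⟨s, hs.symm⟩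

omit h in
theorem conj_zpow' {r : ℤ} (hr : b * a * b⁻¹ = a ^ r) (i : ℤ) : b * a ^ i * b⁻¹ = a ^ (r * i) := by
  rw [← conj_zpow, hr, zpow_mul]

omit h in
theorem zpow_mul_b {r : ℤ} (hr : b * a * b⁻¹ = a ^ r) (i : ℤ) : b * a ^ i = a ^ (r * i) * b := by
  rw [← conj_zpow' hr, inv_mul_cancel_right]

theorem conj_sq {r : ℤ} (hr : b * a * b⁻¹ = a ^ r) : (2 : ℤ) ^ m ∣ r * r - 1 := by
  obtain ⟨s, hs⟩ := h.exists_sq
  have : b * (b * a * b⁻¹) * b⁻¹ = a := by
    calc b * (b * a * b⁻¹) * b⁻¹ = (b * b) * a * (b * b)⁻¹ := by group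
      _ = a := by rw [hs, (Commute.self_zpow a s).symm.eq, mul_inv_cancel_right]
  rw [hr, conj_zpow' hr] at this
  have h' : a ^ (r * r) = a ^ (1 : ℤ) := by rw [this, zpow_one]
  have := dvd_neg.2 (h.zpow_eq.1 h')
  rwa [neg_sub] at this

theorem sq_fixed {r s : ℤ} (hr : b * a * b⁻¹ = a ^ r) (hs : b * b = a ^ s) :
    (2 : ℤ) ^ m ∣ r * s - s := by
  have : b * (b * b) * b⁻¹ = b * b := by group
  rw [hs, conj_zpow' hr] at this
  exact h.zpow_eq.1 this.symm

omit h in
theorem outside_sq {r s : ℤ} (hr : b * a * b⁻¹ = a ^ r) (hs : b * b = a ^ s) (i : ℤ) :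
    (b * a ^ i) * (b * a ^ i) = a ^ (r * i + s + i) := by
  calc (b * a ^ i) * (b * a ^ i) = (b * a ^ i * b⁻¹) * (b * b) * a ^ i := by group
    _ = a ^ (r * i + s + i) := by rw [conj_zpow' hr, hs, ← zpow_add, ← zpow_add]

theorem change (i : ℤ) : Cyc2 m a (b * a ^ i) := ⟨h.ord, h.card, h.mul_nmem i⟩

omit h in
theorem change_conj {r : ℤ} (hr : b * a * b⁻¹ = a ^ r) (i : ℤ) :
    (b * a ^ i) * a * (b * a ^ i)⁻¹ = a ^ r := by
  rw [← hr]; group

theorem commutator_eq {r : ℤ} (hr : b * a * b⁻¹ = a ^ r) :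
    commutator S = zpowers (a ^ (r - 1)) := by
  refine le_antisymm ?_ (zpowers_le.2 ?_)
  · haveI hN : (zpowers (a ^ (r - 1))).Normal := ⟨fun n hn g => by
      obtain ⟨k, rfl⟩ := mem_zpowers_iff.1 hn
      rcases h.cases g with ⟨i, rfl⟩ | ⟨i, rfl⟩
      · rw [((Commute.zpow_zpow_self a i (r - 1)).zpow_right k).eq, mul_inv_cancel_right]
        exact zpow_mem_zpowers _ k
      · refine mem_zpowers_iff.2 ⟨r * k, ?_⟩
        calc (a ^ (r - 1)) ^ (r * k) = b * a ^ ((r - 1) * k) * b⁻¹ := by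
              rw [conj_zpow' hr, ← zpow_mul]; congr 1; ring
          _ = b * a ^ i * (a ^ (r - 1)) ^ k * (b * a ^ i)⁻¹ := by
              rw [← zpow_mul]; group⟩
    set π := QuotientGroup.mk' (zpowers (a ^ (r - 1)))
    have hab : π a * π b = π b * π a := by
      rw [← map_mul, ← map_mul]
      refine QuotientGroup.eq.2 ?_
      have : (a * b)⁻¹ * (b * a) = b⁻¹ * a ^ (r - 1) * b := by
        calc (a * b)⁻¹ * (b * a) = b⁻¹ * (a⁻¹ * (b * a * b⁻¹)) * b := by group
          _ = b⁻¹ * a ^ (r - 1) * b := by rw [hr]; group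
      rw [this]
      simpa using hN.conj_mem _ (mem_zpowers (a ^ (r - 1))) b⁻¹
    have hc : ∀ x y : S, π x * π y = π y * π x := by
      have key : ∀ x : S, Commute (π x) (π a) ∧ Commute (π x) (π b) := fun x => by
        rcases h.cases x with ⟨i, rfl⟩ | ⟨i, rfl⟩
        · rw [map_zpow]
          exact ⟨(Commute.refl _).zpow_left i, Commute.zpow_left hab i⟩
        · rw [map_mul, map_zpow]
          exact ⟨Commute.mul_left hab.symm ((Commute.refl _).zpow_left i),
            Commute.mul_left (Commute.refl _) (Commute.zpow_left hab i)⟩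
      intro x y
      rcases h.cases y with ⟨i, rfl⟩ | ⟨i, rfl⟩
      · rw [map_zpow]; exact ((key x).1.zpow_right i).eq
      · rw [map_mul, map_zpow]; exact ((key x).2.mul_right ((key x).1.zpow_right i)).eq
    rw [_root_.commutator_def, commutator_le]
    intro x _ y _
    rw [← QuotientGroup.eq_one_iff]
    show π ⁅x, y⁆ = 1
    rw [map_commutatorElement, commutatorElement_eq_one_iff_mul_comm]
    exact hc x y
  · have : ⁅b, a⁆ = a ^ (r - 1) := by
      rw [commutatorElement_def, hr, zpow_sub_one]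
    rw [← this, _root_.commutator_def]
    exact commutator_mem_commutator (mem_top b) (mem_top a)

end Cyc2

/-- The three shapes of 2-groups of maximal class. -/
def Shape (m : ℕ) (a b : S) : Prop :=
  (b * b = 1 ∧ b * a * b⁻¹ = a⁻¹) ∨
  (b * b = a ^ (2 ^ (m - 1)) ∧ b * a * b⁻¹ = a⁻¹) ∨
  (3 ≤ m ∧ b * b = 1 ∧ b * a * b⁻¹ = a ^ (2 ^ (m - 1) - 1))

theorem Cyc2.cast_pow {m : ℕ} {a : S} : a ^ (2 ^ m) = a ^ ((2 : ℤ) ^ m) := by
  rw [← zpow_natCast, Nat.cast_pow, Nat.cast_ofNat]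

theorem Cyc2.cast_pow_sub {m : ℕ} {a : S} : a ^ (2 ^ m - 1) = a ^ ((2 : ℤ) ^ m - 1) := by
  rw [← zpow_natCast, Nat.cast_sub Nat.one_le_two_pow, Nat.cast_pow, Nat.cast_ofNat, Nat.cast_one]

/-- The four possible actions of `b`, with the adjustments of `b`. -/
theorem Cyc2.normalForm {m : ℕ} {a b : S} (h : Cyc2 m a b) (hm : 2 ≤ m)
    (hna : b * a ≠ a * b) :
    ∃ b' : S, Cyc2 m a b' ∧ (Shape m a b' ∨
      (3 ≤ m ∧ b' * b' = 1 ∧ b' * a * b'⁻¹ = a ^ (1 + 2 ^ (m - 1)))) := by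
  obtain ⟨r, hr⟩ := h.exists_conj
  obtain ⟨s, hs⟩ := h.exists_sq
  have hfix := h.sq_fixed hr hs
  obtain ⟨k, rfl⟩ : ∃ k, m = k + 2 := ⟨m - 2, by omega⟩
  have hk1 : k + 2 - 1 = k + 1 := by omega
  -- `r` is not congruent to one
  have hr1 : ¬ (2 : ℤ) ^ (k + 2) ∣ r - 1 := fun hd => hna (by
    have : a ^ r = a := by
      have := h.zpow_eq.2 (show (2 : ℤ) ^ (k + 2) ∣ r - 1 from hd)
      rwa [zpow_one, eq_comm] at this
    rw [this] at hr
    exact mul_inv_eq_iff_eq_mul.1 hr)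
  have hminus : (2 : ℤ) ^ (k + 2) ∣ r + 1 →
      ∃ b' : S, Cyc2 (k + 2) a b' ∧ (Shape (k + 2) a b' ∨
      (3 ≤ k + 2 ∧ b' * b' = 1 ∧ b' * a * b'⁻¹ = a ^ (1 + 2 ^ (k + 2 - 1)))) := by
    intro hd
    have hinv : b * a * b⁻¹ = a⁻¹ := by
      rw [hr, ← zpow_neg_one, h.zpow_eq]
      exact (dvd_neg.2 hd).trans (dvd_of_eq (by ring))
    have h2 : (2 : ℤ) ^ (k + 2) ∣ 2 * s := by
      exact (dvd_sub (hd.mul_right s) hfix).trans (dvd_of_eq (by ring))
    refine ⟨b, h, Or.inl ?_⟩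
    rcases half_dvd_cases (by omega) ((dvd_two_mul (by omega)).1 h2) with hs0 | hs1
    · exact Or.inl ⟨by rw [hs, h.zpow_eq_one]; exact hs0, hinv⟩
    · refine Or.inr (Or.inl ⟨?_, hinv⟩)
      rw [hs, Cyc2.cast_pow, h.zpow_eq]
      exact dvd_sub_comm.1 hs1
  rcases two_pow_dvd_sq (by omega) (h.conj_sq hr) with hd | hd
  · rcases half_dvd_cases (by omega) hd with h0 | h0
    · exact absurd h0 hr1
    rw [hk1] at h0
    rcases Nat.eq_zero_or_pos k with rfl | hk
    · refine hminus ?_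
      exact (dvd_add h0 (dvd_refl ((2 : ℤ) ^ 2))).trans (dvd_of_eq (by ring))
    -- `r ≡ 1 + 2 ^ (k + 1)`
    obtain ⟨k, rfl⟩ : ∃ l, k = l + 1 := ⟨k - 1, by omega⟩
    have h2k : (2 : ℤ) ^ (k + 3) ∣ 2 ^ (k + 2) * s := by
      exact (dvd_sub hfix (h0.mul_right s)).trans (dvd_of_eq (by ring))
    have hse : (2 : ℤ) ∣ s := by
      rw [pow_succ] at h2k
      exact (mul_dvd_mul_iff_left (by positivity)).1 h2k
    obtain ⟨t, rfl⟩ := hse
    -- solve `i * (r + 1) + 2 t ≡ 0`
    obtain ⟨u, v, huv⟩ := isCoprime_two_pow_odd (k + 2) (2 ^ k)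
    refine ⟨b * a ^ (-(v * t)), h.change _, Or.inr ⟨by omega, ?_, ?_⟩⟩
    · rw [Cyc2.outside_sq hr hs, h.zpow_eq_one]
      have h4 : (2 : ℤ) ^ (k + 3) ∣ 2 * t * (u * 2 ^ (k + 2)) - v * t * (r - 1 - 2 ^ (k + 2)) :=
        dvd_sub ⟨t * u, by ring⟩ (h0.mul_left _)
      exact h4.trans (dvd_of_eq (by linear_combination (2 * t) * huv))
    · rw [Cyc2.change_conj hr, ← zpow_natCast, h.zpow_eq]
      exact (dvd_neg.2 h0).trans (dvd_of_eq (by push_cast; ring))
  · rcases half_dvd_cases (by omega) hd with h0 | h0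
    · exact hminus h0
    rw [hk1] at h0
    rcases Nat.eq_zero_or_pos k with rfl | hk
    · exfalso
      exact hr1 (h0.trans (dvd_of_eq (by ring)))
    obtain ⟨k, rfl⟩ : ∃ l, k = l + 1 := ⟨k - 1, by omega⟩
    have hodd : (2 : ℤ) ^ (k + 3) ∣ 2 * (s * (2 * 2 ^ k - 1)) := by
      exact (dvd_sub hfix (h0.mul_right s)).trans (dvd_of_eq (by ring))
    have hs2 : (2 : ℤ) ^ (k + 2) ∣ s := by
      have h1 := (dvd_two_mul (by omega)).1 hodd
      have hc : IsCoprime ((2 : ℤ) ^ (k + 2)) (2 * 2 ^ k - 1) := by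
        have := isCoprime_two_pow_odd (k + 2) (2 ^ k - 1)
        exact (show (2 : ℤ) * 2 ^ k - 1 = 2 * (2 ^ k - 1) + 1 by ring) ▸ this
      exact hc.dvd_of_dvd_mul_right h1
    have hconj : b * a * b⁻¹ = a ^ (2 ^ (k + 1 + 2 - 1) - 1) := by
      rw [hr, Cyc2.cast_pow_sub, hk1, h.zpow_eq]
      exact (dvd_neg.2 h0).trans (dvd_of_eq (by ring))
    rcases half_dvd_cases (m := k + 3) (by omega) hs2 with hs0 | hs1
    · refine ⟨b, h, Or.inl (Or.inr (Or.inr ⟨by omega, ?_, hconj⟩))⟩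
      rw [hs, h.zpow_eq_one]; exact hs0
    · rw [show k + 3 - 1 = k + 2 from rfl] at hs1
      refine ⟨b * a ^ (1 : ℤ), h.change 1, Or.inl (Or.inr (Or.inr ⟨by omega, ?_, ?_⟩))⟩
      · rw [Cyc2.outside_sq hr hs, h.zpow_eq_one]
        have := dvd_add (dvd_add h0 hs1) (dvd_refl ((2 : ℤ) ^ (k + 3)))
        exact this.trans (dvd_of_eq (by ring))
      · rw [Cyc2.change_conj hr, ← hr, hconj]

variable [Finite S]

theorem card_quotient_zpowers {z : S} (hz : orderOf z = 2) [(zpowers z).Normal] :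
    Nat.card (S ⧸ zpowers z) * 2 = Nat.card S := by
  have := card_eq_card_quotient_mul_card_subgroup (zpowers z)
  rw [Nat.card_zpowers, hz] at this
  exact this.symm

theorem index_commutator_quotient {N : Subgroup S} [N.Normal] (hN : N ≤ commutator S) :
    (commutator (S ⧸ N)).index = (commutator S).index := by
  have : (commutator S).map (QuotientGroup.mk' N) = commutator (S ⧸ N) := by
    rw [_root_.commutator_def, _root_.commutator_def, map_commutator, map_top_of_surjective _ (QuotientGroup.mk'_surjective N)]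
  rw [← this, index_map_eq _ (QuotientGroup.mk'_surjective N) (by rw [QuotientGroup.ker_mk']; exact hN)]

theorem exists_central_involution_le {n : ℕ} (hS : Nat.card S = 2 ^ n) {N : Subgroup S} [N.Normal]
    (hN : N ≠ ⊥) : ∃ z : S, orderOf z = 2 ∧ z ∈ N ∧ z ∈ center S := by
  haveI : Fact (Nat.Prime 2) := ⟨Nat.prime_two⟩
  haveI : Group.IsNilpotent S := (IsPGroup.of_card hS).isNilpotent
  have hne : N ⊓ center S ≠ ⊥ := Cfsg.Agent.Grp.inf_center_ne_bot N hN
  obtain ⟨w, hw⟩ := exists_prime_orderOf_dvd_card' (G := (N ⊓ center S : Subgroup S)) 2 (by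
    obtain ⟨k, hk⟩ := IsPGroup.iff_card.1 ((IsPGroup.of_card hS).to_subgroup (N ⊓ center S))
    rcases Nat.eq_zero_or_pos k with rfl | hk0
    · exact absurd (card_eq_one.1 hk) hne
    · exact hk ▸ dvd_pow_self 2 hk0.ne')
  exact ⟨w, by rw [orderOf_coe, hw], (mem_inf.1 w.2).1, (mem_inf.1 w.2).2⟩

/-- Taussky: if the derived subgroup of a 2-group has index four there is a cyclic subgroup of
index two. -/
theorem exists_orderOf {n : ℕ} (hS : Nat.card S = 2 ^ n) (hi : (commutator S).index = 4) :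
    ∃ a : S, orderOf a = 2 ^ (n - 1) := by
  haveI : Fact (Nat.Prime 2) := ⟨Nat.prime_two⟩
  induction n generalizing S with
  | zero =>
    have := (commutator S).index_dvd_card
    rw [hi, hS] at this
    norm_num at this
  | succ n ih =>
    have hn : 1 ≤ n := by
      have := (commutator S).index_dvd_card
      rw [hi, hS] at this
      by_contra hc
      obtain rfl : n = 0 := by omega
      norm_num at this
    rw [Nat.add_sub_cancel]
    rcases hn.eq_or_lt with rfl | hn2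
    · simpa using exists_prime_orderOf_dvd_card' (G := S) 2 (by rw [hS]; norm_num)
    have hne : commutator S ≠ ⊥ := fun hb => by
      rw [hb, index_bot, hS] at hi
      have : 2 ^ 3 ≤ 2 ^ (n + 1) := Nat.pow_le_pow_right (by norm_num) (by omega)
      omega
    obtain ⟨z, hz, hzD, hzc⟩ := exists_central_involution_le hS hne
    haveI : (zpowers z).Normal := ⟨fun w hw g => by
      rwa [mem_center_iff.1 (zpowers_le.2 hzc hw) g, mul_inv_cancel_right]⟩
    have hQ : Nat.card (S ⧸ zpowers z) = 2 ^ n := by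
      have := card_quotient_zpowers hz
      rw [hS, pow_succ] at this
      omega
    obtain ⟨a', ha'⟩ := ih hQ (by rw [index_commutator_quotient (zpowers_le.2 hzD), hi])
    obtain ⟨a, rfl⟩ := QuotientGroup.mk_surjective a'
    by_cases ha : orderOf a = 2 ^ n
    · exact ⟨a, ha⟩
    rcases (show n = 2 ∨ 3 ≤ n by omega) with rfl | hn3
    · by_contra hno
      push Not at hno
      have hexp : ∀ x : S, x * x = 1 := fun x => by
        have hdvd : orderOf x ∣ 2 ^ 3 := hS ▸ orderOf_dvd_natCard x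
        obtain ⟨j, hj, hjx⟩ := (Nat.dvd_prime_pow Nat.prime_two).1 hdvd
        rw [← pow_two]
        interval_cases j
        · rw [(orderOf_eq_one_iff (x := x)).1 (by simpa using hjx), one_pow]
        · exact (orderOf_dvd_iff_pow_eq_one (x := x) (n := 2)).1 (by rw [hjx]; norm_num)
        · exact absurd hjx (hno x)
        · exfalso
          refine hno (x ^ 2) ?_
          rw [orderOf_pow' x two_ne_zero, hjx]
          norm_num
      refine hne ?_
      rw [eq_bot_iff, _root_.commutator_def, commutator_le]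
      intro x _ y _
      rw [mem_bot, commutatorElement_eq_one_iff_mul_comm]
      have hinv : ∀ u : S, u⁻¹ = u := fun u => inv_eq_of_mul_eq_one_right (hexp u)
      calc x * y = (x * y)⁻¹ := (hinv _).symm
        _ = y * x := by rw [mul_inv_rev, hinv, hinv]
    exfalso
    set π := QuotientGroup.mk' (zpowers z)
    have hπz : π z = 1 := (QuotientGroup.eq_one_iff z).2 (mem_zpowers z)
    set A := (zpowers (π a)).comap π with hA
    have hAi : A.index = 2 := by
      rw [hA, index_comap_of_surjective _ (QuotientGroup.mk'_surjective _)]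
      have := (zpowers (π a)).card_mul_index
      rw [Nat.card_zpowers, show orderOf (π a) = 2 ^ (n - 1) from ha', hQ] at this
      obtain ⟨l, rfl⟩ : ∃ l, n = l + 1 := ⟨n - 1, by omega⟩
      rw [Nat.add_sub_cancel, pow_succ] at this
      exact Nat.eq_of_mul_eq_mul_left (Nat.two_pow_pos l) this
    have hoa : orderOf a = 2 ^ (n - 1) := by
      have h1 : 2 ^ (n - 1) ∣ orderOf a := ha' ▸ orderOf_map_dvd π a
      have h2 : orderOf a ∣ 2 ^ n := by
        refine orderOf_dvd_of_pow_eq_one ?_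
        have h0 : π (a ^ 2 ^ (n - 1)) = 1 := by
          rw [map_pow, ← ha']; exact pow_orderOf_eq_one _
        obtain ⟨j, hj⟩ := mem_zpowers_iff.1 ((QuotientGroup.eq_one_iff _).1 h0)
        rw [show 2 ^ n = 2 ^ (n - 1) * 2 by rw [← pow_succ]; congr 1; omega, pow_mul, ← hj,
          ← zpow_natCast, ← zpow_mul, mul_comm, zpow_mul, zpow_natCast, ← hz, pow_orderOf_eq_one,
          one_zpow]
      obtain ⟨j, hjle, hj⟩ := (Nat.dvd_prime_pow Nat.prime_two).1 h2
      rw [hj] at h1 ha ⊢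
      have := (Nat.pow_dvd_pow_iff_le_right (by norm_num)).1 h1
      have : j ≠ n := fun e => ha (by rw [e])
      congr 1; omega
    have hzc' : ∀ g : S, Commute z g := fun g => (mem_center_iff.1 hzc g).symm
    have hza : z ∉ zpowers a := fun hmem => by
      obtain ⟨j, hj⟩ := mem_zpowers_iff.1 hmem
      have h0 : π a ^ j = 1 := by rw [← map_zpow, hj, hπz]
      rw [← orderOf_dvd_iff_zpow_eq_one, show orderOf (π a) = 2 ^ (n - 1) from ha', ← hoa,
        orderOf_dvd_iff_zpow_eq_one, hj] at h0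
      rw [h0, orderOf_one] at hz
      exact absurd hz (by norm_num)
    have hAmem : ∀ x ∈ A, ∃ i j : ℤ, x = a ^ i * z ^ j := fun x hx => by
      obtain ⟨i, hi'⟩ := mem_zpowers_iff.1 (mem_comap.1 hx)
      rw [← map_zpow] at hi'
      obtain ⟨j, hj⟩ := mem_zpowers_iff.1 (QuotientGroup.eq.1 hi')
      exact ⟨i, j, by rw [hj, mul_inv_cancel_left]⟩
    obtain ⟨b, hb⟩ : ∃ b, b ∉ A := by
      by_contra hh
      push Not at hh
      rw [(eq_top_iff' A).2 hh, index_top] at hAi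
      exact absurd hAi (by norm_num)
    haveI hAn : A.Normal := normal_of_index_eq_two hAi
    have haA : a ∈ A := mem_comap.2 (mem_zpowers _)
    set c := b * a * b⁻¹ * a⁻¹ with hc
    have hcA : c ∈ A := mul_mem (hAn.conj_mem a haA b) (inv_mem haA)
    have hAcomm : ∀ x ∈ A, ∀ y ∈ A, Commute x y := fun x hx y hy => by
      obtain ⟨i, j, rfl⟩ := hAmem x hx
      obtain ⟨k, l, rfl⟩ := hAmem y hy
      exact (((Commute.refl a).zpow_zpow i k).mul_right ((hzc' (a ^ i)).symm.zpow_right l)).mul_left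
        (((hzc' _).zpow_left j).mul_right ((hzc' _).zpow_left j))
    have hphi : ∀ i j : ℤ, b * (a ^ i * z ^ j) * b⁻¹ = c ^ i * (a ^ i * z ^ j) := fun i j => by
      have hca : Commute c a := hAcomm c hcA a haA
      calc b * (a ^ i * z ^ j) * b⁻¹ = (b * a ^ i * b⁻¹) * (b * z ^ j * b⁻¹) := by group
        _ = (c * a) ^ i * z ^ j := by
            rw [← conj_zpow, ((hzc' b).zpow_left j).symm.eq, mul_inv_cancel_right, hc,
              inv_mul_cancel_right]
        _ = c ^ i * (a ^ i * z ^ j) := by rw [hca.mul_zpow, mul_assoc]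
    obtain ⟨k, l, hkl⟩ := hAmem c hcA
    have hcov : ∀ g : S, g ∈ A ∨ b⁻¹ * g ∈ A := fun g => by
      by_cases hg : g ∈ A
      · exact Or.inl hg
      · exact Or.inr (by rw [mul_mem_iff_of_index_two hAi, inv_mem_iff]; exact iff_of_false hb hg)
    haveI hN : (zpowers c).Normal := ⟨fun x hx g => by
      obtain ⟨i, rfl⟩ := mem_zpowers_iff.1 hx
      rcases hcov g with hg | hg
      · rw [((hAcomm g hg c hcA).zpow_right i).eq, mul_inv_cancel_right]
        exact zpow_mem_zpowers _ _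
      · have h1 : b * c * b⁻¹ = c ^ (k + 1) := by
          rw [zpow_add_one, hkl, hphi]
          rw [← hkl]
        have h2 : g * c ^ i * g⁻¹ = b * ((b⁻¹ * g) * c ^ i * (b⁻¹ * g)⁻¹) * b⁻¹ := by group
        rw [h2, ((hAcomm _ hg c hcA).zpow_right i).eq, mul_inv_cancel_right, ← conj_zpow, h1,
          ← zpow_mul]
        exact zpow_mem_zpowers _ _⟩
    set ρ := QuotientGroup.mk' (zpowers c)
    have hρb : ∀ x ∈ A, Commute (ρ b) (ρ x) := fun x hx => by
      obtain ⟨i, j, rfl⟩ := hAmem x hx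
      have h1 : ρ (b * (a ^ i * z ^ j) * b⁻¹) = ρ (a ^ i * z ^ j) := by
        rw [hphi, map_mul, map_zpow, show ρ c = 1 from (QuotientGroup.eq_one_iff c).2 (mem_zpowers c),
          one_zpow, one_mul]
      rw [map_mul, map_mul, map_inv, mul_inv_eq_iff_eq_mul] at h1
      exact h1
    have hle : commutator S ≤ zpowers c := by
      rw [_root_.commutator_def, commutator_le]
      intro x _ y _
      rw [← QuotientGroup.eq_one_iff]
      show ρ ⁅x, y⁆ = 1
      rw [map_commutatorElement, commutatorElement_eq_one_iff_mul_comm]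
      have key : ∀ x : S, ∀ w ∈ A, Commute (ρ x) (ρ w) ∧ Commute (ρ x) (ρ b) := fun x w hw => by
        rcases hcov x with hx | hx
        · exact ⟨(hAcomm x hx w hw).map ρ, (hρb x hx).symm⟩
        · have hxe : ρ x = ρ b * ρ (b⁻¹ * x) := by rw [← map_mul, mul_inv_cancel_left]
          rw [hxe]
          exact ⟨(hρb w hw).mul_left ((hAcomm _ hx w hw).map ρ),
            (Commute.refl _).mul_left (hρb _ hx).symm⟩
      rcases hcov y with hy | hy
      · exact (key x y hy).1.eq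
      · have hye : ρ y = ρ b * ρ (b⁻¹ * y) := by rw [← map_mul, mul_inv_cancel_left]
        rw [hye]
        exact ((key x _ hy).2.mul_right (key x _ hy).1).eq
    have hcD : 2 ^ (n - 1) ≤ Nat.card (commutator S) := by
      have := (commutator S).card_mul_index
      rw [hi, hS, show n + 1 = (n - 1) + 2 by omega, pow_add] at this
      omega
    have hc2 : orderOf c ∣ 2 ^ (n - 1) := by
      refine orderOf_dvd_of_pow_eq_one ?_
      have h2 : (2 : ℕ) ∣ 2 ^ (n - 1) := dvd_pow_self 2 (by omega)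
      rw [hkl, ((hzc' (a ^ k)).symm.zpow_right l).mul_pow, ← zpow_natCast, ← zpow_mul, mul_comm k,
        zpow_mul, zpow_natCast, ← hoa, pow_orderOf_eq_one, one_zpow, one_mul, hoa, ← zpow_natCast,
        ← zpow_mul, ← orderOf_dvd_iff_zpow_eq_one, hz]
      exact Dvd.dvd.mul_left (Int.natCast_dvd_natCast.2 h2) l
    have heq : commutator S = zpowers c := eq_of_le_of_card_ge hle (by
      rw [Nat.card_zpowers]; exact (Nat.le_of_dvd (by positivity) hc2).trans hcD)
    have hoc : orderOf c = 2 ^ (n - 1) := by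
      refine Nat.dvd_antisymm hc2 ?_
      rw [← Nat.card_zpowers, ← heq]
      have := (commutator S).card_mul_index
      rw [hi, hS, show n + 1 = (n - 1) + 2 by omega, pow_add] at this
      exact dvd_of_eq (by omega)
    obtain ⟨j, hj⟩ := mem_powers_iff_mem_zpowers.2 (heq ▸ hzD)
    have hj : c ^ j = z := hj
    have hjev : 2 ∣ j := by
      have h1 : c ^ (j * 2) = 1 := by rw [pow_mul, hj, ← hz, pow_orderOf_eq_one]
      have h2 := orderOf_dvd_of_pow_eq_one h1
      rw [hoc] at h2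
      have h3 : 2 ^ 2 ∣ j * 2 := (pow_dvd_pow 2 (by omega : 2 ≤ n - 1)).trans h2
      omega
    obtain ⟨j', rfl⟩ := hjev
    refine hza ?_
    rw [← hj, hkl, ((hzc' (a ^ k)).symm.zpow_right l).mul_pow, pow_mul (z ^ l), ← zpow_natCast (z ^ l),
      ← zpow_mul, mul_comm l, zpow_mul, zpow_natCast, show z ^ 2 = 1 by rw [← hz, pow_orderOf_eq_one],
      one_zpow, one_pow, mul_one]
    exact pow_mem (zpow_mem (mem_zpowers a) k) _

/-- Classification of the 2-groups with derived subgroup of index four. -/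
theorem exists_shape {n : ℕ} (hn : 3 ≤ n) (hS : Nat.card S = 2 ^ n)
    (hi : (commutator S).index = 4) :
    ∃ a b : S, Cyc2 (n - 1) a b ∧ Shape (n - 1) a b := by
  obtain ⟨a, ha⟩ := exists_orderOf hS hi
  obtain ⟨m, rfl⟩ : ∃ m, n = m + 1 := ⟨n - 1, by omega⟩
  rw [Nat.add_sub_cancel] at ha ⊢
  obtain ⟨b, hb⟩ : ∃ b, b ∉ zpowers a := by
    by_contra hh
    push Not at hh
    have : Nat.card S ≤ 2 ^ m := by
      rw [← ha, ← Nat.card_zpowers, (eq_top_iff' _).2 hh, card_top]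
    rw [hS, pow_succ] at this
    have := Nat.two_pow_pos m
    omega
  have h : Cyc2 m a b := ⟨ha, hS, hb⟩
  have hna : b * a ≠ a * b := fun he => by
    have hr : b * a * b⁻¹ = a ^ (1 : ℤ) := by rw [he, mul_inv_cancel_right, zpow_one]
    rw [h.commutator_eq hr] at hi
    simp only [sub_self, zpow_zero, zpowers_one_eq_bot, index_bot] at hi
    rw [hS] at hi
    have : 2 ^ 3 ≤ 2 ^ (m + 1) := Nat.pow_le_pow_right (by norm_num) hn
    omega
  obtain ⟨b', h', hsh | ⟨hm, hb2, hr⟩⟩ := h.normalForm (by omega) hna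
  · exact ⟨a, b', h', hsh⟩
  · exfalso
    have hr' : b' * a * b'⁻¹ = a ^ ((1 : ℤ) + 2 ^ (m - 1)) := by
      rw [hr, ← zpow_natCast]; push_cast; rfl
    rw [h'.commutator_eq hr'] at hi
    have hcard := (zpowers (a ^ ((1 : ℤ) + 2 ^ (m - 1) - 1))).card_mul_index
    rw [hi, hS, Nat.card_zpowers] at hcard
    have hle : orderOf (a ^ ((1 : ℤ) + 2 ^ (m - 1) - 1)) ≤ 2 := by
      refine Nat.le_of_dvd two_pos (orderOf_dvd_of_pow_eq_one ?_)
      rw [← zpow_natCast, ← zpow_mul, h'.zpow_eq_one]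
      refine dvd_of_eq ?_
      obtain ⟨l, rfl⟩ : ∃ l, m = l + 1 := ⟨m - 1, by omega⟩
      push_cast [Nat.add_sub_cancel]; ring
    have : 2 ^ 4 ≤ 2 ^ (m + 1) := Nat.pow_le_pow_right (by norm_num) (by omega)
    omega

end Cfsg.Agent.MaxClass
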