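import Mathlib
import Cfsg.Prelude.Def_CaseTheorems
import Cfsg.Agent.Lib.Recog.MaxClass

/-!
# 2-groups of maximal class: centre, derived subgroup, class, isomorphism types
-/

set_option autoImplicit false
set_option linter.style.haveILetI false
set_option linter.unusedSectionVars false

namespace Cfsg.Agent.MaxClass

open Subgroup
open scoped commutatorElement

universe u

variable {S : Type u} [Group S]

section

variable {m : ℕ} {a b : S}

theorem Shape.exists_conj (hm : 2 ≤ m) (hs : Shape m a b) :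
    ∃ r j : ℤ, b * a * b⁻¹ = a ^ r ∧ r - 1 = 2 * (2 * j + 1) ∧ (2 : ℤ) ^ (m - 1) ∣ r + 1 := by
  rcases hs with ⟨-, hc⟩ | ⟨-, hc⟩ | ⟨hm3, -, hc⟩
  · exact ⟨-1, -1, by rw [hc, zpow_neg_one], by ring, ⟨0, by ring⟩⟩
  · exact ⟨-1, -1, by rw [hc, zpow_neg_one], by ring, ⟨0, by ring⟩⟩
  · obtain ⟨k, rfl⟩ : ∃ k, m = k + 3 := ⟨m - 3, by omega⟩
    refine ⟨2 ^ (k + 2) - 1, 2 ^ k - 1, ?_, by ring, ⟨1, ?_⟩⟩
    · rw [hc, show k + 3 - 1 = k + 2 from rfl, Cyc2.cast_pow_sub]
    · rw [show k + 3 - 1 = k + 2 from rfl]; ring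

theorem Shape.sq_mem (hs : Shape m a b) :
    ∃ s : ℤ, b * b = a ^ s ∧ (2 : ℤ) ^ (m - 1) ∣ s := by
  rcases hs with ⟨hb, -⟩ | ⟨hb, -⟩ | ⟨-, hb, -⟩
  · exact ⟨0, by rw [hb, zpow_zero], dvd_zero _⟩
  · exact ⟨2 ^ (m - 1), by rw [hb, Cyc2.cast_pow], dvd_refl _⟩
  · exact ⟨0, by rw [hb, zpow_zero], dvd_zero _⟩

theorem Cyc2.shape_comm (h : Cyc2 m a b) (hm : 2 ≤ m) (hs : Shape m a b) (i : ℤ) :
    Commute b (a ^ i) ↔ (2 : ℤ) ^ (m - 1) ∣ i := by
  obtain ⟨r, j, hr, hrj, -⟩ := hs.exists_conj hm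
  rw [← dvd_two_mul (show 1 ≤ m by omega), commute_iff_eq, ← mul_inv_eq_iff_eq_mul,
    Cyc2.conj_zpow' hr, h.zpow_eq]
  constructor
  · intro hd
    have h1 : (2 : ℤ) ^ m ∣ (2 * i) * (2 * j + 1) :=
      (dvd_neg.2 hd).trans (dvd_of_eq (by linear_combination i * hrj))
    exact (isCoprime_two_pow_odd m j).dvd_of_dvd_mul_right h1
  · intro hd
    exact (dvd_neg.2 (hd.mul_right (2 * j + 1))).trans (dvd_of_eq (by linear_combination i * hrj))

theorem Cyc2.shape_noncomm (h : Cyc2 m a b) (hm : 2 ≤ m) (hs : Shape m a b) : ¬ Commute b a := by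
  intro hc
  have h1 := (h.shape_comm hm hs 1).1 (by rwa [zpow_one])
  have h2 : (2 : ℤ) ∣ 1 := (dvd_pow_self (2 : ℤ) (by omega : m - 1 ≠ 0)).trans h1
  norm_num at h2

theorem Cyc2.center_eq (h : Cyc2 m a b) (hm : 2 ≤ m) (hs : Shape m a b) :
    center S = zpowers (a ^ ((2 : ℤ) ^ (m - 1))) := by
  refine le_antisymm (fun g hg => ?_) (zpowers_le.2 ?_)
  · rcases h.cases g with ⟨i, rfl⟩ | ⟨i, rfl⟩
    · obtain ⟨c, hc⟩ := (h.shape_comm hm hs i).1 (mem_center_iff.1 hg b)
      exact mem_zpowers_iff.2 ⟨c, by rw [← zpow_mul, hc]⟩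
    · refine absurd ?_ (h.shape_noncomm hm hs)
      have h1 : Commute (b * a ^ i) a := (mem_center_iff.1 hg a).symm
      have h2 := h1.mul_left ((Commute.refl a).zpow_left (-i))
      rwa [mul_assoc, ← zpow_add, add_neg_cancel, zpow_zero, mul_one] at h2
  · have hb : Commute b (a ^ ((2 : ℤ) ^ (m - 1))) := (h.shape_comm hm hs _).2 (dvd_refl _)
    refine mem_center_iff.2 fun g => ?_
    rcases h.cases g with ⟨i, rfl⟩ | ⟨i, rfl⟩
    · exact ((Commute.refl a).zpow_zpow i _).eq
    · exact (hb.mul_left ((Commute.refl a).zpow_zpow i _)).eq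

theorem Cyc2.mem_center (h : Cyc2 m a b) (hm : 2 ≤ m) (hs : Shape m a b) {i : ℤ} :
    a ^ i ∈ center S ↔ (2 : ℤ) ^ (m - 1) ∣ i := by
  constructor
  · intro hi
    exact (h.shape_comm hm hs i).1 (mem_center_iff.1 hi b)
  · rintro ⟨c, rfl⟩
    rw [h.center_eq hm hs, zpow_mul]
    exact zpow_mem_zpowers _ _

theorem Cyc2.card_center (h : Cyc2 m a b) (hm : 2 ≤ m) (hs : Shape m a b) :
    Nat.card (center S) = 2 := by
  rw [h.center_eq hm hs, Nat.card_zpowers]
  refine orderOf_eq_prime ?_ ?_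
  · rw [← zpow_natCast, ← zpow_mul, h.zpow_eq_one]
    refine dvd_of_eq ?_
    rw [show m = (m - 1) + 1 by omega, pow_succ]
    simp
  · rw [Ne, h.zpow_eq_one]
    intro hd
    have := Int.le_of_dvd (by positivity) hd
    have : (2 : ℤ) ^ (m - 1) < 2 ^ m := pow_lt_pow_right₀ (by norm_num) (by omega)
    omega

theorem Cyc2.shape_commutator (h : Cyc2 m a b) (hm : 2 ≤ m) (hs : Shape m a b) :
    commutator S = zpowers (a ^ (2 : ℤ)) := by
  obtain ⟨r, j, hr, hrj, -⟩ := hs.exists_conj hm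
  rw [h.commutator_eq hr, hrj]
  refine le_antisymm (zpowers_le.2 ?_) (zpowers_le.2 ?_)
  · rw [zpow_mul]; exact zpow_mem_zpowers _ _
  · obtain ⟨u, v, huv⟩ := isCoprime_two_pow_odd m j
    refine mem_zpowers_iff.2 ⟨v, ?_⟩
    rw [← zpow_mul, h.zpow_eq]
    exact ⟨2 * u, by linear_combination -2 * huv⟩

theorem Cyc2.index_commutator (h : Cyc2 m a b) (hm : 2 ≤ m) (hs : Shape m a b) :
    (commutator S).index = 4 := by
  rw [h.shape_commutator hm hs]
  have ho : orderOf (a ^ (2 : ℤ)) = 2 ^ (m - 1) := by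
    rw [show (2 : ℤ) = ((2 : ℕ) : ℤ) from rfl, zpow_natCast, orderOf_pow' a two_ne_zero, h.ord,
      Nat.gcd_eq_right (dvd_pow_self 2 (by omega))]
    conv_lhs => rw [show m = (m - 1) + 1 by omega, pow_succ]
    simp
  have := (zpowers (a ^ (2 : ℤ))).card_mul_index
  rw [Nat.card_zpowers, ho, h.card, show m + 1 = (m - 1) + 2 by omega, pow_add] at this
  exact Nat.eq_of_mul_eq_mul_left (Nat.two_pow_pos _) this

theorem Cyc2.outside_sq_mem (h : Cyc2 m a b) (hm : 2 ≤ m) (hs : Shape m a b) (i : ℤ) :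
    (b * a ^ i) * (b * a ^ i) ∈ center S := by
  obtain ⟨r, -, hr, -, hr1⟩ := hs.exists_conj hm
  obtain ⟨s, hb, hs'⟩ := hs.sq_mem
  rw [Cyc2.outside_sq hr hb, h.mem_center hm hs]
  exact (dvd_add (hr1.mul_right i) hs').trans (dvd_of_eq (by ring))

theorem Cyc2.outside_pow_four (h : Cyc2 m a b) (hm : 2 ≤ m) (hs : Shape m a b) {g : S}
    (hg : g ∉ zpowers a) : g ^ 4 = 1 := by
  haveI := h.finite
  rcases h.cases g with ⟨i, rfl⟩ | ⟨i, rfl⟩
  · exact absurd (zpow_mem_zpowers a i) hg
  have hc := h.outside_sq_mem hm hs i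
  rw [show 4 = 2 * 2 from rfl, pow_mul, pow_two (b * a ^ i)]
  have h1 := orderOf_dvd_natCard (⟨_, hc⟩ : center S)
  rw [h.card_center hm hs, orderOf_dvd_iff_pow_eq_one] at h1
  simpa using congrArg Subtype.val h1

/-- `S` modulo its centre is dihedral. -/
theorem Cyc2.quotient_center_dihedral (h : Cyc2 m a b) (hm : 2 ≤ m) (hs : Shape m a b) :
    Nonempty (S ⧸ center S ≃* DihedralGroup (2 ^ (m - 1))) := by
  haveI := h.finite
  set π := QuotientGroup.mk' (center S)
  obtain ⟨r, -, hr, -, hr1⟩ := hs.exists_conj hm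
  have hx : π a ^ (2 ^ (m - 1)) = 1 := by
    rw [← map_pow, QuotientGroup.mk'_apply, QuotientGroup.eq_one_iff, Cyc2.cast_pow, h.mem_center hm hs]
  have hy : π b * π b = 1 := by
    rw [← map_mul, QuotientGroup.mk'_apply, QuotientGroup.eq_one_iff]
    simpa using h.outside_sq_mem hm hs 0
  have hxy : π b * π a * (π b)⁻¹ = (π a)⁻¹ := by
    refine eq_inv_of_mul_eq_one_left ?_
    rw [← map_inv, ← map_mul, ← map_mul, ← map_mul, hr, QuotientGroup.mk'_apply,
      QuotientGroup.eq_one_iff, ← zpow_add_one, h.mem_center hm hs]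
    exact hr1
  let f := Recog.dihedralHom (π a) (π b) hx hy hxy
  have hsurj : Function.Surjective f := by
    rw [← MonoidHom.range_eq_top, eq_top_iff]
    rintro x -
    obtain ⟨g, rfl⟩ := QuotientGroup.mk'_surjective (center S) x
    have ha : π a ∈ f.range := ⟨.r 1, Recog.dihedralHom_r _ _ hx hy hxy⟩
    have hb : π b ∈ f.range := ⟨.sr 0, Recog.dihedralHom_sr _ _ hx hy hxy⟩
    rcases h.cases g with ⟨i, rfl⟩ | ⟨i, rfl⟩
    · rw [map_zpow]; exact zpow_mem ha i
    · rw [map_mul, map_zpow]; exact mul_mem hb (zpow_mem ha i)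
  have hcard : Nat.card (DihedralGroup (2 ^ (m - 1))) = Nat.card (S ⧸ center S) := by
    have h1 := card_eq_card_quotient_mul_card_subgroup (center S)
    rw [h.card_center hm hs, h.card, pow_succ] at h1
    rw [DihedralGroup.nat_card, ← pow_succ', show m - 1 + 1 = m by omega]
    omega
  exact ⟨(MulEquiv.ofBijective f ⟨(Nat.bijective_iff_surjective_and_card f).2 ⟨hsurj, hcard⟩ |>.1,
    hsurj⟩).symm⟩

theorem Cyc2.dihedral (h : Cyc2 m a b) (hb : b * b = 1) (hc : b * a * b⁻¹ = a⁻¹) :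
    Nonempty (S ≃* DihedralGroup (2 ^ m)) := by
  haveI := h.finite
  have hx : a ^ (2 ^ m) = 1 := by rw [← h.ord, pow_orderOf_eq_one]
  let f := Recog.dihedralHom a b hx hb hc
  have hsurj : Function.Surjective f := by
    rw [← MonoidHom.range_eq_top, eq_top_iff, ← h.closure_eq_top, closure_le]
    rintro x (rfl | rfl)
    · exact ⟨.r 1, Recog.dihedralHom_r _ _ hx hb hc⟩
    · exact ⟨.sr 0, Recog.dihedralHom_sr _ _ hx hb hc⟩
  have hcard : Nat.card (DihedralGroup (2 ^ m)) = Nat.card S := by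
    rw [DihedralGroup.nat_card, h.card, pow_succ']
  exact ⟨(MulEquiv.ofBijective f ⟨(Nat.bijective_iff_surjective_and_card f).2 ⟨hsurj, hcard⟩ |>.1,
    hsurj⟩).symm⟩

end

/-- The homomorphism out of a quaternion group given by two elements satisfying its relations. -/
def quaternionHom {G : Type*} [Group G] {k : ℕ} (x y : G) (hx : x ^ (2 * k) = 1)
    (hy : y * y = x ^ k) (h : y * x * y⁻¹ = x⁻¹) : QuaternionGroup k →* G :=
  let f : ZMod (2 * k) →+ Additive G := ZMod.lift (2 * k)
    ⟨(zmultiplesHom (Additive G)) (Additive.ofMul x), by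
      simp only [zmultiplesHom_apply, natCast_zsmul]
      rw [← ofMul_pow, hx, ofMul_one]⟩
  { toFun := fun d => match d with
      | .a i => (f i).toMul
      | .xa i => y * (f i).toMul
    map_one' := by
      rw [QuaternionGroup.one_def]
      simp
    map_mul' := by
      have hf : ∀ i : ℤ, (f (i : ZMod (2 * k))).toMul = x ^ i := fun i => by
        simp [f, ZMod.lift_coe]
      have hmv : ∀ i : ZMod (2 * k), (f i).toMul * y = y * (f (-i)).toMul := fun i => by
        obtain ⟨l, rfl⟩ := ZMod.intCast_surjective i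
        rw [← Int.cast_neg, hf, hf, eq_comm, ← mul_inv_eq_iff_eq_mul, ← conj_zpow, h, inv_zpow,
          zpow_neg, inv_inv]
      rintro (i | i) (j | j)
      · rw [QuaternionGroup.a_mul_a]; simp only [map_add, toMul_add]
      · rw [QuaternionGroup.a_mul_xa]
        show y * (f (j - i)).toMul = (f i).toMul * (y * (f j).toMul)
        rw [← mul_assoc, hmv, mul_assoc, ← toMul_add, ← map_add, neg_add_eq_sub]
      · rw [QuaternionGroup.xa_mul_a]
        show y * (f (i + j)).toMul = y * (f i).toMul * (f j).toMul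
        rw [map_add, toMul_add, mul_assoc]
      · rw [QuaternionGroup.xa_mul_xa]
        show (f ((k : ZMod (2 * k)) + j - i)).toMul = y * (f i).toMul * (y * (f j).toMul)
        rw [mul_assoc y, ← mul_assoc (f i).toMul, hmv, ← mul_assoc y, ← mul_assoc y, hy,
          ← zpow_natCast, ← hf, Int.cast_natCast, mul_assoc, ← toMul_add, ← toMul_add, ← map_add, ← map_add]
        congr 2
        abel }

theorem quaternionHom_a {G : Type*} [Group G] {k : ℕ} (x y : G) (hx : x ^ (2 * k) = 1)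
    (hy : y * y = x ^ k) (h : y * x * y⁻¹ = x⁻¹) : quaternionHom x y hx hy h (.a 1) = x := by
  simp only [quaternionHom, MonoidHom.coe_mk, OneHom.coe_mk]
  rw [← Int.cast_one, ZMod.lift_coe]
  simp

theorem quaternionHom_xa {G : Type*} [Group G] {k : ℕ} (x y : G) (hx : x ^ (2 * k) = 1)
    (hy : y * y = x ^ k) (h : y * x * y⁻¹ = x⁻¹) : quaternionHom x y hx hy h (.xa 0) = y := by
  simp [quaternionHom]

theorem Cyc2.quaternion {m : ℕ} {a b : S} (h : Cyc2 m a b) (hm : 1 ≤ m)
    (hb : b * b = a ^ (2 ^ (m - 1))) (hc : b * a * b⁻¹ = a⁻¹) :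
    Nonempty (S ≃* QuaternionGroup (2 ^ (m - 1))) := by
  haveI := h.finite
  have hx : a ^ (2 * 2 ^ (m - 1)) = 1 := by
    rw [← pow_succ', show m - 1 + 1 = m by omega, ← h.ord, pow_orderOf_eq_one]
  let f := quaternionHom a b hx hb hc
  have hsurj : Function.Surjective f := by
    rw [← MonoidHom.range_eq_top, eq_top_iff, ← h.closure_eq_top, closure_le]
    rintro x (rfl | rfl)
    · exact ⟨.a 1, quaternionHom_a _ _ hx hb hc⟩
    · exact ⟨.xa 0, quaternionHom_xa _ _ hx hb hc⟩
  have hcard : Nat.card (QuaternionGroup (2 ^ (m - 1))) = Nat.card S := by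
    rw [Nat.card_eq_fintype_card, QuaternionGroup.card, h.card,
      show 4 * 2 ^ (m - 1) = 2 * (2 * 2 ^ (m - 1)) by ring, ← pow_succ', ← pow_succ',
      show m - 1 + 1 + 1 = m + 1 by omega]
  exact ⟨(MulEquiv.ofBijective f ⟨(Nat.bijective_iff_surjective_and_card f).2 ⟨hsurj, hcard⟩ |>.1,
    hsurj⟩).symm⟩

theorem Cyc2.isQuasiDihedral {m : ℕ} {a b : S} (h : Cyc2 m a b) (hm : 3 ≤ m) (hb : b * b = 1)
    (hc : b * a * b⁻¹ = a ^ (2 ^ (m - 1) - 1)) : Cfsg.IsQuasiDihedral S := by
  haveI : Fact (Nat.Prime 2) := ⟨Nat.prime_two⟩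
  refine ⟨m, hm, h.card, a, b, h.ord, orderOf_eq_prime (by rw [pow_two, hb]) ?_, hc⟩
  exact fun h1 => h.nmem (h1 ▸ one_mem _)

/-- A quasi-dihedral group has the semidihedral shape. -/
theorem exists_shape_of_isQuasiDihedral (hS : Cfsg.IsQuasiDihedral S) {n : ℕ}
    (hn : Nat.card S = 2 ^ (n + 1)) :
    3 ≤ n ∧ ∃ a b : S, Cyc2 n a b ∧ b * b = 1 ∧ b * a * b⁻¹ = a ^ (2 ^ (n - 1) - 1) := by
  obtain ⟨k, hk, hcard, x, y, hx, hy, hxy⟩ := hS
  obtain rfl : k = n := by
    have := Nat.pow_right_injective le_rfl (hcard.symm.trans hn)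
    omega
  refine ⟨hk, x, y, ⟨hx, hn, fun hmem => ?_⟩, by rw [← pow_two, ← hy, pow_orderOf_eq_one], hxy⟩
  obtain ⟨l, rfl⟩ := mem_zpowers_iff.1 hmem
  obtain ⟨k, rfl⟩ : ∃ j, k = j + 3 := ⟨k - 3, by omega⟩
  rw [((Commute.refl x).zpow_left l).eq, mul_inv_cancel_right, show k + 3 - 1 = k + 2 from rfl] at hxy
  have hle : 4 ≤ 2 ^ (k + 2) := Nat.pow_le_pow_right two_pos (by omega : 2 ≤ k + 2)
  have h1 : x ^ 1 = x ^ (2 ^ (k + 2) - 1) := by rw [pow_one]; exact hxy
  rw [pow_eq_pow_iff_modEq, hx, Nat.modEq_iff_dvd' (by omega)] at h1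
  have h2 := Nat.le_of_dvd (by omega) h1
  rw [show k + 3 = (k + 2) + 1 from rfl, pow_succ] at h2
  omega

variable [Finite S]

/-- A 2-group with derived subgroup of index four has maximal class. -/
theorem class_eq {n : ℕ} (hn : 2 ≤ n) (hS : Nat.card S = 2 ^ n) (hi : (commutator S).index = 4) :
    Group.nilpotencyClass S = n - 1 := by
  haveI : Fact (Nat.Prime 2) := ⟨Nat.prime_two⟩
  induction n generalizing S with
  | zero => omega
  | succ n ih =>
    haveI : Group.IsNilpotent S := (IsPGroup.of_card hS).isNilpotent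
    haveI : Nontrivial S := by
      rw [← Finite.one_lt_card_iff_nontrivial, hS]
      exact Nat.one_lt_pow (by omega) (by norm_num)
    rcases (show n = 1 ∨ 2 ≤ n by omega) with rfl | hn2
    · have hb : commutator S = ⊥ := by
        have := (commutator S).card_mul_index
        rw [hi, hS] at this
        exact card_eq_one.1 (by omega)
      have h1 : Group.nilpotencyClass S ≤ 1 := by
        rw [← Subgroup.lowerCentralSeries_eq_bot_iff_nilpotencyClass_le, top_lowerCentralSeries_one, hb]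
      have h0 : Group.nilpotencyClass S ≠ 0 := fun h0 => by
        haveI := Group.nilpotencyClass_zero_iff_subsingleton.1 h0
        exact not_nontrivial S ‹_›
      omega
    obtain ⟨a, b, h, hs⟩ := exists_shape (by omega) hS hi
    rw [Nat.add_sub_cancel] at h hs
    have hc2 := h.card_center hn2 hs
    have hle : center S ≤ commutator S := by
      rw [h.center_eq hn2 hs, h.shape_commutator hn2 hs, zpowers_le]
      refine mem_zpowers_iff.2 ⟨2 ^ (n - 2), ?_⟩
      rw [← zpow_mul, ← pow_succ', show n - 2 + 1 = n - 1 by omega]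
    have hQ : Nat.card (S ⧸ center S) = 2 ^ n := by
      have h1 := card_eq_card_quotient_mul_card_subgroup (center S)
      rw [hc2, hS, pow_succ] at h1
      omega
    have := ih hn2 hQ (by rw [index_commutator_quotient hle, hi])
    rw [Group.nilpotencyClass_eq_quotient_center_plus_one, this]
    omega

/-- A 2-group of maximal class has derived subgroup of index four. -/
theorem index_of_class {n : ℕ} (hn : 3 ≤ n) (hS : Nat.card S = 2 ^ n)
    (hc : n - 1 ≤ Group.nilpotencyClass S) : (commutator S).index = 4 := by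
  haveI : Fact (Nat.Prime 2) := ⟨Nat.prime_two⟩
  have hP : IsPGroup 2 S := IsPGroup.of_card hS
  haveI : Group.IsNilpotent S := hP.isNilpotent
  let L : ℕ → Subgroup S := Subgroup.lowerCentralSeries (⊤ : Subgroup S)
  have hne : ∀ k, k < n - 1 → L k ≠ ⊥ := fun k hk hb => by
    have := Subgroup.lowerCentralSeries_eq_bot_iff_nilpotencyClass_le.1 hb
    omega
  have hstep : ∀ k, k < n - 1 → 2 * Nat.card (L (k + 1)) ≤ Nat.card (L k) := fun k hk => by
    have hle : L (k + 1) ≤ L k := Subgroup.lowerCentralSeries_antitone (⊤ : Subgroup S) (Nat.le_succ k)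
    have hlt : L (k + 1) < L k := lt_of_le_of_ne hle fun he => by
      have hsucc : ∀ i, L (i + 1) = ⁅L i, (⊤ : Subgroup S)⁆ := fun i =>
        Subgroup.lowerCentralSeries_succ (⊤ : Subgroup S) i
      have hconst : ∀ j, L (k + j) = L k := fun j => by
        induction j with
        | zero => rfl
        | succ j ihj => rw [← Nat.add_assoc, hsucc, ihj, ← hsucc, he]
      have hbot : L (Group.nilpotencyClass S) = ⊥ := Subgroup.lowerCentralSeries_nilpotencyClass
      exact hne k hk (by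
        rw [← hconst (Group.nilpotencyClass S)]
        exact le_bot_iff.1 (le_trans
          (Subgroup.lowerCentralSeries_antitone (⊤ : Subgroup S) (Nat.le_add_left _ k)) hbot.le))
    obtain ⟨c, hc'⟩ := card_dvd_of_le hle
    rcases Nat.lt_or_ge c 2 with hc2 | hc2
    · exfalso
      have hpos : 0 < Nat.card (L k) := Nat.card_pos
      interval_cases c
      · simp at hc'; omega
      · exact hlt.ne (eq_of_le_of_card_ge hle (by rw [hc', mul_one]))
    · rw [hc', Nat.mul_comm]; exact Nat.mul_le_mul_left _ hc2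
  have hlow : ∀ j, j ≤ n - 2 → 2 ^ j * Nat.card (L (n - 1)) ≤ Nat.card (L (n - 1 - j)) := fun j => by
    induction j with
    | zero => simp
    | succ j ihj =>
      intro hj
      refine le_trans ?_ (hstep (n - 1 - (j + 1)) (by omega))
      rw [show n - 1 - (j + 1) + 1 = n - 1 - j by omega, pow_succ', mul_assoc]
      exact Nat.mul_le_mul_left _ (ihj (by omega))
  have hD : 2 ^ (n - 2) ≤ Nat.card (commutator S) := by
    have h1 := hlow (n - 2) le_rfl
    rw [show n - 1 - (n - 2) = 1 by omega] at h1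
    have h2 : 0 < Nat.card (L (n - 1)) := Nat.card_pos
    rw [← top_lowerCentralSeries_one]
    exact (Nat.le_mul_of_pos_right _ h2).trans h1
  have hmul := (commutator S).card_mul_index
  rw [hS, show n = (n - 2) + 2 by omega, pow_add] at hmul
  have hle4 : (commutator S).index ≤ 4 := by
    by_contra hgt
    push Not at hgt
    have h5 := Nat.mul_le_mul hD hgt
    have := Nat.two_pow_pos (n - 2)
    omega
  by_contra hne4
  have h2 : (commutator S).index ∣ 2 := by
    obtain ⟨e, -, he⟩ := (Nat.dvd_prime_pow Nat.prime_two).1 (hS ▸ (commutator S).index_dvd_card)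
    rw [he] at hle4 hne4 ⊢
    have : e ≤ 2 := (Nat.pow_le_pow_iff_right (le_refl 2)).1 (by simpa using hle4)
    interval_cases e
    · norm_num
    · norm_num
    · simp at hne4
  -- a cyclic abelianization forces the group to be abelian
  have hfr : commutator S ≤ frattini S := by
    rw [frattini, Order.radical, le_iInf_iff]
    intro M
    rw [le_iInf_iff]
    intro hM
    haveI := Cfsg.Agent.Grp.coatom_normal_of_nilpotent hM
    haveI : Fact (M.index).Prime := ⟨Cfsg.Agent.Grp.normal_index_prime_of_coatom hM⟩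
    haveI : IsCyclic (S ⧸ M) := isCyclic_of_prime_card (index_eq_card M).symm
    exact Normal.quotient_commutative_iff_commutator_le.1 IsCyclic.isMulCommutative
  obtain ⟨g, hg⟩ : ∃ g : S, commutator S ⊔ zpowers g = ⊤ := by
    rcases (Nat.dvd_prime Nat.prime_two).1 h2 with h1 | h1
    · exact ⟨1, by rw [index_eq_one.1 h1, top_sup_eq]⟩
    · obtain ⟨g, hg⟩ : ∃ g, g ∉ commutator S := by
        by_contra hh
        push Not at hh
        rw [(eq_top_iff' _).2 hh, index_top] at h1
        exact absurd h1 (by norm_num)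
      refine ⟨g, eq_top_iff.2 fun x _ => ?_⟩
      by_cases hx : x ∈ commutator S
      · exact mem_sup_left hx
      · have : g⁻¹ * x ∈ commutator S := by
          rw [mul_mem_iff_of_index_two h1, inv_mem_iff]; exact iff_of_false hg hx
        rw [← mul_inv_cancel_left g x]
        exact mul_mem (mem_sup_right (mem_zpowers g)) (mem_sup_left this)
  have htop : zpowers g = ⊤ := frattini_nongenerating (eq_top_iff.2 (hg.ge.trans
    (sup_le (hfr.trans le_sup_right) le_sup_left)))
  have hbot : commutator S = ⊥ := by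
    rw [_root_.commutator_def, eq_bot_iff, commutator_le]
    intro x _ y _
    rw [mem_bot, commutatorElement_eq_one_iff_mul_comm]
    obtain ⟨i, rfl⟩ := mem_zpowers_iff.1 (htop ▸ mem_top x)
    obtain ⟨j, rfl⟩ := mem_zpowers_iff.1 (htop ▸ mem_top y)
    exact ((Commute.refl g).zpow_zpow i j).eq
  rw [hbot, card_bot] at hD
  have : 2 ^ 1 ≤ 2 ^ (n - 2) := Nat.pow_le_pow_right two_pos (by omega)
  omega

end Cfsg.Agent.MaxClass
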