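import Mathlib
import Cfsg.Prelude.Def_Classical
import Cfsg.Agent.Lib.Classical.UnitCenter
import Cfsg.Agent.S0278

/-!
# Sylow 2-subgroups of `SU(3, 2ⁿ)`

The model `UT F q` consists of pairs `(a, b)` with `b + b^q = a^(q+1)`.
-/

set_option autoImplicit false

open Cfsg Cfsg.Agent.Classical Matrix

namespace Cfsg.Agent.Recog.SU3Two

variable {F : Type*} [Field F] [Fintype F] [CharP F 2] {q : ℕ} [hF : Fact (Fintype.card F = q ^ 2)]

omit [CharP F 2] in
theorem pq_add (x y : F) : (x + y) ^ q = x ^ q + y ^ q := add_pow_q hF.out x y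

omit [CharP F 2] in
theorem pq_pq (x : F) : (x ^ q) ^ q = x := by
  rw [← pow_mul, ← sq, ← hF.out, FiniteField.pow_card]

omit [CharP F 2] in
theorem pq_zero : (0 : F) ^ q = 0 := zero_pow (by have := two_le_q hF.out; omega)

/-- elements fixed by `x ↦ x^q` -/
def Fx (F : Type*) [Field F] [Fintype F] [CharP F 2] (q : ℕ) [Fact (Fintype.card F = q ^ 2)] : AddSubgroup F where
  carrier := {x | x ^ q = x}
  add_mem' {x y} hx hy := by
    show (x + y) ^ q = x + y
    rw [pq_add, show x ^ q = x from hx, show y ^ q = y from hy]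
  zero_mem' := pq_zero
  neg_mem' {x} hx := by
    show (-x) ^ q = -x
    rw [CharTwo.neg_eq]; exact hx

theorem mem_Fx {x : F} : x ∈ Fx F q ↔ x ^ q = x := Iff.rfl

/-- `x ↦ x + x^q` -/
def trq : F →+ F where
  toFun x := x + x ^ q
  map_zero' := by rw [pq_zero, add_zero]
  map_add' x y := by rw [pq_add]; ring

theorem trq_apply (x : F) : trq (q := q) x = x + x ^ q := rfl

theorem trq_mem (x : F) : x + x ^ q ∈ Fx F q := by
  rw [mem_Fx, pq_add, pq_pq, add_comm]

theorem trq_ker : (trq (F := F) (q := q)).ker = Fx F q := by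
  ext x
  rw [AddMonoidHom.mem_ker, trq_apply, mem_Fx, CharTwo.add_eq_zero]
  exact eq_comm

theorem card_Fx : Nat.card (Fx F q) = q := by
  classical
  have h2 := two_le_q hF.out
  refine le_antisymm ?_ ?_
  · have hsub : ∀ x : Fx F q, x.1 ∈ (Polynomial.X ^ q - Polynomial.X : Polynomial F).roots.toFinset := by
      intro x
      rw [Multiset.mem_toFinset, Polynomial.mem_roots (FiniteField.X_pow_card_sub_X_ne_zero F (by omega))]
      simp [show x.1 ^ q = x.1 from x.2]
    calc Nat.card (Fx F q) ≤ Nat.card ↥((Polynomial.X ^ q - Polynomial.X : Polynomial F).roots.toFinset) :=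
          Nat.card_le_card_of_injective (fun x => ⟨x.1, hsub x⟩) fun x y h => Subtype.ext (Subtype.mk.inj h)
      _ ≤ q := by
          rw [Nat.card_eq_finsetCard]
          refine (Multiset.toFinset_card_le _).trans ((Polynomial.card_roots' _).trans ?_)
          rw [FiniteField.X_pow_card_sub_X_natDegree_eq F (by omega)]
  · have h := AddSubgroup.card_eq_card_quotient_mul_card_addSubgroup (trq (F := F) (q := q)).ker
    rw [Nat.card_congr (QuotientAddGroup.quotientKerEquivRange (trq (F := F) (q := q))).toEquiv, trq_ker,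
      Nat.card_eq_fintype_card (α := F), hF.out] at h
    have hle : Nat.card (trq (F := F) (q := q)).range ≤ Nat.card (Fx F q) :=
      AddSubgroup.card_le_of_le (by rintro _ ⟨x, rfl⟩; exact trq_mem x)
    have h3 := Nat.mul_le_mul_right (Nat.card (Fx F q)) hle
    rw [← h, ← sq] at h3
    exact (Nat.pow_le_pow_iff_left two_ne_zero).mp h3

theorem exists_trq_one : ∃ x : F, x + x ^ q = 1 := by
  by_contra hcon
  push Not at hcon
  have hall : ∀ y : F, y ∈ Fx F q := by
    intro y
    rw [← trq_ker, AddMonoidHom.mem_ker, trq_apply]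
    by_contra hy
    refine hcon (y / (y + y ^ q)) ?_
    rw [div_pow, show (y + y ^ q) ^ q = y + y ^ q from trq_mem y, ← add_div, div_self hy]
  have h := card_Fx (F := F) (q := q)
  rw [(AddSubgroup.eq_top_iff' _).mpr hall, AddSubgroup.card_top, Nat.card_eq_fintype_card, hF.out] at h
  have := two_le_q hF.out
  nlinarith

/-- the model -/
@[ext]
structure UT (F : Type*) [Field F] (q : ℕ) where
  a : F
  b : F
  eq : b + b ^ q = a * a ^ q

namespace UT

instance : Mul (UT F q) := ⟨fun x y => ⟨x.a + y.a, x.b + y.b + x.a ^ q * y.a, by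
  rw [pq_add, pq_add, mul_pow, pq_pq, pq_add]
  linear_combination x.eq + y.eq⟩⟩

instance : One (UT F q) := ⟨⟨0, 0, by rw [pq_zero]; ring⟩⟩

instance : Inv (UT F q) := ⟨fun x => ⟨x.a, x.b ^ q, by rw [pq_pq, add_comm]; exact x.eq⟩⟩

theorem mul_a (x y : UT F q) : (x * y).a = x.a + y.a := rfl

theorem mul_b (x y : UT F q) : (x * y).b = x.b + y.b + x.a ^ q * y.a := rfl

theorem one_a : (1 : UT F q).a = 0 := rfl

theorem one_b : (1 : UT F q).b = 0 := rfl

instance : Group (UT F q) where
  mul_assoc x y z := by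
    ext <;> simp only [mul_a, mul_b, pq_add] <;> ring
  one_mul x := by ext <;> simp [mul_a, mul_b, one_a, one_b, pq_zero]
  mul_one x := by ext <;> simp [mul_a, mul_b, one_a, one_b]
  inv_mul_cancel x := by
    ext
    · show x.a + x.a = 0
      exact CharTwo.add_self_eq_zero _
    · show x.b ^ q + x.b + x.a ^ q * x.a = 0
      rw [add_comm (x.b ^ q), x.eq, mul_comm, CharTwo.add_self_eq_zero]

theorem sq_a (x : UT F q) : (x ^ 2).a = 0 := by rw [sq, mul_a, CharTwo.add_self_eq_zero]

theorem sq_b (x : UT F q) : (x ^ 2).b = x.a * x.a ^ q := by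
  rw [sq, mul_b, CharTwo.add_self_eq_zero, zero_add, mul_comm]

theorem mul_comm_iff (x y : UT F q) : x * y = y * x ↔ x.a ^ q * y.a = y.a ^ q * x.a := by
  rw [UT.ext_iff]
  simp only [mul_a, mul_b]
  constructor
  · intro h; linear_combination h.2
  · intro h; exact ⟨add_comm _ _, by linear_combination h⟩

/-- the equation `b + b^q = a^(q+1)` has the solution `a^(q+1)·x` -/
theorem lift_eq {x : F} (hx : x + x ^ q = 1) (a k : F) (hk : k ^ q = k) :
    (a * a ^ q * x + k) + (a * a ^ q * x + k) ^ q = a * a ^ q := by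
  rw [pq_add, mul_pow, mul_pow, pq_pq, hk]
  calc a * a ^ q * x + k + (a ^ q * a * x ^ q + k) = a * a ^ q * (x + x ^ q) + (k + k) := by ring
    _ = a * a ^ q := by rw [hx, CharTwo.add_self_eq_zero, mul_one, add_zero]

/-- coordinates -/
def coords {x : F} (hx : x + x ^ q = 1) : UT F q ≃ F × Fx F q where
  toFun u := (u.a, ⟨u.b + u.a * u.a ^ q * x, by
    rw [mem_Fx, pq_add, mul_pow, mul_pow, pq_pq]
    have h := u.eq
    linear_combination h + (u.a * u.a ^ q) * hx + (u.a * u.a ^ q - u.b - u.a * u.a ^ q * x) * CharTwo.two_eq_zero (R := F)⟩)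
  invFun p := ⟨p.1, p.1 * p.1 ^ q * x + p.2.1, lift_eq hx p.1 p.2.1 p.2.2⟩
  left_inv u := by
    ext
    · rfl
    · show u.a * u.a ^ q * x + (u.b + u.a * u.a ^ q * x) = u.b
      linear_combination CharTwo.add_self_eq_zero (u.a * u.a ^ q * x)
  right_inv p := by
    refine Prod.ext rfl (Subtype.ext ?_)
    show p.1 * p.1 ^ q * x + p.2.1 + p.1 * p.1 ^ q * x = p.2.1
    linear_combination CharTwo.add_self_eq_zero (p.1 * p.1 ^ q * x)

instance : Finite (UT F q) := by
  obtain ⟨x, hx⟩ := exists_trq_one (F := F) (q := q)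
  exact Finite.of_equiv _ (coords hx).symm

theorem card : Nat.card (UT F q) = q ^ 3 := by
  obtain ⟨x, hx⟩ := exists_trq_one (F := F) (q := q)
  rw [Nat.card_congr (coords hx), Nat.card_prod, card_Fx, Nat.card_eq_fintype_card, hF.out]; ring

theorem exists_mk (a : F) : ∃ u : UT F q, u.a = a := by
  obtain ⟨x, hx⟩ := exists_trq_one (F := F) (q := q)
  exact ⟨(coords hx).symm (a, 0), rfl⟩

/-- central elements -/
def z (k : Fx F q) : UT F q := ⟨0, k, by rw [pq_zero, show (k : F) ^ q = k from k.2, CharTwo.add_self_eq_zero]; ring⟩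

theorem mem_center_iff (u : UT F q) : u ∈ Subgroup.center (UT F q) ↔ u.a = 0 := by
  obtain ⟨x, hx⟩ := exists_trq_one (F := F) (q := q)
  rw [Subgroup.mem_center_iff]
  constructor
  · intro h
    obtain ⟨v, hv⟩ := exists_mk (q := q) (1 : F)
    obtain ⟨w, hw⟩ := exists_mk (q := q) x
    have h1 := (mul_comm_iff v u).mp (h v)
    have h2 := (mul_comm_iff w u).mp (h w)
    rw [hv, one_pow, one_mul, mul_one] at h1
    rw [hw, ← h1] at h2
    have : u.a * (x + x ^ q) = 0 := by linear_combination h2 + CharTwo.add_self_eq_zero (u.a * x)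
    rw [hx, mul_one] at this
    exact this
  · intro h v
    rw [mul_comm_iff, h, pq_zero]; ring

theorem isPGroup {n : ℕ} (hq : q = 2 ^ n) : IsPGroup 2 (UT F q) :=
  IsPGroup.of_card (n := 3 * n) (by rw [card, hq, ← pow_mul, mul_comm])

end UT

section Embed

variable {x : F} (hx : x + x ^ q = 1)

/-- change of basis -/
def chg (x : F) : Matrix (Fin 3) (Fin 3) F := !![1, 0, x; 1, 0, x + 1; 0, 1, 0]

/-- its inverse -/
def chgInv (x : F) (q : ℕ) : Matrix (Fin 3) (Fin 3) F := !![x ^ q, x ^ q + 1, 0; 0, 0, 1; 1, 1, 0]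

/-- the Gram matrix -/
def gram : Matrix (Fin 3) (Fin 3) F := !![0, 0, 1; 0, 1, 0; 1, 0, 0]

/-- upper unitriangular form -/
def umat (u : UT F q) : Matrix (Fin 3) (Fin 3) F := !![1, u.a ^ q, u.b; 0, 1, u.a; 0, 0, 1]

theorem umat_mul (u v : UT F q) : umat (u * v) = umat u * umat v := by
  ext i j
  fin_cases i <;> fin_cases j <;>
    simp [umat, Matrix.mul_apply, Fin.sum_univ_three, UT.mul_a, UT.mul_b, pq_add] <;> ring

include hx

theorem chgInv_mul : chgInv x q * chg x = 1 := by
  have h2 : (2 : F) = 0 := CharTwo.two_eq_zero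
  ext i j
  fin_cases i <;> fin_cases j <;>
    simp [chg, chgInv, Matrix.mul_apply, Fin.sum_univ_three, Matrix.one_apply] <;>
    first
      | linear_combination (x ^ q) * h2
      | linear_combination hx + (1 + x * x ^ q) * h2
      | linear_combination x * h2
      | linear_combination h2
      | ring

theorem chg_mul : chg x * chgInv x q = 1 := mul_eq_one_comm.mp (chgInv_mul hx)

theorem chg_gram : (chg x)ᵀ * (chg x).map (qFrob hF.out) = gram := by
  have h2 : (2 : F) = 0 := CharTwo.two_eq_zero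
  ext i j
  fin_cases i <;> fin_cases j <;>
    simp [chg, gram, Matrix.mul_apply, Fin.sum_univ_three, qFrob_apply, pq_zero, pq_add] <;>
    first
      | linear_combination h2
      | linear_combination (x ^ q) * h2
      | linear_combination x * h2
      | linear_combination hx + (1 + x * x ^ q) * h2
      | ring

theorem umat_gram (u : UT F q) : (umat u)ᵀ * gram * (umat u).map (qFrob hF.out) = gram := by
  have h2 : (2 : F) = 0 := CharTwo.two_eq_zero
  ext i j
  fin_cases i <;> fin_cases j <;>
    simp [umat, gram, Matrix.mul_apply, Fin.sum_univ_three, qFrob_apply, pq_zero, pq_pq] <;>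
    first
      | linear_combination u.eq + (u.a * u.a ^ q) * h2
      | linear_combination u.a * h2
      | linear_combination (u.a ^ q) * h2
      | ring

/-- the embedding into `SU(3,q)` -/
def embed : UT F q →* SU 3 F q :=
  MonoidHom.mk' (fun u => suMk hF.out (chg x * umat u * chgInv x q)
    (by
      rw [Matrix.det_mul, Matrix.det_mul, mul_right_comm, ← Matrix.det_mul, chg_mul hx, Matrix.det_one, one_mul,
        Matrix.det_fin_three]
      simp [umat])
    (by
      set P := chg x
      set Q := chgInv x q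
      set c := qFrob hF.out
      have hPQ : P * Q = 1 := chg_mul hx
      calc (P * umat u * Q)ᵀ * (P * umat u * Q).map c
          = Qᵀ * ((umat u)ᵀ * (Pᵀ * P.map c) * (umat u).map c) * Q.map c := by
            rw [Matrix.transpose_mul, Matrix.transpose_mul, Matrix.map_mul, Matrix.map_mul]
            simp only [Matrix.mul_assoc]
        _ = Qᵀ * gram * Q.map c := by rw [chg_gram hx, umat_gram hx]
        _ = (P * Q)ᵀ * (P * Q).map c := by
            rw [Matrix.transpose_mul, Matrix.map_mul, ← chg_gram hx]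
            simp only [Matrix.mul_assoc]
            rfl
        _ = 1 := by rw [hPQ, Matrix.transpose_one, Matrix.map_one _ (map_zero c) (map_one c), one_mul]))
    fun u v => suVal_ext (by
      rw [suVal_mul]
      show chg x * umat (u * v) * chgInv x q = chg x * umat u * chgInv x q * (chg x * umat v * chgInv x q)
      rw [umat_mul, ← Matrix.mul_assoc (chg x * umat u * chgInv x q), ← Matrix.mul_assoc (chg x * umat u * chgInv x q),
        Matrix.mul_assoc (chg x * umat u) (chgInv x q), chgInv_mul hx, Matrix.mul_one, Matrix.mul_assoc (chg x) (umat u)])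

theorem embed_injective : Function.Injective (embed hx) := by
  intro u v h
  have h' : chg x * umat u * chgInv x q = chg x * umat v * chgInv x q := congrArg suVal h
  have h'' := congrArg (fun M => chgInv x q * M * chg x) h'
  simp only [← Matrix.mul_assoc, chgInv_mul hx, one_mul] at h''
  simp only [Matrix.mul_assoc, chgInv_mul hx, mul_one] at h''
  exact UT.ext (by simpa [umat] using congrFun (congrFun h'' 1) 2) (by simpa [umat] using congrFun (congrFun h'' 0) 2)

end Embed

/-- Sylow 2-subgroups of `SU(3,q)` and of `PSU(3,q)` are models. -/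
theorem sylow_su {n : ℕ} (hq : q = 2 ^ n) (hn : 1 ≤ n) (S : Sylow 2 (SU 3 F q)) :
    Nonempty (UT F q ≃* ↥(S : Subgroup (SU 3 F q))) := by
  haveI : Fact (Nat.Prime 2) := ⟨Nat.prime_two⟩
  obtain ⟨x, hx⟩ := exists_trq_one (F := F) (q := q)
  set R := (embed hx).range
  have hRc : Nat.card R = q ^ 3 := by
    rw [← Nat.card_congr (MonoidHom.ofInjective (embed_injective hx)).toEquiv, UT.card]
  have hord := Cfsg.Agent.S0278.result hF.out 3 (by norm_num)
  simp only [Finset.prod_range_succ, Finset.prod_range_zero, show (3 * (3 - 1) / 2 : ℕ) = 3 from rfl,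
    show Even 0 from by decide, show ¬ Even 1 from by decide, show Even 2 from by decide, if_true, if_false, one_mul, zero_add] at hord
  have hsyl : Nat.card (S : Subgroup (SU 3 F q)) = q ^ 3 := by
    rw [S.card_eq_multiplicity]
    conv_rhs => rw [hq, ← pow_mul]
    congr 1
    have h2q : ∀ m : ℕ, 1 ≤ m → (2 ∣ q ^ m) := fun m hm => hq ▸ dvd_pow (dvd_pow_self 2 (by omega)) (by omega)
    have hf := congrArg (fun m : ℕ => m.factorization 2) hord
    have hq0 : q ≠ 0 := by rw [hq]; positivity
    have hne : ∀ m : ℕ, 1 ≤ m → q ^ m - 1 ≠ 0 := fun m hm => by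
      have : 2 ≤ q ^ m := Nat.le_of_dvd (Nat.pow_pos (Nat.pos_of_ne_zero hq0)) (h2q m hm)
      omega
    have hodd1 : ∀ m : ℕ, 1 ≤ m → ((q ^ m + 1).factorization 2 = 0 ∧ (q ^ m - 1).factorization 2 = 0) := fun m hm => by
      have h := h2q m hm
      have := hne m hm
      exact ⟨Nat.factorization_eq_zero_of_not_dvd (by omega), Nat.factorization_eq_zero_of_not_dvd (by omega)⟩
    have e1 := hodd1 1 le_rfl
    rw [pow_one] at e1
    simp only [Nat.reduceAdd, pow_one] at hf
    rw [Nat.factorization_mul (by omega) Nat.card_pos.ne', Nat.factorization_mul (pow_ne_zero _ hq0)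
      (mul_ne_zero (mul_ne_zero (by omega) (hne 2 (by norm_num))) (by positivity)),
      Nat.factorization_mul (mul_ne_zero (by omega) (hne 2 (by norm_num))) (by positivity),
      Nat.factorization_mul (by omega) (hne 2 (by norm_num))] at hf
    simp only [Finsupp.add_apply, e1.1, (hodd1 2 (by norm_num)).2, (hodd1 3 (by norm_num)).1, zero_add, add_zero] at hf
    rw [hf]
    conv_lhs => rw [hq, ← pow_mul, Nat.prime_two.factorization_pow, Finsupp.single_eq_same]
  have hRp : IsPGroup 2 R := IsPGroup.of_card (n := 3 * n) (by rw [hRc, hq, ← pow_mul, mul_comm])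
  obtain ⟨S', hS'⟩ := hRp.exists_le_sylow
  have hc' : Nat.card (S' : Subgroup (SU 3 F q)) = q ^ 3 := by
    rw [← hsyl, Sylow.card_eq_multiplicity, Sylow.card_eq_multiplicity]
  have heq : R = (S' : Subgroup (SU 3 F q)) := Subgroup.eq_of_le_of_card_ge hS' (by rw [hRc, hc'])
  exact ⟨((MonoidHom.ofInjective (embed_injective hx)).trans (MulEquiv.subgroupCongr heq)).trans (S'.equiv S)⟩

theorem sylow_psu {n : ℕ} (hq : q = 2 ^ n) (hn : 1 ≤ n) (S : Sylow 2 (PSU 3 F q)) :
    Nonempty (UT F q ≃* ↥(S : Subgroup (PSU 3 F q))) := by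
  haveI : Fact (Nat.Prime 2) := ⟨Nat.prime_two⟩
  obtain ⟨T⟩ : Nonempty (Sylow 2 (SU 3 F q)) := inferInstance
  obtain ⟨e⟩ := sylow_su hq hn T
  let π : SU 3 F q →* PSU 3 F q := QuotientGroup.mk' _
  have hπ : Function.Surjective π := QuotientGroup.mk'_surjective _
  let T' : Sylow 2 (PSU 3 F q) := T.mapSurjective hπ
  have hcen := natCard_center_SU (n := 3) hF.out (by norm_num)
  have hdis : (T : Subgroup (SU 3 F q)) ⊓ π.ker = ⊥ := by
    rw [QuotientGroup.ker_mk', inf_comm]
    refine Subgroup.inf_eq_bot_of_coprime (Nat.Coprime.symm ?_)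
    obtain ⟨k, hk⟩ := IsPGroup.iff_card.mp T.2
    rw [hk, hcen]
    refine Nat.Coprime.pow_left _ ((Nat.Prime.coprime_iff_not_dvd Nat.prime_two).mpr fun h => ?_)
    have h3 : 2 ∣ 3 := h.trans (Nat.gcd_dvd_left _ _)
    omega
  have hinj : Function.Injective (π.subgroupMap (T : Subgroup (SU 3 F q))) := by
    rw [injective_iff_map_eq_one]
    intro t ht
    refine Subtype.ext (Subgroup.mem_bot.mp (hdis ▸ ⟨t.2, ?_⟩))
    exact congrArg Subtype.val ht
  exact ⟨(e.trans (MulEquiv.ofBijective _ ⟨hinj, π.subgroupMap_surjective _⟩)).trans (T'.equiv S)⟩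

end Cfsg.Agent.Recog.SU3Two

namespace Cfsg.Agent.Recog.SU3Two

theorem charP_two {F : Type*} [Field F] [Fintype F] {m : ℕ} (h : Fintype.card F = 2 ^ m) : CharP F 2 :=
  haveI : Fact (Nat.Prime 2) := ⟨Nat.prime_two⟩
  charP_of_card_eq_prime_pow h

end Cfsg.Agent.Recog.SU3Two
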