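import Mathlib
import Cfsg.Prelude.Def_Sz

/-!
In the natural representation of a Suzuki group, an element of odd order fixing a nonzero vector is trivial.
-/

set_option autoImplicit false

namespace Cfsg.Agent.SzFix

open Cfsg.Lie Matrix

variable {F : Type*} [Field F]

/-- the matrix of the form `altForm4` -/
def J : Matrix (Fin 4) (Fin 4) F := !![0, 0, 0, 1; 0, 0, 1, 0; 0, 1, 0, 0; 1, 0, 0, 0]

theorem two_eq_zero [CharP F 2] : (2 : F) = 0 := CharTwo.two_eq_zero

theorem transpose_mul_J {g : GL (Fin 4) F} (hg : g ∈ Sp4 F) :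
    (g : Matrix (Fin 4) (Fin 4) F)ᵀ * J * (g : Matrix (Fin 4) (Fin 4) F) = J := by
  ext i j
  have h := hg (Pi.single i 1) (Pi.single j 1)
  simp only [Units.coeHom_apply, Matrix.mulVec_single_one, altForm4] at h
  fin_cases i <;> fin_cases j <;>
    simp [J, Matrix.mul_apply, Fin.sum_univ_four, Pi.single_apply] at h ⊢ <;> linear_combination h

theorem mul_J_transpose {g : GL (Fin 4) F} (hg : g ∈ Sp4 F) :
    (g : Matrix (Fin 4) (Fin 4) F) * J * (g : Matrix (Fin 4) (Fin 4) F)ᵀ = J := by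
  have h1 : (J : Matrix (Fin 4) (Fin 4) F) * J = 1 := by
    ext i j; fin_cases i <;> fin_cases j <;> simp [J, Matrix.mul_apply, Fin.sum_univ_four]
  have h2 : (J * (g : Matrix (Fin 4) (Fin 4) F)ᵀ * J) * (g : Matrix (Fin 4) (Fin 4) F) = 1 := by
    rw [mul_assoc, mul_assoc, ← mul_assoc _ J, transpose_mul_J hg, h1]
  have h3 := mul_eq_one_comm.mp h2
  calc (g : Matrix (Fin 4) (Fin 4) F) * J * (g : Matrix (Fin 4) (Fin 4) F)ᵀ
      = (g : Matrix (Fin 4) (Fin 4) F) * J * (g : Matrix (Fin 4) (Fin 4) F)ᵀ * (J * J) := by rw [h1, mul_one]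
    _ = ((g : Matrix (Fin 4) (Fin 4) F) * (J * (g : Matrix (Fin 4) (Fin 4) F)ᵀ * J)) * J := by
      simp only [mul_assoc]
    _ = J := by rw [h3, one_mul]

theorem J_inv {g : GL (Fin 4) F} (hg : g ∈ Sp4 F) :
    ((g⁻¹ : GL (Fin 4) F) : Matrix (Fin 4) (Fin 4) F) = J * (g : Matrix (Fin 4) (Fin 4) F)ᵀ * J := by
  have h1 : (J : Matrix (Fin 4) (Fin 4) F) * J = 1 := by
    ext i j; fin_cases i <;> fin_cases j <;> simp [J, Matrix.mul_apply, Fin.sum_univ_four]
  have h2 : (J * (g : Matrix (Fin 4) (Fin 4) F)ᵀ * J) * (g : Matrix (Fin 4) (Fin 4) F) = 1 := by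
    rw [mul_assoc, mul_assoc, ← mul_assoc _ J, transpose_mul_J hg, h1]
  exact (Units.eq_inv_of_mul_eq_one_left (mul_eq_one_comm.mp h2)).symm

/-- `star4` is multiplicative on `Sp4` -/
theorem star4_mul [CharP F 2] {g h : GL (Fin 4) F} (hg : g ∈ Sp4 F) (hh : h ∈ Sp4 F) :
    star4 ((g * h : GL (Fin 4) F) : Matrix (Fin 4) (Fin 4) F)
      = star4 (g : Matrix (Fin 4) (Fin 4) F) * star4 (h : Matrix (Fin 4) (Fin 4) F) := by
  have two : (2 : F) = 0 := CharTwo.two_eq_zero
  ext p r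
  have hr := congrFun (congrFun (transpose_mul_J hh) (pairOf r).1) (pairOf r).2
  have hp := congrFun (congrFun (mul_J_transpose hg) (pairOf p).1) (pairOf p).2
  have hJ : ∀ u : Fin 4, (J : Matrix (Fin 4) (Fin 4) F) (pairOf u).1 (pairOf u).2 = 0 := by
    intro u; fin_cases u <;> simp [J, pairOf]
  rw [hJ] at hr hp
  rw [Units.val_mul]
  simp only [Matrix.mul_apply, Fin.sum_univ_four, Matrix.transpose_apply, J, Matrix.of_apply,
    Matrix.cons_val', Matrix.cons_val_zero, Matrix.cons_val_one, Matrix.cons_val,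
    Matrix.cons_val_fin_one, Matrix.empty_val', Matrix.head_cons, Matrix.head_fin_const] at hr hp
  simp only [star4, Matrix.of_apply, Matrix.mul_apply, Fin.sum_univ_four, pairOf,
    Matrix.cons_val', Matrix.cons_val_zero, Matrix.cons_val_one, Matrix.cons_val,
    Matrix.cons_val_fin_one, Matrix.empty_val', Matrix.head_cons, Matrix.head_fin_const] at hr hp ⊢
  generalize (![((0 : Fin 4), (1 : Fin 4)), (0, 2), (1, 3), (2, 3)] p) = a at *
  generalize (![((0 : Fin 4), (1 : Fin 4)), (0, 2), (1, 3), (2, 3)] r) = b at *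
  obtain ⟨k, l⟩ := a
  obtain ⟨i, j⟩ := b
  simp only at hr hp ⊢
  generalize (g : Matrix (Fin 4) (Fin 4) F) k 0 = a0 at *
  generalize (g : Matrix (Fin 4) (Fin 4) F) k 1 = a1 at *
  generalize (g : Matrix (Fin 4) (Fin 4) F) k 2 = a2 at *
  generalize (g : Matrix (Fin 4) (Fin 4) F) k 3 = a3 at *
  generalize (g : Matrix (Fin 4) (Fin 4) F) l 0 = b0 at *
  generalize (g : Matrix (Fin 4) (Fin 4) F) l 1 = b1 at *
  generalize (g : Matrix (Fin 4) (Fin 4) F) l 2 = b2 at *
  generalize (g : Matrix (Fin 4) (Fin 4) F) l 3 = b3 at *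
  generalize (h : Matrix (Fin 4) (Fin 4) F) 0 i = c0 at *
  generalize (h : Matrix (Fin 4) (Fin 4) F) 1 i = c1 at *
  generalize (h : Matrix (Fin 4) (Fin 4) F) 2 i = c2 at *
  generalize (h : Matrix (Fin 4) (Fin 4) F) 3 i = c3 at *
  generalize (h : Matrix (Fin 4) (Fin 4) F) 0 j = d0 at *
  generalize (h : Matrix (Fin 4) (Fin 4) F) 1 j = d1 at *
  generalize (h : Matrix (Fin 4) (Fin 4) F) 2 j = d2 at *
  generalize (h : Matrix (Fin 4) (Fin 4) F) 3 j = d3 at *
  grind

theorem star4_one : star4 (1 : Matrix (Fin 4) (Fin 4) F) = 1 := by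
  ext p r
  fin_cases p <;> fin_cases r <;> simp [star4, show pairOf 0 = ((0 : Fin 4), (1 : Fin 4)) from rfl, show pairOf 1 = ((0 : Fin 4), (2 : Fin 4)) from rfl, show pairOf 2 = ((1 : Fin 4), (3 : Fin 4)) from rfl, show pairOf 3 = ((2 : Fin 4), (3 : Fin 4)) from rfl]

/-- the trace of `g*` is the sum of the principal `2 × 2` minors -/
def e2 (M : Matrix (Fin 4) (Fin 4) F) : F :=
  (M 0 0 * M 1 1 - M 1 0 * M 0 1) + (M 0 0 * M 2 2 - M 2 0 * M 0 2) + (M 0 0 * M 3 3 - M 3 0 * M 0 3)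
    + (M 1 1 * M 2 2 - M 2 1 * M 1 2) + (M 1 1 * M 3 3 - M 3 1 * M 1 3) + (M 2 2 * M 3 3 - M 3 2 * M 2 3)

theorem trace_star4 [CharP F 2] {g : GL (Fin 4) F} (hg : g ∈ Sp4 F) :
    (star4 (g : Matrix (Fin 4) (Fin 4) F)).trace = e2 (g : Matrix (Fin 4) (Fin 4) F) := by
  have two : (2 : F) = 0 := CharTwo.two_eq_zero
  have h1 := congrFun (congrFun (transpose_mul_J hg) 0) 3
  have h3 := congrFun (congrFun (transpose_mul_J hg) 1) 2
  have h2 := congrFun (congrFun (mul_J_transpose hg) 0) 3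
  simp [J, Matrix.mul_apply, Fin.sum_univ_four] at h1 h2 h3
  simp only [Matrix.trace, Matrix.diag, star4, Matrix.of_apply, Fin.sum_univ_four, e2, pairOf,
    Matrix.cons_val', Matrix.cons_val_zero, Matrix.cons_val_one, Matrix.cons_val,
    Matrix.cons_val_fin_one, Matrix.empty_val', Matrix.head_cons, Matrix.head_fin_const]
  grind

theorem charpoly_four (M : Matrix (Fin 4) (Fin 4) F) :
    M.charpoly = Polynomial.X ^ 4 - Polynomial.C M.trace * Polynomial.X ^ 3 + Polynomial.C (e2 M) * Polynomial.X ^ 2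
      - Polynomial.C M.adjugate.trace * Polynomial.X + Polynomial.C M.det := by
  simp [Matrix.charpoly, Matrix.charmatrix, Matrix.trace, e2, Matrix.det_succ_row_zero, Fin.sum_univ_succ,
    Matrix.adjugate_fin_succ_eq_det_submatrix, Fin.succAbove, Matrix.submatrix]
  ring

variable [Finite F]

theorem mem_Sz_spec [CharP F 2] {k : ℕ} {g : GL (Fin 4) F} (hg : g ∈ Sz F (2 ^ k)) :
    g ∈ Sp4 F ∧ star4 (g : Matrix (Fin 4) (Fin 4) F)
      = (g : Matrix (Fin 4) (Fin 4) F).map (iterateFrobenius F 2 k) := by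
  induction hg using Subgroup.closure_induction with
  | mem x hx =>
    refine ⟨hx.1, hx.2.trans ?_⟩
    ext i j
    simp [iterateFrobenius_def]
  | one => exact ⟨one_mem _, by rw [Units.val_one, star4_one, Matrix.map_one _ (map_zero _) (map_one _)]⟩
  | mul x y _ _ hx hy =>
    refine ⟨mul_mem hx.1 hy.1, ?_⟩
    rw [star4_mul hx.1 hy.1, hx.2, hy.2, Units.val_mul, Matrix.map_mul]
  | inv x _ hx =>
    refine ⟨inv_mem hx.1, ?_⟩
    have h1 := star4_mul (inv_mem hx.1) hx.1
    rw [inv_mul_cancel, Units.val_one, star4_one, hx.2] at h1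
    have h2 : ((x⁻¹ : GL (Fin 4) F) : Matrix (Fin 4) (Fin 4) F).map (iterateFrobenius F 2 k)
        * (x : Matrix (Fin 4) (Fin 4) F).map (iterateFrobenius F 2 k) = 1 := by
      rw [← Matrix.map_mul, ← Units.val_mul, inv_mul_cancel, Units.val_one,
        Matrix.map_one _ (map_zero _) (map_one _)]
    exact left_inv_eq_right_inv h1.symm (mul_eq_one_comm.mp h2)

/-- an element of odd order of `Sz` fixing a nonzero vector is trivial -/
theorem eq_one_of_fixed [CharP F 2] {k : ℕ} {g : GL (Fin 4) F} (hg : g ∈ Sz F (2 ^ k)) (hodd : Odd (orderOf g))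
    {v : Fin 4 → F} (hv : v ≠ 0) (hgv : (g : Matrix (Fin 4) (Fin 4) F) *ᵥ v = v) : g = 1 := by
  obtain ⟨hsp, hstar⟩ := mem_Sz_spec hg
  set M := (g : Matrix (Fin 4) (Fin 4) F) with hM
  have two : (2 : F) = 0 := CharTwo.two_eq_zero
  have hdet : M.det = 1 := by
    have h := congrArg Matrix.det (transpose_mul_J hsp)
    rw [Matrix.det_mul, Matrix.det_mul, Matrix.det_transpose] at h
    have hJ : (J : Matrix (Fin 4) (Fin 4) F).det = 1 := by
      simp [J, Matrix.det_succ_row_zero, Fin.sum_univ_succ, Fin.succAbove]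
      norm_num
    rw [hJ, mul_one, ← hM] at h
    have : (M.det + 1) ^ 2 = 0 := by linear_combination h + (M.det + 1) * two
    exact CharTwo.add_eq_zero.mp (pow_eq_zero_iff (two_ne_zero) |>.mp this)
  have htr : M.adjugate.trace = M.trace := by
    have h1 : M.adjugate = J * Mᵀ * J := by
      rw [← J_inv hsp]
      calc M.adjugate = M.adjugate * (M * ((g⁻¹ : GL (Fin 4) F) : Matrix (Fin 4) (Fin 4) F)) := by
            rw [hM, ← Units.val_mul, mul_inv_cancel, Units.val_one, mul_one]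
        _ = _ := by rw [← mul_assoc, Matrix.adjugate_mul, hdet, one_smul, one_mul]
    rw [h1, Matrix.trace_mul_cycle]
    have hJJ : (J : Matrix (Fin 4) (Fin 4) F) * J = 1 := by
      ext i j; fin_cases i <;> fin_cases j <;> simp [J, Matrix.mul_apply, Fin.sum_univ_four]
    rw [hJJ, one_mul, Matrix.trace_transpose]
  have hsing : (M.charpoly).eval 1 = 0 := by
    rw [Matrix.eval_charpoly]
    refine Matrix.exists_mulVec_eq_zero_iff.mp ⟨v, hv, ?_⟩
    simp [Matrix.sub_mulVec, hgv]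
  rw [charpoly_four, htr, hdet] at hsing
  simp at hsing
  have he2 : e2 M = 0 := by linear_combination hsing + (M.trace - 1) * two
  have htr0 : M.trace = 0 := by
    have h := trace_star4 hsp
    rw [hstar, he2] at h
    have h' : iterateFrobenius F 2 k M.trace = 0 := by
      rw [Matrix.trace, map_sum]; simpa [Matrix.trace] using h
    exact (map_eq_zero (iterateFrobenius F 2 k)).mp h'
  have h4 := Matrix.aeval_self_charpoly M
  rw [charpoly_four, htr, hdet, he2, htr0] at h4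
  simp at h4
  have hg4 : g ^ 4 = 1 := Units.ext (by
    rw [Units.val_pow_eq_pow_val, Units.val_one]
    have h5 : M ^ 4 = -1 := eq_neg_of_add_eq_zero_left h4
    rw [← hM, h5]
    ext i j
    simp only [Matrix.neg_apply, Matrix.one_apply]
    exact CharTwo.neg_eq _)
  have h44 := Nat.dvd_gcd (dvd_refl (orderOf g)) (orderOf_dvd_of_pow_eq_one hg4)
  have hcop : Nat.Coprime (orderOf g) 4 := (Nat.coprime_two_right.mpr hodd).pow_right 2
  exact orderOf_eq_one_iff.mp (Nat.eq_one_of_dvd_one (hcop.gcd_eq_one ▸ h44))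

end Cfsg.Agent.SzFix
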