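import Mathlib

set_option autoImplicit false

namespace Cfsg.Agent.FpfFour

universe u v

open Subgroup
open scoped commutatorElement

theorem nilpotent_of_comm {H : Type*} [Group H] (h : ∀ x y : H, x * y = y * x) : Group.IsNilpotent H :=
  Subgroup.isNilpotent_of_ker_le_center (1 : H →* PUnit.{1}) fun x _ =>
    Subgroup.mem_center_iff.mpr fun y => h y x

variable {K : Type u} [Group K] [Finite K]

/-- An injective-difference automorphism fixes only 1 on each invariant normal quotient. -/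
theorem fixed_point_quot (σ : MulAut K) (hfpf : ∀ g : K, σ g = g → g = 1) (N : Subgroup K) [N.Normal]
    (hN : ∀ x ∈ N, σ x ∈ N) (g : K) (hg : g⁻¹ * σ g ∈ N) : g ∈ N := by
  let f : K → K := fun y => y⁻¹ * σ y
  have finj : Function.Injective f := by
    intro a b h
    have : σ (b * a⁻¹) = b * a⁻¹ := by
      simp only [f] at h
      rw [map_mul, map_inv]
      have h2 : σ a = a * b⁻¹ * σ b := by rw [mul_assoc, ← h]; group
      rw [h2]; group
    have := hfpf _ this
    exact (mul_inv_eq_one.mp this).symm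
  let f' : N → N := fun y => ⟨f y, N.mul_mem (N.inv_mem y.2) (hN _ y.2)⟩
  have f'inj : Function.Injective f' := fun a b h => Subtype.ext (finj (congrArg Subtype.val h))
  obtain ⟨y, hy⟩ := Finite.surjective_of_injective f'inj ⟨f g, hg⟩
  have := finj (congrArg Subtype.val hy)
  exact this ▸ y.2

theorem map_mem_of_le {σ : MulAut K} {N : Subgroup K} (hN : ∀ x ∈ N, σ x ∈ N) : N.map σ.toMonoidHom = N := by
  refine Subgroup.eq_of_le_of_card_ge ?_ ?_
  · rintro _ ⟨x, hx, rfl⟩; exact hN x hx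
  · exact le_of_eq (Nat.card_congr (N.equivMapOfInjective σ.toMonoidHom σ.injective).toEquiv)

/-- In the σ²-fixed part σ inverts every element. -/
theorem inverted_of_sq_fixed (σ : MulAut K) (hfpf : ∀ g : K, σ g = g → g = 1) (x : K) (hx : σ (σ x) = x) :
    σ x = x⁻¹ := by
  let C := {y : K // σ (σ y) = y}
  let f : C → C := fun y => ⟨(y.1)⁻¹ * σ y.1, by simp [y.2]⟩
  have finj : Function.Injective f := by
    intro a b h
    have h' : (a.1)⁻¹ * σ a.1 = (b.1)⁻¹ * σ b.1 := congrArg Subtype.val h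
    apply Subtype.ext
    have : σ (b.1 * a.1⁻¹) = b.1 * a.1⁻¹ := by
      rw [map_mul, map_inv]
      have h2 : σ a.1 = a.1 * b.1⁻¹ * σ b.1 := by rw [mul_assoc, ← h']; group
      rw [h2]; group
    exact (mul_inv_eq_one.mp (hfpf _ this)).symm
  obtain ⟨y, hy⟩ := Finite.surjective_of_injective finj ⟨x, hx⟩
  have hy' : (y.1)⁻¹ * σ y.1 = x := congrArg Subtype.val hy
  rw [← hy', map_mul, map_inv, y.2, mul_inv_rev, inv_inv]

variable {V : Type v} [AddCommGroup V]

/-- A coprime abelian invariant subgroup acting faithfully is centralized by σ². -/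
theorem sq_fixed_of_comm {p : ℕ} (hp : p.Prime) [Nontrivial V] (pV : ∀ v : V, p • v = 0)
    (ρ : K →* AddMonoid.End V) (hinj : Function.Injective ρ) (S : V ≃+ V)
    (hS4 : ∀ v, S (S (S (S v))) = v) (hSfpf : ∀ v, S v = v → v = 0)
    (σ : MulAut K) (hσ4 : ∀ g, σ (σ (σ (σ g))) = g) (hcomp : ∀ g v, S (ρ g v) = ρ (σ g) (S v))
    (X : Subgroup K) (hX : ∀ a ∈ X, ∀ b ∈ X, a * b = b * a) (hXinv : ∀ a ∈ X, σ a ∈ X)
    (hXp : ∀ a ∈ X, ¬ p ∣ orderOf a) (x : K) (hx : x ∈ X) : σ (σ x) = x := by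
  classical
  let T : AddMonoid.End V := S.toAddMonoidHom
  have hT : ∀ g : K, T * ρ g = ρ (σ g) * T := by
    intro g; ext v; exact hcomp g v
  have hT4 : T * T * (T * T) = 1 := by ext v; exact hS4 v
  have hsum : (1 : AddMonoid.End V) + T + T * T + T * T * T = 0 := by
    ext v
    show v + S v + S (S v) + S (S (S v)) = 0
    apply hSfpf
    simp only [map_add, hS4]
    abel
  let R : K → AddMonoid.End V := fun a => ρ a
  let r1 : K → AddMonoid.End V := fun a => ρ (σ a)
  let r2 : K → AddMonoid.End V := fun a => ρ (σ (σ a))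
  let r3 : K → AddMonoid.End V := fun a => ρ (σ (σ (σ a)))
  have cm : ∀ a ∈ X, ∀ b ∈ X, ρ a * ρ b = ρ b * ρ a := fun a ha b hb => by
    rw [← map_mul, hX a ha b hb, map_mul]
  have E0 : ∀ a, R a + r1 a * T + r2 a * (T * T) + r3 a * (T * T * T) = 0 := by
    intro a
    have h := congrArg (fun z => z * R a) hsum
    simp only [zero_mul, add_mul, one_mul] at h
    have e1 : T * R a = r1 a * T := hT a
    have e2 : T * T * R a = r2 a * (T * T) := by
      rw [mul_assoc, e1, ← mul_assoc, hT, mul_assoc]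
    have e3 : T * T * T * R a = r3 a * (T * T * T) := by
      rw [mul_assoc (T * T) T, e1, ← mul_assoc]
      have : T * T * r1 a = r3 a * (T * T) := by
        rw [mul_assoc, hT, ← mul_assoc, hT, mul_assoc]
      rw [this, mul_assoc]
    rw [e1, e2, e3] at h
    exact h
  have E1 : ∀ b a, (r1 b - R b) * r1 a * T + (r2 b - R b) * r2 a * (T * T)
      + (r3 b - R b) * r3 a * (T * T * T) = 0 := by
    intro b a
    have h := E0 (b * a)
    have h' := congrArg (fun z => R b * z) (E0 a)
    simp only [R, r1, r2, r3, map_mul] at h h' ⊢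
    rw [mul_zero] at h'
    linear_combination (norm := noncomm_ring) h - h'
  have E2 : ∀ b ∈ X, ∀ c ∈ X, ∀ a ∈ X, (r2 b - R b) * (r2 c - r1 c) * r2 a * (T * T)
      + (r3 b - R b) * (r3 c - r1 c) * r3 a * (T * T * T) = 0 := by
    intro b hb c hc a ha
    have h := E1 b (c * a)
    have h' := congrArg (fun z => r1 c * z) (E1 b a)
    simp only [R, r1, r2, r3, map_mul] at h h' ⊢
    rw [mul_zero] at h'
    have k0 := cm (σ c) (hXinv _ hc) b hb
    have k1 := cm (σ c) (hXinv _ hc) (σ b) (hXinv _ hb)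
    have k2 := cm (σ c) (hXinv _ hc) (σ (σ b)) (hXinv _ (hXinv _ hb))
    have k3 := cm (σ c) (hXinv _ hc) (σ (σ (σ b))) (hXinv _ (hXinv _ (hXinv _ hb)))
    simp only [← mul_assoc, sub_mul, mul_sub, mul_add, k0, k1, k2, k3] at h h' ⊢
    linear_combination (norm := noncomm_ring) h - h'
  have E3 : ∀ b ∈ X, ∀ c ∈ X, ∀ d ∈ X, (r2 b - R b) * (r2 c - r1 c) * (r2 d - r3 d) = 0 := by
    intro b hb c hc d hd
    have h := E2 b hb c hc d hd
    have h' := congrArg (fun z => r3 d * z) (E2 b hb c hc 1 X.one_mem)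
    simp only [R, r1, r2, r3, map_one, mul_one] at h h' ⊢
    rw [mul_zero] at h'
    have i3 := fun a (ha : a ∈ X) => cm (σ (σ (σ d))) (hXinv _ (hXinv _ (hXinv _ hd))) a ha
    have k0 := i3 b hb
    have k2 := i3 (σ (σ b)) (hXinv _ (hXinv _ hb))
    have k3 := i3 (σ (σ (σ b))) (hXinv _ (hXinv _ (hXinv _ hb)))
    have l1 := i3 (σ c) (hXinv _ hc)
    have l2 := i3 (σ (σ c)) (hXinv _ (hXinv _ hc))
    have l3 := i3 (σ (σ (σ c))) (hXinv _ (hXinv _ (hXinv _ hc)))
    set Z := (ρ (σ (σ b)) - ρ b) * (ρ (σ (σ c)) - ρ (σ c)) * (ρ (σ (σ d)) - ρ (σ (σ (σ d)))) with hZ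
    have hfin : Z * (T * T) = 0 := by
      have c1 : Commute (ρ (σ (σ (σ d)))) ((ρ (σ (σ b)) - ρ b) * (ρ (σ (σ c)) - ρ (σ c))) :=
        (Commute.sub_right k2 k0).mul_right (Commute.sub_right l2 l1)
      have c2 : Commute (ρ (σ (σ (σ d)))) ((ρ (σ (σ (σ b))) - ρ b) * (ρ (σ (σ (σ c))) - ρ (σ c))) :=
        (Commute.sub_right k3 k0).mul_right (Commute.sub_right l3 l1)
      rw [mul_add, ← mul_assoc, c1.eq, ← mul_assoc _ _ (T * T * T), c2.eq] at h'
      rw [hZ]
      linear_combination (norm := noncomm_ring) h - h'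
    calc Z = Z * (T * T * (T * T)) := by rw [hT4, mul_one]
      _ = (Z * (T * T)) * (T * T) := by noncomm_ring
      _ = 0 := by rw [hfin, zero_mul]
  -- rewrite in terms of a single difference
  have E4 : ∀ b ∈ X, ∀ f ∈ X, ∀ g ∈ X, (r2 b - R b) * (r1 f - R f) * (r1 g - R g) = 0 := by
    intro b hb f hf g hg
    have hc : σ (σ (σ f)) ∈ X := hXinv _ (hXinv _ (hXinv _ hf))
    have hd : σ (σ g) ∈ X := hXinv _ (hXinv _ hg)
    have h := E3 b hb _ hc _ hd
    simp only [R, r1, r2, r3, hσ4] at h ⊢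
    have : (ρ (σ g) - ρ g) = -(ρ g - ρ (σ g)) := by abel
    rw [this, mul_neg, h, neg_zero]
  let D : K → AddMonoid.End V := fun a => r1 a - R a
  let W := r2 x - R x
  have hW : W = D (σ x) + D x := by simp only [W, D, R, r1, r2]; abel
  have hW3 : W * W * W = 0 := by
    have h : ∀ f ∈ X, ∀ g ∈ X, W * D f * D g = 0 := E4 x hx
    have e : W * W * W = W * (D (σ x) + D x) * (D (σ x) + D x) := by rw [← hW]
    rw [e]
    simp only [mul_add, add_mul, h _ (hXinv _ hx) _ (hXinv _ hx), h _ (hXinv _ hx) _ hx,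
      h _ hx _ (hXinv _ hx), h _ hx _ hx, add_zero]
  let u := x⁻¹ * σ (σ x)
  have hu : u ∈ X := X.mul_mem (X.inv_mem hx) (hXinv _ (hXinv _ hx))
  have hWu : ρ u - 1 = ρ x⁻¹ * W := by
    simp only [W, R, r2, u, map_mul, mul_sub]
    rw [← map_mul ρ x⁻¹ x, inv_mul_cancel, map_one]
  have hcW : Commute (ρ x⁻¹) W :=
    Commute.sub_right (cm _ (X.inv_mem hx) _ (hXinv _ (hXinv _ hx))) (cm _ (X.inv_mem hx) _ hx)
  have hu3 : (ρ u - 1) ^ 3 = 0 := by
    rw [hWu, hcW.mul_pow, pow_succ W 2, pow_two, hW3, mul_zero]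
  haveI : Fact p.Prime := ⟨hp⟩
  haveI : Nontrivial (AddMonoid.End V) := by
    obtain ⟨v, hv⟩ := exists_ne (0 : V)
    exact ⟨⟨1, 0, fun h => hv (DFunLike.congr_fun h v)⟩⟩
  have hp0 : ((p : ℕ) : AddMonoid.End V) = 0 := by
    ext v; rw [AddMonoid.End.natCast_apply]; exact pV v
  haveI : CharP (AddMonoid.End V) p := (CharP.charP_iff_prime_eq_zero hp).mpr hp0
  have hup : (ρ u - 1) ^ (p ^ 2) = 0 := by
    refine pow_eq_zero_of_le ?_ hu3
    nlinarith [hp.two_le]
  rw [sub_pow_char_pow_of_commute (p := p) (n := 2) (h := Commute.one_right (ρ u)), one_pow, sub_eq_zero, ← map_pow,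
    ← map_one ρ] at hup
  have hd : orderOf u ∣ p ^ 2 := orderOf_dvd_of_pow_eq_one (hinj hup)
  have h1 : orderOf u = 1 :=
    Nat.eq_one_of_dvd_coprimes (((hp.coprime_iff_not_dvd.mpr (hXp u hu)).symm).pow_right 2) dvd_rfl hd
  have := orderOf_eq_one_iff.mp h1
  exact (inv_mul_eq_one.mp this).symm

/-- A finite solvable group acting faithfully and σ-irreducibly, with σ fixed-point-free of order
dividing four on group and module, is commutative. -/
theorem comm_of_irreducible {p : ℕ} (hp : p.Prime) [Finite V] [Nontrivial V] (pV : ∀ v : V, p • v = 0)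
    (ρ : K →* AddMonoid.End V) (hinj : Function.Injective ρ) (S : V ≃+ V)
    (hS4 : ∀ v, S (S (S (S v))) = v) (hSfpf : ∀ v, S v = v → v = 0)
    (σ : MulAut K) (hσ4 : ∀ g, σ (σ (σ (σ g))) = g) (hfpf : ∀ g : K, σ g = g → g = 1)
    (hcomp : ∀ g v, S (ρ g v) = ρ (σ g) (S v)) [Group.IsSolvable K]
    (hmin : ∀ W : AddSubgroup V, (∀ g : K, ∀ v ∈ W, ρ g v ∈ W) → (∀ v ∈ W, S v ∈ W) → W ≠ ⊥ → W = ⊤)
    (a b : K) : a * b = b * a := by
  classical
  haveI : Fact p.Prime := ⟨hp⟩
  -- no invariant normal p-subgroup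
  have hOp : ∀ Q : Subgroup K, Q.Normal → (∀ x ∈ Q, σ x ∈ Q) → IsPGroup p Q → Q = ⊥ := by
    intro Q hQn hQi hQp
    letI : MulAction Q V :=
      { smul := fun q v => ρ (q : K) v
        one_smul := fun v => by show ρ ((1 : Q) : K) v = v; simp
        mul_smul := fun q r v => by show ρ ((q * r : Q) : K) v = ρ (q : K) (ρ (r : K) v); simp }
    have hdiv : p ∣ Nat.card V := by
      obtain ⟨v, hv⟩ := exists_ne (0 : V)
      have hv' : addOrderOf v = p := addOrderOf_eq_prime (pV v) hv
      exact hv' ▸ addOrderOf_dvd_natCard v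
    have h0 : (0 : V) ∈ MulAction.fixedPoints Q V := fun q => map_zero (ρ (q : K))
    obtain ⟨w, hw, hw0⟩ := hQp.exists_fixed_point_of_prime_dvd_card_of_fixed_point V hdiv h0
    let W : AddSubgroup V :=
      { carrier := {v | ∀ q ∈ Q, ρ q v = v}
        add_mem' := fun {s t} hs ht q hq => by rw [map_add, hs q hq, ht q hq]
        zero_mem' := fun q _ => map_zero (ρ q)
        neg_mem' := fun {s} hs q hq => by rw [map_neg, hs q hq] }
    have hW : W = ⊤ := by
      refine hmin W ?_ ?_ ?_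
      · intro g v hv q hq
        have : q * g = g * (g⁻¹ * q * g) := by group
        calc ρ q (ρ g v) = ρ (q * g) v := by rw [map_mul]; rfl
          _ = ρ g (ρ (g⁻¹ * q * g) v) := by rw [this, map_mul]; rfl
          _ = ρ g v := by
            rw [hv _ (by simpa using hQn.conj_mem q hq g⁻¹)]
      · intro v hv q hq
        obtain ⟨q', hq', rfl⟩ : q ∈ Q.map σ.toMonoidHom := by rw [map_mem_of_le hQi]; exact hq
        show ρ (σ q') (S v) = S v
        rw [← hcomp, hv q' hq']
      · intro hbot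
        have : w ∈ (⊥ : AddSubgroup V) := hbot ▸ (fun q hq => hw ⟨q, hq⟩)
        exact hw0 (AddSubgroup.mem_bot.mp this).symm
    rw [Subgroup.eq_bot_iff_forall]
    intro q hq
    apply hinj
    rw [map_one]
    ext v
    have : v ∈ W := hW ▸ AddSubgroup.mem_top v
    exact this q hq
  -- nilpotent invariant normal subgroups have order prime to p
  have hnil : ∀ B : Subgroup K, B.Normal → (∀ x ∈ B, σ x ∈ B) → Group.IsNilpotent B → ∀ x ∈ B, ¬ p ∣ orderOf x := by
    intro B hBn hBi hBnil x hx hdiv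
    obtain ⟨P⟩ : Nonempty (Sylow p B) := inferInstance
    haveI hPn : (P : Subgroup B).Normal :=
      Sylow.normal_of_normalizerCondition normalizerCondition_of_isNilpotent P
    haveI := Sylow.unique_of_normal P hPn
    have hmemP : ∀ y : B, (∃ k, orderOf y = p ^ k) → y ∈ (P : Subgroup B) := by
      rintro y ⟨k, hk⟩
      have hz : IsPGroup p (Subgroup.zpowers y) :=
        IsPGroup.of_card (n := k) (by rw [Nat.card_zpowers, hk])
      obtain ⟨R, hR⟩ := hz.exists_le_sylow
      rw [Subsingleton.elim R P] at hR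
      exact hR (Subgroup.mem_zpowers y)
    let Q := (P : Subgroup B).map B.subtype
    have hQp : IsPGroup p Q := P.2.map _
    have hQmem : ∀ y : K, y ∈ B → (∃ k, orderOf y = p ^ k) → y ∈ Q := by
      intro y hy hk
      refine ⟨⟨y, hy⟩, hmemP _ ?_, rfl⟩
      simpa using hk
    have hQord : ∀ y ∈ Q, y ∈ B ∧ ∃ k, orderOf y = p ^ k := by
      rintro _ ⟨y, hy, rfl⟩
      refine ⟨y.2, ?_⟩
      obtain ⟨k, hk⟩ := IsPGroup.iff_orderOf.mp P.2 ⟨y, hy⟩
      exact ⟨k, by rw [← hk, Subgroup.orderOf_mk]; exact Subgroup.orderOf_coe y⟩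
    have hQ : Q = ⊥ := by
      refine hOp Q ⟨fun y hy g => ?_⟩ ?_ hQp
      · obtain ⟨hyB, k, hk⟩ := hQord y hy
        exact hQmem _ (hBn.conj_mem y hyB g)
          ⟨k, by rw [← hk]; exact orderOf_injective (MulAut.conj g).toMonoidHom (MulAut.conj g).injective y⟩
      · intro y hy
        obtain ⟨hyB, k, hk⟩ := hQord y hy
        exact hQmem _ (hBi y hyB) ⟨k, by rw [← hk]; exact orderOf_injective σ.toMonoidHom σ.injective y⟩
    have hy : x ^ (orderOf x / p) ∈ Q := by
      refine hQmem _ (B.pow_mem hx _) ⟨1, ?_⟩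
      rw [pow_one, orderOf_pow_orderOf_div (orderOf_pos x).ne' hdiv]
    rw [hQ, Subgroup.mem_bot] at hy
    have h' := orderOf_pow_orderOf_div (orderOf_pos x).ne' hdiv
    rw [hy, orderOf_one] at h'
    exact hp.one_lt.ne h'
  have habelNil : ∀ B : Subgroup K, (∀ x ∈ B, ∀ y ∈ B, x * y = y * x) → Group.IsNilpotent B := by
    intro B hB
    exact nilpotent_of_comm fun x y => Subtype.ext (hB x x.2 y y.2)
  -- a maximal abelian invariant normal subgroup
  let P : Subgroup K → Prop := fun A => A.Normal ∧ (∀ x ∈ A, σ x ∈ A) ∧ ∀ x ∈ A, ∀ y ∈ A, x * y = y * x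
  obtain ⟨A, ⟨hAn, hAi, hAc⟩, hAmax⟩ :=
    wellFounded_gt.has_min {A | P A} ⟨⊥, inferInstance, by simp, by simp⟩
  haveI := hAn
  have hAfix : ∀ z ∈ A, σ (σ z) = z := fun z hz =>
    sq_fixed_of_comm hp pV ρ hinj S hS4 hSfpf σ hσ4 hcomp A hAc hAi
      (hnil A hAn hAi (habelNil A hAc)) z hz
  have htriv : ∀ z : K, σ (σ z) = z⁻¹ → σ (σ z) = z → z = 1 := fun z h1 h2 => by
    apply hfpf
    rw [inverted_of_sq_fixed σ hfpf z h2, ← h1, h2]
  let C := Subgroup.centralizer (A : Set K)
  have hCn : C.Normal := by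
    refine ⟨fun c hc g => ?_⟩
    rw [Subgroup.mem_centralizer_iff] at hc ⊢
    intro z hz
    have h' := hc _ (by simpa using hAn.conj_mem z hz g⁻¹)
    calc z * (g * c * g⁻¹) = g * ((g⁻¹ * z * g) * c) * g⁻¹ := by group
      _ = g * (c * (g⁻¹ * z * g)) * g⁻¹ := by rw [h']
      _ = g * c * g⁻¹ * z := by group
  have hCi : ∀ x ∈ C, σ x ∈ C := by
    intro c hc
    rw [Subgroup.mem_centralizer_iff] at hc ⊢
    intro z hz
    obtain ⟨z', hz', rfl⟩ : z ∈ A.map σ.toMonoidHom := by rw [map_mem_of_le hAi]; exact hz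
    show σ z' * σ c = σ c * σ z'
    rw [← map_mul, ← map_mul, hc z' hz']
  have hAC : A ≤ C := fun z hz => Subgroup.mem_centralizer_iff.mpr fun y hy => hAc y hy z hz
  have hCA : C = A := by
    by_contra hne
    let P' : Subgroup K → Prop := fun B => B.Normal ∧ (∀ x ∈ B, σ x ∈ B) ∧ A < B ∧ B ≤ C
    obtain ⟨B, ⟨hBn, hBi, hAB, hBC⟩, hBmin⟩ :=
      wellFounded_lt.has_min {B | P' B} ⟨C, hCn, hCi, lt_of_le_of_ne hAC (Ne.symm hne), le_rfl⟩
    haveI := hBn
    haveI := hAn
    let B' := ⁅B, B⁆ ⊔ A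
    have hB'le : B' ≤ B := sup_le (Subgroup.commutator_le_right B B) hAB.le
    have hB'i : ∀ x ∈ B', σ x ∈ B' := by
      intro x hx
      have : B'.map σ.toMonoidHom = B' := by
        rw [Subgroup.map_sup, Subgroup.map_commutator, map_mem_of_le hBi, map_mem_of_le hAi]
      exact this ▸ Subgroup.mem_map_of_mem σ.toMonoidHom hx
    have hB'A : ⁅B, B⁆ ≤ A := by
      by_contra hc
      have hlt : A < B' := lt_of_le_of_ne le_sup_right fun h => hc (h ▸ le_sup_left)
      have hB'eq : B' = B := by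
        by_contra h
        exact hBmin B' ⟨inferInstance, hB'i, hlt, hB'le.trans hBC⟩ (lt_of_le_of_ne hB'le h)
      have hq : ⁅B.map (QuotientGroup.mk' A), B.map (QuotientGroup.mk' A)⁆ = B.map (QuotientGroup.mk' A) := by
        conv_rhs => rw [← hB'eq]
        rw [Subgroup.map_sup, Subgroup.map_commutator, (Subgroup.map_eq_bot_iff A).mpr (by simp), sup_bot_eq]
      have hne' : B.map (QuotientGroup.mk' A) ≠ ⊥ := fun h => by
        rw [Subgroup.map_eq_bot_iff, QuotientGroup.ker_mk'] at h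
        exact absurd (le_antisymm h hAB.le) hAB.ne'
      exact (Group.IsSolvable.commutator_lt_of_ne_bot hne').ne hq
    have hcomm : ∀ x ∈ B, ∀ y ∈ B, ∃ c ∈ A, x * y = c * (y * x) := fun x hx y hy =>
      ⟨⁅x, y⁆, hB'A (Subgroup.commutator_mem_commutator hx hy), by rw [commutatorElement_def]; group⟩
    have hBnil : Group.IsNilpotent B := by
      haveI : Group.IsNilpotent ((QuotientGroup.mk' A).comp B.subtype).range := by
        apply nilpotent_of_comm
        rintro ⟨_, x, rfl⟩ ⟨_, y, rfl⟩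
        obtain ⟨c, hc, he⟩ := hcomm x x.2 y y.2
        apply Subtype.ext
        show QuotientGroup.mk' A x * QuotientGroup.mk' A y = QuotientGroup.mk' A y * QuotientGroup.mk' A x
        rw [← map_mul, ← map_mul, he, map_mul]
        simp [(QuotientGroup.eq_one_iff c).mpr hc]
      apply Subgroup.isNilpotent_of_ker_le_center ((QuotientGroup.mk' A).comp B.subtype).rangeRestrict
      intro z hz
      rw [MonoidHom.ker_rangeRestrict, MonoidHom.mem_ker, MonoidHom.comp_apply,
        QuotientGroup.mk'_apply, QuotientGroup.eq_one_iff] at hz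
      rw [Subgroup.mem_center_iff]
      intro g
      exact Subtype.ext ((Subgroup.mem_centralizer_iff.mp (hBC g.2)) z hz).symm
    have hBp := hnil B hBn hBi hBnil
    have hBfix : ∀ x ∈ B, σ (σ x) = x := by
      intro x hx
      let z := x⁻¹ * σ (σ x)
      have hz : z ∈ B := B.mul_mem (B.inv_mem hx) (hBi _ (hBi _ hx))
      have hzinv : σ (σ z) = z⁻¹ := by simp [z, hσ4]
      let y := σ z
      have hy : y ∈ B := hBi _ hz
      obtain ⟨c, hcA, hc⟩ := hcomm z hz y hy
      have hcz : z * c = c * z := ((Subgroup.mem_centralizer_iff.mp (hBC hz)) c hcA).symm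
      have hcy : y * c = c * y := ((Subgroup.mem_centralizer_iff.mp (hBC hy)) c hcA).symm
      have hσc : σ c = c := by
        have h1 : y * z⁻¹ = σ c * (z⁻¹ * y) := by
          have e : σ (z * y) = σ (c * (y * z)) := congrArg σ hc
          have e1 : σ (z * y) = y * z⁻¹ := by
            rw [map_mul σ z y]; exact congrArg (fun t => σ z * t) hzinv
          have e2 : σ (c * (y * z)) = σ c * (z⁻¹ * y) := by
            rw [map_mul σ c (y * z), map_mul σ y z]
            exact congrArg (fun t => σ c * (t * σ z)) hzinv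
          rw [← e1, ← e2, e]
        have h2 : y * z⁻¹ = c * (z⁻¹ * y) := by
          calc y * z⁻¹ = z⁻¹ * (z * y) * z⁻¹ := by group
            _ = z⁻¹ * (c * (y * z)) * z⁻¹ := by rw [hc]
            _ = z⁻¹ * c * y := by group
            _ = c * (z⁻¹ * y) := by
              have : z⁻¹ * c = c * z⁻¹ := by
                rw [inv_mul_eq_iff_eq_mul, ← mul_assoc, hcz]; group
              rw [this, mul_assoc]
        exact mul_right_cancel (h1.symm.trans h2)
      have hzy : z * y = y * z := by rw [hc, hfpf c hσc, one_mul]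
      let X := Subgroup.closure ({z, y} : Set K)
      have hXc : ∀ s ∈ X, ∀ t ∈ X, s * t = t * s := by
        have hcm : IsMulCommutative X := by
          refine Subgroup.isMulCommutative_closure ?_
          rintro s (rfl | rfl) t (rfl | rfl) <;> simp [hzy]
        exact fun s hs t ht => congrArg Subtype.val (hcm.is_comm.comm ⟨s, hs⟩ ⟨t, ht⟩)
      have hXi : ∀ s ∈ X, σ s ∈ X := by
        intro s hs
        have hle : X ≤ X.comap σ.toMonoidHom := by
          rw [Subgroup.closure_le]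
          rintro t (rfl | rfl)
          · exact Subgroup.subset_closure (by simp [y])
          · show σ y ∈ X
            show σ (σ z) ∈ X
            rw [hzinv]
            exact X.inv_mem (Subgroup.subset_closure (by simp))
        exact hle hs
      have hXB : X ≤ B := (Subgroup.closure_le B).mpr (by rintro t (rfl | rfl) <;> assumption)
      have hzfix := sq_fixed_of_comm hp pV ρ hinj S hS4 hSfpf σ hσ4 hcomp X hXc hXi
        (fun s hs => hBp s (hXB hs)) z (Subgroup.subset_closure (by simp))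
      exact (inv_mul_eq_one.mp (htriv z hzinv hzfix)).symm
    have hBab : ∀ x ∈ B, ∀ y ∈ B, x * y = y * x := by
      intro x hx y hy
      have i := fun w hw => inverted_of_sq_fixed σ hfpf w (hBfix w hw)
      have h := i (x * y) (B.mul_mem hx hy)
      rw [map_mul, i x hx, i y hy, ← mul_inv_rev, inv_inj] at h
      exact h.symm
    exact hAmax B ⟨hBn, hBi, hBab⟩ hAB
  have hall : ∀ g : K, σ (σ g) = g := by
    intro g
    let z := g⁻¹ * σ (σ g)
    have hzC : z ∈ C := by
      rw [Subgroup.mem_centralizer_iff]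
      intro w hw
      have h1 : σ (σ (g * w * g⁻¹)) = g * w * g⁻¹ := hAfix _ (hAn.conj_mem w hw g)
      rw [map_mul, map_mul, map_mul, map_mul, map_inv, map_inv, hAfix w hw] at h1
      show w * (g⁻¹ * σ (σ g)) = g⁻¹ * σ (σ g) * w
      calc w * (g⁻¹ * σ (σ g)) = g⁻¹ * (g * w * g⁻¹) * σ (σ g) := by group
        _ = g⁻¹ * σ (σ g) * w := by rw [← h1]; group
    have hzA : z ∈ A := hCA ▸ hzC
    have hzinv : σ (σ z) = z⁻¹ := by simp [z, hσ4]
    exact (inv_mul_eq_one.mp (htriv z hzinv (hAfix z hzA))).symm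
  have i := fun w => inverted_of_sq_fixed σ hfpf w (hall w)
  have h := i (a * b)
  rw [map_mul, i a, i b, ← mul_inv_rev, inv_inj] at h
  exact h.symm

end Cfsg.Agent.FpfFour
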