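import Mathlib

/-! The embedding of `GL(4,2)` in the alternating group of degree eight, through the eight maximal
families of pairwise non-orthogonal non-degenerate alternating forms on `F₂⁴`. -/

set_option autoImplicit false

namespace Cfsg.Agent.Recog.GL42

open Matrix

abbrev M4 := Matrix (Fin 4) (Fin 4) (ZMod 2)

def pairTab : List (List (ZMod 2)) :=
  [
  [0, 0, 0, 0, 0, 0], [0, 0, 1, 1, 0, 0], [0, 1, 0, 1, 1, 0], [0, 1, 1, 0, 1, 1],
  [1, 0, 0, 1, 1, 1], [1, 0, 1, 0, 0, 1], [1, 1, 0, 1, 0, 1], [1, 1, 1, 0, 1, 0],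
  [0, 0, 1, 1, 0, 0], [0, 0, 0, 0, 0, 0], [0, 1, 1, 0, 1, 0], [0, 1, 0, 1, 1, 1],
  [1, 0, 1, 0, 1, 1], [1, 0, 0, 1, 0, 1], [1, 1, 1, 0, 0, 1], [1, 1, 0, 1, 1, 0],
  [0, 1, 0, 1, 1, 0], [0, 1, 1, 0, 1, 0], [0, 0, 0, 0, 0, 0], [0, 0, 1, 1, 0, 1],
  [1, 1, 0, 0, 0, 1], [1, 1, 1, 1, 1, 1], [1, 0, 0, 0, 1, 1], [1, 0, 1, 1, 0, 0],
  [0, 1, 1, 0, 1, 1], [0, 1, 0, 1, 1, 1], [0, 0, 1, 1, 0, 1], [0, 0, 0, 0, 0, 0],
  [1, 1, 1, 1, 0, 0], [1, 1, 0, 0, 1, 0], [1, 0, 1, 1, 1, 0], [1, 0, 0, 0, 0, 1],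
  [1, 0, 0, 1, 1, 1], [1, 0, 1, 0, 1, 1], [1, 1, 0, 0, 0, 1], [1, 1, 1, 1, 0, 0],
  [0, 0, 0, 0, 0, 0], [0, 0, 1, 1, 1, 0], [0, 1, 0, 0, 1, 0], [0, 1, 1, 1, 0, 1],
  [1, 0, 1, 0, 0, 1], [1, 0, 0, 1, 0, 1], [1, 1, 1, 1, 1, 1], [1, 1, 0, 0, 1, 0],
  [0, 0, 1, 1, 1, 0], [0, 0, 0, 0, 0, 0], [0, 1, 1, 1, 0, 0], [0, 1, 0, 0, 1, 1],
  [1, 1, 0, 1, 0, 1], [1, 1, 1, 0, 0, 1], [1, 0, 0, 0, 1, 1], [1, 0, 1, 1, 1, 0],
  [0, 1, 0, 0, 1, 0], [0, 1, 1, 1, 0, 0], [0, 0, 0, 0, 0, 0], [0, 0, 1, 1, 1, 1],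
  [1, 1, 1, 0, 1, 0], [1, 1, 0, 1, 1, 0], [1, 0, 1, 1, 0, 0], [1, 0, 0, 0, 0, 1],
  [0, 1, 1, 1, 0, 1], [0, 1, 0, 0, 1, 1], [0, 0, 1, 1, 1, 1], [0, 0, 0, 0, 0, 0]]

def sigTab : List (List (Fin 8)) :=
  [[0, 1, 2, 3, 4, 5, 6, 7],
  [5, 6, 4, 7, 2, 0, 1, 3],
  [7, 2, 1, 5, 6, 3, 4, 0],
  [1, 0, 7, 4, 3, 6, 5, 2],
  [4, 5, 6, 7, 0, 1, 2, 3],
  [0, 1, 2, 3, 4, 5, 6, 7],
  [1, 0, 7, 6, 5, 4, 3, 2],
  [2, 7, 0, 5, 6, 3, 4, 1],
  [2, 3, 0, 1, 6, 7, 4, 5],
  [1, 0, 3, 2, 7, 6, 5, 4],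
  [0, 1, 2, 3, 4, 5, 6, 7],
  [6, 5, 4, 7, 2, 1, 0, 3],
  [1, 0, 3, 2, 5, 4, 7, 6],
  [3, 2, 1, 0, 6, 7, 4, 5],
  [5, 4, 6, 7, 1, 0, 2, 3],
  [0, 1, 2, 3, 4, 5, 6, 7]]

/-- The form attached to a pair of objects. -/
def frm (k l : Fin 8) : M4 :=
  let v := pairTab.getD (8 * k.val + l.val) []
  fun i j => if i = j then 0 else v.getD (match i.val + j.val, min i.val j.val with
    | 1, _ => 0 | 2, _ => 1 | 3, 0 => 2 | 3, _ => 3 | 4, _ => 4 | _, _ => 5) 0

def Rel (M : M4) (σ : Equiv.Perm (Fin 8)) : Prop := ∀ k l, k ≠ l → M * frm k l * Mᵀ = frm (σ k) (σ l)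

theorem frm_inj : ∀ k l k' l', k ≠ l → k' ≠ l' → frm k l = frm k' l' → (k = k' ∧ l = l') ∨ (k = l' ∧ l = k') := by
  decide +kernel

theorem rel_unique {M : M4} {σ τ : Equiv.Perm (Fin 8)} (hσ : Rel M σ) (hτ : Rel M τ) : σ = τ := by
  refine Equiv.ext fun k => ?_
  obtain ⟨l, m, hl, hm, hlm⟩ : ∃ l m : Fin 8, k ≠ l ∧ k ≠ m ∧ l ≠ m := ⟨k + 1, k + 2, by
    revert k; decide⟩
  have h1 := frm_inj _ _ _ _ (σ.injective.ne hl) (τ.injective.ne hl) ((hσ k l hl).symm.trans (hτ k l hl))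
  have h2 := frm_inj _ _ _ _ (σ.injective.ne hm) (τ.injective.ne hm) ((hσ k m hm).symm.trans (hτ k m hm))
  rcases h1 with h1 | h1
  · exact h1.1
  · rcases h2 with h2 | h2
    · exact h2.1
    · exact absurd (σ.injective (h1.2.trans h2.2.symm)) hlm

theorem rel_mul {M N : M4} {σ τ : Equiv.Perm (Fin 8)} (hσ : Rel M σ) (hτ : Rel N τ) : Rel (M * N) (σ * τ) := by
  intro k l hkl
  rw [transpose_mul, show M * N * frm k l * (Nᵀ * Mᵀ) = M * (N * frm k l * Nᵀ) * Mᵀ by simp only [Matrix.mul_assoc],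
    hτ k l hkl, hσ _ _ (τ.injective.ne hkl)]
  rfl

theorem rel_one : Rel 1 1 := fun k l _ => by simp

def sigF (i j : Fin 4) : Fin 8 → Fin 8 := fun k => (sigTab.getD (4 * i.val + j.val) []).getD k.val 0

theorem sig_ok : ∀ i j, i ≠ j → Function.Bijective (sigF i j) ∧
    ∀ k l, k ≠ l → transvection i j 1 * frm k l * (transvection i j 1)ᵀ = frm (sigF i j k) (sigF i j l) := by
  decide +kernel

/-- The even permutations as a table. -/
noncomputable def sigP (i j : Fin 4) (h : i ≠ j) : Equiv.Perm (Fin 8) := Equiv.ofBijective _ (sig_ok i j h).1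

theorem exists_rel : ∀ M : M4, M.det ≠ 0 → ∃ σ, Rel M σ := by
  intro M hM
  refine Matrix.diagonal_transvection_induction_of_det_ne_zero (fun M => ∃ σ, Rel M σ) M hM (fun D hD => ⟨1, ?_⟩) (fun t => ?_)
    (fun A B _ _ ⟨σ, hσ⟩ ⟨τ, hτ⟩ => ⟨σ * τ, rel_mul hσ hτ⟩)
  · have hD1 : D = 1 := funext fun i => by
      have hi : D i ≠ 0 := fun h => hD (by rw [det_diagonal]; exact Finset.prod_eq_zero (Finset.mem_univ i) h)
      show D i = 1
      generalize D i = x at hi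
      revert x; decide
    rw [hD1, show Matrix.diagonal (1 : Fin 4 → ZMod 2) = 1 from Matrix.diagonal_one]
    exact rel_one
  · obtain ⟨i, j, hij, c⟩ := t
    show ∃ σ, Rel (transvection i j c) σ
    have hc : c = 0 ∨ c = 1 := by revert c; decide
    rcases hc with rfl | rfl
    · exact ⟨1, by rw [transvection_zero]; exact rel_one⟩
    · exact ⟨sigP i j hij, (sig_ok i j hij).2⟩

noncomputable def hom : GL (Fin 4) (ZMod 2) →* Equiv.Perm (Fin 8) where
  toFun g := (exists_rel g.val (Matrix.GeneralLinearGroup.det_ne_zero g)).choose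
  map_one' := rel_unique (exists_rel (1 : GL (Fin 4) (ZMod 2)).val (Matrix.GeneralLinearGroup.det_ne_zero _)).choose_spec rel_one
  map_mul' g h := rel_unique (exists_rel (g * h).val (Matrix.GeneralLinearGroup.det_ne_zero _)).choose_spec
    (rel_mul (exists_rel g.val (Matrix.GeneralLinearGroup.det_ne_zero g)).choose_spec
      (exists_rel h.val (Matrix.GeneralLinearGroup.det_ne_zero h)).choose_spec)

theorem hom_rel (g : GL (Fin 4) (ZMod 2)) : Rel g.val (hom g) :=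
  (exists_rel g.val (Matrix.GeneralLinearGroup.det_ne_zero g)).choose_spec

/-- Wedge of two vectors, as a form. -/
def wedge (x y : Fin 4 → ZMod 2) : M4 := fun i j => x i * y j + x j * y i

def supportChk (i j : Fin 4) (x : Fin 4 → ZMod 2) : Bool :=
  decide (∀ y : Fin 4 → ZMod 2, wedge x y = wedge (Pi.single i 1) (Pi.single j 1) → ∀ k, k ≠ i → k ≠ j → x k = 0)

theorem supportChk_ok : ∀ i j : Fin 4, ∀ x : Fin 4 → ZMod 2, (decide (i = j) || supportChk i j x) = true := by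
  decide +kernel

theorem wedge_support (i j : Fin 4) (hij : i ≠ j) (x y : Fin 4 → ZMod 2)
    (h : wedge x y = wedge (Pi.single i 1) (Pi.single j 1)) (k : Fin 4) (hki : k ≠ i) (hkj : k ≠ j) : x k = 0 := by
  have := supportChk_ok i j x
  simp only [hij, decide_false, Bool.false_or, supportChk, decide_eq_true_eq] at this
  exact this y h k hki hkj

theorem span_frm : ∀ i j : Fin 4, i ≠ j → ∃ k l m n : Fin 8, (k ≠ l ∧ m ≠ n) ∧
    wedge (Pi.single i 1) (Pi.single j 1) = frm k l + frm m n := by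
  decide +kernel

theorem hom_injective : Function.Injective hom := by
  rw [injective_iff_map_eq_one]
  intro g hg
  have hfix : ∀ k l, k ≠ l → g.val * frm k l * g.valᵀ = frm k l := fun k l h => by
    have := hom_rel g k l h
    rwa [hg] at this
  have hw : ∀ i j : Fin 4, i ≠ j →
      wedge (fun a => g.val a i) (fun a => g.val a j) = wedge (Pi.single i 1) (Pi.single j 1) := by
    intro i j hij
    obtain ⟨k, l, m, n, ⟨h1, h2⟩, h⟩ := span_frm i j hij
    have e : wedge (fun a => g.val a i) (fun a => g.val a j) = g.val * wedge (Pi.single i 1) (Pi.single j 1) * g.valᵀ := by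
      ext a b
      simp [wedge, Matrix.mul_apply, mul_add, add_mul, Finset.sum_add_distrib, Pi.single_apply]
      ring
    rw [e]
    rw [h]; simp only [Matrix.mul_add, Matrix.add_mul, hfix _ _ h1, hfix _ _ h2]
  refine Units.ext (Matrix.ext fun a i => ?_)
  have hz : ∀ a, a ≠ i → g.val a i = 0 := by
    intro a ha
    obtain ⟨j, hji, hja⟩ : ∃ j : Fin 4, j ≠ i ∧ j ≠ a := by revert a i; decide
    exact wedge_support i j hji.symm _ _ (hw i j hji.symm) a ha hja.symm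
  by_cases ha : a = i
  · subst ha
    have hne : g.val a a ≠ 0 := fun h => Matrix.GeneralLinearGroup.det_ne_zero g
      (Matrix.det_eq_zero_of_column_eq_zero a fun b => by
        by_cases hb : b = a
        · rw [hb, h]
        · exact hz b hb)
    rw [Units.val_one, Matrix.one_apply_eq]
    generalize g.val a a = x at hne
    revert x; decide
  · rw [Units.val_one, Matrix.one_apply_ne ha, hz a ha]

theorem sign_hom (g : GL (Fin 4) (ZMod 2)) : Equiv.Perm.sign (hom g) = 1 := by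
  suffices ∀ M : M4, M.det ≠ 0 → ∃ σ, Rel M σ ∧ Equiv.Perm.sign σ = 1 by
    obtain ⟨σ, h1, h2⟩ := this g.val (Matrix.GeneralLinearGroup.det_ne_zero g)
    rwa [rel_unique (hom_rel g) h1]
  intro M hM
  refine Matrix.diagonal_transvection_induction_of_det_ne_zero (fun M => ∃ σ, Rel M σ ∧ Equiv.Perm.sign σ = 1) M hM (fun D hD => ⟨1, ?_, map_one _⟩) (fun t => ?_)
    (fun A B _ _ ⟨σ, hσ, s1⟩ ⟨τ, hτ, s2⟩ => ⟨σ * τ, rel_mul hσ hτ, by rw [map_mul, s1, s2, one_mul]⟩)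
  · have hD1 : D = 1 := funext fun i => by
      have hi : D i ≠ 0 := fun h => hD (by rw [det_diagonal]; exact Finset.prod_eq_zero (Finset.mem_univ i) h)
      show D i = 1
      generalize D i = x at hi
      revert x; decide
    rw [hD1, show Matrix.diagonal (1 : Fin 4 → ZMod 2) = 1 from Matrix.diagonal_one]
    exact rel_one
  · obtain ⟨i, j, hij, c⟩ := t
    show ∃ σ, Rel (transvection i j c) σ ∧ _
    have hc : c = 0 ∨ c = 1 := by revert c; decide
    rcases hc with rfl | rfl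
    · exact ⟨1, by rw [transvection_zero]; exact rel_one, map_one _⟩
    · refine ⟨sigP i j hij, (sig_ok i j hij).2, ?_⟩
      obtain ⟨k, hki, hkj⟩ : ∃ k : Fin 4, k ≠ i ∧ k ≠ j := by revert i j; decide
      have hT : ∀ i k j : Fin 4, k ≠ i → k ≠ j → i ≠ j → transvection i k (1 : ZMod 2) * transvection k j 1 *
          (transvection i k 1 * transvection k j 1) = transvection i j 1 := by decide +kernel
      have h : Rel (transvection i j 1) (sigP i k hki.symm * sigP k j hkj * (sigP i k hki.symm * sigP k j hkj)) := by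
        rw [← hT i k j hki hkj hij]
        exact rel_mul (rel_mul (sig_ok i k hki.symm).2 (sig_ok k j hkj).2) (rel_mul (sig_ok i k hki.symm).2 (sig_ok k j hkj).2)
      rw [rel_unique (σ := sigP i j hij) (sig_ok i j hij).2 h, map_mul]
      exact Int.units_mul_self _

/-- `GL(4,2)` embeds in the alternating group of degree eight. -/
noncomputable def homAlt : GL (Fin 4) (ZMod 2) →* alternatingGroup (Fin 8) :=
  hom.codRestrict _ fun g => Equiv.Perm.mem_alternatingGroup.mpr (sign_hom g)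

theorem homAlt_injective : Function.Injective homAlt := fun _ _ h => hom_injective (congrArg Subtype.val h)

end Cfsg.Agent.Recog.GL42
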