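import Mathlib
import Cfsg.Agent.Lib.Invol.Critical
import Cfsg.Agent.S0144

/-!
# Automorphisms of 2-groups with at most three involutions

The automorphism group is solvable: one reduces to a group of class two in which the square
map on the central quotient is a pair of quadratic forms without common zero.
-/

set_option autoImplicit false

namespace Cfsg.Agent.Recog.ThreeInv

theorem solvable_of_small {G : Type*} [Group G] [Finite G] (h : Nat.card G ≤ 25) :
    Group.IsSolvable G := by
  have key : ∀ n ∈ Finset.Icc 1 25, ∃ p ∈ [2, 3, 5, 7, 11, 13, 17, 19, 23], ∃ q ∈ [2, 3, 5, 7, 11],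
      ∃ a < 5, ∃ b < 3, n = p ^ a * q ^ b := by decide +kernel
  obtain ⟨p, hp, q, hq, a, -, b, -, he⟩ := key (Nat.card G) (Finset.mem_Icc.mpr ⟨Nat.card_pos, h⟩)
  refine Cfsg.Agent.S0144.result p q a b ?_ ?_ he
  · fin_cases hp <;> norm_num
  · fin_cases hq <;> norm_num

/-- `MulAut` of a group of order at most four. -/
theorem aut_solvable_small {W : Type*} [Group W] [Finite W] (h : Nat.card W ≤ 4) :
    Group.IsSolvable (MulAut W) := by
  have hi : Function.Injective (MulAut.toPerm W) := fun a b hab => MulEquiv.toEquiv_injective hab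
  refine solvable_of_small ((Nat.card_le_card_of_injective _ hi).trans ?_)
  rw [Nat.card_perm]
  exact (Nat.factorial_le h).trans (by decide)

/-- Automorphisms trivial on a normal abelian subgroup and on the quotient commute. -/
theorem comm_of_stabilise {G : Type*} [Group G] (W : Subgroup G) (hW : ∀ a ∈ W, ∀ b ∈ W, a * b = b * a)
    (A : Subgroup (MulAut G)) (h1 : ∀ a ∈ A, ∀ w ∈ W, a w = w) (h2 : ∀ a ∈ A, ∀ g, g⁻¹ * a g ∈ W) :
    ∀ a ∈ A, ∀ b ∈ A, a * b = b * a := by
  intro a ha b hb
  refine MulEquiv.ext fun g => ?_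
  show a (b g) = b (a g)
  have e1 : a (b g) = a g * (g⁻¹ * b g) := by
    conv_lhs => rw [show b g = g * (g⁻¹ * b g) by group]
    rw [map_mul, h1 a ha _ (h2 b hb g)]
  have e2 : b (a g) = b g * (g⁻¹ * a g) := by
    conv_lhs => rw [show a g = g * (g⁻¹ * a g) by group]
    rw [map_mul, h1 b hb _ (h2 a ha g)]
  rw [e1, e2]
  calc a g * (g⁻¹ * b g) = g * ((g⁻¹ * a g) * (g⁻¹ * b g)) := by group
    _ = g * ((g⁻¹ * b g) * (g⁻¹ * a g)) := by rw [hW _ (h2 a ha g) _ (h2 b hb g)]
    _ = b g * (g⁻¹ * a g) := by group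

/-- Solvability from image and kernel. -/
theorem solvable_of_hom {A B : Type*} [Group A] [Group B] (f : A →* B) (hB : Group.IsSolvable f.range)
    (hk : Group.IsSolvable f.ker) : Group.IsSolvable A := by
  haveI := hB
  haveI := hk
  exact solvable_of_ker_le_range f.ker.subtype f.rangeRestrict (by
    rw [MonoidHom.ker_rangeRestrict, Subgroup.range_subtype])

/-- An invariant subgroup with small pieces. -/
theorem solvable_of_invariant {V : Type*} [CommGroup V] [Finite V] (A : Subgroup (MulAut V)) (W : Subgroup V)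
    (hW : ∀ a ∈ A, ∀ w ∈ W, a w ∈ W) (h1 : Nat.card W ≤ 4) (h2 : W.index ≤ 4) : Group.IsSolvable A := by
  have hmap : ∀ a ∈ A, W.map (MulEquiv.toMonoidHom a) = W := by
    intro a ha
    refine le_antisymm (by rintro _ ⟨w, hw, rfl⟩; exact hW a ha w hw) fun w hw => ⟨a⁻¹ w, hW _ (inv_mem ha) w hw, ?_⟩
    show a (a⁻¹ w) = w
    exact MulEquiv.apply_symm_apply a w
  let f1 : A →* MulAut W :=
    { toFun := fun a => (a.1.subgroupMap W).trans (MulEquiv.subgroupCongr (hmap a a.2))
      map_one' := by ext w; rfl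
      map_mul' := fun a b => by ext w; rfl }
  let f2 : A →* MulAut (V ⧸ W) :=
    { toFun := fun a => QuotientGroup.congr W W a.1 (hmap a a.2)
      map_one' := by
        ext x
        induction x using QuotientGroup.induction_on
        rfl
      map_mul' := fun a b => by
        ext x
        induction x using QuotientGroup.induction_on
        rfl }
  haveI := aut_solvable_small (W := W) h1
  haveI := aut_solvable_small (W := V ⧸ W) (by rw [← Subgroup.index_eq_card]; exact h2)
  refine solvable_of_hom (f1.prod f2) inferInstance ?_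
  refine Group.isSolvable_of_comm fun a b => Subtype.ext (Subtype.ext ?_)
  have hk : ∀ c : (f1.prod f2).ker, (∀ w ∈ W, c.1.1 w = w) ∧ ∀ g, g⁻¹ * c.1.1 g ∈ W := by
    intro c
    have hc := MonoidHom.mem_ker.mp c.2
    rw [MonoidHom.prod_apply, Prod.mk_eq_one] at hc
    refine ⟨fun w hw => by
      have := DFunLike.congr_fun hc.1 (⟨w, hw⟩ : W)
      exact congrArg Subtype.val this, fun g => ?_⟩
    have := DFunLike.congr_fun hc.2 (g : V ⧸ W)
    exact QuotientGroup.eq.mp this.symm
  exact comm_of_stabilise W (fun x _ y _ => mul_comm x y) ((f1.prod f2).ker.map A.subtype)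
    (by rintro _ ⟨c, hc, rfl⟩; exact (hk ⟨c, hc⟩).1) (by rintro _ ⟨c, hc, rfl⟩; exact (hk ⟨c, hc⟩).2)
    _ ⟨a.1, a.2, rfl⟩ _ ⟨b.1, b.2, rfl⟩

theorem exists_not_mem_small {V : Type*} [Group V] [Finite V] (K : Subgroup V) (T : Finset V)
    (h : T.card < Nat.card K) : ∃ y ∈ K, y ∉ T := by
  by_contra hcon
  push Not at hcon
  have : Nat.card K ≤ T.card := by
    rw [← Nat.card_eq_finsetCard]
    exact Nat.card_le_card_of_injective (fun k : K => (⟨k.1, hcon k k.2⟩ : T)) fun a b hab =>
      Subtype.ext (Subtype.mk.inj hab)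
  omega

section Alternating

variable {V N : Type*} [CommGroup V] [Finite V] [CommGroup N] [Finite N] (f : V →* V →* N)

/-- The radical. -/
def rad : Subgroup V := f.ker

theorem mem_rad {v : V} : v ∈ rad f ↔ ∀ w, f v w = 1 := by
  simp [rad, MonoidHom.mem_ker, MonoidHom.ext_iff]

theorem sym_of_alt (hV : ∀ v : V, v * v = 1) (halt : ∀ v, f v v = 1) (a b : V) : f a b = f b a := by
  have h := halt (a * b)
  simp only [map_mul, MonoidHom.mul_apply, halt, one_mul, mul_one] at h
  have h2 : f a b * f a b = 1 := by rw [← map_mul, hV, map_one]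
  rw [eq_comm, ← mul_right_inj (f a b), h2, mul_comm]
  exact h

theorem step (hV : ∀ v : V, v * v = 1) (hN : Nat.card N = 2) (halt : ∀ v, f v v = 1) (W : Subgroup V)
    {a b : V} (ha : a ∈ W) (hb : b ∈ W) (hab : f a b ≠ 1) :
    Nat.card W = 4 * Nat.card (W ⊓ (f a).ker ⊓ (f b).ker : Subgroup V) ∧
      ∀ e ∈ W ⊓ (f a).ker ⊓ (f b).ker, (∀ w ∈ W ⊓ (f a).ker ⊓ (f b).ker, f e w = 1) → ∀ w ∈ W, f e w = 1 := by
  classical
  have hsym := sym_of_alt f hV halt
  have htwo : ∀ x : N, x = 1 ∨ x = f a b := by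
    intro x
    by_contra hx
    push Not at hx
    have h3 := exists_not_mem_small (⊤ : Subgroup N) ∅ (by simp)
    haveI := Fintype.ofFinite N
    have : ({1, f a b, x} : Finset N).card ≤ 2 := by
      rw [← hN, Nat.card_eq_fintype_card]; exact Finset.card_le_univ _
    rw [Finset.card_insert_of_notMem (by simp [hab.symm, Ne.symm hx.1]), Finset.card_pair (Ne.symm hx.2)] at this
    omega
  have hadj : ∀ w ∈ W, ∃ i j : Bool, w * (cond i a 1) * (cond j b 1) ∈ W ⊓ (f a).ker ⊓ (f b).ker := by
    intro w hw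
    have hba : f b a = f a b := hsym b a
    have hsq : f a b * f a b = 1 := by rw [← map_mul, hV, map_one]
    rcases htwo (f a w) with h1 | h1 <;> rcases htwo (f b w) with h2 | h2
    · exact ⟨false, false, ⟨by simpa using hw, by simp [MonoidHom.mem_ker, h1]⟩, by simp [MonoidHom.mem_ker, h2]⟩
    · exact ⟨true, false, ⟨by simpa using W.mul_mem hw ha, by simp [MonoidHom.mem_ker, h1, halt]⟩,
        by simp [MonoidHom.mem_ker, h2, hba, hsq]⟩
    · exact ⟨false, true, ⟨by simpa using W.mul_mem hw hb, by simp [MonoidHom.mem_ker, h1, hsq]⟩,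
        by simp [MonoidHom.mem_ker, h2, halt]⟩
    · exact ⟨true, true, ⟨W.mul_mem (W.mul_mem hw ha) hb, by simp [MonoidHom.mem_ker, h1, halt, hsq]⟩,
        by simp [MonoidHom.mem_ker, h2, halt, hba, hsq]⟩
  refine ⟨?_, fun e he horth w hw => ?_⟩
  · let χ : W →* N × N := ((f a).comp W.subtype).prod ((f b).comp W.subtype)
    have hk : χ.ker.map W.subtype = W ⊓ (f a).ker ⊓ (f b).ker := by
      ext x
      constructor
      · rintro ⟨y, hy, rfl⟩
        have hy' := Prod.mk_eq_one.mp (MonoidHom.mem_ker.mp hy)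
        exact ⟨⟨y.2, hy'.1⟩, hy'.2⟩
      · rintro ⟨⟨h1, h2⟩, h3⟩
        exact ⟨⟨x, h1⟩, Prod.mk_eq_one.mpr ⟨h2, h3⟩, rfl⟩
    have hs : Function.Surjective χ := by
      rintro ⟨x, y⟩
      rcases htwo x with rfl | rfl <;> rcases htwo y with rfl | rfl
      · exact ⟨1, map_one χ⟩
      · exact ⟨⟨a, ha⟩, Prod.ext (halt a) (hsym b a)⟩
      · exact ⟨⟨b, hb⟩, Prod.ext rfl (halt b)⟩
      · exact ⟨⟨a * b, W.mul_mem ha hb⟩, Prod.ext (by simp [χ, halt]) (by simp [χ, halt, hsym b a])⟩
    rw [← hk, Subgroup.card_map_of_injective W.subtype_injective, Subgroup.card_eq_card_quotient_mul_card_subgroup χ.ker,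
      Nat.card_congr (QuotientGroup.quotientKerEquivOfSurjective χ hs).toEquiv, Nat.card_prod, hN]
  · obtain ⟨i, j, hij⟩ := hadj w hw
    have h := horth _ hij
    have he1 : f e a = 1 := by rw [hsym]; exact he.1.2
    have he2 : f e b = 1 := by rw [hsym]; exact he.2
    rw [map_mul, map_mul] at h
    cases i <;> cases j <;> simp [he1, he2] at h <;> exact h

/-- radical in orders `8` and `32`. -/
theorem rad_ne_bot (hV : ∀ v : V, v * v = 1) (hN : Nat.card N = 2) (halt : ∀ v, f v v = 1)
    (hc : Nat.card V = 8 ∨ Nat.card V = 32) : rad f ≠ ⊥ := by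
  classical
  intro hbot
  have hne : ∀ e, (∀ w, f e w = 1) → e = 1 := fun e he => Subgroup.mem_bot.mp (hbot ▸ (mem_rad f).mpr he)
  have hex : ∀ W : Subgroup V, 2 ≤ Nat.card W → (∀ e ∈ W, (∀ w ∈ W, f e w = 1) → e = 1) →
      ∃ a ∈ W, ∃ b ∈ W, f a b ≠ 1 := by
    intro W hW h
    by_contra hcon
    push Not at hcon
    obtain ⟨e, he, he1⟩ := exists_not_mem_small W {1} (by rw [Finset.card_singleton]; omega)
    exact he1 (Finset.mem_singleton.mpr (h e he fun w hw => hcon e he w hw))
  obtain ⟨a, -, b, -, hab⟩ := hex ⊤ (by rw [Subgroup.card_top]; omega) (fun e _ h => hne e fun w => h w trivial)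
  obtain ⟨hc1, hp1⟩ := step f hV hN halt ⊤ trivial trivial hab
  rw [Subgroup.card_top] at hc1
  set W1 := (⊤ : Subgroup V) ⊓ (f a).ker ⊓ (f b).ker
  have h1 : ∀ e ∈ W1, (∀ w ∈ W1, f e w = 1) → e = 1 := fun e he h => hne e fun w => hp1 e he h w trivial
  obtain ⟨c, hcW, d, hdW, hcd⟩ := hex W1 (by omega) h1
  obtain ⟨hc2, hp2⟩ := step f hV hN halt W1 hcW hdW hcd
  set W2 := W1 ⊓ (f c).ker ⊓ (f d).ker
  have h2 : ∀ e ∈ W2, (∀ w ∈ W2, f e w = 1) → e = 1 := fun e he h => h1 e he.1.1 fun w hw => hp2 e he h w hw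
  obtain ⟨c', hc'W, d', hd'W, hcd'⟩ := hex W2 (by omega) h2
  obtain ⟨hc3, -⟩ := step f hV hN halt W2 hc'W hd'W hcd'
  omega

/-- the radical in order `16`. -/
theorem rad_sixteen (hV : ∀ v : V, v * v = 1) (hN : Nat.card N = 2) (halt : ∀ v, f v v = 1)
    (hc : Nat.card V = 16) : rad f = ⊥ ∨ rad f = ⊤ ∨ Nat.card (rad f) = 4 := by
  classical
  by_cases h0 : ∃ a b, f a b ≠ 1
  swap
  · push Not at h0
    exact Or.inr (Or.inl (eq_top_iff.mpr fun v _ => (mem_rad f).mpr (h0 v)))
  obtain ⟨a, b, hab⟩ := h0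
  obtain ⟨hc1, hp1⟩ := step f hV hN halt ⊤ trivial trivial hab
  rw [Subgroup.card_top] at hc1
  set W1 := (⊤ : Subgroup V) ⊓ (f a).ker ⊓ (f b).ker
  have hle : rad f ≤ W1 := fun r hr => ⟨⟨trivial, by
    show f a r = 1; rw [sym_of_alt f hV halt]; exact (mem_rad f).mp hr a⟩, by
    show f b r = 1; rw [sym_of_alt f hV halt]; exact (mem_rad f).mp hr b⟩
  by_cases h1 : ∃ c ∈ W1, ∃ d ∈ W1, f c d ≠ 1
  · obtain ⟨c, hcW, d, hdW, hcd⟩ := h1
    obtain ⟨hc2, -⟩ := step f hV hN halt W1 hcW hdW hcd
    left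
    refine Subgroup.eq_bot_of_card_le _ ?_
    refine le_trans (Subgroup.card_le_of_le (show rad f ≤ W1 ⊓ (f c).ker ⊓ (f d).ker from fun r hr => ⟨⟨hle hr, by
      show f c r = 1; rw [sym_of_alt f hV halt]; exact (mem_rad f).mp hr c⟩, by
      show f d r = 1; rw [sym_of_alt f hV halt]; exact (mem_rad f).mp hr d⟩)) (by omega)
  · push Not at h1
    refine Or.inr (Or.inr ?_)
    rw [le_antisymm hle fun e he => (mem_rad f).mpr fun w => hp1 e he (fun w hw => h1 e he w hw) w trivial]
    omega

end Alternating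

theorem mul_mem_pair {M : Type*} [CommGroup M] [Finite M] (hM : ∀ m : M, m * m = 1) (hMc : Nat.card M ≤ 4)
    {c m n : M} (hc : c ≠ 1) (hm1 : m ≠ 1) (hm2 : m ≠ c) (hn1 : n ≠ 1) (hn2 : n ≠ c) : m * n = 1 ∨ m * n = c := by
  classical
  by_contra hcon
  push Not at hcon
  have hmn : m ≠ n := fun h => hcon.1 (h ▸ hM m)
  have h3 : m * n ≠ m := fun h => hn1 (mul_eq_left.mp h)
  have h4 : m * n ≠ n := fun h => hm1 (mul_eq_right.mp h)
  haveI := Fintype.ofFinite M
  have h5 : ({1, c, m, n, m * n} : Finset M).card ≤ 4 := (Finset.card_le_univ _).trans (Nat.card_eq_fintype_card (α := M) ▸ hMc)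
  rw [Finset.card_insert_of_notMem (by simp [hc.symm, hm1.symm, hn1.symm, Ne.symm hcon.1]),
    Finset.card_insert_of_notMem (by simp [Ne.symm hm2, Ne.symm hn2, Ne.symm hcon.2]),
    Finset.card_insert_of_notMem (by simp [hmn, Ne.symm h3]), Finset.card_pair h4.symm] at h5
  omega

/-- The core: a group preserving a square map without common zero is solvable. -/
theorem solvable_of_anisotropic {V M : Type*} [CommGroup V] [Finite V] [CommGroup M] [Finite M]
    (hV : ∀ v : V, v * v = 1) (hM : ∀ m : M, m * m = 1) (hMc : Nat.card M ≤ 4) (q : V → M) (B : V →* V →* M)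
    (hB : ∀ u v, q (u * v) = q u * q v * B u v) (hq : ∀ v, q v = 1 ↔ v = 1)
    (A : Subgroup (MulAut V)) (hA : ∀ a ∈ A, ∀ v, q (a v) = q v) : Group.IsSolvable A := by
  classical
  haveI : Fact (Nat.Prime 2) := ⟨Nat.prime_two⟩
  have hq1 : q 1 = 1 := (hq 1).mpr rfl
  have halt : ∀ v, B v v = 1 := fun v => by
    have h := hB v v
    rw [hV, hq1, hM, one_mul] at h
    exact h.symm
  have hsym : ∀ u v, B u v = B v u := fun u v => by
    have h1 := hB u v
    rw [mul_comm u, hB v u, mul_comm (q u)] at h1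
    exact (mul_left_cancel h1).symm
  have hAB : ∀ a ∈ A, ∀ u v, B (a u) (a v) = B u v := by
    intro a ha u v
    have h1 := hB (a u) (a v)
    rw [← map_mul, hA a ha, hA a ha, hA a ha, hB u v] at h1
    exact (mul_left_cancel h1).symm
  by_cases hsmall : Nat.card V ≤ 4
  · haveI := aut_solvable_small hsmall
    infer_instance
  obtain ⟨k, hk⟩ := IsPGroup.iff_card.mp (show IsPGroup 2 V from fun v => ⟨1, by rw [pow_one, sq]; exact hV v⟩)
  have hk3 : 3 ≤ k := by
    by_contra h
    exact hsmall (hk ▸ Nat.pow_le_pow_right two_pos (show k ≤ 2 by omega))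
  have hV8 : 8 ≤ Nat.card V := hk ▸ Nat.pow_le_pow_right two_pos hk3
  -- kernels
  have hK : ∀ v : V, Nat.card V = Nat.card (B v).range * Nat.card (B v).ker := fun v => by
    rw [Subgroup.card_eq_card_quotient_mul_card_subgroup (B v).ker,
      Nat.card_congr (QuotientGroup.quotientKerEquivRange (B v)).toEquiv]
  have hclaim : ∀ v u, v ≠ 1 → u ∈ (B v).ker → u ≠ 1 → u ≠ v → q u ≠ 1 ∧ q u ≠ q v := by
    intro v u hv hu hu1 huv
    refine ⟨fun h => hu1 ((hq u).mp h), fun h => huv ?_⟩
    have h' := hB v u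
    rw [show B v u = 1 from hu, h, hM, one_mul, hq] at h'
    calc u = v * v * u := by rw [hV, one_mul]
      _ = v := by rw [mul_assoc, h', mul_one]
  have hker : ∀ v : V, v ∈ (B v).ker := fun v => halt v
  have hK8 : ∀ v : V, v ≠ 1 → Nat.card (B v).ker ≤ 8 := by
    intro v hv
    by_contra hgt
    set K := (B v).ker
    have hc : q v ≠ 1 := fun h => hv ((hq v).mp h)
    obtain ⟨u, hu, hu'⟩ := exists_not_mem_small K {1, v} (lt_of_le_of_lt Finset.card_le_two (by omega))
    obtain ⟨w, hw, hw'⟩ := exists_not_mem_small K {1, v, u, u * v} (lt_of_le_of_lt Finset.card_le_four (by omega))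
    obtain ⟨x, hx, hx'⟩ := exists_not_mem_small K ({1, v, u, u * v} ∪ {w, w * v, w * u, w * (u * v)})
      (lt_of_le_of_lt ((Finset.card_union_le _ _).trans (Nat.add_le_add Finset.card_le_four Finset.card_le_four)) (by omega))
    simp only [Finset.mem_union, Finset.mem_insert, Finset.mem_singleton, not_or] at hu' hw' hx'
    have hout : ∀ y ∈ K, y ≠ 1 → y ≠ v → u * y ≠ 1 → u * y ≠ v → B u y ≠ 1 ∧ B u y ≠ q v := by
      intro y hy h1 h2 h3 h4
      obtain ⟨a1, a2⟩ := hclaim v u hv hu hu'.1 hu'.2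
      obtain ⟨b1, b2⟩ := hclaim v y hv hy h1 h2
      obtain ⟨c1, c2⟩ := hclaim v (u * y) hv (K.mul_mem hu hy) h3 h4
      have he : B u y = q (u * y) * (q u * q y) := by
        rw [hB, mul_comm (q u * q y) (B u y), mul_assoc, hM, mul_one]
      rcases mul_mem_pair hM hMc hc a1 a2 b1 b2 with h | h <;> rw [he, h]
      · rw [mul_one]; exact ⟨c1, c2⟩
      · refine ⟨fun h' => c2 ?_, fun h' => c1 (mul_eq_right.mp h')⟩
        calc q (u * y) = q (u * y) * (q v * q v) := by rw [hM, mul_one]
          _ = q v := by rw [← mul_assoc, h', one_mul]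
    have eu : ∀ y z : V, u * y = z → y = u * z := fun y z h => by rw [← h, ← mul_assoc, hV, one_mul]
    have ew : ∀ y z : V, w * y = z → y = w * z := fun y z h => by rw [← h, ← mul_assoc, hV, one_mul]
    obtain ⟨⟨x1, x2, x3, x4⟩, x5, x6, x7, x8⟩ := hx'
    obtain ⟨w1, w2, w3, w4⟩ := hw'
    have o1 := hout w hw w1 w2 (fun h => w3 (by rw [eu _ _ h, mul_one])) (fun h => w4 (eu _ _ h))
    have o2 := hout x hx x1 x2 (fun h => x3 (by rw [eu _ _ h, mul_one])) (fun h => x4 (eu _ _ h))
    have o3 := hout (w * x) (K.mul_mem hw hx) (fun h => x5 (by rw [ew _ _ h, mul_one])) (fun h => x6 (ew _ _ h))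
      (fun h => x7 (by rw [ew _ _ (eu _ _ h), mul_one])) (fun h => x8 (ew _ _ (eu _ _ h)))
    rw [map_mul] at o3
    rcases mul_mem_pair hM hMc hc o1.1 o1.2 o2.1 o2.2 with h | h
    · exact o3.1 h
    · exact o3.2 h
  have hM4 : Nat.card M = 4 := by
    obtain ⟨j, hj⟩ := IsPGroup.iff_card.mp (show IsPGroup 2 M from fun m => ⟨1, by rw [pow_one, sq]; exact hM m⟩)
    have hj2 : j ≤ 2 := (Nat.pow_le_pow_iff_right (le_refl 2)).mp (by rw [← hj]; exact hMc)
    by_contra hne
    have hM2 : Nat.card M ≤ 2 := by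
      interval_cases j <;> simp_all
    obtain ⟨v, -, hv⟩ := exists_not_mem_small (⊤ : Subgroup V) {1} (by rw [Subgroup.card_top, Finset.card_singleton]; omega)
    rw [Finset.mem_singleton] at hv
    have hK4 : 4 ≤ Nat.card (B v).ker := by
      have h1 := hK v
      have h2 := (Subgroup.card_le_card_group (B v).range).trans hM2
      have h3 := Nat.mul_le_mul_right (Nat.card (B v).ker) h2
      omega
    obtain ⟨u, hu, hu'⟩ := exists_not_mem_small (B v).ker {1, v} (lt_of_le_of_lt Finset.card_le_two (by omega))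
    simp only [Finset.mem_insert, Finset.mem_singleton, not_or] at hu'
    obtain ⟨a1, a2⟩ := hclaim v u hv hu hu'.1 hu'.2
    haveI := Fintype.ofFinite M
    have h5 : ({1, q v, q u} : Finset M).card ≤ 2 := (Finset.card_le_univ _).trans (Nat.card_eq_fintype_card (α := M) ▸ hM2)
    rw [Finset.card_insert_of_notMem (by simp [a1.symm, Ne.symm (show q v ≠ 1 from fun h => hv ((hq v).mp h))]),
      Finset.card_pair a2.symm] at h5
    omega
  have hk5 : k ≤ 5 := by
    by_contra h
    obtain ⟨v, -, hv⟩ := exists_not_mem_small (⊤ : Subgroup V) {1} (by rw [Subgroup.card_top, Finset.card_singleton]; omega)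
    rw [Finset.mem_singleton] at hv
    have h1 := Nat.mul_le_mul (Subgroup.card_le_card_group (B v).range) (hK8 v hv)
    rw [← hK v, hk, hM4] at h1
    have := Nat.pow_le_pow_right two_pos (show 6 ≤ k by omega)
    omega
  -- the binary forms
  let ψ : (e : M) → M →* M ⧸ Subgroup.zpowers e := fun e => QuotientGroup.mk' _
  let f : (e : M) → V →* V →* M ⧸ Subgroup.zpowers e := fun e =>
    { toFun := fun v => (ψ e).comp (B v)
      map_one' := by ext w; simp
      map_mul' := fun u v => by ext w; simp }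
  have hord : ∀ e : M, e ≠ 1 → orderOf e = 2 := fun e he =>
    orderOf_eq_prime (by rw [sq]; exact hM e) he
  have hN : ∀ e : M, e ≠ 1 → Nat.card (M ⧸ Subgroup.zpowers e) = 2 := by
    intro e he
    have := Subgroup.card_eq_card_quotient_mul_card_subgroup (Subgroup.zpowers e)
    rw [Nat.card_zpowers, hord e he, hM4] at this
    omega
  have hzp : ∀ e m : M, m ∈ Subgroup.zpowers e → m = 1 ∨ m = e := by
    intro e m hm
    by_cases he : e = 1
    · subst he; left; simpa using hm
    rw [mem_zpowers_iff_mem_range_orderOf, hord e he, Finset.mem_image] at hm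
    obtain ⟨i, hi, rfl⟩ := hm
    rw [Finset.mem_range] at hi
    interval_cases i <;> simp
  have halt' : ∀ e v, f e v v = 1 := fun e v => by show ψ e (B v v) = 1; rw [halt, map_one]
  have hradinv : ∀ e, ∀ a ∈ A, ∀ r ∈ rad (f e), a r ∈ rad (f e) := by
    intro e a ha r hr
    rw [mem_rad] at hr ⊢
    intro w
    show ψ e (B (a r) w) = 1
    rw [show w = a (a⁻¹ w) from (MulEquiv.apply_symm_apply a w).symm, hAB a ha]
    exact hr _
  -- a form with zero polarisation
  have htop : ∀ e, e ≠ 1 → rad (f e) = ⊤ → ∃ W : Subgroup V, (∀ a ∈ A, ∀ w ∈ W, a w ∈ W) ∧ Nat.card W ≤ 4 ∧ W.index ≤ 2 := by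
    intro e he htop
    let L : V →* M ⧸ Subgroup.zpowers e :=
      { toFun := fun v => ψ e (q v)
        map_one' := by rw [hq1, map_one]
        map_mul' := fun u v => by
          rw [hB, map_mul, map_mul, show ψ e (B u v) = 1 from (mem_rad (f e)).mp (htop ▸ Subgroup.mem_top u) v, mul_one] }
    refine ⟨L.ker, fun a ha w hw => ?_, ?_, ?_⟩
    · show ψ e (q (a w)) = 1
      rw [hA a ha]; exact hw
    · by_contra hgt
      have hval : ∀ y ∈ L.ker, y ≠ 1 → q y = e := fun y hy hy1 =>
        (hzp e _ ((QuotientGroup.eq_one_iff _).mp hy)).resolve_left fun h => hy1 ((hq y).mp h)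
      have hBe : ∀ y ∈ L.ker, ∀ z ∈ L.ker, y ≠ 1 → z ≠ 1 → y ≠ z → B y z = e := by
        intro y hy z hz h1 h2 h3
        have h := hB y z
        rw [hval y hy h1, hval z hz h2, hM, one_mul, hval (y * z) (L.ker.mul_mem hy hz)
          (fun h => h3 (by rw [← mul_one z, ← h, mul_comm y z, ← mul_assoc, hV, one_mul]))] at h
        exact h.symm
      obtain ⟨u, hu, hu'⟩ := exists_not_mem_small L.ker {1} (by rw [Finset.card_singleton]; omega)
      obtain ⟨w, hw, hw'⟩ := exists_not_mem_small L.ker {1, u} (lt_of_le_of_lt Finset.card_le_two (by omega))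
      obtain ⟨x, hx, hx'⟩ := exists_not_mem_small L.ker {1, u, w, u * w} (lt_of_le_of_lt Finset.card_le_four (by omega))
      simp only [Finset.mem_insert, Finset.mem_singleton, not_or] at hu' hw' hx'
      have ew : ∀ y z : V, w * y = z → y = w * z := fun y z h => by rw [← h, ← mul_assoc, hV, one_mul]
      have h := hBe u hu (w * x) (L.ker.mul_mem hw hx) hu' (fun h => hx'.2.2.1 (by rw [ew _ _ h, mul_one]))
        (fun h => hx'.2.2.2 (by rw [ew _ _ h.symm, mul_comm]))
      rw [map_mul, hBe u hu w hw hu' hw'.1 (Ne.symm hw'.2), hBe u hu x hx hu' hx'.1 (Ne.symm hx'.2.1), hM] at h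
      exact he h.symm
    · rw [Subgroup.index_ker, ← hN e he]
      exact Subgroup.card_le_card_group _
  obtain ⟨e0, -, he0⟩ := exists_not_mem_small (⊤ : Subgroup M) {1} (by rw [Subgroup.card_top, Finset.card_singleton]; omega)
  rw [Finset.mem_singleton] at he0
  have hsmallrange : ∀ v : V, (B v).range ≠ ⊤ → ∃ e, e ≠ 1 ∧ v ∈ rad (f e) := by
    intro v hv
    by_cases hb : (B v).range = ⊥
    · refine ⟨e0, he0, (mem_rad _).mpr fun w => ?_⟩
      have : B v w = 1 := Subgroup.mem_bot.mp (hb ▸ ⟨w, rfl⟩)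
      show ψ e0 (B v w) = 1
      rw [this, map_one]
    obtain ⟨e, he, he1⟩ := (Subgroup.bot_or_exists_ne_one _).resolve_left hb
    refine ⟨e, he1, (mem_rad _).mpr fun w => (QuotientGroup.eq_one_iff _).mpr ?_⟩
    have hlt : Nat.card (B v).range < 4 := lt_of_le_of_ne (hM4 ▸ Subgroup.card_le_card_group _)
      fun h => hv (Subgroup.eq_top_of_card_eq _ (h.trans hM4.symm))
    have hd : Nat.card (B v).range ∣ 4 := hM4 ▸ Subgroup.card_subgroup_dvd_card _
    have hle : Subgroup.zpowers e ≤ (B v).range := (Subgroup.zpowers_le).mpr he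
    have heq : Subgroup.zpowers e = (B v).range := by
      refine Subgroup.eq_of_le_of_card_ge hle ?_
      rw [Nat.card_zpowers, hord e he1]
      have : Nat.card (B v).range ≠ 3 := fun h => by rw [h] at hd; norm_num at hd
      omega
    rw [heq]; exact ⟨w, rfl⟩
  interval_cases k
  · -- order 8
    have h := rad_ne_bot (f e0) hV (hN e0 he0) (halt' e0) (Or.inl (by rw [hk]; rfl))
    by_cases ht : rad (f e0) = ⊤
    · obtain ⟨W, h1, h2, h3⟩ := htop e0 he0 ht
      exact solvable_of_invariant A W h1 h2 (by omega)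
    · have hd : Nat.card (rad (f e0)) ∣ 8 := by
        have := Subgroup.card_subgroup_dvd_card (rad (f e0)); rwa [hk] at this
      have h1 : Nat.card (rad (f e0)) ≠ 1 := fun hc => h (Subgroup.card_eq_one.mp hc)
      have h8 : Nat.card (rad (f e0)) ≠ 8 := fun hc => ht (Subgroup.eq_top_of_card_eq _ (by rw [hc, hk]; rfl))
      have hmul := (rad (f e0)).card_mul_index
      rw [hk] at hmul
      have hle := Nat.le_of_dvd (by norm_num) hd
      refine solvable_of_invariant A _ (hradinv e0) ?_ ?_ <;>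
        (interval_cases hh : Nat.card (rad (f e0)) <;> omega)
  · -- order 16
    by_cases hex : ∃ e, e ≠ 1 ∧ rad (f e) ≠ ⊥
    · obtain ⟨e, he, hne⟩ := hex
      rcases (rad_sixteen (f e) hV (hN e he) (halt' e) (by rw [hk]; rfl)).resolve_left hne with ht | h4
      · exfalso
        obtain ⟨W, -, h2, h3⟩ := htop e he ht
        have h := W.card_mul_index
        rw [hk] at h
        have := Nat.mul_le_mul h2 h3
        omega
      · have h := (rad (f e)).card_mul_index
        rw [hk, h4] at h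
        exact solvable_of_invariant A _ (hradinv e) h4.le (by omega)
    push Not at hex
    have hsur : ∀ v : V, v ≠ 1 → Nat.card (B v).ker = 4 := by
      intro v hv
      have h := hK v
      have hr : (B v).range = ⊤ := by
        by_contra hr
        obtain ⟨e, he, hm⟩ := hsmallrange v hr
        exact hv (Subgroup.mem_bot.mp (hex e he ▸ hm))
      rw [hr, Subgroup.card_top, hM4, hk] at h
      omega
    have hline : ∀ v, v ≠ 1 → ∀ x ∈ (B v).ker, ∀ y ∈ (B v).ker, B x y = 1 := by
      intro v hv x hx y hy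
      by_contra hne
      have hx1 : x ≠ 1 := fun h => hne (by rw [h]; simp)
      have hy1 : y ≠ 1 := fun h => hne (by rw [h]; simp)
      have hxy : x ≠ y := fun h => hne (by rw [h]; exact halt y)
      have hvx : v ≠ x := fun h => hne (h ▸ hy)
      have hvy : v ≠ y := fun h => hne (by rw [hsym]; exact h ▸ hx)
      have hxyv : x * y ≠ v := fun h => hne (by
        rw [show y = x * v by rw [← h, ← mul_assoc, hV, one_mul], map_mul, halt, one_mul, hsym]; exact hx)
      have hxy1 : x * y ≠ 1 := fun h => hxy (by rw [← mul_one x, ← hV y, ← mul_assoc, h, one_mul])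
      have hsub : ∀ z ∈ ({1, v, x, y, x * y} : Finset V), z ∈ (B v).ker := by
        intro z hz
        simp only [Finset.mem_insert, Finset.mem_singleton] at hz
        rcases hz with rfl | rfl | rfl | rfl | rfl
        exacts [one_mem _, halt _, hx, hy, mul_mem hx hy]
      have h5 : ({1, v, x, y, x * y} : Finset V).card ≤ 4 := by
        rw [← hsur v hv, ← Nat.card_eq_finsetCard]
        exact Nat.card_le_card_of_injective (fun z => (⟨z.1, hsub z z.2⟩ : (B v).ker)) fun a b hab =>
          Subtype.ext (Subtype.mk.inj hab)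
      rw [Finset.card_insert_of_notMem (by simp [hv.symm, hx1.symm, hy1.symm, hxy1.symm]),
        Finset.card_insert_of_notMem (by simp [hvx, hvy, hxyv.symm]),
        Finset.card_insert_of_notMem (by
          simp only [Finset.mem_insert, Finset.mem_singleton, not_or]
          exact ⟨hxy, fun h => hy1 (mul_eq_left.mp h.symm)⟩),
        Finset.card_pair (fun h => hx1 (mul_eq_right.mp h.symm))] at h5
      omega
    have hlinj : ∀ v, v ≠ 1 → ∀ x ∈ (B v).ker, ∀ y ∈ (B v).ker, q x = q y → x = y := by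
      intro v hv x hx y hy hqq
      have h := hB x y
      rw [hline v hv x hx y hy, hqq, hM, one_mul, hq] at h
      rw [← mul_one x, ← hV y, ← mul_assoc, h, one_mul]
    have hsame : ∀ v x, v ≠ 1 → x ≠ 1 → x ∈ (B v).ker → (B v).ker = (B x).ker := by
      intro v x hv hx hxv
      exact Subgroup.eq_of_le_of_card_ge (fun y hy => hline v hv x hxv y hy) (by rw [hsur v hv, hsur x hx])
    have hfib : ∀ c : M, c ≠ 1 → Nat.card {x : V // q x = c} ≤ 5 := by
      intro c hc
      have hne : ∀ x : {x : V // q x = c}, (x.1 : V) ≠ 1 := fun x h => hc (by rw [← x.2, h, hq1])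
      have hsurj : ∀ x : {x : V // q x = c}, ∀ m : M, ∃ y ∈ (B x.1).ker, q y = m := by
        intro x m
        let φ : (B x.1).ker → M := fun y => q y
        have hinj : Function.Injective φ := fun a b hab => Subtype.ext (hlinj _ (hne x) a a.2 b b.2 hab)
        obtain ⟨y, hy⟩ := (hinj.bijective_of_nat_card_le (by rw [hsur _ (hne x), hM4])).2 m
        exact ⟨y, y.2, hy⟩
      choose g hg1 hg2 using hsurj
      let Φ : {x : V // q x = c} × {m : M // m ≠ 1} → {y : V // y ≠ 1} := fun p =>
        ⟨g p.1 p.2, fun h => p.2.2 (by rw [← hg2 p.1 p.2.1, h, hq1])⟩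
      have hΦ : Function.Injective Φ := by
        rintro ⟨x, m⟩ ⟨x', m'⟩ h
        have h' : g x m = g x' m' := congrArg Subtype.val h
        have hm : m = m' := Subtype.ext (by rw [← hg2 x m.1, h', hg2])
        subst hm
        have hy : g x m ≠ 1 := fun h => m.2 (by rw [← hg2 x m.1, h, hq1])
        have e1 := hsame x.1 _ (hne x) hy (hg1 x m)
        have e2 := hsame x'.1 _ (hne x') hy (h' ▸ hg1 x' m)
        have : x.1 ∈ (B x'.1).ker := by rw [e2, ← e1]; exact halt x.1
        rw [Prod.mk.injEq]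
        exact ⟨Subtype.ext (hlinj x'.1 (hne x') _ this _ (halt _) (x.2.trans x'.2.symm)), rfl⟩
      have h1 := Nat.card_le_card_of_injective Φ hΦ
      haveI := Fintype.ofFinite M
      haveI := Fintype.ofFinite V
      rw [Nat.card_prod] at h1
      simp only [Nat.card_eq_fintype_card, Fintype.card_subtype_compl, Fintype.card_subtype_eq] at h1
      rw [← Nat.card_eq_fintype_card (α := M), ← Nat.card_eq_fintype_card (α := V), hM4, hk] at h1
      rw [Nat.card_eq_fintype_card]
      norm_num at h1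
      omega
    obtain ⟨v, -, hv⟩ := exists_not_mem_small (⊤ : Subgroup V) {1} (by rw [Subgroup.card_top, Finset.card_singleton]; omega)
    rw [Finset.mem_singleton] at hv
    obtain ⟨w, hw⟩ : ∃ w, w ∉ (B v).ker := by
      by_contra h
      push Not at h
      have := hsur v hv
      rw [show (B v).ker = ⊤ from eq_top_iff.mpr fun x _ => h x, Subgroup.card_top, hk] at this
      norm_num at this
    have hw1 : w ≠ 1 := fun h => hw (h ▸ one_mem _)
    let Ψ : A → {x : V // q x = q v} × {x : V // q x = q w} := fun a => (⟨a.1 v, hA a a.2 v⟩, ⟨a.1 w, hA a a.2 w⟩)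
    have hfix : ∀ a ∈ A, a v = v → a w = w → a = 1 := by
      intro a ha hav haw
      let X : Subgroup V := (MulEquiv.toMonoidHom a).eqLocus (MonoidHom.id V)
      have hX : ∀ z, z ≠ 1 → a z = z → (B z).ker ≤ X := by
        intro z hz haz y hy
        show a y = y
        refine hlinj z hz _ ?_ _ hy (hA a ha y)
        show B z (a y) = 1
        rw [← haz, hAB a ha]; exact hy
      have hdis : (B v).ker ⊓ (B w).ker = ⊥ := by
        refine (Subgroup.eq_bot_iff_forall _).mpr fun y hy => ?_
        by_contra hy1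
        exact hw (by rw [hsame v y hv hy1 hy.1, ← hsame w y hw1 hy1 hy.2]; exact halt w)
      let Θ : (B v).ker × (B w).ker → X := fun p => ⟨p.1.1 * p.2.1, X.mul_mem (hX v hv hav p.1.2) (hX w hw1 haw p.2.2)⟩
      have hΘ : Function.Injective Θ := fun p p' h => Subgroup.mul_injective_of_disjoint (disjoint_iff.mpr hdis) (congrArg Subtype.val h)
      have hc := Nat.card_le_card_of_injective Θ hΘ
      rw [Nat.card_prod, hsur v hv, hsur w hw1] at hc
      have : X = ⊤ := Subgroup.eq_top_of_le_card _ (by rw [hk]; exact le_trans (by norm_num) hc)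
      exact MulEquiv.ext fun y => (show y ∈ X from this ▸ Subgroup.mem_top y)
    have hΨ : Function.Injective Ψ := by
      intro a b h
      have h1 : a.1 v = b.1 v := congrArg (fun p => p.1.1) h
      have h2 : a.1 w = b.1 w := congrArg (fun p => p.2.1) h
      have := hfix (b.1⁻¹ * a.1) (mul_mem (inv_mem b.2) a.2)
        (by show b.1⁻¹ (a.1 v) = v; rw [h1]; exact MulEquiv.symm_apply_apply b.1 v)
        (by show b.1⁻¹ (a.1 w) = w; rw [h2]; exact MulEquiv.symm_apply_apply b.1 w)
      exact Subtype.ext (inv_mul_eq_one.mp this).symm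
    refine solvable_of_small ((Nat.card_le_card_of_injective Ψ hΨ).trans ?_)
    rw [Nat.card_prod]
    exact Nat.mul_le_mul (hfib _ fun h => hv ((hq v).mp h)) (hfib _ fun h => hw1 ((hq w).mp h))
  · -- order 32
    exfalso
    obtain ⟨v, hv, hv1⟩ := (Subgroup.bot_or_exists_ne_one _).resolve_left
      (rad_ne_bot (f e0) hV (hN e0 he0) (halt' e0) (Or.inr (by rw [hk]; rfl)))
    have hr : (B v).range ≤ Subgroup.zpowers e0 := by
      rintro _ ⟨w, rfl⟩
      exact (QuotientGroup.eq_one_iff _).mp ((mem_rad _).mp hv w)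
    have h2 := Nat.mul_le_mul (Subgroup.card_le_of_le hr) (hK8 v hv1)
    rw [← hK v, Nat.card_zpowers, hord e0 he0, hk] at h2
    norm_num at h2

/-- Odd order automorphisms of an abelian 2-group fixing the involutions are trivial. -/
theorem abelian_fix {Z : Type*} [CommGroup Z] [Finite Z] (hZ : IsPGroup 2 Z) {a : MulAut Z} (ha : Odd (orderOf a))
    (h : ∀ z : Z, z ^ 2 = 1 → a z = z) : a = 1 := by
  have key : ∀ k : ℕ, ∀ x : Z, x ^ 2 ^ k = 1 → a x = x := by
    intro k
    induction k with
    | zero => intro x hx; simp at hx; subst hx; simp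
    | succ k ih =>
      intro x hx
      have h2 : a (x ^ 2) = x ^ 2 := ih _ (by rw [← pow_mul, ← pow_succ']; exact hx)
      set i := x⁻¹ * a x with hi
      have hi2 : i ^ 2 = 1 := by rw [hi, mul_pow, inv_pow, ← map_pow, h2, inv_mul_cancel]
      have hax : a x = x * i := by rw [hi, mul_inv_cancel_left]
      have hit : ∀ n : ℕ, (a ^ n) x = x * i ^ n := by
        intro n
        induction n with
        | zero => simp
        | succ n ihn =>
          rw [pow_succ', MulAut.mul_apply, ihn, map_mul, hax, map_pow, h i hi2, pow_succ', mul_assoc]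
      have h1 := hit (orderOf a)
      rw [pow_orderOf_eq_one, MulAut.one_apply] at h1
      obtain ⟨m, hm⟩ := ha
      rw [hm, pow_succ, pow_mul, hi2, one_pow, one_mul] at h1
      rw [hax, ← h1]
  exact MulEquiv.ext fun x => by obtain ⟨k, hk⟩ := hZ x; exact key k x hk

/-- A group all of whose odd order elements are trivial is solvable. -/
theorem solvable_of_odd_trivial {K : Type*} [Group K] [Finite K] (h : ∀ a : K, Odd (orderOf a) → a = 1) :
    Group.IsSolvable K := by
  haveI : Fact (Nat.Prime 2) := ⟨Nat.prime_two⟩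
  refine Cfsg.Agent.S0144.result 2 2 ((Nat.card K).factorization 2) 0 Nat.prime_two Nat.prime_two ?_
  rw [pow_zero, mul_one]
  have he := Nat.eq_prime_pow_of_unique_prime_dvd (p := 2) (n := Nat.card K) Nat.card_pos.ne' (fun {d} hd hdd => by
    by_contra hne
    haveI : Fact d.Prime := ⟨hd⟩
    obtain ⟨a, ha⟩ := exists_prime_orderOf_dvd_card' d hdd
    exact hd.ne_one (by rw [← ha, h a (ha ▸ hd.odd_of_ne_two hne), orderOf_one]))
  conv_rhs => rw [he, Nat.Prime.factorization_pow Nat.prime_two, Finsupp.single_eq_same, ← he]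

/-- Reduction to a self-centralising characteristic subgroup. -/
theorem solvable_of_critical {P : Type*} [Group P] [Finite P] (hP : IsPGroup 2 P) (H : Subgroup P) [hH : H.Characteristic]
    (hC : Subgroup.centralizer (H : Set P) ≤ H) (hs : Group.IsSolvable (MulAut H)) : Group.IsSolvable (MulAut P) := by
  haveI : Fact (Nat.Prime 2) := ⟨Nat.prime_two⟩
  haveI : H.Normal := inferInstance
  have hmap : ∀ a : MulAut P, H.map a.toMonoidHom = H := fun a => Subgroup.characteristic_iff_map_eq.mp hH a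
  let f : MulAut P →* MulAut H :=
    { toFun := fun a => (a.subgroupMap H).trans (MulEquiv.subgroupCongr (hmap a))
      map_one' := by ext w; rfl
      map_mul' := fun a b => by ext w; rfl }
  haveI := hs
  refine solvable_of_hom f inferInstance (solvable_of_odd_trivial fun a ha => Subtype.ext ?_)
  rw [← Subgroup.orderOf_coe] at ha
  exact Cfsg.Agent.Invol.aut_eq_one_of_fixed hP hC (Nat.Coprime.symm ha.coprime_two_left) fun x hx => by
    have := DFunLike.congr_fun (MonoidHom.mem_ker.mp a.2) (⟨x, hx⟩ : H)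
    exact congrArg Subtype.val this

/-- Class two, all solutions of `x² = 1` central. -/
theorem aut_solvable_class_two {C : Type*} [Group C] [Finite C] (hC : IsPGroup 2 C)
    (hc : ∀ x y : C, x⁻¹ * y⁻¹ * x * y ∈ Subgroup.center C) (hsq : ∀ x : C, x ^ 2 ∈ Subgroup.center C)
    (hI : ∀ x : C, x ^ 2 = 1 → x ∈ Subgroup.center C) (h4 : Nat.card {x : C // x ^ 2 = 1} ≤ 4) :
    Group.IsSolvable (MulAut C) := by
  classical
  letI : CommGroup ↥(Subgroup.center C) :=
    { (inferInstance : Group ↥(Subgroup.center C)) with mul_comm := fun a b => Subtype.ext (Subgroup.mem_center_iff.mp b.2 a) }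
  let Z := Subgroup.center C
  let P2 : Subgroup Z := (powMonoidHom 2 : Z →* Z).range
  let K2 : Subgroup Z := (powMonoidHom 2 : Z →* Z).ker
  have hK2 : Nat.card K2 ≤ 4 := le_trans (Nat.card_le_card_of_injective (fun x : K2 =>
    (⟨(x : Z).1, by have := congrArg Subtype.val (MonoidHom.mem_ker.mp x.2); simpa using this⟩ : {x : C // x ^ 2 = 1}))
    fun a b h => Subtype.ext (Subtype.ext (Subtype.mk.inj h))) h4
  have hMc : Nat.card (Z ⧸ P2) ≤ 4 := by
    have h1 := Subgroup.card_eq_card_quotient_mul_card_subgroup P2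
    have h2 := Subgroup.card_eq_card_quotient_mul_card_subgroup K2
    rw [Nat.card_congr (QuotientGroup.quotientKerEquivRange (powMonoidHom 2 : Z →* Z)).toEquiv] at h2
    rw [h1, mul_comm (Nat.card P2)] at h2
    rw [Nat.eq_of_mul_eq_mul_right Nat.card_pos h2]; exact hK2
  have hMsq : ∀ m : Z ⧸ P2, m * m = 1 := by
    intro m
    induction m using QuotientGroup.induction_on with
    | H z => exact (QuotientGroup.eq_one_iff _).mpr ⟨z, by simp [sq]⟩
  -- the quotient
  letI : CommGroup (C ⧸ Z) :=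
    { (inferInstance : Group (C ⧸ Z)) with
      mul_comm := fun a b => by
        induction a using QuotientGroup.induction_on with
        | H x =>
          induction b using QuotientGroup.induction_on with
          | H y =>
            rw [← QuotientGroup.mk_mul, ← QuotientGroup.mk_mul]
            refine (QuotientGroup.eq.mpr ?_).symm
            have : (y * x)⁻¹ * (x * y) = x⁻¹ * y⁻¹ * x * y := by group
            rw [this]; exact hc x y }
  have hVsq : ∀ v : C ⧸ Z, v * v = 1 := by
    intro v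
    induction v using QuotientGroup.induction_on with
    | H x => exact (QuotientGroup.eq_one_iff _).mpr (by simpa [sq] using hsq x)
  let π : Z →* Z ⧸ P2 := QuotientGroup.mk' P2
  let c : C → C → Z := fun x y => ⟨y⁻¹ * x⁻¹ * y * x, hc y x⟩
  have hcomm : ∀ (x : C) (z : Z), x * (z : C) = (z : C) * x := fun x z => Subgroup.mem_center_iff.mp z.2 x
  have hcr : ∀ x x' y, c (x * x') y = c x y * c x' y := by
    intro x x' y
    apply Subtype.ext
    show y⁻¹ * (x * x')⁻¹ * y * (x * x') = (c x y : C) * (c x' y : C)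
    calc y⁻¹ * (x * x')⁻¹ * y * (x * x') = y⁻¹ * x'⁻¹ * y * (c x y : C) * x' := by simp only [c]; group
      _ = y⁻¹ * x'⁻¹ * y * x' * (c x y : C) := by rw [mul_assoc _ _ x', ← hcomm x' (c x y), ← mul_assoc]
      _ = (c x' y : C) * (c x y : C) := rfl
      _ = (c x y : C) * (c x' y : C) := by rw [hcomm _ (c x y)]
  have hcl : ∀ x y y', c x (y * y') = c x y * c x y' := by
    intro x y y'
    apply Subtype.ext
    show (y * y')⁻¹ * x⁻¹ * (y * y') * x = (c x y : C) * (c x y' : C)
    calc (y * y')⁻¹ * x⁻¹ * (y * y') * x = y'⁻¹ * ((c x y : C) * x⁻¹) * y' * x := by simp only [c]; group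
      _ = (c x y : C) * (y'⁻¹ * x⁻¹ * y' * x) := by
        rw [← mul_assoc y'⁻¹, hcomm y'⁻¹ (c x y)]; simp only [mul_assoc]
      _ = (c x y : C) * (c x y' : C) := rfl
  have hcz : ∀ (z : Z) y, c z y = 1 ∧ c y z = 1 := fun z y => by
    constructor <;> apply Subtype.ext
    · show y⁻¹ * (z : C)⁻¹ * y * z = 1
      rw [mul_assoc _ y (z : C), hcomm y z]; group
    · show (z : C)⁻¹ * y⁻¹ * z * y = 1
      rw [mul_assoc _ (z : C) y, ← hcomm y z]; group
  let Brow : C → (C ⧸ Z) →* (Z ⧸ P2) := fun x => QuotientGroup.lift Z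
    (MonoidHom.mk' (fun y => π (c x y)) fun y y' => by rw [hcl, map_mul])
    (fun z hz => by show π (c x (⟨z, hz⟩ : Z)) = 1; rw [(hcz ⟨z, hz⟩ x).2, map_one])
  let B : (C ⧸ Z) →* (C ⧸ Z) →* (Z ⧸ P2) := QuotientGroup.lift Z
    (MonoidHom.mk' Brow fun x x' => MonoidHom.ext fun v => by
      induction v using QuotientGroup.induction_on with
      | H y => show π (c (x * x') y) = π (c x y) * π (c x' y); rw [hcr, map_mul])
    (fun z hz => by
      show Brow z = 1
      refine MonoidHom.ext fun v => ?_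
      induction v using QuotientGroup.induction_on with
      | H y => show π (c (⟨z, hz⟩ : Z) y) = 1; rw [(hcz ⟨z, hz⟩ y).1, map_one])
  let sqz : C → Z := fun x => ⟨x ^ 2, hsq x⟩
  have hsqmul : ∀ x y, sqz (x * y) = sqz x * sqz y * c x⁻¹⁻¹ y⁻¹⁻¹ := by
    intro x y
    apply Subtype.ext
    show (x * y) ^ 2 = x ^ 2 * y ^ 2 * (y⁻¹⁻¹⁻¹ * x⁻¹⁻¹⁻¹ * y⁻¹⁻¹ * x⁻¹⁻¹)
    simp only [inv_inv]
    calc (x * y) ^ 2 = x * (x * (y * (y⁻¹ * x⁻¹ * y * x))) * y := by simp only [sq]; group
      _ = x * (x * ((y⁻¹ * x⁻¹ * y * x) * y)) * y := by rw [hcomm y (c x y)]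
      _ = x ^ 2 * ((y⁻¹ * x⁻¹ * y * x) * y ^ 2) := by simp only [sq, mul_assoc]
      _ = x ^ 2 * y ^ 2 * (y⁻¹ * x⁻¹ * y * x) := by rw [← hcomm (y ^ 2) (c x y), ← mul_assoc]
  simp only [inv_inv] at hsqmul
  let q : C ⧸ Z → Z ⧸ P2 := Quotient.lift (fun x => π (sqz x)) (by
    intro x y hxy
    have hxy' : x⁻¹ * y ∈ Z := QuotientGroup.leftRel_apply.mp hxy
    have : sqz y = sqz x * (⟨x⁻¹ * y, hxy'⟩ : Z) ^ 2 := by
      apply Subtype.ext
      show y ^ 2 = x ^ 2 * (x⁻¹ * y) ^ 2
      rw [← (show Commute x (x⁻¹ * y) from hcomm x ⟨_, hxy'⟩).mul_pow, mul_inv_cancel_left]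
    show π (sqz x) = π (sqz y)
    rw [this, map_mul, show π ((⟨x⁻¹ * y, hxy'⟩ : Z) ^ 2) = 1 from (QuotientGroup.eq_one_iff _).mpr ⟨_, rfl⟩, mul_one])
  have hqB : ∀ u v, q (u * v) = q u * q v * B u v := by
    intro u v
    induction u using QuotientGroup.induction_on with
    | H x =>
      induction v using QuotientGroup.induction_on with
      | H y => show π (sqz (x * y)) = π (sqz x) * π (sqz y) * π (c x y); rw [hsqmul, map_mul, map_mul]
  have hq0 : ∀ v, q v = 1 ↔ v = 1 := by
    intro v
    induction v using QuotientGroup.induction_on with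
    | H x =>
      constructor
      · intro h
        obtain ⟨z, hz⟩ := (QuotientGroup.eq_one_iff _).mp (show π (sqz x) = 1 from h)
        refine (QuotientGroup.eq_one_iff _).mpr ?_
        have hz' : (z : C) ^ 2 = x ^ 2 := congrArg Subtype.val hz
        have h1 : x * (z : C)⁻¹ ∈ Z := hI _ (by
          rw [(show Commute x (z : C)⁻¹ from hcomm x z⁻¹).mul_pow, inv_pow, hz', mul_inv_cancel])
        simpa using Z.mul_mem h1 z.2
      · intro h
        have hx : x ∈ Z := (QuotientGroup.eq_one_iff _).mp h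
        exact (QuotientGroup.eq_one_iff _).mpr ⟨⟨x, hx⟩, Subtype.ext rfl⟩
  -- action on the centre
  have hmap : ∀ a : MulAut C, Z.map a.toMonoidHom = Z := fun a => Subgroup.characteristic_iff_map_eq.mp inferInstance a
  let fZ : MulAut C →* MulAut Z :=
    { toFun := fun a => (a.subgroupMap Z).trans (MulEquiv.subgroupCongr (hmap a))
      map_one' := by ext w; rfl
      map_mul' := fun a b => by ext w; rfl }
  have hAutZ : Group.IsSolvable (MulAut Z) := by
    have hmapK : ∀ a : MulAut Z, K2.map a.toMonoidHom = K2 := by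
      intro a
      refine le_antisymm ?_ ?_
      · rintro _ ⟨w, hw, rfl⟩
        show a w ^ 2 = 1
        rw [← map_pow, show w ^ 2 = 1 from hw, map_one]
      · intro w hw
        refine ⟨a.symm w, ?_, a.apply_symm_apply w⟩
        show a.symm w ^ 2 = 1
        rw [← map_pow, show w ^ 2 = 1 from hw, map_one]
    let g : MulAut Z →* MulAut K2 :=
      { toFun := fun a => (a.subgroupMap K2).trans (MulEquiv.subgroupCongr (hmapK a))
        map_one' := by ext w; rfl
        map_mul' := fun a b => by ext w; rfl }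
    haveI := aut_solvable_small hK2
    refine solvable_of_hom g inferInstance (solvable_of_odd_trivial fun a ha => Subtype.ext ?_)
    rw [← Subgroup.orderOf_coe] at ha
    exact abelian_fix (hC.to_subgroup Z) ha fun z hz => by
      have := DFunLike.congr_fun (MonoidHom.mem_ker.mp a.2) (⟨z, hz⟩ : K2)
      exact congrArg Subtype.val this
  haveI := hAutZ
  refine solvable_of_hom fZ inferInstance ?_
  have hfixZ : ∀ a : fZ.ker, ∀ z ∈ Z, a.1 z = z := fun a z hz => by
    have := DFunLike.congr_fun (MonoidHom.mem_ker.mp a.2) (⟨z, hz⟩ : Z)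
    exact congrArg Subtype.val this
  let fV : fZ.ker →* MulAut (C ⧸ Z) :=
    { toFun := fun a => QuotientGroup.congr Z Z a.1 (hmap a.1)
      map_one' := by
        ext x
        induction x using QuotientGroup.induction_on
        rfl
      map_mul' := fun a b => by
        ext x
        induction x using QuotientGroup.induction_on
        rfl }
  refine solvable_of_hom fV (solvable_of_anisotropic hVsq hMsq hMc q B hqB hq0 _ ?_) ?_
  · rintro _ ⟨a, rfl⟩ v
    induction v using QuotientGroup.induction_on with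
    | H x =>
      show π (sqz (a.1 x)) = π (sqz x)
      refine congrArg π (Subtype.ext ?_)
      show a.1 x ^ 2 = x ^ 2
      rw [← map_pow]; exact hfixZ a _ (hsq x)
  · refine Group.isSolvable_of_comm fun a b => Subtype.ext (Subtype.ext ?_)
    refine comm_of_stabilise Z (fun x hx y hy => Subgroup.mem_center_iff.mp hy x) (fV.ker.map fZ.ker.subtype) ?_ ?_
      _ ⟨a.1, a.2, rfl⟩ _ ⟨b.1, b.2, rfl⟩
    · rintro _ ⟨d, -, rfl⟩; exact hfixZ d
    · rintro _ ⟨d, hd, rfl⟩ g
      have := DFunLike.congr_fun (MonoidHom.mem_ker.mp hd) (g : C ⧸ Z)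
      exact QuotientGroup.eq.mp this.symm

end Cfsg.Agent.Recog.ThreeInv
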