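import Mathlib

/-!
A nonabelian minimal normal subgroup is a direct power of a simple group.
-/

set_option autoImplicit false

namespace Cfsg.Agent.MinNormal

open scoped commutatorElement

universe u

variable {G : Type u} [Group G]

/-- Subgroups normalizing each other with trivial intersection commute. -/
theorem comm_of_disjoint {A B : Subgroup G} (hAB : B ≤ Subgroup.normalizer (A : Set G))
    (hBA : A ≤ Subgroup.normalizer (B : Set G)) (h : A ⊓ B = ⊥) {a b : G} (ha : a ∈ A) (hb : b ∈ B) :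
    a * b = b * a := by
  rw [← commutatorElement_eq_one_iff_mul_comm, ← Subgroup.mem_bot, ← h, Subgroup.mem_inf, commutatorElement_def]
  refine ⟨?_, ?_⟩
  · rw [mul_assoc a b, mul_assoc a]
    exact A.mul_mem ha ((Subgroup.mem_normalizer_iff.mp (hAB hb) _).mp (A.inv_mem ha))
  · exact B.mul_mem ((Subgroup.mem_normalizer_iff.mp (hBA ha) _).mp hb) (B.inv_mem hb)

theorem exists_power [Finite G] (M : Subgroup G) [hMn : M.Normal] (hMb : M ≠ ⊥)
    (hmin : ∀ K : Subgroup G, K.Normal → K ≤ M → K = ⊥ ∨ K = M) (hna : ¬ IsMulCommutative M) :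
    ∃ (T : Subgroup G) (k : ℕ), 1 ≤ k ∧ IsSimpleGroup T ∧ ¬ IsMulCommutative T ∧
      Nonempty ((Fin k → T) ≃* M) := by
  classical
  obtain ⟨T, ⟨hTM, hTb, hMT⟩, hTmin⟩ :=
    wellFounded_lt.has_min {T : Subgroup G | T ≤ M ∧ T ≠ ⊥ ∧ M ≤ Subgroup.normalizer (T : Set G)}
      ⟨M, le_rfl, hMb, Subgroup.le_normalizer⟩
  have hTmin' : ∀ X : Subgroup G, X ≤ T → X ≠ ⊥ → M ≤ Subgroup.normalizer (X : Set G) → X = T :=
    fun X h1 h2 h3 => by
      by_contra h
      exact hTmin X ⟨h1.trans hTM, h2, h3⟩ (lt_of_le_of_ne h1 h)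
  let conjT : G → Subgroup G := fun g => T.map (MulAut.conj g).toMonoidHom
  let ι := {A : Subgroup G // ∃ g : G, A = conjT g}
  haveI : Fintype ι := Fintype.ofFinite ι
  let H : ι → Subgroup G := fun i => i.1
  have hmapM : ∀ g : G, M.map (MulAut.conj g).toMonoidHom = M := by
    intro g
    ext x
    constructor
    · rintro ⟨y, hy, rfl⟩; exact hMn.conj_mem y hy g
    · intro hx
      exact ⟨g⁻¹ * x * g, by simpa using hMn.conj_mem x hx g⁻¹, by simp [mul_assoc]⟩
  have hnorm : ∀ i : ι, M ≤ Subgroup.normalizer (H i : Set G) := by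
    rintro ⟨_, g, rfl⟩ m hm
    rw [Subgroup.mem_normalizer_iff]
    intro x
    show x ∈ conjT g ↔ m * x * m⁻¹ ∈ conjT g
    have hm' : g⁻¹ * m * g ∈ M := by simpa using hMn.conj_mem m hm g⁻¹
    have key := fun y => Subgroup.mem_normalizer_iff.mp (hMT hm') y
    constructor
    · rintro ⟨y, hy, rfl⟩
      exact ⟨_, (key y).mp hy, by simp [mul_assoc]⟩
    · rintro ⟨y, hy, he⟩
      refine ⟨(g⁻¹ * m * g)⁻¹ * y * (g⁻¹ * m * g), (key _).mpr (by simpa [mul_assoc] using hy), ?_⟩
      have he' : g * y * g⁻¹ = m * x * m⁻¹ := he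
      show g * ((g⁻¹ * m * g)⁻¹ * y * (g⁻¹ * m * g)) * g⁻¹ = x
      calc g * ((g⁻¹ * m * g)⁻¹ * y * (g⁻¹ * m * g)) * g⁻¹ = m⁻¹ * (g * y * g⁻¹) * m := by group
        _ = x := by rw [he']; group
  have hle : ∀ i : ι, H i ≤ M := by
    rintro ⟨_, g, rfl⟩
    exact (Subgroup.map_mono hTM).trans (hmapM g).le
  -- each conjugate is minimal
  have hmin' : ∀ i : ι, ∀ X : Subgroup G, X ≤ H i → X ≠ ⊥ → M ≤ Subgroup.normalizer (X : Set G) → X = H i := by
    rintro ⟨_, g, rfl⟩ X h1 h2 h3
    have hX : X.comap (MulAut.conj g).toMonoidHom = T := by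
      refine hTmin' _ ?_ ?_ ?_
      · intro y hy
        obtain ⟨z, hz, he⟩ := h1 hy
        rwa [← (MulAut.conj g).injective he]
      · intro h
        apply h2
        rw [Subgroup.eq_bot_iff_forall] at h ⊢
        intro x hx
        have := h (g⁻¹ * x * g) (show g * (g⁻¹ * x * g) * g⁻¹ ∈ X by
          rwa [show g * (g⁻¹ * x * g) * g⁻¹ = x by group])
        calc x = g * (g⁻¹ * x * g) * g⁻¹ := by group
          _ = 1 := by rw [this]; group
      · intro m hm
        rw [Subgroup.mem_normalizer_iff]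
        intro y
        show g * y * g⁻¹ ∈ X ↔ g * (m * y * m⁻¹) * g⁻¹ ∈ X
        have hm' := h3 (hMn.conj_mem m hm g)
        rw [Subgroup.mem_normalizer_iff] at hm'
        rw [hm' (g * y * g⁻¹)]
        group
    show X = T.map (MulAut.conj g).toMonoidHom
    rw [← hX]
    exact (Subgroup.map_comap_eq_self_of_surjective (MulAut.conj g).surjective X).symm
  have hdisj : ∀ i j : ι, i ≠ j → H i ⊓ H j = ⊥ := by
    intro i j hij
    by_contra h
    have hn : M ≤ Subgroup.normalizer ((H i ⊓ H j : Subgroup G) : Set G) := by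
      intro m hm
      rw [Subgroup.mem_normalizer_iff]
      intro x
      rw [Subgroup.mem_inf, Subgroup.mem_inf, ← Subgroup.mem_normalizer_iff.mp (hnorm i hm) x,
        ← Subgroup.mem_normalizer_iff.mp (hnorm j hm) x]
    exact hij (Subtype.ext ((hmin' i _ inf_le_left h hn).symm.trans (hmin' j _ inf_le_right h hn)))
  have hcomm : ∀ i j : ι, i ≠ j → ∀ x y : G, x ∈ H i → y ∈ H j → Commute x y := fun i j hij x y hx hy =>
    comm_of_disjoint ((hle j).trans (hnorm i)) ((hle i).trans (hnorm j)) (hdisj i j hij) hx hy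
  let i0 : ι := ⟨conjT 1, 1, rfl⟩
  have hi0 : H i0 = T := by
    show conjT 1 = T
    ext x
    simp [conjT]
  -- the conjugates generate
  have hsup : ⨆ i, H i = M := by
    have hS : (⨆ i, H i).Normal := by
      refine ⟨fun x hx g => ?_⟩
      have : (⨆ i, H i).map (MulAut.conj g).toMonoidHom ≤ ⨆ i, H i := by
        rw [Subgroup.map_iSup]
        refine iSup_le fun ⟨_, h, rfl⟩ => le_trans ?_ (le_iSup H ⟨conjT (g * h), g * h, rfl⟩)
        rintro _ ⟨_, ⟨y, hy, rfl⟩, rfl⟩
        exact ⟨y, hy, by simp [mul_assoc]⟩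
      exact this ⟨x, hx, rfl⟩
    refine (hmin _ hS (iSup_le hle)).resolve_left fun h => hTb ?_
    rw [← hi0]
    exact le_bot_iff.mp (h ▸ le_iSup H i0)
  have habel : ∀ i : ι, ¬ ∀ x ∈ H i, ∀ y ∈ H i, x * y = y * x := by
    rintro ⟨_, g, rfl⟩ hab
    apply hna
    have hT : ∀ x ∈ T, ∀ y ∈ T, x * y = y * x := fun x hx y hy => by
      have := hab _ ⟨x, hx, rfl⟩ _ ⟨y, hy, rfl⟩
      rw [← map_mul, ← map_mul] at this
      exact (MulAut.conj g).injective this
    have hall : ∀ i j : ι, ∀ x ∈ H i, ∀ y ∈ H j, x * y = y * x := by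
      intro i j x hx y hy
      by_cases h : i = j
      · subst h
        obtain ⟨_, k, rfl⟩ := i
        obtain ⟨x, hx, rfl⟩ := hx
        obtain ⟨y, hy, rfl⟩ := hy
        rw [← map_mul, ← map_mul, hT x hx y hy]
      · exact hcomm i j h x y hx hy
    refine ⟨⟨fun a b => Subtype.ext ?_⟩⟩
    have h1 : ∀ a ∈ M, ∀ j, ∀ y ∈ H j, a * y = y * a := by
      intro a ha j y hy
      have : M ≤ Subgroup.centralizer ({y} : Set G) := by
        rw [← hsup]
        refine iSup_le fun i x hx => ?_
        rw [Subgroup.mem_centralizer_iff]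
        simp only [Set.mem_singleton_iff, forall_eq]
        exact (hall i j x hx y hy).symm
      exact (Subgroup.mem_centralizer_iff.mp (this ha) y rfl).symm
    have : M ≤ Subgroup.centralizer ({(a : G)} : Set G) := by
      refine hsup.symm.le.trans (iSup_le fun i x hx => ?_)
      rw [Subgroup.mem_centralizer_iff]
      simp only [Set.mem_singleton_iff, forall_eq]
      exact h1 a a.2 i x hx
    exact Subgroup.mem_centralizer_iff.mp (this b.2) a rfl
  have hind : iSupIndep H := by
    intro i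
    rw [disjoint_iff]
    by_contra h
    set X : Subgroup G := ⨆ j, ⨆ (_ : j ≠ i), H j
    have hXc : ∀ x ∈ H i, ∀ y ∈ X, x * y = y * x := by
      intro x hx y hy
      have : X ≤ Subgroup.centralizer ({x} : Set G) := iSup₂_le fun j hj z hz => by
        rw [Subgroup.mem_centralizer_iff]
        simp only [Set.mem_singleton_iff, forall_eq]
        exact hcomm i j (Ne.symm hj) x z hx hz
      exact Subgroup.mem_centralizer_iff.mp (this hy) x rfl
    have hn : M ≤ Subgroup.normalizer ((H i ⊓ X : Subgroup G) : Set G) := by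
      intro m hm
      rw [Subgroup.mem_normalizer_iff]
      have key : ∀ m ∈ M, ∀ x ∈ H i ⊓ X, m * x * m⁻¹ ∈ H i ⊓ X := by
        intro m hm x hx
        refine ⟨(Subgroup.mem_normalizer_iff.mp (hnorm i hm) x).mp hx.1, ?_⟩
        have : X.map (MulAut.conj m).toMonoidHom ≤ X := by
          simp only [X, Subgroup.map_iSup]
          refine iSup₂_le fun j hj => le_trans ?_ (le_iSup₂ (f := fun j (_ : j ≠ i) => H j) j hj)
          rintro _ ⟨y, hy, rfl⟩
          exact (Subgroup.mem_normalizer_iff.mp (hnorm j hm) y).mp hy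
        exact this ⟨x, hx.2, rfl⟩
      intro x
      refine ⟨key m hm x, fun hx => ?_⟩
      have := key m⁻¹ (M.inv_mem hm) _ hx
      simpa [mul_assoc] using this
    have heq := hmin' i _ inf_le_left h hn
    exact habel i fun x hx y hy => hXc x hx y ((heq.symm ▸ hy : y ∈ H i ⊓ X).2)
  have hTna : ¬ ∀ x ∈ T, ∀ y ∈ T, x * y = y * x := hi0 ▸ habel i0
  have hTsimple : IsSimpleGroup T := by
    haveI : Nontrivial T := (Subgroup.nontrivial_iff_ne_bot T).mpr hTb
    refine ⟨fun K hK => ?_⟩
    by_cases hKb : K = ⊥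
    · exact Or.inl hKb
    refine Or.inr ?_
    have hXb : K.map T.subtype ≠ ⊥ := fun h => hKb (by
      rwa [Subgroup.map_eq_bot_iff_of_injective _ T.subtype_injective] at h)
    have hXn : M ≤ Subgroup.normalizer ((K.map T.subtype : Subgroup G) : Set G) := by
      rw [← hsup]
      refine iSup_le fun i => ?_
      by_cases hi : i = i0
      · subst hi
        rw [hi0]
        intro t ht
        rw [Subgroup.mem_normalizer_iff]
        intro x
        constructor
        · rintro ⟨k, hk, rfl⟩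
          exact ⟨_, hK.conj_mem k hk ⟨t, ht⟩, rfl⟩
        · rintro ⟨k, hk, he⟩
          refine ⟨⟨t, ht⟩⁻¹ * k * ⟨t, ht⟩, by simpa using hK.conj_mem k hk ⟨t, ht⟩⁻¹, ?_⟩
          show t⁻¹ * (k : G) * t = x
          rw [show (k : G) = t * x * t⁻¹ from he]; group
      · intro y hy
        rw [Subgroup.mem_normalizer_iff]
        intro x
        have hfix : ∀ z ∈ T, y * z * y⁻¹ = z := fun z hz => by
          rw [(hcomm i i0 hi y z hy (hi0.symm ▸ hz)).eq, mul_inv_cancel_right]
        constructor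
        · intro hx
          rw [hfix x (Subgroup.map_subtype_le K hx)]; exact hx
        · intro hx
          have h1 := Subgroup.map_subtype_le K hx
          have h2 : y * x * y⁻¹ = x := by
            have h3 := hfix _ h1
            calc y * x * y⁻¹ = y⁻¹ * (y * (y * x * y⁻¹) * y⁻¹) * y := by group
              _ = y⁻¹ * (y * x * y⁻¹) * y := by rw [h3]
              _ = x := by group
          rwa [h2] at hx
    have heq := hTmin' _ (Subgroup.map_subtype_le K) hXb hXn
    exact Subgroup.map_injective T.subtype_injective (heq.trans (by rw [← MonoidHom.range_eq_map, Subgroup.range_subtype]))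
  have e : ∀ i : ι, Nonempty (T ≃* H i) := by
    rintro ⟨_, g, rfl⟩
    exact ⟨T.equivMapOfInjective _ (MulAut.conj g).injective⟩
  have e' : ∀ i, T ≃* H i := fun i => (e i).some
  let f : (∀ i, H i) →* G := Subgroup.noncommPiCoprod fun i j hij x y hx hy => hcomm i j hij x y hx hy
  have hf : Function.Injective f := Subgroup.injective_noncommPiCoprod_of_iSupIndep hind
  have hrange : f.range = M := Subgroup.noncommPiCoprod_range.trans hsup
  let E1 : (Fin (Fintype.card ι) → T) ≃* (ι → T) :=
    { Equiv.arrowCongr (Fintype.equivFin ι).symm (Equiv.refl T) with map_mul' := fun a b => rfl }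
  refine ⟨T, Fintype.card ι, Fintype.card_pos_iff.mpr ⟨i0⟩, hTsimple, fun h => hTna fun x hx y hy =>
    congrArg Subtype.val (h.is_comm.comm ⟨x, hx⟩ ⟨y, hy⟩), ⟨?_⟩⟩
  exact ((E1.trans (MulEquiv.piCongrRight e')).trans (MonoidHom.ofInjective hf)).trans (MulEquiv.subgroupCongr hrange)

end Cfsg.Agent.MinNormal
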