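import Mathlib

/-! The element orders of `PSL(3, 3)`. -/

set_option autoImplicit false

namespace Cfsg.Agent.SpectrumSL3Three

open Matrix

/-- coefficients of `x ^ n` when `x ^ 3 = a x ^ 2 + b x + 1` -/
def cf (a b : ZMod 3) : ℕ → ZMod 3 × ZMod 3 × ZMod 3
  | 0 => (0, 0, 1)
  | n + 1 => ((cf a b n).1 * a + (cf a b n).2.1, (cf a b n).1 * b + (cf a b n).2.2, (cf a b n).1)

theorem pow_eq_cf {A : Type*} [Ring A] [Algebra (ZMod 3) A] (a b : ZMod 3) (x : A)
    (hx : x ^ 3 = a • x ^ 2 + b • x + 1) (n : ℕ) :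
    x ^ n = (cf a b n).1 • x ^ 2 + (cf a b n).2.1 • x + (cf a b n).2.2 • (1 : A) := by
  induction n with
  | zero => simp [cf]
  | succ n ih =>
    rw [pow_succ, ih, add_mul, add_mul, smul_mul_assoc, smul_mul_assoc, smul_mul_assoc, ← pow_succ, hx, one_mul, ← pow_two]
    simp only [cf]
    module

theorem sl_pow_cases {F : Type*} [Field F] [Fintype F] (hF : Fintype.card F = 3)
    (g : Matrix.SpecialLinearGroup (Fin 3) F) :
    g ^ 4 = 1 ∨ g ^ 6 = 1 ∨ g ^ 8 = 1 ∨ g ^ 13 = 1 := by
  haveI : CharP F 3 := by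
    obtain ⟨p, hp⟩ := CharP.exists F
    obtain ⟨n, hn, hq⟩ := FiniteField.card F p
    rw [hF] at hq
    have : p ∣ 3 := hq ▸ dvd_pow_self p n.ne_zero
    rwa [(Nat.prime_dvd_prime_iff_eq hn Nat.prime_three).mp this] at hp
  letI : Algebra (ZMod 3) F := ZMod.algebra F 3
  have hbij : Function.Bijective (algebraMap (ZMod 3) F) :=
    (Fintype.bijective_iff_injective_and_card _).mpr ⟨(algebraMap (ZMod 3) F).injective, by rw [ZMod.card, hF]⟩
  set M := (g : Matrix (Fin 3) (Fin 3) F) with hM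
  have h := Matrix.aeval_self_charpoly M
  rw [Polynomial.aeval_eq_sum_range, Matrix.charpoly_natDegree_eq_dim, Fintype.card_fin] at h
  simp only [Finset.sum_range_succ, Finset.sum_range_zero, zero_add, pow_zero, pow_one] at h
  have h3 : M.charpoly.coeff 3 = 1 := by
    have := M.charpoly_monic.coeff_natDegree
    rwa [Matrix.charpoly_natDegree_eq_dim, Fintype.card_fin] at this
  have h0 : M.charpoly.coeff 0 = -1 := by
    have := M.det_eq_sign_charpoly_coeff
    rw [Fintype.card_fin, g.2] at this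
    linear_combination this
  obtain ⟨a, ha⟩ := hbij.2 (-(M.charpoly.coeff 2))
  obtain ⟨b, hb⟩ := hbij.2 (-(M.charpoly.coeff 1))
  have hx : M ^ 3 = a • M ^ 2 + b • M + 1 := by
    rw [← algebraMap_smul F a, ← algebraMap_smul F b, ha, hb]
    rw [h3, h0, one_smul, neg_smul, one_smul] at h
    rw [neg_smul, neg_smul, ← sub_eq_zero, ← h]
    abel
  have key : ∀ a b : ZMod 3, cf a b 4 = (0, 0, 1) ∨ cf a b 6 = (0, 0, 1) ∨ cf a b 8 = (0, 0, 1) ∨ cf a b 13 = (0, 0, 1) := by
    decide +kernel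
  have fin : ∀ n, cf a b n = (0, 0, 1) → g ^ n = 1 := fun n hn => Subtype.ext (by
    rw [Matrix.SpecialLinearGroup.coe_pow, pow_eq_cf a b _ hx, hn]; simp)
  rcases key a b with h' | h' | h' | h'
  · exact Or.inl (fin _ h')
  · exact Or.inr (Or.inl (fin _ h'))
  · exact Or.inr (Or.inr (Or.inl (fin _ h')))
  · exact Or.inr (Or.inr (Or.inr (fin _ h')))

theorem mk_injective {F : Type*} [Field F] [Fintype F] (hF : Fintype.card F = 3) :
    Function.Injective (QuotientGroup.mk : Matrix.SpecialLinearGroup (Fin 3) F →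
      Matrix.ProjectiveSpecialLinearGroup (Fin 3) F) := by
  have h : Subgroup.center (Matrix.SpecialLinearGroup (Fin 3) F) = ⊥ := by
    rw [Subgroup.eq_bot_iff_forall]
    intro g hg
    obtain ⟨r, hr, hrg⟩ := Matrix.SpecialLinearGroup.mem_center_iff.mp hg
    rw [Fintype.card_fin] at hr
    have h3 := FiniteField.pow_card r
    rw [hF, hr] at h3
    exact Subtype.ext (by rw [← hrg, ← h3, map_one]; rfl)
  intro x y hxy
  have := QuotientGroup.eq.mp hxy
  rw [h, Subgroup.mem_bot, inv_mul_eq_one] at this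
  exact this

theorem range_orderOf {F : Type*} [Field F] [Fintype F] (hF : Fintype.card F = 3) :
    Set.range (orderOf : Matrix.ProjectiveSpecialLinearGroup (Fin 3) F → ℕ) = {1, 2, 3, 4, 6, 8, 13} := by
  ext n
  constructor
  · rintro ⟨g, rfl⟩
    obtain ⟨g, rfl⟩ := QuotientGroup.mk'_surjective _ g
    have h : ∀ k, g ^ k = 1 → orderOf (QuotientGroup.mk' (Subgroup.center (Matrix.SpecialLinearGroup (Fin 3) F)) g) ∣ k :=
      fun k hk => (orderOf_map_dvd _ g).trans (orderOf_dvd_of_pow_eq_one hk)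
    have key : ∀ k ∈ [4, 6, 8, 13], ∀ d ∈ Nat.divisors k, d ∈ [1, 2, 3, 4, 6, 8, 13] := by decide
    have fin : ∀ k ∈ [4, 6, 8, 13], g ^ k = 1 → _ := fun k hk hgk =>
      key k hk _ (Nat.mem_divisors.mpr ⟨h k hgk, by rintro rfl; simp at hk⟩)
    simp only [Set.mem_insert_iff, Set.mem_singleton_iff]
    rcases sl_pow_cases hF g with h' | h' | h' | h'
    · simpa using fin 4 (by simp) h'
    · simpa using fin 6 (by simp) h'
    · simpa using fin 8 (by simp) h'
    · simpa using fin 13 (by simp) h'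
  · intro hn
    haveI : CharP F 3 := by
      obtain ⟨p, hp⟩ := CharP.exists F
      obtain ⟨k, hk, hq⟩ := FiniteField.card F p
      rw [hF] at hq
      have : p ∣ 3 := hq ▸ dvd_pow_self p k.ne_zero
      rwa [(Nat.prime_dvd_prime_iff_eq hk Nat.prime_three).mp this] at hp
    let f : ZMod 3 →+* F := ZMod.castHom dvd_rfl F
    have key : ∀ (A : Matrix.SpecialLinearGroup (Fin 3) (ZMod 3)) (m : ℕ), 0 < m → A ^ m = 1 →
        (∀ k < m, 0 < k → A ^ k ≠ 1) → ∀ d, d ∣ m → d ∈ Set.range (orderOf : Matrix.ProjectiveSpecialLinearGroup (Fin 3) F → ℕ) := by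
      intro A m hm hA hmin d hd
      let B := QuotientGroup.mk' (Subgroup.center (Matrix.SpecialLinearGroup (Fin 3) F)) (Matrix.SpecialLinearGroup.map f A)
      have hB : orderOf B = m := by
        rw [orderOf_injective _ (mk_injective hF), orderOf_injective]
        · exact (orderOf_eq_iff hm).mpr ⟨hA, hmin⟩
        · intro x y hxy
          ext i j
          exact f.injective (congrArg (fun z : Matrix.SpecialLinearGroup (Fin 3) F => (z : Matrix (Fin 3) (Fin 3) F) i j) hxy)
      exact ⟨B ^ (m / d), hB ▸ orderOf_pow_orderOf_div (hB ▸ hm.ne') (hB ▸ hd)⟩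
    simp only [Set.mem_insert_iff, Set.mem_singleton_iff] at hn
    have k6 := key ⟨!![0, 0, 1; 1, 0, 1; 0, 1, 2], by decide⟩ 6 (by norm_num) (by decide +kernel) (by decide +kernel)
    have k8 := key ⟨!![0, 0, 1; 1, 0, 0; 0, 1, 1], by decide⟩ 8 (by norm_num) (by decide +kernel) (by decide +kernel)
    have k13 := key ⟨!![0, 0, 1; 1, 0, 1; 0, 1, 0], by decide⟩ 13 (by norm_num) (by decide +kernel) (by decide +kernel)
    rcases hn with rfl | rfl | rfl | rfl | rfl | rfl | rfl
    · exact k6 1 (by norm_num)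
    · exact k6 2 (by norm_num)
    · exact k6 3 (by norm_num)
    · exact k8 4 (by norm_num)
    · exact k6 6 dvd_rfl
    · exact k8 8 dvd_rfl
    · exact k13 13 dvd_rfl

end Cfsg.Agent.SpectrumSL3Three
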