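import Mathlib

/-! The action of `GL(2)` on the projective line is sharply 3-transitive modulo scalars. -/

set_option autoImplicit false

namespace Cfsg.Agent.Recog.ProjLine

open Matrix
open scoped MatrixGroups LinearAlgebra.Projectivization

variable {F : Type*} [Field F]

abbrev P1 (F : Type*) [Field F] := Projectivization F (Fin 2 → F)

def e0 : Fin 2 → F := ![1, 0]
def e1 : Fin 2 → F := ![0, 1]
def e01 : Fin 2 → F := ![1, 1]

theorem e0_ne : (e0 : Fin 2 → F) ≠ 0 := fun h => one_ne_zero (congrFun h 0)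
theorem e1_ne : (e1 : Fin 2 → F) ≠ 0 := fun h => one_ne_zero (congrFun h 1)
theorem e01_ne : (e01 : Fin 2 → F) ≠ 0 := fun h => one_ne_zero (congrFun h 0)

def p0 : P1 F := Projectivization.mk F e0 e0_ne
def p1 : P1 F := Projectivization.mk F e1 e1_ne
def p01 : P1 F := Projectivization.mk F e01 e01_ne

theorem ne01 : (p0 : P1 F) ≠ p1 ∧ (p0 : P1 F) ≠ p01 ∧ (p1 : P1 F) ≠ p01 := by
  refine ⟨fun h => ?_, fun h => ?_, fun h => ?_⟩
  · obtain ⟨a, ha⟩ := (Projectivization.mk_eq_mk_iff' F e0 e1 e0_ne e1_ne).mp h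
    simpa [e0, e1] using congrFun ha 0
  · obtain ⟨a, ha⟩ := (Projectivization.mk_eq_mk_iff' F e0 e01 e0_ne e01_ne).mp h
    have h0 : a = 1 := by simpa [e0, e01] using congrFun ha 0
    simpa [h0, e0, e01] using congrFun ha 1
  · obtain ⟨a, ha⟩ := (Projectivization.mk_eq_mk_iff' F e1 e01 e1_ne e01_ne).mp h
    have h0 : a = 1 := by simpa [e1, e01] using congrFun ha 1
    simpa [h0, e1, e01] using congrFun ha 0

theorem exists_gl {a b c : P1 F} (hab : a ≠ b) (hac : a ≠ c) (hbc : b ≠ c) :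
    ∃ g : GL (Fin 2) F, g • (p0 : P1 F) = a ∧ g • (p1 : P1 F) = b ∧ g • (p01 : P1 F) = c := by
  induction a using Projectivization.ind with | h u hu => ?_
  induction b using Projectivization.ind with | h v hv => ?_
  induction c using Projectivization.ind with | h w hw => ?_
  have hd : u 0 * v 1 - u 1 * v 0 ≠ 0 := by
    intro hd
    apply hab
    rw [Projectivization.mk_eq_mk_iff']
    by_cases h0 : v 0 = 0
    · have h1 : v 1 ≠ 0 := fun h => hv (funext fun i => by fin_cases i <;> simpa)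
      have hu0 : u 0 = 0 := by
        rw [h0, mul_zero, sub_zero] at hd
        exact (mul_eq_zero.mp hd).resolve_right h1
      exact ⟨u 1 / v 1, funext fun i => by fin_cases i <;> simp [h0, hu0, h1]⟩
    · refine ⟨u 0 / v 0, funext fun i => ?_⟩
      fin_cases i
      · simp [h0]
      · simp only [Fin.mk_one, Pi.smul_apply, smul_eq_mul]
        field_simp
        linear_combination hd
  set α := (w 0 * v 1 - w 1 * v 0) / (u 0 * v 1 - u 1 * v 0) with hα
  set β := (u 0 * w 1 - u 1 * w 0) / (u 0 * v 1 - u 1 * v 0) with hβ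
  have hw0 : α * u 0 + β * v 0 = w 0 := by
    rw [hα, hβ, div_mul_eq_mul_div, div_mul_eq_mul_div, ← add_div, div_eq_iff hd]; ring
  have hw1 : α * u 1 + β * v 1 = w 1 := by
    rw [hα, hβ, div_mul_eq_mul_div, div_mul_eq_mul_div, ← add_div, div_eq_iff hd]; ring
  have hαn : α ≠ 0 := fun h => hbc ((Projectivization.mk_eq_mk_iff' F v w hv hw).mpr (by
    have h0 : β * v 0 = w 0 := by rw [← hw0, h]; ring
    have h1 : β * v 1 = w 1 := by rw [← hw1, h]; ring
    have hb : β ≠ 0 := fun h' => hw (funext fun i => by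
      fin_cases i
      · simpa [h'] using h0.symm
      · simpa [h'] using h1.symm)
    refine ⟨β⁻¹, funext fun i => ?_⟩
    fin_cases i
    · show β⁻¹ * w 0 = v 0
      rw [← h0, inv_mul_cancel_left₀ hb]
    · show β⁻¹ * w 1 = v 1
      rw [← h1, inv_mul_cancel_left₀ hb]))
  have hβn : β ≠ 0 := fun h => hac ((Projectivization.mk_eq_mk_iff' F u w hu hw).mpr (by
    have h0 : α * u 0 = w 0 := by rw [← hw0, h]; ring
    have h1 : α * u 1 = w 1 := by rw [← hw1, h]; ring
    refine ⟨α⁻¹, funext fun i => ?_⟩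
    fin_cases i
    · show α⁻¹ * w 0 = u 0
      rw [← h0, inv_mul_cancel_left₀ hαn]
    · show α⁻¹ * w 1 = u 1
      rw [← h1, inv_mul_cancel_left₀ hαn]))
  let M : Matrix (Fin 2) (Fin 2) F := !![α * u 0, β * v 0; α * u 1, β * v 1]
  have hM : M.det ≠ 0 := by
    rw [show M.det = α * β * (u 0 * v 1 - u 1 * v 0) by simp [M, Matrix.det_fin_two]; ring]
    exact mul_ne_zero (mul_ne_zero hαn hβn) hd
  refine ⟨GeneralLinearGroup.mkOfDetNeZero M hM, ?_, ?_, ?_⟩
  · rw [p0, Projectivization.smul_mk, Projectivization.mk_eq_mk_iff']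
    exact ⟨α, funext fun i => by fin_cases i <;> simp [M, e0, Units.smul_def, GeneralLinearGroup.mkOfDetNeZero, Matrix.vecHead, Matrix.vecTail]⟩
  · rw [p1, Projectivization.smul_mk, Projectivization.mk_eq_mk_iff']
    exact ⟨β, funext fun i => by fin_cases i <;> simp [M, e1, Units.smul_def, GeneralLinearGroup.mkOfDetNeZero, Matrix.vecHead, Matrix.vecTail]⟩
  · rw [p01, Projectivization.smul_mk, Projectivization.mk_eq_mk_iff']
    exact ⟨1, funext fun i => by fin_cases i <;> simp [M, e01, Units.smul_def, GeneralLinearGroup.mkOfDetNeZero, Matrix.vecHead, Matrix.vecTail, hw0, hw1]⟩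

theorem scalar_of_fix {g : GL (Fin 2) F} (h0 : g • (p0 : P1 F) = p0) (h1 : g • (p1 : P1 F) = p1)
    (h01 : g • (p01 : P1 F) = p01) : ∃ u : Fˣ, GeneralLinearGroup.scalar (Fin 2) u = g := by
  rw [p0, Projectivization.smul_mk, Projectivization.mk_eq_mk_iff'] at h0
  rw [p1, Projectivization.smul_mk, Projectivization.mk_eq_mk_iff'] at h1
  rw [p01, Projectivization.smul_mk, Projectivization.mk_eq_mk_iff'] at h01
  obtain ⟨a, ha⟩ := h0
  obtain ⟨b, hb⟩ := h1
  obtain ⟨c, hc⟩ := h01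
  have a0 := congrFun ha 0
  have a1 := congrFun ha 1
  have b0 := congrFun hb 0
  have b1 := congrFun hb 1
  have c0 := congrFun hc 0
  have c1 := congrFun hc 1
  simp [e0, e1, e01, Units.smul_def, Matrix.vecHead, Matrix.vecTail] at a0 a1 b0 b1 c0 c1
  have g10 : (g : Matrix (Fin 2) (Fin 2) F) 1 0 = 0 := a1.symm
  have g01 : (g : Matrix (Fin 2) (Fin 2) F) 0 1 = 0 := b0.symm
  rw [g01, add_zero] at c0
  rw [g10, zero_add] at c1
  have hac : (g : Matrix (Fin 2) (Fin 2) F) 1 1 = (g : Matrix (Fin 2) (Fin 2) F) 0 0 := c1.symm.trans c0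
  have hne : (g : Matrix (Fin 2) (Fin 2) F) 0 0 ≠ 0 := fun h =>
    GeneralLinearGroup.det_ne_zero g (by rw [Matrix.det_fin_two, g01, g10, h]; ring)
  refine ⟨Units.mk0 _ hne, Units.ext (Matrix.ext fun i j => ?_)⟩
  fin_cases i <;> fin_cases j <;> simp [GeneralLinearGroup.coe_scalar, g01, g10, hac, Matrix.diagonal]

theorem pgl_three : MulAction.IsMultiplyPretransitive (Matrix.ProjGenLinGroup (Fin 2) F) (P1 F) 3 ∧
    ∀ (g : Matrix.ProjGenLinGroup (Fin 2) F) (a b c : P1 F),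
      a ≠ b → a ≠ c → b ≠ c → g • a = a → g • b = b → g • c = c → g = 1 := by
  refine ⟨⟨fun x y => ?_⟩, fun g a b c hab hac hbc ha hb hc => ?_⟩
  · obtain ⟨g, g0, g1, g2⟩ := exists_gl (x.injective.ne (by decide : (0 : Fin 3) ≠ 1))
      (x.injective.ne (by decide : (0 : Fin 3) ≠ 2)) (x.injective.ne (by decide : (1 : Fin 3) ≠ 2))
    obtain ⟨k, k0, k1, k2⟩ := exists_gl (y.injective.ne (by decide : (0 : Fin 3) ≠ 1))
      (y.injective.ne (by decide : (0 : Fin 3) ≠ 2)) (y.injective.ne (by decide : (1 : Fin 3) ≠ 2))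
    refine ⟨Matrix.ProjGenLinGroup.mk (k * g⁻¹), ?_⟩
    ext i
    show (k * g⁻¹) • x i = y i
    fin_cases i
    · show (k * g⁻¹) • x 0 = y 0
      rw [mul_smul, ← g0, inv_smul_smul, k0]
    · show (k * g⁻¹) • x 1 = y 1
      rw [mul_smul, ← g1, inv_smul_smul, k1]
    · show (k * g⁻¹) • x 2 = y 2
      rw [mul_smul, ← g2, inv_smul_smul, k2]
  · obtain ⟨g, rfl⟩ := Matrix.ProjGenLinGroup.mk_surjective g
    obtain ⟨h, h0, h1, h2⟩ := exists_gl hab hac hbc
    have fx : ∀ (p q : P1 F), h • p = q → g • q = q → (h⁻¹ * g * h) • p = p := fun p q hp hq => by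
      rw [mul_smul, mul_smul, hp, hq, ← hp, inv_smul_smul]
    obtain ⟨u, hu⟩ := scalar_of_fix (fx _ _ h0 ha) (fx _ _ h1 hb) (fx _ _ h2 hc)
    have : Matrix.ProjGenLinGroup.mk (h⁻¹ * g * h) = 1 := by rw [← hu, Matrix.ProjGenLinGroup.mk_scalar]
    rw [map_mul, map_mul, map_inv] at this
    calc Matrix.ProjGenLinGroup.mk g = Matrix.ProjGenLinGroup.mk h *
        ((Matrix.ProjGenLinGroup.mk h)⁻¹ * Matrix.ProjGenLinGroup.mk g * Matrix.ProjGenLinGroup.mk h) *
        (Matrix.ProjGenLinGroup.mk h)⁻¹ := by group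
      _ = 1 := by rw [this]; group

end Cfsg.Agent.Recog.ProjLine
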