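import Mathlib
import Cfsg.Prelude.Def_LieRecognition
import Cfsg.Agent.Lib.Recog.SU3Sylow

/-!
# Elementary properties of the model `UT F q`
-/

set_option autoImplicit false

open Cfsg Cfsg.Agent.Classical
open scoped commutatorElement

namespace Cfsg.Agent.Recog.SU3Two

variable {F : Type*} [Field F] [Fintype F] [CharP F 2] {q : ℕ} [hF : Fact (Fintype.card F = q ^ 2)]

namespace UT

theorem sq_eq_one_iff' (u : UT F q) : u ^ 2 = 1 ↔ u.a = 0 := by
  constructor
  · intro h
    have h' := congrArg UT.b h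
    rw [sq_b, one_b, mul_eq_zero] at h'
    rcases h' with h' | h'
    · exact h'
    · exact eq_zero_of_pow_eq_zero h'
  · intro h
    ext
    · rw [sq_a, one_a]
    · rw [sq_b, h, zero_mul, one_b]

/-- the centre -/
def centerEquiv : Subgroup.center (UT F q) ≃ Fx F q where
  toFun u := ⟨u.1.b, by
    have h := u.1.eq
    rw [(mem_center_iff u.1).mp u.2, zero_mul, CharTwo.add_eq_zero] at h
    exact h.symm⟩
  invFun k := ⟨z k, (mem_center_iff _).mpr rfl⟩
  left_inv u := Subtype.ext (UT.ext ((mem_center_iff u.1).mp u.2).symm rfl)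
  right_inv k := rfl

theorem card_center : Nat.card (Subgroup.center (UT F q)) = q := by rw [Nat.card_congr centerEquiv, card_Fx]

theorem z_comm_mem (k : Fx F q) : z k ∈ commutator (UT F q) := by
  obtain ⟨x, hx⟩ := exists_trq_one (F := F) (q := q)
  obtain ⟨u, hu⟩ := exists_mk (q := q) (1 : F)
  obtain ⟨v, hv⟩ := exists_mk (q := q) ((k : F) * x)
  have hk : (k : F) ^ q = k := k.2
  have h : u * v = z k * (v * u) := by
    ext
    · simp only [mul_a, z, zero_add]; ring
    · simp only [mul_b, mul_a, z, hu, hv, one_pow, mul_pow, hk, one_mul, pq_zero, zero_mul, mul_one]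
      linear_combination (k : F) * hx - (k : F) * x ^ q * CharTwo.two_eq_zero (R := F) - (0 : F) * hx
  have h2 : z k = ⁅u, v⁆ := by
    rw [commutatorElement_def, eq_comm, mul_inv_eq_iff_eq_mul, mul_inv_eq_iff_eq_mul, mul_assoc]
    exact h
  rw [h2]
  exact Subgroup.commutator_mem_commutator (Subgroup.mem_top u) (Subgroup.mem_top v)

/-- scaling automorphisms -/
def scale (c : Fˣ) : UT F q ≃* UT F q where
  toFun u := ⟨c * u.a, (c : F) * (c : F) ^ q * u.b, by
    rw [mul_pow, mul_pow, mul_pow, pq_pq]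
    linear_combination ((c : F) * (c : F) ^ q) * u.eq⟩
  invFun u := ⟨(c⁻¹ : Fˣ) * u.a, ((c⁻¹ : Fˣ) : F) * ((c⁻¹ : Fˣ) : F) ^ q * u.b, by
    rw [mul_pow, mul_pow, mul_pow, pq_pq]
    linear_combination (((c⁻¹ : Fˣ) : F) * ((c⁻¹ : Fˣ) : F) ^ q) * u.eq⟩
  left_inv u := by
    ext
    · simp
    · show ((c⁻¹ : Fˣ) : F) * ((c⁻¹ : Fˣ) : F) ^ q * ((c : F) * (c : F) ^ q * u.b) = u.b
      rw [show ((c⁻¹ : Fˣ) : F) * ((c⁻¹ : Fˣ) : F) ^ q * ((c : F) * (c : F) ^ q * u.b) =
        (((c⁻¹ : Fˣ) : F) * c) * (((c⁻¹ : Fˣ) : F) * c) ^ q * u.b by ring]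
      simp
  right_inv u := by
    ext
    · simp
    · show (c : F) * (c : F) ^ q * (((c⁻¹ : Fˣ) : F) * ((c⁻¹ : Fˣ) : F) ^ q * u.b) = u.b
      rw [show (c : F) * (c : F) ^ q * (((c⁻¹ : Fˣ) : F) * ((c⁻¹ : Fˣ) : F) ^ q * u.b) =
        ((c : F) * ((c⁻¹ : Fˣ) : F)) * ((c : F) * ((c⁻¹ : Fˣ) : F)) ^ q * u.b by ring]
      simp
  map_mul' u v := by
    ext
    · exact mul_add _ _ _
    · show (c : F) * (c : F) ^ q * (u.b + v.b + u.a ^ q * v.a) =
        (c : F) * (c : F) ^ q * u.b + (c : F) * (c : F) ^ q * v.b + ((c : F) * u.a) ^ q * ((c : F) * v.a)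
      ring

/-- scaling as a homomorphism -/
def scaleHom : Fˣ →* MulAut (UT F q) where
  toFun := scale
  map_one' := by
    refine MulEquiv.ext fun u => ?_
    ext <;> simp [scale]
  map_mul' c d := by
    refine MulEquiv.ext fun u => ?_
    ext
    · show ((c * d : Fˣ) : F) * u.a = (c : F) * ((d : F) * u.a)
      rw [Units.val_mul, mul_assoc]
    · show ((c * d : Fˣ) : F) * ((c * d : Fˣ) : F) ^ q * u.b = (c : F) * (c : F) ^ q * ((d : F) * (d : F) ^ q * u.b)
      rw [Units.val_mul, mul_pow]; ring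

theorem isSuzuki {n : ℕ} (hn : 2 ≤ n) (hq : q = 2 ^ n) : IsSuzukiTwoGroup (UT F q) := by
  have hq4 : 4 ≤ q := hq ▸ Nat.pow_le_pow_right two_pos hn
  refine ⟨inferInstance, isPGroup hq, ?_, ?_, ?_⟩
  · by_contra h
    push Not at h
    obtain ⟨u, hu⟩ := exists_mk (q := q) (1 : F)
    have := (mem_center_iff u).mp (Subgroup.mem_center_iff.mpr fun v => h v u)
    rw [hu] at this
    exact one_ne_zero this
  · haveI : Nontrivial (Fx F q) := Finite.one_lt_card_iff_nontrivial.mp (by rw [card_Fx]; omega)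
    haveI := Fintype.ofFinite (Fx F q)
    obtain ⟨k, l, hk, hl, hkl⟩ : ∃ k l : Fx F q, k ≠ 0 ∧ l ≠ 0 ∧ k ≠ l := by
      classical
      have h3 : 2 ≤ ((Finset.univ : Finset (Fx F q)).erase 0).card := by
        rw [Finset.card_erase_of_mem (Finset.mem_univ _), Finset.card_univ, ← Nat.card_eq_fintype_card, card_Fx]; omega
      obtain ⟨k, hk, l, hl, hkl⟩ := Finset.one_lt_card.mp h3
      exact ⟨k, l, (Finset.mem_erase.mp hk).1, (Finset.mem_erase.mp hl).1, hkl⟩
    refine ⟨z k, z l, fun h => hkl (Subtype.ext (congrArg UT.b h)), fun h => hk (Subtype.ext (congrArg UT.b h)), ?_,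
      fun h => hl (Subtype.ext (congrArg UT.b h)), ?_⟩ <;> rw [← sq, sq_eq_one_iff'] <;> rfl
  · let U : Subgroup Fˣ :=
      { carrier := {c | (c : F) ^ q = c}
        one_mem' := by simp
        mul_mem' := fun {c d} hc hd => by
          show ((c * d : Fˣ) : F) ^ q = ((c * d : Fˣ) : F)
          rw [Units.val_mul, mul_pow, show (c : F) ^ q = c from hc, show (d : F) ^ q = d from hd]
        inv_mem' := fun {c} hc => by
          show ((c⁻¹ : Fˣ) : F) ^ q = ((c⁻¹ : Fˣ) : F)
          rw [Units.val_inv_eq_inv_val, inv_pow, show (c : F) ^ q = c from hc] }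
    refine ⟨U.map scaleHom, ?_, ?_⟩
    · haveI : IsCyclic U := inferInstance
      exact isCyclic_of_surjective _ (scaleHom.subgroupMap_surjective U)
    · intro u v hu hu2 hv hv2
      rw [← sq, sq_eq_one_iff'] at hu2 hv2
      have hub : u.b ≠ 0 := fun h => hu (UT.ext hu2 h)
      have hvb : v.b ≠ 0 := fun h => hv (UT.ext hv2 h)
      have huF : u.b ^ q = u.b := by
        have h := u.eq
        rw [hu2, zero_mul, CharTwo.add_eq_zero] at h
        exact h.symm
      have hvF : v.b ^ q = v.b := by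
        have h := v.eq
        rw [hv2, zero_mul, CharTwo.add_eq_zero] at h
        exact h.symm
      haveI : Fact (Nat.Prime 2) := ⟨Nat.prime_two⟩
      have hrat : (v.b / u.b) ^ q = v.b / u.b := by rw [div_pow, hvF, huF]
      obtain ⟨r, hr⟩ := (PerfectRing.bijective_frobenius (R := F) (p := 2)).2 (v.b / u.b)
      have hr' : r ^ 2 = v.b / u.b := hr
      have hr0 : r ≠ 0 := by
        intro h
        rw [h, zero_pow two_ne_zero] at hr'
        exact div_ne_zero hvb hub hr'.symm
      have hrF : r ^ q = r := frobenius_inj F 2 (show (r ^ q) ^ 2 = r ^ 2 by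
        rw [← pow_mul, mul_comm, pow_mul, hr', hrat])
      refine ⟨⟨scale (Units.mk0 r hr0), Units.mk0 r hr0, hrF, rfl⟩, ?_, ?_⟩
      · ext
        · show r * u.a = v.a
          rw [hu2, hv2, mul_zero]
        · show r * r ^ q * u.b = v.b
          rw [hrF, ← sq, hr', div_mul_cancel₀ _ hub]
      · rintro ⟨_, d, hd, rfl⟩ hk
        refine Subtype.ext (congrArg scale (Units.ext ?_))
        show (d : F) = r
        have h := congrArg UT.b (show scale d u = v from hk)
        have hd' : (d : F) ^ q = d := hd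
        have h' : (d : F) * (d : F) ^ q * u.b = v.b := h
        rw [hd', ← sq] at h'
        refine frobenius_inj F 2 (show (d : F) ^ 2 = r ^ 2 from ?_)
        rw [hr', eq_div_iff hub, h']

end UT

theorem isSuzuki_congr {P Q : Type*} [Group P] [Group Q] (e : P ≃* Q) (h : IsSuzukiTwoGroup P) : IsSuzukiTwoGroup Q := by
  obtain ⟨hfin, hp, ⟨x, y, hxy⟩, ⟨s, t, hst, hs1, hs2, ht1, ht2⟩, K, hK, hreg⟩ := h
  haveI := hfin
  refine ⟨Finite.of_equiv _ e.toEquiv, hp.of_equiv e, ⟨e x, e y, fun h => hxy (e.injective (by rw [map_mul, map_mul, h]))⟩,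
    ⟨e s, e t, fun h => hst (e.injective h), fun h => hs1 (e.injective (h.trans (map_one e).symm)),
      by rw [← map_mul, hs2, map_one], fun h => ht1 (e.injective (h.trans (map_one e).symm)), by rw [← map_mul, ht2, map_one]⟩,
    K.map (MulAut.congr e).toMonoidHom, ?_, ?_⟩
  · haveI := hK
    exact isCyclic_of_surjective _ ((MulAut.congr e).toMonoidHom.subgroupMap_surjective K)
  · intro a b ha ha2 hb hb2
    obtain ⟨k, hk, huniq⟩ := hreg (e.symm a) (e.symm b) (fun h => ha (e.symm.injective (h.trans (map_one e.symm).symm)))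
      (by rw [← map_mul, ha2, map_one]) (fun h => hb (e.symm.injective (h.trans (map_one e.symm).symm)))
      (by rw [← map_mul, hb2, map_one])
    refine ⟨⟨MulAut.congr e k, k, k.2, rfl⟩, ?_, ?_⟩
    · show e ((k : MulAut P) (e.symm a)) = b
      rw [hk, e.apply_symm_apply]
    · rintro ⟨_, l, hl, rfl⟩ h
      have h' : e (l (e.symm a)) = b := h
      have := huniq ⟨l, hl⟩ (by show l (e.symm a) = e.symm b; rw [← h', e.symm_apply_apply])
      exact Subtype.ext (congrArg (MulAut.congr e) (congrArg Subtype.val this))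

end Cfsg.Agent.Recog.SU3Two
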