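import Mathlib

/-!
Primitive prime divisors of `a ^ n - 1`: Zsigmondy's theorem and Feit's large primitive divisors.
-/

set_option autoImplicit false

namespace Cfsg.Agent.Recog.Zsigmondy

open Polynomial

/-- `p` is a primitive prime divisor of `a ^ n - 1` -/
def Primitive (a n p : ℕ) : Prop := p.Prime ∧ p ∣ a ^ n - 1 ∧ ∀ i : ℕ, 1 ≤ i → i < n → ¬ p ∣ a ^ i - 1

/-- the absolute value of the cyclotomic polynomial at `a` -/
noncomputable def phi (n a : ℕ) : ℕ := ((cyclotomic n ℤ).eval (a : ℤ)).natAbs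

theorem cast_sub_one {a i : ℕ} (ha : 1 ≤ a) : ((a ^ i - 1 : ℕ) : ℤ) = (a : ℤ) ^ i - 1 := by
  rw [Nat.cast_sub (Nat.one_le_pow _ _ ha)]; push_cast; rfl

theorem phi_dvd (n : ℕ) {a : ℕ} (ha : 1 ≤ a) : phi n a ∣ a ^ n - 1 := by
  have h := eval_dvd (x := (a : ℤ)) (cyclotomic.dvd_X_pow_sub_one n ℤ)
  rw [eval_sub, eval_pow, eval_X, eval_one, ← cast_sub_one ha] at h
  exact Int.natCast_dvd_natCast.mp (Int.natAbs_dvd.mpr h)

theorem isRoot_of_dvd {n a p : ℕ} (h : p ∣ phi n a) : (cyclotomic n (ZMod p)).IsRoot (a : ZMod p) := by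
  rw [IsRoot, ← map_cyclotomic n (Int.castRingHom (ZMod p)), eval_map,
    show (a : ZMod p) = Int.castRingHom (ZMod p) (a : ℤ) by simp, eval₂_at_apply, eq_intCast,
    ZMod.intCast_zmod_eq_zero_iff_dvd]
  exact Int.natCast_dvd.mpr h

theorem dvd_pow_sub_one_iff {a i p : ℕ} [Fact p.Prime] (ha : 1 ≤ a) :
    p ∣ a ^ i - 1 ↔ (a : ZMod p) ^ i = 1 := by
  rw [← ZMod.natCast_eq_zero_iff, Nat.cast_sub (Nat.one_le_pow _ _ ha), Nat.cast_pow, Nat.cast_one, sub_eq_zero]

theorem dichotomy {n a p : ℕ} (hn : 0 < n) (ha : 1 ≤ a) (hp : p.Prime) (h : p ∣ phi n a) :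
    (Primitive a n p ∧ n ∣ p - 1) ∨
      ∃ k m : ℕ, 0 < k ∧ n = p ^ k * m ∧ m ∣ p - 1 ∧ orderOf (a : ZMod p) = m := by
  haveI := Fact.mk hp
  have hroot := isRoot_of_dvd h
  have hane : (a : ZMod p) ≠ 0 := by
    intro h0
    have h1 := (dvd_pow_sub_one_iff (p := p) ha).mp (h.trans (phi_dvd n ha))
    rw [h0, zero_pow hn.ne'] at h1
    exact zero_ne_one h1
  have hord : ∀ m, orderOf (a : ZMod p) = m → m ∣ p - 1 := fun m hm =>
    hm ▸ ZMod.orderOf_dvd_card_sub_one hane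
  obtain ⟨k, m, hm, hnm⟩ := Nat.exists_eq_pow_mul_and_not_dvd hn.ne' p hp.ne_one
  haveI : NeZero (m : ZMod p) := ⟨fun h0 => hm ((ZMod.natCast_eq_zero_iff m p).mp h0)⟩
  rw [hnm, isRoot_cyclotomic_prime_pow_mul_iff_of_charP] at hroot
  have hmo : orderOf (a : ZMod p) = m := hroot.eq_orderOf.symm
  rcases Nat.eq_zero_or_pos k with rfl | hk
  · rw [pow_zero, one_mul] at hnm
    subst hnm
    refine Or.inl ⟨⟨hp, h.trans (phi_dvd n ha), fun i hi hin hd => ?_⟩, hord _ hmo⟩
    have hd' := orderOf_dvd_of_pow_eq_one ((dvd_pow_sub_one_iff ha).mp hd)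
    rw [hmo] at hd'
    exact absurd (Nat.le_of_dvd hi hd') (not_le.mpr hin)
  · exact Or.inr ⟨k, m, hk, hnm, hord _ hmo, hmo⟩

theorem exceptional_unique {n a p q : ℕ} (hn : 0 < n) (ha : 1 ≤ a) (hp : p.Prime) (hq : q.Prime)
    (hpd : p ∣ phi n a) (hqd : q ∣ phi n a) (hpn : p ∣ n) (hqn : q ∣ n) : p = q := by
  by_contra hne
  have key : ∀ p q : ℕ, p.Prime → q.Prime → p ≠ q → p ∣ phi n a → p ∣ n → q ∣ n → q < p := by
    intro p q hp hq hne hpd hpn hqn
    rcases dichotomy hn ha hp hpd with ⟨-, h⟩ | ⟨k, m, -, hnm, hm, -⟩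
    · have := Nat.le_of_dvd (by have := hp.two_le; omega) (hpn.trans h)
      have := hp.two_le
      omega
    · have hqm : q ∣ m := by
        rw [hnm] at hqn
        rcases hq.dvd_mul.mp hqn with h | h
        · exact absurd ((Nat.prime_dvd_prime_iff_eq hq hp).mp (hq.dvd_of_dvd_pow h)).symm hne
        · exact h
      have := Nat.le_of_dvd (by have := hp.two_le; omega) (hqm.trans hm)
      have := hp.two_le
      omega
  have h1 := key p q hp hq hne hpd hpn hqn
  have h2 := key q p hq hp (Ne.symm hne) hqd hqn hpn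
  omega

theorem sq_not_dvd {n a p : ℕ} (hn : 3 ≤ n) (ha : 2 ≤ a) (hp : p.Prime) (hpn : p ∣ n) :
    ¬ p ^ 2 ∣ phi n a := by
  intro h2
  have hpd : p ∣ phi n a := (dvd_pow_self p two_ne_zero).trans h2
  haveI := Fact.mk hp
  rcases dichotomy (by omega) (by omega) hp hpd with ⟨-, hdvd⟩ | ⟨k, m, hk, hnm, hm, hord⟩
  · have := Nat.le_of_dvd (by have := hp.two_le; omega) (hpn.trans hdvd)
    have := hp.two_le
    omega
  obtain ⟨j, rfl⟩ : ∃ j, k = j + 1 := ⟨k - 1, by omega⟩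
  set n' := p ^ j * m with hn'
  have hnn : n = n' * p := by rw [hnm, hn', pow_succ]; ring
  have hn'pos : 0 < n' := by
    rcases Nat.eq_zero_or_pos n' with h | h
    · rw [h, zero_mul] at hnn; omega
    · exact h
  have hmem : n' ∈ n.properDivisors := Nat.mem_properDivisors.mpr
    ⟨⟨p, hnn⟩, by rw [hnn]; exact lt_mul_of_one_lt_right hn'pos hp.one_lt⟩
  have hdiv := eval_dvd (x := (a : ℤ)) (X_pow_sub_one_mul_cyclotomic_dvd_X_pow_sub_one_of_dvd ℤ hmem)
  simp only [eval_mul, eval_sub, eval_pow, eval_X, eval_one] at hdiv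
  set c : ℤ := (a : ℤ) ^ n' with hc
  have hc1 : 1 < c := by
    have h2a : (2 : ℤ) ≤ (a : ℤ) := by exact_mod_cast ha
    exact lt_of_lt_of_le (by omega : (1 : ℤ) < (a : ℤ)) (le_self_pow₀ (by omega) hn'pos.ne')
  rw [hnn, pow_mul, ← hc, ← mul_geom_sum c p] at hdiv
  have hS := (mul_dvd_mul_iff_left (show c - 1 ≠ 0 by omega)).mp hdiv
  have hp2 : ((p : ℤ)) ^ 2 ∣ ∑ i ∈ Finset.range p, c ^ i := by
    refine dvd_trans ?_ hS
    have := Int.natCast_dvd.mpr h2
    rw [hnn] at this; exact_mod_cast this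
  have hcp : (p : ℤ) ∣ c - 1 := by
    have h1 : (a : ZMod p) ^ n' = 1 := by
      rw [← orderOf_dvd_iff_pow_eq_one, hord, hn']; exact dvd_mul_left m _
    rw [← ZMod.intCast_zmod_eq_zero_iff_dvd, hc]
    push_cast
    rw [h1, sub_self]
  obtain ⟨t, ht⟩ := hcp
  rcases hp.eq_two_or_odd' with rfl | hodd
  · -- `c` is an odd square
    have hm1 : m = 1 := Nat.eq_one_of_dvd_one (by simpa using hm)
    subst hm1
    rw [Finset.sum_range_succ, Finset.sum_range_one, pow_zero, pow_one] at hp2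
    obtain ⟨i, rfl⟩ : ∃ i, j = i + 1 := ⟨j - 1, by
      rcases Nat.eq_zero_or_pos j with rfl | hj
      · simp [hn'] at hnn; omega
      · omega⟩
    have hc' : c = ((a : ℤ) ^ (2 ^ i)) ^ 2 := by rw [hc, hn', ← pow_mul, mul_one, pow_succ]
    push_cast at ht hp2
    obtain ⟨s, hs⟩ := hp2
    rcases Int.even_or_odd ((a : ℤ) ^ (2 ^ i)) with ⟨u, hu⟩ | ⟨u, hu⟩
    · rw [hu] at hc'
      rw [show (u + u) ^ 2 = 4 * u ^ 2 by ring] at hc'
      omega
    · rw [hu] at hc'
      rw [show (2 * u + 1) ^ 2 = 4 * (u * u + u) + 1 by ring] at hc'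
      omega
  · have h := odd_sq_dvd_geom_sum₂_sub (R := ℤ) (a := 1) (b := t) hodd
    simp only [one_pow, mul_one] at h
    rw [show (1 : ℤ) + p * t = c by rw [← ht]; ring] at h
    have h3 := dvd_sub hp2 h
    rw [sub_sub_cancel] at h3
    have h4 : p ^ 2 ∣ p := by exact_mod_cast h3
    have := Nat.le_of_dvd hp.pos h4
    have := hp.two_le
    nlinarith

theorem phi_cast {a : ℕ} (ha : 2 ≤ a) (n : ℕ) : (phi n a : ℝ) = (cyclotomic n ℝ).eval (a : ℝ) := by
  have h : (((cyclotomic n ℤ).eval (a : ℤ) : ℤ) : ℝ) = (cyclotomic n ℝ).eval (a : ℝ) := by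
    rw [← map_cyclotomic n (Int.castRingHom ℝ), eval_map, show (a : ℝ) = Int.castRingHom ℝ (a : ℤ) by simp,
      eval₂_at_apply]
    rfl
  have h0 : 0 ≤ (cyclotomic n ℝ).eval (a : ℝ) := cyclotomic_nonneg n (by exact_mod_cast (by omega : 1 ≤ a))
  rw [phi, Nat.cast_natAbs, Int.cast_abs, h, abs_of_nonneg h0]

theorem phi_upper {a : ℕ} (ha : 2 ≤ a) (n : ℕ) : phi n a ≤ (a + 1) ^ n.totient := by
  have h := cyclotomic_eval_le_add_one_pow_totient (q := (a : ℝ)) (by exact_mod_cast (by omega : 1 < a)) n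
  rw [← phi_cast ha] at h
  exact_mod_cast h

theorem phi_lower {a : ℕ} (ha : 2 ≤ a) (n : ℕ) (hn : 0 < n) : (a - 1) ^ n.totient ≤ phi n a := by
  rcases Nat.lt_or_ge 1 n with h | h
  · exact (sub_one_pow_totient_lt_natAbs_cyclotomic_eval h (by omega)).le
  · obtain rfl : n = 1 := by omega
    simp [phi, cyclotomic_one]
    omega

theorem phi_mul_of_dvd {p m : ℕ} (hp : p.Prime) (h : p ∣ m) (a : ℕ) : phi (m * p) a = phi m (a ^ p) := by
  rw [phi, phi, ← cyclotomic_expand_eq_cyclotomic hp h ℤ, expand_eval, Nat.cast_pow]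

theorem phi_mul_of_not_dvd {p m : ℕ} (hp : p.Prime) (h : ¬ p ∣ m) (a : ℕ) :
    phi (m * p) a * phi m a = phi m (a ^ p) := by
  rw [phi, phi, phi, ← Int.natAbs_mul, ← eval_mul, ← cyclotomic_expand_eq_cyclotomic_mul hp h ℤ, expand_eval,
    Nat.cast_pow]

theorem base_sq {p : ℕ} (hp : 2 ≤ p) : 2 ^ (3 * p) ≤ (2 ^ p - 1) ^ 4 := by
  induction p, hp using Nat.le_induction with
  | base => norm_num
  | succ p hp ih =>
    have h1 : 2 ^ (3 * (p + 1)) = 8 * 2 ^ (3 * p) := by ring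
    have h2 : 2 * (2 ^ p - 1) + 1 = 2 ^ (p + 1) - 1 := by
      have := Nat.one_le_two_pow (n := p); rw [pow_succ]; omega
    calc 2 ^ (3 * (p + 1)) = 8 * 2 ^ (3 * p) := h1
      _ ≤ 16 * (2 ^ p - 1) ^ 4 := Nat.mul_le_mul (by norm_num) ih
      _ = (2 * (2 ^ p - 1)) ^ 4 := by ring
      _ ≤ (2 ^ (p + 1) - 1) ^ 4 := Nat.pow_le_pow_left (by omega) 4

theorem base_five {p : ℕ} (hp : 5 ≤ p) : 81 * 2 ^ (3 * (p - 1)) ≤ (2 ^ p - 1) ^ 4 := by
  induction p, hp using Nat.le_induction with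
  | base => norm_num
  | succ p hp ih =>
    have h1 : 81 * 2 ^ (3 * (p + 1 - 1)) = 8 * (81 * 2 ^ (3 * (p - 1))) := by
      rw [show 3 * (p + 1 - 1) = 3 * (p - 1) + 3 by omega, pow_add]; ring
    have h2 : 2 * (2 ^ p - 1) + 1 = 2 ^ (p + 1) - 1 := by
      have := Nat.one_le_two_pow (n := p); rw [pow_succ]; omega
    calc 81 * 2 ^ (3 * (p + 1 - 1)) = 8 * (81 * 2 ^ (3 * (p - 1))) := h1
      _ ≤ 16 * (2 ^ p - 1) ^ 4 := Nat.mul_le_mul (by norm_num) ih
      _ = (2 * (2 ^ p - 1)) ^ 4 := by ring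
      _ ≤ (2 ^ (p + 1) - 1) ^ 4 := Nat.pow_le_pow_left (by omega) 4

theorem lower_two (n : ℕ) (hn : 2 ≤ n) : 2 ^ (3 * n.totient) ≤ phi n 2 ^ 4 := by
  by_cases hsq : ∃ p, p.Prime ∧ p * p ∣ n
  · obtain ⟨p, hp, c, rfl⟩ := hsq
    rw [show p * p * c = p * c * p by ring] at hn ⊢
    have hd : p ∣ p * c := dvd_mul_right p c
    have hpos : 0 < p * c := by
      rcases Nat.eq_zero_or_pos (p * c) with h | h
      · rw [h, zero_mul] at hn; omega
      · exact h
    have ht : (p * c * p).totient = p * (p * c).totient := by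
      rw [mul_comm _ p]; exact Nat.totient_mul_of_prime_of_dvd hp hd
    have hb : 2 ≤ 2 ^ p := le_self_pow₀ one_le_two hp.ne_zero
    rw [ht, phi_mul_of_dvd hp hd]
    calc 2 ^ (3 * (p * (p * c).totient)) = (2 ^ (3 * p)) ^ (p * c).totient := by rw [← pow_mul, mul_assoc]
      _ ≤ ((2 ^ p - 1) ^ 4) ^ (p * c).totient := Nat.pow_le_pow_left (base_sq hp.two_le) _
      _ = ((2 ^ p - 1) ^ (p * c).totient) ^ 4 := by rw [← pow_mul, ← pow_mul, mul_comm]
      _ ≤ phi (p * c) (2 ^ p) ^ 4 := Nat.pow_le_pow_left (phi_lower hb _ hpos) 4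
  push Not at hsq
  by_cases h5 : ∃ p, p.Prime ∧ 5 ≤ p ∧ p ∣ n
  · obtain ⟨p, hp, hp5, m, rfl⟩ := h5
    have hd : ¬ p ∣ m := fun h => hsq p hp (mul_dvd_mul_left p h)
    have hpos : 0 < m := Nat.pos_of_ne_zero fun h => by rw [h, mul_zero] at hn; omega
    have ht : (p * m).totient = (p - 1) * m.totient := Nat.totient_mul_of_prime_of_not_dvd hp hd
    have hb : 2 ≤ 2 ^ p := le_self_pow₀ one_le_two hp.ne_zero
    have e := phi_mul_of_not_dvd hp hd 2
    rw [mul_comm m p] at e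
    have hu : phi m 2 ^ 4 ≤ 81 ^ m.totient := by
      calc phi m 2 ^ 4 ≤ ((2 + 1) ^ m.totient) ^ 4 := Nat.pow_le_pow_left (phi_upper le_rfl m) 4
        _ = 81 ^ m.totient := by rw [← pow_mul, mul_comm, pow_mul]; norm_num
    rw [ht]
    refine Nat.le_of_mul_le_mul_right ?_ (show 0 < 81 ^ m.totient by positivity)
    calc 2 ^ (3 * ((p - 1) * m.totient)) * 81 ^ m.totient = (81 * 2 ^ (3 * (p - 1))) ^ m.totient := by
          rw [mul_pow, ← pow_mul, mul_assoc 3, mul_comm]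
      _ ≤ ((2 ^ p - 1) ^ 4) ^ m.totient := Nat.pow_le_pow_left (base_five hp5) _
      _ = ((2 ^ p - 1) ^ m.totient) ^ 4 := by rw [← pow_mul, ← pow_mul, mul_comm]
      _ ≤ (phi (p * m) 2 * phi m 2) ^ 4 := by rw [e]; exact Nat.pow_le_pow_left (phi_lower hb _ hpos) 4
      _ ≤ phi (p * m) 2 ^ 4 * 81 ^ m.totient := by rw [mul_pow]; exact Nat.mul_le_mul_left _ hu
  push Not at h5
  have h6 : n ∣ 6 := by
    have hsf : Squarefree n := Nat.squarefree_iff_prime_squarefree.mpr fun x hx => hsq x hx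
    rw [← Nat.prod_primeFactors_of_squarefree hsf]
    have hsub : n.primeFactors ⊆ {2, 3} := fun p hp => by
      obtain ⟨hp1, hp2, -⟩ := Nat.mem_primeFactors.mp hp
      have h1 := hp1.two_le
      by_contra h
      simp only [Finset.mem_insert, Finset.mem_singleton, not_or] at h
      have hp4 : p ≠ 4 := fun h4 => by rw [h4] at hp1; norm_num at hp1
      exact h5 p hp1 (by omega) hp2
    exact (Finset.prod_dvd_prod_of_subset _ _ _ hsub).trans (dvd_of_eq (by norm_num))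
  have hle := Nat.le_of_dvd (by norm_num) h6
  interval_cases n <;> first | omega | skip
  · rw [Nat.totient_prime Nat.prime_two]; simp [phi, cyclotomic_two]
  · rw [Nat.totient_prime Nat.prime_three]; simp [phi, cyclotomic_three]
  · rw [show (6 : ℕ).totient = 2 by decide, phi, cyclotomic_six]; simp

theorem two_mul_totient_sq : ∀ n : ℕ, (Odd n → n ≤ n.totient ^ 2) ∧ n ≤ 2 * n.totient ^ 2 := by
  intro n
  induction n using Nat.recOnPosPrimePosCoprime with
  | zero => simp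
  | one => simp
  | prime_pow p k hp hk =>
    obtain ⟨j, rfl⟩ : ∃ j, k = j + 1 := ⟨k - 1, by omega⟩
    rw [Nat.totient_prime_pow_succ hp, mul_pow, pow_succ p j]
    have hj : p ^ j ≤ (p ^ j) ^ 2 := Nat.le_self_pow two_ne_zero _
    rcases hp.eq_two_or_odd' with rfl | hodd
    · refine ⟨fun h => absurd h ?_, ?_⟩
      · rw [Nat.not_odd_iff_even]; exact even_two.mul_left _
      · calc 2 ^ j * 2 ≤ (2 ^ j) ^ 2 * 2 := Nat.mul_le_mul_right 2 hj
          _ = 2 * ((2 ^ j) ^ 2 * (2 - 1) ^ 2) := by norm_num; ring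
    · have h3 : 3 ≤ p := by
        have := hp.two_le
        obtain ⟨u, hu⟩ := hodd
        omega
      have h : p ≤ (p - 1) ^ 2 := by
        obtain ⟨u, rfl⟩ : ∃ u, p = u + 3 := ⟨p - 3, by omega⟩
        rw [show u + 3 - 1 = u + 2 by omega]; nlinarith
      have h2 : p ^ j * p ≤ (p ^ j) ^ 2 * (p - 1) ^ 2 := Nat.mul_le_mul hj h
      exact ⟨fun _ => h2, by omega⟩
  | coprime a b ha hb hab iha ihb =>
    rw [Nat.totient_mul hab, mul_pow]
    refine ⟨fun h => Nat.mul_le_mul (iha.1 (Nat.odd_mul.mp h).1) (ihb.1 (Nat.odd_mul.mp h).2), ?_⟩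
    rcases Nat.even_or_odd a with hae | hao
    · have hbo : Odd b := by
        rw [← Nat.not_even_iff_odd]; intro hbe
        exact Nat.not_coprime_of_dvd_of_dvd one_lt_two hae.two_dvd hbe.two_dvd hab
      calc a * b ≤ 2 * a.totient ^ 2 * b.totient ^ 2 := Nat.mul_le_mul iha.2 (ihb.1 hbo)
        _ = 2 * (a.totient ^ 2 * b.totient ^ 2) := by ring
    · calc a * b ≤ a.totient ^ 2 * (2 * b.totient ^ 2) := Nat.mul_le_mul (iha.1 hao) ihb.2
        _ = 2 * (a.totient ^ 2 * b.totient ^ 2) := by ring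

/-- coprime counting, kernel friendly -/
def tot (n : ℕ) : ℕ := ((List.range n).filter fun a => Nat.gcd n a == 1).length

theorem tot_eq (n : ℕ) : tot n = n.totient := by
  rw [Nat.totient_eq_card_coprime, tot, ← List.toFinset_card_of_nodup (List.Nodup.filter _ List.nodup_range)]
  congr 1
  ext x
  simp [Nat.Coprime]

def small : List ℕ := [3, 4, 5, 6, 7, 8, 9, 10, 12, 14, 15, 16, 18, 20, 22, 24, 26, 28, 30, 36, 42]

theorem small_check : (List.range 182).all (fun n => n < 3 || small.contains n ||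
    decide ((n * (n + 1)) ^ 4 < 2 ^ (3 * tot n))) = true := by decide +kernel

theorem n_small {n : ℕ} (hn : 3 ≤ n) (h : 2 ^ (3 * n.totient) ≤ (n * (n + 1)) ^ 4) : n ∈ small := by
  set t := n.totient
  have hnt : n ≤ 2 * t ^ 2 := (two_mul_totient_sq n).2
  have h1 : 2 ^ (3 * t) ≤ (2 * t ^ 2 * (2 * t ^ 2 + 1)) ^ 4 :=
    h.trans (Nat.pow_le_pow_left (Nat.mul_le_mul hnt (by omega)) 4)
  have ht : t ≤ 28 := by
    by_contra hc
    push Not at hc
    have key : ∀ s : ℕ, 29 ≤ s → (2 * s ^ 2 * (2 * s ^ 2 + 1)) ^ 4 < 2 ^ (3 * s) := by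
      intro s hs
      induction s, hs using Nat.le_induction with
      | base => norm_num
      | succ s hs ih =>
        have h7 : 7 * ((s + 1) * (s + 1)) ≤ 8 * (s * s) := by nlinarith
        have h8 : (2 * (s + 1) ^ 2) * 7 ≤ 2 * s ^ 2 * 8 := by nlinarith
        have h9 : (2 * (s + 1) ^ 2 + 1) * 7 ≤ (2 * s ^ 2 + 1) * 8 := by nlinarith
        have h10 : (2 * (s + 1) ^ 2 * (2 * (s + 1) ^ 2 + 1)) ^ 4 * 7 ^ 8 ≤ (2 * s ^ 2 * (2 * s ^ 2 + 1)) ^ 4 * 8 ^ 8 := by
          calc _ = ((2 * (s + 1) ^ 2) * 7) ^ 4 * ((2 * (s + 1) ^ 2 + 1) * 7) ^ 4 := by ring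
            _ ≤ (2 * s ^ 2 * 8) ^ 4 * ((2 * s ^ 2 + 1) * 8) ^ 4 :=
              Nat.mul_le_mul (Nat.pow_le_pow_left h8 4) (Nat.pow_le_pow_left h9 4)
            _ = _ := by ring
        rw [show 3 * (s + 1) = 3 * s + 3 by ring, pow_add]
        refine Nat.lt_of_mul_lt_mul_right (a := 7 ^ 8) (lt_of_le_of_lt h10 ?_)
        calc (2 * s ^ 2 * (2 * s ^ 2 + 1)) ^ 4 * 8 ^ 8 < 2 ^ (3 * s) * 8 ^ 8 :=
              Nat.mul_lt_mul_of_pos_right ih (by norm_num)
          _ ≤ 2 ^ (3 * s) * (2 ^ 3 * 7 ^ 8) := Nat.mul_le_mul_left _ (by norm_num)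
          _ = 2 ^ (3 * s) * 2 ^ 3 * 7 ^ 8 := by ring
    exact absurd h1 (not_le.mpr (key t (by omega)))
  have h1568 : n ≤ 1568 := hnt.trans (by nlinarith)
  by_cases h181 : n ≤ 181
  · have := List.all_eq_true.mp small_check n (List.mem_range.mpr (by omega))
    rw [tot_eq] at this
    simp only [Bool.or_eq_true, decide_eq_true_eq, List.contains_iff_mem] at this
    rcases this with (h' | h') | h'
    · omega
    · exact h'
    · exact absurd h (not_le.mpr h')
  · exfalso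
    push Not at h181
    let P : Finset ℕ := (Finset.range 182).filter Nat.Prime
    have hP : P.card = 42 := by decide +kernel
    have hf : n.primeFactors.card ≤ 10 := by
      by_contra hc
      push Not at hc
      have h2 : 2 ^ n.primeFactors.card ≤ ∏ p ∈ n.primeFactors, p :=
        Finset.pow_card_le_prod _ _ _ fun p hp => (Nat.prime_of_mem_primeFactors hp).two_le
      have h3 := Nat.le_of_dvd (by omega) (Nat.prod_primeFactors_dvd n)
      have h4 : 2 ^ 11 ≤ 2 ^ n.primeFactors.card := Nat.pow_le_pow_right two_pos hc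
      omega
    have hsub : P \ n.primeFactors ⊆ (Finset.range n).filter fun a => n.Coprime a := by
      intro p hp
      simp only [P, Finset.mem_sdiff, Finset.mem_filter, Finset.mem_range] at hp ⊢
      refine ⟨by omega, Nat.Coprime.symm ((Nat.Prime.coprime_iff_not_dvd hp.1.2).mpr fun hd => hp.2 ?_)⟩
      exact Nat.mem_primeFactors.mpr ⟨hp.1.2, hd, by omega⟩
    have h5 := Finset.card_le_card hsub
    rw [← Nat.totient_eq_card_coprime, Finset.card_sdiff] at h5
    have h6 : (n.primeFactors ∩ P).card ≤ 10 := (Finset.card_le_card Finset.inter_subset_left).trans hf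
    omega

def witnesses : List (ℕ × ℕ × ℕ) := [(2, 3, 7), (3, 3, 13), (4, 3, 7), (4, 4, 17), (5, 4, 13), (2, 5, 31), (3, 5, 11), (4, 6, 13), (6, 6, 31), (7, 6, 43), (2, 7, 127), (2, 8, 17), (3, 8, 41), (2, 9, 73), (3, 9, 757), (3, 10, 61), (4, 10, 41), (3, 12, 73), (4, 12, 241), (2, 14, 43), (3, 14, 547), (2, 15, 151), (2, 16, 257), (3, 16, 193), (3, 18, 37), (2, 20, 41), (3, 20, 1181), (2, 22, 683), (2, 24, 241), (3, 24, 6481), (2, 26, 2731), (2, 28, 113), (2, 30, 331), (3, 30, 271), (2, 36, 109), (2, 42, 5419)]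

def exceptions : List (ℕ × ℕ) := [(2, 4), (3, 4), (2, 6), (3, 6), (5, 6), (2, 10), (2, 12), (2, 18)]

def bound : ℕ → ℕ := fun n => ((List.range 9).filter fun b => decide (b ^ tot n ≤ n * (n + 1))).length

theorem witnesses_cover : small.all (fun n => (List.range (bound n)).all fun b => b < 1 ||
    exceptions.contains (b + 1, n) || witnesses.any (fun w => w.1 == b + 1 && w.2.1 == n)) = true := by
  decide +kernel

theorem small_bound : small.all (fun n => decide (n * (n + 1) < 8 ^ tot n)) = true := by decide +kernel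

theorem witnesses_check : witnesses.all (fun w => decide ((w.1 ^ w.2.1 - 1) % w.2.2 = 0) &&
    (List.range w.2.1).all (fun i => i == 0 || decide ((w.1 ^ i - 1) % w.2.2 ≠ 0)) &&
    (decide (w.2.1 + 1 < w.2.2) || decide ((w.1 ^ w.2.1 - 1) % (w.2.2 * w.2.2) = 0))) = true := by
  decide +kernel

theorem witnesses_prime : ∀ w ∈ witnesses, Nat.Prime w.2.2 := by
  intro w hw
  simp only [witnesses, List.mem_cons, List.not_mem_nil, or_false] at hw
  repeat' (rcases hw with rfl | hw)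
  all_goals (first | norm_num | (subst hw; norm_num))

/-- Feit: large primitive divisors exist, with listed exceptions. -/
theorem exists_large {a n : ℕ} (ha : 2 ≤ a) (hn : 3 ≤ n) (hexc : (a, n) ∉ exceptions) :
    ∃ p, Primitive a n p ∧ (n + 1 < p ∨ p ^ 2 ∣ a ^ n - 1) := by
  by_contra hcon
  push Not at hcon
  set N := phi n a
  have hNpos : 0 < N := by
    refine lt_of_le_of_lt (Nat.zero_le ((a - 1) ^ n.totient)) ?_
    exact sub_one_pow_totient_lt_natAbs_cyclotomic_eval (by omega) (by omega)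
  have hprim : ∀ p, p.Prime → p ∣ N → ¬ p ∣ n → p = n + 1 ∧ ¬ p ^ 2 ∣ N := by
    intro p hp hd hpn
    rcases dichotomy (by omega) (by omega) hp hd with ⟨hP, hdiv⟩ | ⟨k, m, hk, hnm, -⟩
    · obtain ⟨h1, h2⟩ := hcon p hP
      have := Nat.le_of_dvd (by have := hp.two_le; omega) hdiv
      exact ⟨by omega, fun h => h2 (h.trans (phi_dvd n (by omega)))⟩
    · exact absurd (hnm ▸ (dvd_pow_self p hk.ne').mul_right m) hpn
  have hsf : Squarefree N := Nat.squarefree_iff_prime_squarefree.mpr fun p hp h => by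
    rw [← pow_two] at h
    by_cases hpn : p ∣ n
    · exact sq_not_dvd hn ha hp hpn h
    · exact (hprim p hp ((dvd_pow_self p two_ne_zero).trans h) hpn).2 h
  have hNle : N ≤ n * (n + 1) := by
    refine Nat.le_of_dvd (by positivity) ?_
    rw [← Nat.prod_primeFactors_of_squarefree hsf]
    refine (Finset.prod_dvd_prod_of_subset _ _ _ (fun p hp => ?_)).trans (Nat.prod_primeFactors_dvd _)
    obtain ⟨hp1, hp2, -⟩ := Nat.mem_primeFactors.mp hp
    refine Nat.mem_primeFactors.mpr ⟨hp1, ?_, by positivity⟩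
    by_cases hpn : p ∣ n
    · exact hpn.mul_right _
    · exact dvd_mul_of_dvd_right (hprim p hp1 hp2 hpn).1.dvd _
  have hlow : 2 ^ (3 * n.totient) ≤ N ^ 4 := by
    rcases (show a = 2 ∨ 3 ≤ a by omega) with rfl | h3
    · exact lower_two n (by omega)
    · calc 2 ^ (3 * n.totient) ≤ 2 ^ (n.totient * 4) := Nat.pow_le_pow_right two_pos (by omega)
        _ = (2 ^ n.totient) ^ 4 := pow_mul _ _ _
        _ ≤ ((a - 1) ^ n.totient) ^ 4 := Nat.pow_le_pow_left (Nat.pow_le_pow_left (by omega) _) 4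
        _ ≤ N ^ 4 := Nat.pow_le_pow_left (phi_lower ha n (by omega)) 4
  have hns := n_small hn (hlow.trans (Nat.pow_le_pow_left hNle 4))
  have hb : (a - 1) ^ n.totient ≤ n * (n + 1) := (phi_lower ha n (by omega)).trans hNle
  rw [← tot_eq] at hb
  have h8 : a - 1 < 8 := by
    by_contra hc
    push Not at hc
    have := List.all_eq_true.mp small_bound n hns
    rw [decide_eq_true_eq] at this
    have := Nat.pow_le_pow_left hc (tot n)
    omega
  have hlt : a - 1 < bound n := by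
    have hsub : List.range (a - 1 + 1) <+: (List.range 9).filter fun b => decide (b ^ tot n ≤ n * (n + 1)) := by
      have h9 : List.range 9 = List.range (a - 1 + 1) ++ (List.range (9 - (a - 1 + 1))).map (a - 1 + 1 + ·) := by
        rw [← List.range_add]; congr 1; omega
      rw [h9, List.filter_append, List.filter_eq_self.mpr (fun x hx => by
          rw [decide_eq_true_eq]
          exact (Nat.pow_le_pow_left (show x ≤ a - 1 by have := List.mem_range.mp hx; omega) _).trans hb)]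
      exact List.prefix_append _ _
    have := hsub.length_le
    rw [List.length_range] at this
    exact this
  have hc := List.all_eq_true.mp (List.all_eq_true.mp witnesses_cover n hns) (a - 1) (List.mem_range.mpr hlt)
  simp only [Bool.or_eq_true, decide_eq_true_eq, List.contains_iff_mem, List.any_eq_true, Bool.and_eq_true,
    beq_iff_eq, show a - 1 + 1 = a by omega] at hc
  rcases hc with (h1 | h1) | ⟨⟨wa, wn, p⟩, hw, h1, h2⟩
  · omega
  · exact hexc h1
  · subst h1 h2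
    have hch := List.all_eq_true.mp witnesses_check _ hw
    simp only [Bool.or_eq_true, decide_eq_true_eq, Bool.and_eq_true, List.all_eq_true, List.mem_range, beq_iff_eq] at hch
    obtain ⟨⟨hd, hmin⟩, hlarge⟩ := hch
    have hP : Primitive wa wn p := ⟨witnesses_prime _ hw, Nat.dvd_of_mod_eq_zero hd, fun i hi hin h => by
      rcases hmin i hin with h' | h'
      · omega
      · exact h' (Nat.mod_eq_zero_of_dvd h)⟩
    obtain ⟨g1, g2⟩ := hcon p hP
    rcases hlarge with h' | h'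
    · simp only at g1 h'
      omega
    · exact g2 (by rw [pow_two]; exact Nat.dvd_of_mod_eq_zero h')

/-- Zsigmondy -/
theorem exists_primitive {a n : ℕ} (ha : 2 ≤ a) (hn : 2 ≤ n) (h6 : ¬ (a = 2 ∧ n = 6))
    (h2 : ¬ (n = 2 ∧ ∃ m : ℕ, a + 1 = 2 ^ m)) : ∃ p, Primitive a n p := by
  by_cases hexc : (a, n) ∈ exceptions
  · simp only [exceptions, List.mem_cons, Prod.mk.injEq, List.not_mem_nil, or_false] at hexc
    have key : ∀ p : ℕ, p.Prime → (a ^ n - 1) % p = 0 → (∀ i < n, 1 ≤ i → (a ^ i - 1) % p ≠ 0) → ∃ p, Primitive a n p :=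
      fun p hp h1 h3 => ⟨p, hp, Nat.dvd_of_mod_eq_zero h1, fun i hi hin h => h3 i hin hi (Nat.mod_eq_zero_of_dvd h)⟩
    rcases hexc with h | h | h | h | h | h | h | h <;> obtain ⟨rfl, rfl⟩ := h
    · exact key 5 (by norm_num) (by norm_num) (by decide)
    · exact key 5 (by norm_num) (by norm_num) (by decide)
    · exact absurd ⟨rfl, rfl⟩ h6
    · exact key 7 (by norm_num) (by norm_num) (by decide)
    · exact key 7 (by norm_num) (by norm_num) (by decide)
    · exact key 11 (by norm_num) (by norm_num) (by decide)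
    · exact key 13 (by norm_num) (by norm_num) (by decide)
    · exact key 19 (by norm_num) (by norm_num) (by decide)
  rcases (show n = 2 ∨ 3 ≤ n by omega) with rfl | hn3
  · obtain ⟨e, m, hm, hem⟩ := Nat.exists_eq_pow_mul_and_not_dvd (show a + 1 ≠ 0 by omega) 2 (by norm_num)
    have hm1 : m ≠ 1 := fun h => h2 ⟨rfl, e, by rw [hem, h, mul_one]⟩
    obtain ⟨p, hp, hpm⟩ := Nat.exists_prime_and_dvd hm1
    have hpd : p ∣ a + 1 := hem ▸ hpm.mul_left _
    refine ⟨p, hp, ?_, fun i hi hin h => ?_⟩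
    · rw [show a ^ 2 - 1 = a ^ 2 - 1 ^ 2 by norm_num, Nat.sq_sub_sq]; exact hpd.mul_right _
    · obtain rfl : i = 1 := by omega
      rw [pow_one] at h
      have h' := Nat.dvd_sub hpd h
      rw [show a + 1 - (a - 1) = 2 by omega] at h'
      exact hm ((Nat.prime_dvd_prime_iff_eq hp Nat.prime_two).mp h' ▸ hpm)
  · obtain ⟨p, hp, -⟩ := exists_large ha hn3 hexc
    exact ⟨p, hp⟩

end Cfsg.Agent.Recog.Zsigmondy
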