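import Mathlib

set_option autoImplicit false

namespace Cfsg.Agent.Recog

/-- every even permutation of five points has order 1, 2, 3 or 5 -/
theorem a5_orderOf (g : alternatingGroup (Fin 5)) :
    orderOf g = 1 ∨ orderOf g = 2 ∨ orderOf g = 3 ∨ orderOf g = 5 := by
  have key : ∀ σ : Equiv.Perm (Fin 5), Equiv.Perm.sign σ = 1 →
      σ ^ 2 = 1 ∨ σ ^ 3 = 1 ∨ σ ^ 5 = 1 := by decide +kernel
  have h := key g.1 (Equiv.Perm.mem_alternatingGroup.mp g.2)
  have conv : ∀ k : ℕ, (g.1 : Equiv.Perm (Fin 5)) ^ k = 1 → orderOf g ∣ k := fun k hk =>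
    orderOf_dvd_of_pow_eq_one (Subtype.ext (by simpa using hk))
  rcases h with h | h | h
  · rcases (Nat.dvd_prime Nat.prime_two).mp (conv 2 h) with h | h <;> simp [h]
  · rcases (Nat.dvd_prime Nat.prime_three).mp (conv 3 h) with h | h <;> simp [h]
  · rcases (Nat.dvd_prime Nat.prime_five).mp (conv 5 h) with h | h <;> simp [h]

theorem a5_exists_order {k : ℕ} (hk : k = 1 ∨ k = 2 ∨ k = 3 ∨ k = 5) :
    ∃ g : alternatingGroup (Fin 5), orderOf g = k := by
  rcases hk with rfl | rfl | rfl | rfl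
  · exact ⟨1, orderOf_one⟩
  · exact @exists_prime_orderOf_dvd_card' _ _ _ 2 ⟨Nat.prime_two⟩ (by
      rw [nat_card_alternatingGroup, Nat.card_fin]; norm_num [Nat.factorial])
  · exact @exists_prime_orderOf_dvd_card' _ _ _ 3 ⟨Nat.prime_three⟩ (by
      rw [nat_card_alternatingGroup, Nat.card_fin]; norm_num [Nat.factorial])
  · exact @exists_prime_orderOf_dvd_card' _ _ _ 5 ⟨Nat.prime_five⟩ (by
      rw [nat_card_alternatingGroup, Nat.card_fin]; norm_num [Nat.factorial])

end Cfsg.Agent.Recog
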