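import Mathlib

/-! The spectrum {1,2,3,4,5}: alternating group of degree 6 and affine groups over `SL₂(4)`. -/

set_option autoImplicit false
set_option maxRecDepth 8000

namespace Cfsg.Agent.Recog

theorem spectrum_alt6 : Set.range (orderOf : alternatingGroup (Fin 6) → ℕ) = {1, 2, 3, 4, 5} := by
  ext d
  constructor
  · rintro ⟨⟨σ, hσ⟩, rfl⟩
    rw [← Subgroup.orderOf_coe, ← Equiv.Perm.lcm_cycleType]
    rw [Equiv.Perm.mem_alternatingGroup, Equiv.Perm.sign_of_cycleType] at hσ
    have hsum := Equiv.Perm.sum_cycleType_le σ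
    rw [Fintype.card_fin] at hsum
    have hge : ∀ a ∈ σ.cycleType, 2 ≤ a := fun a ha => Equiv.Perm.two_le_of_mem_cycleType ha
    have hev : Even (σ.cycleType.sum + Multiset.card σ.cycleType) := by
      by_contra h
      rw [(Nat.not_even_iff_odd.mp h).neg_one_pow] at hσ
      exact absurd hσ (by decide)
    show σ.cycleType.lcm ∈ ({1, 2, 3, 4, 5} : Set ℕ)
    have hcard : Multiset.card σ.cycleType ≤ 3 := by
      have := Multiset.card_nsmul_le_sum hge
      rw [smul_eq_mul] at this; omega
    obtain h | h | h | h : Multiset.card σ.cycleType = 0 ∨ Multiset.card σ.cycleType = 1 ∨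
        Multiset.card σ.cycleType = 2 ∨ Multiset.card σ.cycleType = 3 := by omega
    · rw [Multiset.card_eq_zero.mp h]; simp
    · obtain ⟨a, ha⟩ := Multiset.card_eq_one.mp h
      rw [ha] at hsum hge hev ⊢
      simp only [Multiset.sum_singleton, Multiset.card_singleton] at hsum hev
      have := hge a (by simp)
      interval_cases a <;> simp_all (config := { decide := true })
    · obtain ⟨a, b, ha⟩ := Multiset.card_eq_two.mp h
      rw [ha] at hsum hge hev ⊢
      simp only [Multiset.insert_eq_cons, Multiset.sum_cons, Multiset.sum_singleton, Multiset.card_cons,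
        Multiset.card_singleton] at hsum hev
      have := hge a (by simp)
      have := hge b (by simp)
      have : a ≤ 4 := by omega
      have : b ≤ 4 := by omega
      interval_cases a <;> interval_cases b <;> first | omega | simp_all (config := { decide := true }) | decide
    · obtain ⟨a, b, c, ha⟩ := Multiset.card_eq_three.mp h
      rw [ha] at hsum hge hev ⊢
      simp only [Multiset.insert_eq_cons, Multiset.sum_cons, Multiset.sum_singleton] at hsum
      have := hge a (by simp)
      have := hge b (by simp)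
      have := hge c (by simp)
      obtain rfl : a = 2 := by omega
      obtain rfl : b = 2 := by omega
      obtain rfl : c = 2 := by omega
      simp
  · intro hd
    simp only [Set.mem_insert_iff, Set.mem_singleton_iff] at hd
    rcases hd with rfl | rfl | rfl | rfl | rfl
    · exact ⟨1, orderOf_one⟩
    · refine ⟨⟨c[(0 : Fin 6), 1] * c[(2 : Fin 6), 3], Equiv.Perm.mem_alternatingGroup.mpr (by decide)⟩, ?_⟩
      rw [← Subgroup.orderOf_coe, orderOf_eq_iff (by norm_num)]
      decide
    · refine ⟨⟨c[(0 : Fin 6), 1, 2], Equiv.Perm.mem_alternatingGroup.mpr (by decide)⟩, ?_⟩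
      rw [← Subgroup.orderOf_coe, orderOf_eq_iff (by norm_num)]
      decide
    · refine ⟨⟨c[(0 : Fin 6), 1, 2, 3] * c[(4 : Fin 6), 5], Equiv.Perm.mem_alternatingGroup.mpr (by decide)⟩, ?_⟩
      rw [← Subgroup.orderOf_coe, orderOf_eq_iff (by norm_num)]
      decide
    · refine ⟨⟨c[(0 : Fin 6), 1, 2, 3, 4], Equiv.Perm.mem_alternatingGroup.mpr (by decide)⟩, ?_⟩
      rw [← Subgroup.orderOf_coe, orderOf_eq_iff (by norm_num)]
      decide

variable {F : Type*} [Field F] [Fintype F]

theorem charTwo_of_card_four (hF : Fintype.card F = 4) : CharP F 2 := by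
  obtain ⟨p, hp⟩ := CharP.exists F
  haveI := hp
  obtain ⟨n, hpp, hn⟩ := FiniteField.card F p
  have h2 : p ∣ 2 ^ 2 := by
    rw [show 2 ^ 2 = Fintype.card F by rw [hF]; norm_num, hn]
    exact dvd_pow_self p n.ne_zero
  rw [← (Nat.prime_dvd_prime_iff_eq hpp Nat.prime_two).mp (hpp.dvd_of_dvd_pow h2)]
  exact hp

open Polynomial in
/-- a root of `(X² + tX + 1)(X − 1)` with `t ∈ F₄` has order at most 5 -/
theorem pow_eq_one_of_char_poly (hF : Fintype.card F = 4) {R : Type*} [Ring R] [Algebra F R] (M : R) (t : F)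
    (h : (M ^ 2 + t • M + 1) * (M - 1) = 0) : M ^ 4 = 1 ∨ M ^ 3 = 1 ∨ M ^ 5 = 1 := by
  haveI := charTwo_of_card_four hF
  have h2 : (2 : F[X]) = 0 := by exact_mod_cast CharP.cast_eq_zero F[X] 2
  have key : ∀ (n : ℕ) (P : F[X]), (X ^ n - 1 : F[X]) = (X ^ 2 + C t * X + 1) * (X - 1) * P → M ^ n = 1 := by
    intro n P hP
    have := congrArg (aeval M) hP
    simp only [map_sub, map_mul, map_add, map_pow, map_one, aeval_X, aeval_C, ← Algebra.smul_def, h, zero_mul] at this
    exact sub_eq_zero.mp this
  have ht4 : t ^ 4 = t := hF ▸ FiniteField.pow_card t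
  by_cases h0 : t = 0
  · refine Or.inl (key 4 (X - 1) ?_)
    rw [h0, map_zero, zero_mul, add_zero]
    linear_combination (X ^ 3 - X ^ 2 + X - 1 : F[X]) * h2
  by_cases h1 : t = 1
  · refine Or.inr (Or.inl (key 3 1 ?_))
    rw [h1, map_one, one_mul, mul_one]
    ring
  refine Or.inr (Or.inr (key 5 (X ^ 2 + C (t + 1) * X + 1) ?_))
  have hq : t ^ 2 + t + 1 = 0 := by
    have h3 : (t - 1) * (t ^ 2 + t + 1) * t = 0 := by linear_combination ht4
    rcases mul_eq_zero.mp h3 with h4 | h4
    · exact (mul_eq_zero.mp h4).resolve_left (sub_ne_zero.mpr h1)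
    · exact absurd h4 h0
  have hCq : C t ^ 2 + C t + 1 = (0 : F[X]) := by
    have := congrArg (C : F → F[X]) hq
    simpa using this
  rw [map_add, map_one]
  linear_combination (-(X ^ 3 - X ^ 2) : F[X]) * hCq + (-(C t * (X ^ 4 - X ^ 3 + X ^ 2 - X)) : F[X]) * h2

end Cfsg.Agent.Recog
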