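import Mathlib
import Cfsg.Prelude.Def_Classical

/-! The element orders of `PSU(3, 3)`. -/

set_option autoImplicit false

namespace Cfsg.Agent.SpectrumPSU3Three

open Matrix

/-- pairs standing for `a + b i` -/
abbrev E9 := ZMod 3 × ZMod 3

/-- product of pairs -/
def em (x y : E9) : E9 := (x.1 * y.1 - x.2 * y.2, x.1 * y.2 + x.2 * y.1)

/-- conjugate of a pair -/
def ec (x : E9) : E9 := (x.1, -x.2)

/-- coefficients of `x ^ n` when `x ^ 3 = t x ^ 2 - conj t x + 1` -/
def cf (t : E9) : ℕ → E9 × E9 × E9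
  | 0 => (0, 0, (1, 0))
  | n + 1 => (em (cf t n).1 t + (cf t n).2.1, em (cf t n).1 (-ec t) + (cf t n).2.2, (cf t n).1)

/-- product of 3x3 matrices of pairs -/
def mm (A B : Matrix (Fin 3) (Fin 3) E9) : Matrix (Fin 3) (Fin 3) E9 :=
  Matrix.of fun i j => em (A i 0) (B 0 j) + em (A i 1) (B 1 j) + em (A i 2) (B 2 j)

/-- identity matrix of pairs -/
def me : Matrix (Fin 3) (Fin 3) E9 := Matrix.of fun i j => if i = j then (1, 0) else 0

/-- powers -/
def mp (A : Matrix (Fin 3) (Fin 3) E9) : ℕ → Matrix (Fin 3) (Fin 3) E9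
  | 0 => me
  | n + 1 => mm (mp A n) A

/-- determinant -/
def md (A : Matrix (Fin 3) (Fin 3) E9) : E9 :=
  em (A 0 0) (em (A 1 1) (A 2 2) - em (A 1 2) (A 2 1)) - em (A 0 1) (em (A 1 0) (A 2 2) - em (A 1 2) (A 2 0))
    + em (A 0 2) (em (A 1 0) (A 2 1) - em (A 1 1) (A 2 0))

/-- unitary -/
def IsU (A : Matrix (Fin 3) (Fin 3) E9) : Prop := mm A.transpose (A.map ec) = me

variable {F : Type*} [Field F]

theorem charP_three [Fintype F] (hF : Fintype.card F = 9) : CharP F 3 := by
  obtain ⟨p, hp⟩ := CharP.exists F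
  obtain ⟨k, hk, hq⟩ := FiniteField.card F p
  rw [hF] at hq
  have h9 : p ∣ 3 ^ 2 := by norm_num; exact hq ▸ dvd_pow_self p k.ne_zero
  rwa [(Nat.prime_dvd_prime_iff_eq hk Nat.prime_three).mp (hk.dvd_of_dvd_pow h9)] at hp

/-- the transport data -/
theorem exists_phi [Fintype F] (hF : Fintype.card F = 9) :
    ∃ φ : E9 → F, Function.Bijective φ ∧ φ 0 = 0 ∧ φ (1, 0) = 1 ∧ (∀ x y, φ (x + y) = φ x + φ y) ∧
      (∀ x, φ (-x) = -φ x) ∧ (∀ x y, φ (em x y) = φ x * φ y) ∧ ∀ x, φ (ec x) = φ x ^ 3 := by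
  haveI := charP_three hF
  letI : Algebra (ZMod 3) F := ZMod.algebra F 3
  obtain ⟨i, hi⟩ : IsSquare (-1 : F) := FiniteField.isSquare_neg_one_iff.mpr (by rw [hF]; norm_num)
  let φ : E9 → F := fun x => algebraMap (ZMod 3) F x.1 + algebraMap (ZMod 3) F x.2 * i
  have hadd : ∀ x y, φ (x + y) = φ x + φ y := fun x y => by simp [φ]; ring
  have hneg : ∀ x, φ (-x) = -φ x := fun x => by simp [φ]; ring
  refine ⟨φ, ?_, by simp [φ], by simp [φ], hadd, hneg, ?_, ?_⟩
  · refine (Fintype.bijective_iff_injective_and_card _).mpr ⟨fun x y hxy => ?_, by simp [hF]⟩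
    have h0 : φ (x + -y) = 0 := by rw [hadd, hneg, hxy, add_neg_cancel]
    simp only [φ] at h0
    by_cases hb : (x + -y).2 = 0
    · rw [hb, map_zero, zero_mul, add_zero, map_eq_zero] at h0
      exact add_neg_eq_zero.mp (Prod.ext h0 hb)
    · exfalso
      have hbF : algebraMap (ZMod 3) F (x + -y).2 ≠ 0 := by rwa [ne_eq, map_eq_zero]
      have : algebraMap (ZMod 3) F ((x + -y).1 * (x + -y).1) = algebraMap (ZMod 3) F (-((x + -y).2 * (x + -y).2)) := by
        simp only [map_mul, map_neg]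
        have e : algebraMap (ZMod 3) F (x + -y).1 = -(algebraMap (ZMod 3) F (x + -y).2 * i) := by linear_combination h0
        rw [e]
        linear_combination -(algebraMap (ZMod 3) F (x + -y).2 * algebraMap (ZMod 3) F (x + -y).2) * hi
      have key : ∀ a b : ZMod 3, a * a = -(b * b) → b = 0 := by decide
      exact hb (key _ _ ((algebraMap (ZMod 3) F).injective this))
  · intro x y
    simp only [φ, em, map_sub, map_add, map_mul]
    linear_combination (algebraMap (ZMod 3) F x.2 * algebraMap (ZMod 3) F y.2) * hi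
  · intro x
    simp only [φ, ec, map_neg]
    rw [add_pow_char, mul_pow, ← map_pow, ← map_pow, ZMod.pow_card, ZMod.pow_card]
    have : i ^ 3 = -i := by linear_combination -i * hi
    rw [this]; ring

theorem gram_of_mem {g : Matrix.SpecialLinearGroup (Fin 3) F} (hg : g ∈ SU 3 F 3) (a b : Fin 3) :
    ∑ k, (g : Matrix (Fin 3) (Fin 3) F) k a * (g : Matrix (Fin 3) (Fin 3) F) k b ^ 3 = if a = b then 1 else 0 := by
  have h := hg (Pi.single a 1) (Pi.single b 1)
  simp only [hermForm, slToMat, MonoidHom.comp_apply, Matrix.mulVec_single_one, Matrix.col_apply] at h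
  refine h.trans ?_
  fin_cases a <;> fin_cases b <;> simp [Fin.sum_univ_three, Pi.single_apply]

theorem mem_of_gram [CharP F 3] {g : Matrix.SpecialLinearGroup (Fin 3) F}
    (h : ∀ a b : Fin 3, ∑ k, (g : Matrix (Fin 3) (Fin 3) F) k a * (g : Matrix (Fin 3) (Fin 3) F) k b ^ 3 =
      if a = b then 1 else 0) : g ∈ SU 3 F 3 := by
  intro u v
  simp only [hermForm, slToMat, MonoidHom.comp_apply, Units.coeHom_apply, Matrix.mulVec, dotProduct]
  show ∑ i, (∑ j, (g : Matrix (Fin 3) (Fin 3) F) i j * u j) * (∑ j, (g : Matrix (Fin 3) (Fin 3) F) i j * v j) ^ 3 = _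
  simp only [sum_pow_char, mul_pow, Finset.sum_mul_sum]
  rw [Finset.sum_comm, Finset.sum_congr rfl fun a _ => Finset.sum_comm]
  calc ∑ a, ∑ b, ∑ k, (g : Matrix (Fin 3) (Fin 3) F) k a * u a * ((g : Matrix (Fin 3) (Fin 3) F) k b ^ 3 * v b ^ 3)
      = ∑ a, ∑ b, (if a = b then 1 else 0) * (u a * v b ^ 3) := by
        refine Finset.sum_congr rfl fun a _ => Finset.sum_congr rfl fun b _ => ?_
        rw [← h a b, Finset.sum_mul]
        exact Finset.sum_congr rfl fun k _ => by ring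
    _ = _ := by simp

theorem cubic_identity {R : Type*} [CommRing R] (M : Matrix (Fin 3) (Fin 3) R) :
    M ^ 3 = M.trace • M ^ 2 - M.adjugate.trace • M + M.det • (1 : Matrix (Fin 3) (Fin 3) R) := by
  ext a b
  fin_cases a <;> fin_cases b <;>
    simp [pow_succ, Matrix.mul_apply, Fin.sum_univ_three, Matrix.trace, Matrix.adjugate_fin_three, Matrix.det_fin_three] <;>
    ring

theorem pow_cases [Fintype F] (hF : Fintype.card F = 9) {g : Matrix.SpecialLinearGroup (Fin 3) F} (hg : g ∈ SU 3 F 3) :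
    g ^ 7 = 1 ∨ g ^ 8 = 1 ∨ g ^ 12 = 1 := by
  haveI := charP_three hF
  obtain ⟨φ, hbij, h0, h1, hadd, hneg, hmul, hec⟩ := exists_phi hF
  set M := (g : Matrix (Fin 3) (Fin 3) F) with hM
  let N : Matrix (Fin 3) (Fin 3) F := Matrix.of fun a b => M b a ^ 3
  have hNM : N * M = 1 := by
    ext a b
    rw [Matrix.mul_apply, Matrix.one_apply]
    have h := gram_of_mem hg b a
    simp only [eq_comm (a := b)] at h
    rw [← h]
    exact Finset.sum_congr rfl fun k _ => mul_comm _ _
  have hadj : M.adjugate = N := by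
    calc M.adjugate = N * M * M.adjugate := by rw [hNM, one_mul]
      _ = N := by rw [mul_assoc, Matrix.mul_adjugate, g.2, one_smul, mul_one]
  obtain ⟨t, ht⟩ := hbij.2 M.trace
  have hs : M.adjugate.trace = φ (ec t) := by
    rw [hec, ht, hadj]
    simp only [Matrix.trace, Matrix.diag, N, Matrix.of_apply, sum_pow_char]
  have hx : M ^ 3 = φ t • M ^ 2 + φ (-ec t) • M + 1 := by
    rw [cubic_identity, hs, hneg, ← ht, neg_smul, g.2, one_smul, sub_eq_add_neg]
  have hpow : ∀ n, M ^ n = φ (cf t n).1 • M ^ 2 + φ (cf t n).2.1 • M + φ (cf t n).2.2 • 1 := by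
    intro n
    induction n with
    | zero => simp [cf, h0, h1]
    | succ n ih =>
      rw [pow_succ, ih, add_mul, add_mul, smul_mul_assoc, smul_mul_assoc, smul_mul_assoc, ← pow_succ, hx, one_mul, ← pow_two]
      simp only [cf, hadd, hmul]
      module
  have key : ∀ t : E9, cf t 7 = (0, 0, (1, 0)) ∨ cf t 8 = (0, 0, (1, 0)) ∨ cf t 12 = (0, 0, (1, 0)) := by
    decide +kernel
  have fin : ∀ n, cf t n = (0, 0, (1, 0)) → g ^ n = 1 := fun n hn => Subtype.ext (by
    rw [Matrix.SpecialLinearGroup.coe_pow, hpow, hn]; simp [h0, h1])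
  rcases key t with h | h | h
  · exact Or.inl (fin _ h)
  · exact Or.inr (Or.inl (fin _ h))
  · exact Or.inr (Or.inr (fin _ h))

theorem exists_of_code [Fintype F] (hF : Fintype.card F = 9) (A : Matrix (Fin 3) (Fin 3) E9)
    (hd : md A = (1, 0)) (hU : IsU A) :
    ∃ g : SU 3 F 3, (∀ n, mp A n = me → g ^ n = 1) ∧ (∀ n, mp A n ≠ me → g ^ n ≠ 1) ∧
      ∃ φ : E9 → F, φ 0 = 0 ∧ φ (1, 0) = 1 ∧ Function.Bijective φ ∧ ∀ i j, ((g : Matrix.SpecialLinearGroup (Fin 3) F) : Matrix (Fin 3) (Fin 3) F) i j = φ (A i j) := by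
  haveI := charP_three hF
  obtain ⟨φ, hbij, h0, h1, hadd, hneg, hmul, hec⟩ := exists_phi hF
  have hsub : ∀ x y, φ (x - y) = φ x - φ y := fun x y => by rw [sub_eq_add_neg, hadd, hneg, sub_eq_add_neg]
  let M : Matrix (Fin 3) (Fin 3) F := Matrix.of fun i j => φ (A i j)
  have hme : (Matrix.of fun i j => φ (me i j)) = (1 : Matrix (Fin 3) (Fin 3) F) := by
    ext i j
    by_cases h : i = j
    · subst h; simp [me, h1]
    · simp [me, h, h0]
  have hdet : M.det = 1 := by
    rw [Matrix.det_fin_three, ← h1, ← hd]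
    simp only [M, Matrix.of_apply, md, hadd, hsub, hmul]
    ring
  let g : Matrix.SpecialLinearGroup (Fin 3) F := ⟨M, hdet⟩
  have hg : g ∈ SU 3 F 3 := mem_of_gram fun a b => by
    rw [← Matrix.one_apply, ← hme, Fin.sum_univ_three]
    show M 0 a * M 0 b ^ 3 + M 1 a * M 1 b ^ 3 + M 2 a * M 2 b ^ 3 = φ (me a b)
    rw [← show mm A.transpose (A.map ec) = me from hU]
    simp only [M, mm, Matrix.of_apply, Matrix.transpose_apply, Matrix.map_apply, hadd, hmul, hec]
  have hp : ∀ n, M ^ n = Matrix.of fun i j => φ (mp A n i j) := by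
    intro n
    induction n with
    | zero => rw [pow_zero, ← hme]; rfl
    | succ n ih =>
      rw [pow_succ, ih]
      ext i j
      simp [Matrix.mul_apply, Fin.sum_univ_three, M, mp, mm, hadd, hmul]
  refine ⟨⟨g, hg⟩, fun n hn => ?_, fun n hn he => hn ?_, φ, h0, h1, hbij, fun i j => rfl⟩
  · refine Subtype.ext (Subtype.ext ?_)
    show M ^ n = 1
    rw [hp, hn, hme]
  · have he' : M ^ n = 1 := congrArg (fun z : SU 3 F 3 => ((z : Matrix.SpecialLinearGroup (Fin 3) F) : Matrix (Fin 3) (Fin 3) F)) he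
    rw [hp, ← hme] at he'
    exact Matrix.ext fun i j => hbij.1 (congrFun (congrFun he' i) j)

/-- diagonal element -/
def dA : Matrix (Fin 3) (Fin 3) E9 := !![(0, 1), 0, 0; 0, (0, 1), 0; 0, 0, (2, 0)]

/-- permutation element -/
def cA : Matrix (Fin 3) (Fin 3) E9 := !![0, (1, 0), 0; 0, 0, (1, 0); (1, 0), 0, 0]

theorem center_eq_bot [Fintype F] (hF : Fintype.card F = 9) : Subgroup.center (SU 3 F 3) = ⊥ := by
  haveI := charP_three hF
  obtain ⟨d, -, -, φ, p0, p1, pb, hde⟩ := exists_of_code hF dA (by decide +kernel) (by unfold IsU; decide +kernel)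
  obtain ⟨c, -, -, ψ, q0, q1, -, hce⟩ := exists_of_code hF cA (by decide +kernel) (by unfold IsU; decide +kernel)
  rw [Subgroup.eq_bot_iff_forall]
  intro z hz
  set Z := ((z : Matrix.SpecialLinearGroup (Fin 3) F) : Matrix (Fin 3) (Fin 3) F) with hZ
  have e1 := congrArg (fun w : SU 3 F 3 => ((w : Matrix.SpecialLinearGroup (Fin 3) F) : Matrix (Fin 3) (Fin 3) F))
    (Subgroup.mem_center_iff.mp hz d)
  have e2 := congrArg (fun w : SU 3 F 3 => ((w : Matrix.SpecialLinearGroup (Fin 3) F) : Matrix (Fin 3) (Fin 3) F))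
    (Subgroup.mem_center_iff.mp hz c)
  have hne : φ (0, 1) ≠ φ (2, 0) := fun h => absurd (pb.1 h) (by decide)
  have a02 := congrFun (congrFun e1 0) 2
  have a12 := congrFun (congrFun e1 1) 2
  simp [Matrix.mul_apply, Fin.sum_univ_three, hde, dA, p0] at a02 a12
  have z02 : Z 0 2 = 0 := by
    have : (φ (0, 1) - φ (2, 0)) * Z 0 2 = 0 := by linear_combination a02
    exact (mul_eq_zero.mp this).resolve_left (sub_ne_zero.mpr hne)
  have z12 : Z 1 2 = 0 := by
    have : (φ (0, 1) - φ (2, 0)) * Z 1 2 = 0 := by linear_combination a12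
    exact (mul_eq_zero.mp this).resolve_left (sub_ne_zero.mpr hne)
  have hc : ∀ i j : Fin 3, Z (i + 1) (j + 1) = Z i j := by
    intro i j
    have := congrFun (congrFun e2 i) (j + 1)
    fin_cases i <;> fin_cases j <;> simpa [Matrix.mul_apply, Fin.sum_univ_three, hce, cA, q0, q1] using this
  have c02 : Z 1 0 = 0 := by rw [show Z 1 0 = Z 0 2 from (hc 0 2)]; exact z02
  have c21 : Z 2 1 = 0 := by rw [show Z 2 1 = Z 1 0 from (hc 1 0)]; exact c02
  have c20 : Z 2 0 = 0 := by rw [show Z 2 0 = Z 1 2 from (hc 1 2)]; exact z12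
  have c01 : Z 0 1 = 0 := by rw [show Z 0 1 = Z 2 0 from (hc 2 0)]; exact c20
  have d1 : Z 1 1 = Z 0 0 := hc 0 0
  have d2 : Z 2 2 = Z 1 1 := hc 1 1
  have hdet : Z.det = 1 := (z : Matrix.SpecialLinearGroup (Fin 3) F).2
  rw [Matrix.det_fin_three, z02, z12, c02, c21, c20, c01, d2, d1] at hdet
  have h1 : (Z 0 0 - 1) ^ 3 = 0 := by
    rw [sub_pow_char, one_pow]; linear_combination hdet
  have h00 : Z 0 0 = 1 := sub_eq_zero.mp (eq_zero_of_pow_eq_zero h1)
  refine Subtype.ext (Subtype.ext ?_)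
  show Z = 1
  ext i j
  fin_cases i <;> fin_cases j <;> simp [z02, z12, c02, c21, c20, c01, d1, d2, h00]

theorem range_orderOf [Fintype F] (hF : Fintype.card F = 9) :
    Set.range (orderOf : PSU 3 F 3 → ℕ) = {1, 2, 3, 4, 6, 7, 8, 12} := by
  have hinj : Function.Injective (QuotientGroup.mk' (Subgroup.center (SU 3 F 3))) := by
    rw [← MonoidHom.ker_eq_bot_iff, QuotientGroup.ker_mk', center_eq_bot hF]
  ext n
  constructor
  · rintro ⟨x, rfl⟩
    obtain ⟨g, rfl⟩ := QuotientGroup.mk'_surjective _ x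
    rw [orderOf_injective _ hinj, ← Subgroup.orderOf_coe]
    have key : ∀ k ∈ [7, 8, 12], ∀ d ∈ Nat.divisors k, d ∈ [1, 2, 3, 4, 6, 7, 8, 12] := by decide
    have fin : ∀ k ∈ [7, 8, 12], (g : Matrix.SpecialLinearGroup (Fin 3) F) ^ k = 1 → _ := fun k hk hgk =>
      key k hk _ (Nat.mem_divisors.mpr ⟨orderOf_dvd_of_pow_eq_one hgk, by rintro rfl; simp at hk⟩)
    simp only [Set.mem_insert_iff, Set.mem_singleton_iff]
    rcases pow_cases hF g.2 with h | h | h
    · simpa using fin 7 (by simp) h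
    · simpa using fin 8 (by simp) h
    · simpa using fin 12 (by simp) h
  · intro hn
    have key : ∀ (A : Matrix (Fin 3) (Fin 3) E9) (m : ℕ), 0 < m → md A = (1, 0) → IsU A → mp A m = me →
        (∀ k < m, 0 < k → mp A k ≠ me) → ∀ d, d ∣ m → d ∈ Set.range (orderOf : PSU 3 F 3 → ℕ) := by
      intro A m hm hd hU hA hmin d hdm
      obtain ⟨g, hg1, hg2, -⟩ := exists_of_code (F := F) hF A hd hU
      have hB : orderOf (QuotientGroup.mk' (Subgroup.center (SU 3 F 3)) g) = m := by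
        rw [orderOf_injective _ hinj]
        exact (orderOf_eq_iff hm).mpr ⟨hg1 m hA, fun k hk hk0 => hg2 k (hmin k hk hk0)⟩
      exact ⟨QuotientGroup.mk' (Subgroup.center (SU 3 F 3)) g ^ (m / d), hB ▸ orderOf_pow_orderOf_div (hB ▸ hm.ne') (hB ▸ hdm)⟩
    simp only [Set.mem_insert_iff, Set.mem_singleton_iff] at hn
    have k7 := key !![0, (1, 1), (1, 1); 0, (1, 1), (2, 2); (0, 1), 0, 0] 7 (by norm_num) (by decide +kernel)
      (by unfold IsU; decide +kernel) (by decide +kernel) (by decide +kernel)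
    have k8 := key !![0, 0, (1, 0); 0, (0, 1), 0; (0, 1), 0, 0] 8 (by norm_num) (by decide +kernel)
      (by unfold IsU; decide +kernel) (by decide +kernel) (by decide +kernel)
    have k12 := key !![0, (1, 1), (1, 2); 0, (2, 1), (2, 2); (0, 1), 0, 0] 12 (by norm_num) (by decide +kernel)
      (by unfold IsU; decide +kernel) (by decide +kernel) (by decide +kernel)
    rcases hn with rfl | rfl | rfl | rfl | rfl | rfl | rfl | rfl
    · exact k7 1 (by norm_num)
    · exact k8 2 (by norm_num)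
    · exact k12 3 (by norm_num)
    · exact k8 4 (by norm_num)
    · exact k12 6 (by norm_num)
    · exact k7 7 dvd_rfl
    · exact k8 8 dvd_rfl
    · exact k12 12 dvd_rfl

end Cfsg.Agent.SpectrumPSU3Three
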