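import Mathlib
import Cfsg.Prelude.Def_Classical
import Cfsg.Agent.S0280
import Cfsg.Agent.Lib.Classical.UnitCenter
import Cfsg.Agent.Lib.Recog.SpectrumPSU3Three
import Cfsg.Agent.Lib.Recog.PSU33Tables

/-! The action of `SU(3, 3)` on the 63 non-singular points of the plane, and its simplicity. -/

set_option autoImplicit false
set_option linter.unusedSectionVars false

namespace Cfsg.Agent.PSU33

open Cfsg Matrix Cfsg.Agent.SpectrumPSU3Three

/-- the Hermitian product of coded vectors -/
def hh (u v : Fin 3 → E9) : E9 := em (u 0) (ec (v 0)) + em (u 1) (ec (v 1)) + em (u 2) (ec (v 2))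

/-- scalar multiple of a coded vector -/
def sm (c : E9) (v : Fin 3 → E9) : Fin 3 → E9 := fun k => em c (v k)

/-- a coded matrix applied to a coded vector -/
def mv (A : Matrix (Fin 3) (Fin 3) E9) (v : Fin 3 → E9) : Fin 3 → E9 :=
  fun i => em (A i 0) (v 0) + em (A i 1) (v 1) + em (A i 2) (v 2)

/-- the invariant of a pair of vectors -/
def rr (u v : Fin 3 → E9) : E9 := em (em (em (hh u v) (hh v u)) (hh u u)) (hh v v)

/-- the class of a pair of points, from the form -/
def dh (i j : Fin 63) : Fin 4 :=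
  if i = j then 0 else ⟨(rr (vv i) (vv j)).1.val + 1, Nat.succ_lt_succ (ZMod.val_lt _)⟩

/-- the map of a coded matrix on the points -/
def mact (A : Matrix (Fin 3) (Fin 3) E9) (i : Fin 63) : Fin 63 := ii (mv A (vv i))

theorem eta3 (w : Fin 3 → E9) : ![w 0, w 1, w 2] = w := by funext k; fin_cases k <;> rfl

theorem vv_norm : ∀ i, hh (vv i) (vv i) ≠ 0 := by decide +kernel

theorem ii_vv : ∀ i, ii (vv i) = i := by decide +kernel

theorem exists_scale (w : Fin 3 → E9) (h : hh w w ≠ 0) : ∃ c, c ≠ 0 ∧ sm c (vv (ii w)) = w := by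
  have key : ∀ x y z : E9, hh ![x, y, z] ![x, y, z] ≠ 0 →
      ∃ c, c ≠ 0 ∧ em c (vv (ii ![x, y, z]) 0) = x ∧ em c (vv (ii ![x, y, z]) 1) = y ∧
        em c (vv (ii ![x, y, z]) 2) = z := by decide +kernel
  have h' := key (w 0) (w 1) (w 2)
  rw [eta3] at h'
  obtain ⟨c, hc, h0, h1, h2⟩ := h' h
  exact ⟨c, hc, funext fun k => by fin_cases k <;> assumption⟩

theorem ii_sm (w : Fin 3 → E9) (c : E9) (hc : c ≠ 0) (h : hh w w ≠ 0) : ii (sm c w) = ii w := by
  have key : ∀ x y z c : E9, c ≠ 0 → hh ![x, y, z] ![x, y, z] ≠ 0 →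
      ii ![em c x, em c y, em c z] = ii ![x, y, z] := by decide +kernel
  have h' := key (w 0) (w 1) (w 2) c hc
  rw [eta3] at h'
  rw [← h' h, ← eta3 (sm c w)]
  rfl

theorem dt_eq : ∀ i j, dt i j = dh i j := by decide +kernel

variable {F : Type*} [Field F] [Fintype F] [hF : Fact (Fintype.card F = 9)]

local notation "SUF" => SU 3 F 3

variable (F) in
/-- the coding of the field -/
noncomputable def pf : E9 → F := (exists_phi (F := F) hF.out).choose

theorem pf_spec : Function.Bijective (pf F) ∧ pf F 0 = 0 ∧ pf F (1, 0) = 1 ∧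
    (∀ x y, pf F (x + y) = pf F x + pf F y) ∧ (∀ x, pf F (-x) = -pf F x) ∧
    (∀ x y, pf F (em x y) = pf F x * pf F y) ∧ ∀ x, pf F (ec x) = pf F x ^ 3 :=
  (exists_phi (F := F) hF.out).choose_spec

theorem pf_inj {x y : E9} (h : pf F x = pf F y) : x = y := pf_spec.1.1 h
theorem pf_add (x y : E9) : pf F (x + y) = pf F x + pf F y := pf_spec.2.2.2.1 x y
theorem pf_sub (x y : E9) : pf F (x - y) = pf F x - pf F y := by
  rw [sub_eq_add_neg, pf_add, pf_spec.2.2.2.2.1, sub_eq_add_neg]
theorem pf_mul (x y : E9) : pf F (em x y) = pf F x * pf F y := pf_spec.2.2.2.2.2.1 x y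
theorem pf_conj (x : E9) : pf F (ec x) = pf F x ^ 3 := pf_spec.2.2.2.2.2.2 x

theorem pf_ne_zero {x : E9} (h : x ≠ 0) : pf F x ≠ 0 :=
  fun e => h (pf_inj (e.trans pf_spec.2.1.symm))

/-- the coordinates in the field -/
noncomputable def toV (v : Fin 3 → E9) : Fin 3 → F := fun k => pf F (v k)

theorem toV_inj {u v : Fin 3 → E9} (h : toV (F := F) u = toV v) : u = v :=
  funext fun k => pf_inj (congrFun h k)

/-- the matrix of an element -/
abbrev val (g : SUF) : Matrix (Fin 3) (Fin 3) F := ((g : Matrix.SpecialLinearGroup (Fin 3) F) : Matrix (Fin 3) (Fin 3) F)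

/-- the code of an element -/
noncomputable def code (g : SUF) : Matrix (Fin 3) (Fin 3) E9 :=
  Matrix.of fun i j => (pf_spec (F := F)).1.2 (val g i j) |>.choose

theorem pf_code (g : SUF) (i j : Fin 3) : pf F (code g i j) = val g i j :=
  ((pf_spec (F := F)).1.2 (val g i j)).choose_spec

theorem toV_mv (g : SUF) (v : Fin 3 → E9) : toV (mv (code g) v) = val g *ᵥ toV v := by
  funext i
  simp only [toV, mv, pf_add, pf_mul, pf_code, Matrix.mulVec, dotProduct, Fin.sum_univ_three]

theorem pf_hh (u v : Fin 3 → E9) : pf F (hh u v) = hermForm 3 F 3 (toV u) (toV v) := by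
  simp only [hh, pf_add, pf_mul, pf_conj, hermForm, Fin.sum_univ_three, toV]

theorem hh_mv (g : SUF) (u v : Fin 3 → E9) : hh (mv (code g) u) (mv (code g) v) = hh u v := by
  refine pf_inj (F := F) ?_
  rw [pf_hh, pf_hh, toV_mv, toV_mv]
  exact g.2 (toV u) (toV v)

theorem mv_sm (g : SUF) (c : E9) (v : Fin 3 → E9) : mv (code g) (sm c v) = sm c (mv (code g) v) := by
  refine toV_inj (F := F) (funext fun i => ?_)
  simp only [toV, sm, mv, pf_add, pf_mul]
  ring

theorem mv_mul (g h : SUF) (v : Fin 3 → E9) : mv (code (g * h)) v = mv (code g) (mv (code h) v) := by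
  refine toV_inj (F := F) ?_
  rw [toV_mv, toV_mv, toV_mv, Matrix.mulVec_mulVec]
  rfl

theorem mv_one (v : Fin 3 → E9) : mv (code (1 : SUF)) v = v := by
  refine toV_inj (F := F) ?_
  rw [toV_mv]
  exact Matrix.one_mulVec _

theorem code_mul (g h : SUF) : code (g * h) = mm (code g) (code h) := by
  refine Matrix.ext fun i j => pf_inj (F := F) ?_
  rw [pf_code]
  show (val g * val h) i j = _
  simp only [mm, Matrix.of_apply, Matrix.mul_apply, Fin.sum_univ_three, pf_add, pf_mul, pf_code]

theorem code_one : code (1 : SUF) = me := by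
  refine Matrix.ext fun i j => pf_inj (F := F) ?_
  rw [pf_code]
  show (1 : Matrix (Fin 3) (Fin 3) F) i j = _
  by_cases h : i = j
  · subst h; simp [me, (pf_spec (F := F)).2.2.1]
  · simp [me, h, (pf_spec (F := F)).2.1]

theorem exists_code (A : Matrix (Fin 3) (Fin 3) E9) (hd : md A = (1, 0)) (hU : IsU A) :
    ∃ g : SUF, code g = A := by
  haveI := charP_three (F := F) hF.out
  let M : Matrix (Fin 3) (Fin 3) F := Matrix.of fun i j => pf F (A i j)
  have hdet : M.det = 1 := by
    rw [Matrix.det_fin_three, ← (pf_spec (F := F)).2.2.1, ← hd]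
    simp only [M, Matrix.of_apply, md, pf_add, pf_sub, pf_mul]
    ring
  let g : Matrix.SpecialLinearGroup (Fin 3) F := ⟨M, hdet⟩
  have hg : g ∈ SU 3 F 3 := mem_of_gram fun a b => by
    rw [Fin.sum_univ_three]
    show M 0 a * M 0 b ^ 3 + M 1 a * M 1 b ^ 3 + M 2 a * M 2 b ^ 3 = _
    have e : pf F (me a b) = if a = b then 1 else 0 := by
      by_cases h : a = b
      · subst h; simp [me, (pf_spec (F := F)).2.2.1]
      · simp [me, h, (pf_spec (F := F)).2.1]
    rw [← e, ← show mm A.transpose (A.map ec) = me from hU]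
    simp only [M, mm, Matrix.of_apply, Matrix.transpose_apply, Matrix.map_apply, pf_add, pf_mul, pf_conj]
  refine ⟨⟨g, hg⟩, ?_⟩
  exact Matrix.ext fun i j => pf_inj (F := F) (by rw [pf_code]; rfl)

noncomputable instance action : MulAction SUF (Fin 63) where
  smul g i := mact (code g) i
  one_smul i := by
    show mact (code (1 : SUF)) i = i
    rw [mact, mv_one, ii_vv]
  mul_smul g h i := by
    show mact (code (g * h)) i = mact (code g) (mact (code h) i)
    simp only [mact, mv_mul]
    have hn : hh (mv (code h) (vv i)) (mv (code h) (vv i)) ≠ 0 := by rw [hh_mv]; exact vv_norm i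
    obtain ⟨c, hc, e⟩ := exists_scale _ hn
    conv_lhs => rw [← e, mv_sm]
    exact ii_sm _ c hc (by rw [hh_mv]; exact vv_norm _)

theorem smul_def (g : SUF) (i : Fin 63) : g • i = mact (code g) i := rfl

theorem mv_vv (g : SUF) (i : Fin 63) : ∃ c, c ≠ 0 ∧ sm c (vv (g • i)) = mv (code g) (vv i) :=
  exists_scale _ (by rw [hh_mv]; exact vv_norm i)

theorem pow_eight {x : E9} (h : x ≠ 0) : pf F x ^ 8 = 1 := by
  have := FiniteField.pow_card_sub_one_eq_one (pf F x) (pf_ne_zero h)
  rwa [hF.out] at this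

theorem rr_sm (F : Type*) [Field F] [Fintype F] [hF : Fact (Fintype.card F = 9)] {a b : E9} (ha : a ≠ 0) (hb : b ≠ 0) (u v : Fin 3 → E9) :
    rr (sm a u) (sm b v) = rr u v := by
  refine pf_inj (F := F) ?_
  have e : ∀ (s t : E9) (x y : Fin 3 → E9),
      pf F (hh (sm s x) (sm t y)) = pf F s * pf F t ^ 3 * pf F (hh x y) := by
    intro s t x y
    simp only [hh, sm, pf_add, pf_mul, pf_conj, mul_pow]
    ring
  simp only [rr, pf_mul, e]
  have h1 := pow_eight (F := F) ha
  have h2 := pow_eight (F := F) hb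
  linear_combination (pf F (hh u v) * pf F (hh v u) * pf F (hh u u) * pf F (hh v v)) *
    (pf F b ^ 8 * h1 + h2)

theorem dt_smul (g : SUF) (i j : Fin 63) : dt (g • i) (g • j) = dt i j := by
  rw [dt_eq, dt_eq, dh, dh]
  by_cases h : i = j
  · subst h; simp
  · have h' : g • i ≠ g • j := fun e => h (MulAction.injective g e)
    simp only [if_neg h, if_neg h']
    obtain ⟨a, ha, ea⟩ := mv_vv g i
    obtain ⟨b, hb, eb⟩ := mv_vv g j
    have : rr (vv (g • i)) (vv (g • j)) = rr (vv i) (vv j) := by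
      rw [← rr_sm F ha hb, ea, eb]
      simp only [rr, hh_mv]
    simp only [this]

/-- one step of an orbit computation -/
def stepL (fs : List (Matrix (Fin 3) (Fin 3) E9)) (L : List (Fin 63)) : List (Fin 63) :=
  (L ++ L.flatMap fun x => fs.map fun A => mact A x).dedup

/-- the points reached in a number of steps -/
def reach (fs : List (Matrix (Fin 3) (Fin 3) E9)) : ℕ → Fin 63 → List (Fin 63)
  | 0, x => [x]
  | n + 1, x => stepL fs (reach fs n x)

theorem reach_sound (S : Subgroup SUF) (fs : List (Matrix (Fin 3) (Fin 3) E9))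
    (hfs : ∀ A ∈ fs, ∃ g ∈ S, code g = A) (x : Fin 63) :
    ∀ n, ∀ y ∈ reach fs n x, ∃ g ∈ S, g • x = y := by
  intro n
  induction n with
  | zero =>
    intro y hy
    simp only [reach, List.mem_singleton] at hy
    exact ⟨1, one_mem _, by rw [one_smul, hy]⟩
  | succ n ih =>
    intro y hy
    simp only [reach, stepL, List.mem_dedup, List.mem_append, List.mem_flatMap, List.mem_map] at hy
    rcases hy with hy | ⟨z, hz, A, hA, rfl⟩
    · exact ih y hy
    · obtain ⟨g, hg, rfl⟩ := ih z hz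
      obtain ⟨a, ha, rfl⟩ := hfs A hA
      exact ⟨a * g, mul_mem ha hg, mul_smul a g x⟩

theorem card_SU33 : Nat.card SUF = 6048 := by
  classical
  have hz : Subgroup.center SUF = ⊥ := center_eq_bot hF.out
  have h := Cfsg.Agent.S0280.result (F := F) (q := 3) (by rw [hF.out]; norm_num) 3 (by norm_num)
  have e : Nat.card (PSU 3 F 3) = Nat.card SUF := by
    rw [← Subgroup.index_eq_card, hz, Subgroup.index_bot]
  rw [e] at h
  norm_num [Finset.prod_range_succ, Nat.even_iff] at h
  rw [Nat.card_eq_fintype_card]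
  omega

/-- the matrix of a word -/
def wordM : ℕ → ℕ → Matrix (Fin 3) (Fin 3) E9
  | 0, _ => me
  | k + 1, n => if n = 0 then me else mm (if n % 3 = 1 then gA else gB) (wordM k (n / 3))

theorem gA_ok : md gA = (1, 0) ∧ IsU gA := ⟨by decide +kernel, by unfold IsU; decide +kernel⟩
theorem gB_ok : md gB = (1, 0) ∧ IsU gB := ⟨by decide +kernel, by unfold IsU; decide +kernel⟩
theorem sA_ok : md sA = (1, 0) ∧ IsU sA := ⟨by decide +kernel, by unfold IsU; decide +kernel⟩
theorem sB_ok : md sB = (1, 0) ∧ IsU sB := ⟨by decide +kernel, by unfold IsU; decide +kernel⟩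

theorem gens_order : mp gA 7 = me ∧ mp gB 7 = me := by decide +kernel

theorem transitive_data : ∀ y : Fin 63, y ∈ reach [gA, gB] 7 0 := by decide +kernel

theorem suborbit_data : ∀ y : Fin 63, ∃ k, y ∈ reach [sA, sB] 5 (subReps k) := by decide +kernel

theorem stab_fix : mact sA 0 = 0 ∧ mact sB 0 = 0 := by decide +kernel

theorem words_fix : ∀ w ∈ stabWords, mact (wordM 14 w) 0 = 0 := by decide +kernel

theorem words_nodup : (stabWords.map fun w => List.ofFn fun i : Fin 9 =>
    wordM 14 w ⟨i.val / 3, Nat.div_lt_of_lt_mul i.isLt⟩ ⟨i.val % 3, Nat.mod_lt _ (by norm_num)⟩).Nodup := by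
  decide +kernel

theorem words_length : stabWords.length = 96 := rfl

theorem code_pow (g : SUF) : ∀ n, code (g ^ n) = mp (code g) n
  | 0 => by rw [pow_zero, code_one]; rfl
  | n + 1 => by rw [pow_succ, code_mul, code_pow g n]; rfl

theorem code_inj {g h : SUF} (e : code g = code h) : g = h := by
  refine Subtype.ext (Subtype.ext ?_)
  show val g = val h
  ext i j
  rw [← pf_code, e, pf_code]

/-- Two elements of order dividing 7 generate the group. -/
theorem exists_gens : ∃ a b : SUF, a ^ 7 = 1 ∧ b ^ 7 = 1 ∧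
    Subgroup.closure ({a, b} : Set SUF) = ⊤ ∧ ∀ y : Fin 63, ∃ g : SUF, g • (0 : Fin 63) = y := by
  classical
  obtain ⟨a, ha⟩ := exists_code (F := F) gA gA_ok.1 gA_ok.2
  obtain ⟨b, hb⟩ := exists_code (F := F) gB gB_ok.1 gB_ok.2
  set H := Subgroup.closure ({a, b} : Set SUF) with hH
  have haH : a ∈ H := Subgroup.subset_closure (by simp)
  have hbH : b ∈ H := Subgroup.subset_closure (by simp)
  have hw : ∀ k n, ∃ g ∈ H, code g = wordM k n := by
    intro k
    induction k with
    | zero => exact fun n => ⟨1, one_mem _, code_one⟩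
    | succ k ih =>
      intro n
      by_cases h0 : n = 0
      · exact ⟨1, one_mem _, by rw [code_one, wordM, if_pos h0]⟩
      · obtain ⟨g, hg, e⟩ := ih (n / 3)
        by_cases h1 : n % 3 = 1
        · exact ⟨a * g, mul_mem haH hg, by rw [code_mul, wordM, if_neg h0, if_pos h1, e, ha]⟩
        · exact ⟨b * g, mul_mem hbH hg, by rw [code_mul, wordM, if_neg h0, if_neg h1, e, hb]⟩
  have ht : ∀ y : Fin 63, ∃ g ∈ H, g • (0 : Fin 63) = y := fun y =>
    reach_sound H [gA, gB] (by
      intro A hA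
      rcases List.mem_cons.1 hA with rfl | hA
      · exact ⟨a, haH, ha⟩
      · rw [List.mem_singleton] at hA; exact ⟨b, hbH, hb.trans hA.symm⟩) 0 7 y (transitive_data y)
  choose t htH ht' using ht
  choose s hsH hs using fun k : Fin stabWords.length => hw 14 (stabWords.get k)
  let f : Fin 63 × Fin stabWords.length → H := fun p => ⟨t p.1 * s p.2, mul_mem (htH _) (hsH _)⟩
  have hf : Function.Injective f := by
    rintro ⟨i, k⟩ ⟨j, l⟩ e
    have e' : t i * s k = t j * s l := congrArg Subtype.val e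
    have fx : ∀ k, s k • (0 : Fin 63) = 0 := fun k => by
      rw [smul_def, hs]; exact words_fix _ (List.get_mem _ _)
    have hij : i = j := by
      have := congrArg (fun g : SUF => g • (0 : Fin 63)) e'
      simpa only [mul_smul, fx, ht'] using this
    subst hij
    have hkl : code (s k) = code (s l) := congrArg code (mul_left_cancel e')
    rw [hs, hs] at hkl
    have : k = l := by
      have hn := words_nodup
      rw [List.nodup_iff_injective_get] at hn
      have hl := List.length_map (as := stabWords) (fun w => List.ofFn fun i : Fin 9 =>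
        wordM 14 w ⟨i.val / 3, Nat.div_lt_of_lt_mul i.isLt⟩ ⟨i.val % 3, Nat.mod_lt _ (by norm_num)⟩)
      have := @hn (Fin.cast hl.symm k) (Fin.cast hl.symm l) (by
        simp only [List.get_eq_getElem, Fin.val_cast, List.getElem_map]
        simp only [List.get_eq_getElem] at hkl
        rw [hkl])
      exact Fin.ext (by simpa [Fin.ext_iff] using this)
    rw [this]
  have hc := Nat.card_le_card_of_injective f hf
  rw [Nat.card_prod, Nat.card_fin, Nat.card_fin, words_length] at hc
  refine ⟨a, b, code_inj ?_, code_inj ?_, ?_, fun y => ⟨t y, ht' y⟩⟩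
  · rw [code_pow, ha, code_one, gens_order.1]
  · rw [code_pow, hb, code_one, gens_order.2]
  · refine Subgroup.eq_top_of_le_card _ ?_
    rw [card_SU33]
    exact hc

theorem transitive (x y : Fin 63) : ∃ g : SUF, g • x = y := by
  obtain ⟨-, -, -, -, -, ht⟩ := exists_gens (F := F)
  obtain ⟨g, hg⟩ := ht x
  obtain ⟨g', hg'⟩ := ht y
  exact ⟨g' * g⁻¹, by rw [← hg, mul_smul, inv_smul_smul, hg']⟩

theorem suborbits (y : Fin 63) : ∃ (k : Fin 4) (g : SUF), g • (0 : Fin 63) = 0 ∧ g • subReps k = y := by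
  obtain ⟨k, hk⟩ := suborbit_data y
  obtain ⟨g, hg, e⟩ := reach_sound (MulAction.stabilizer SUF (0 : Fin 63)) [sA, sB] (by
    intro A hA
    rcases List.mem_cons.1 hA with rfl | hA
    · obtain ⟨g, hg⟩ := exists_code (F := F) sA sA_ok.1 sA_ok.2
      exact ⟨g, by rw [MulAction.mem_stabilizer_iff, smul_def, hg, stab_fix.1], hg⟩
    · rw [List.mem_singleton] at hA
      subst hA
      obtain ⟨g, hg⟩ := exists_code (F := F) sB sB_ok.1 sB_ok.2
      exact ⟨g, by rw [MulAction.mem_stabilizer_iff, smul_def, hg, stab_fix.2], hg⟩) (subReps k) 5 y hk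
  exact ⟨k, g, hg, e⟩

/-- the points reached by steps in one class of pairs -/
def grow (k : Fin 4) (L : List (Fin 63)) : List (Fin 63) :=
  (List.finRange 63).filter fun y => decide (y ∈ L) || L.any fun x => dt x y == k

theorem connected_data : ∀ k : Fin 4, k ≠ 0 → ∀ y : Fin 63, y ∈ grow k (grow k (grow k [0])) := by
  decide +kernel

theorem fix_all {g : SUF} (h : ∀ i : Fin 63, g • i = i) : g = 1 := by
  have hv : ∀ i : Fin 63, ∃ c, c ≠ 0 ∧ sm c (vv i) = mv (code g) (vv i) := fun i => by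
    obtain ⟨c, hc, e⟩ := mv_vv g i
    rw [h i] at e
    exact ⟨c, hc, e⟩
  have hs : ∀ w, hh w w ≠ 0 → ∃ l : F, val g *ᵥ toV w = l • toV w := by
    intro w hw
    obtain ⟨a, -, ea⟩ := exists_scale w hw
    obtain ⟨c, -, ec'⟩ := hv (ii w)
    refine ⟨pf F c, ?_⟩
    rw [← toV_mv]
    conv_lhs => rw [← ea, mv_sm, ← ec']
    conv_rhs => rw [← ea]
    funext k
    simp only [toV, sm, pf_mul, Pi.smul_apply, smul_eq_mul]
    ring
  have p0 : pf F ((0, 0) : E9) = 0 := (pf_spec (F := F)).2.1
  have p1 : pf F (1, 0) = 1 := (pf_spec (F := F)).2.2.1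
  obtain ⟨l0, e0⟩ := hs ![(1, 0), (0, 0), (0, 0)] (by decide)
  obtain ⟨l1, e1⟩ := hs ![(0, 0), (1, 0), (0, 0)] (by decide)
  obtain ⟨l2, e2⟩ := hs ![(0, 0), (0, 0), (1, 0)] (by decide)
  obtain ⟨l3, e3⟩ := hs ![(1, 0), (1, 0), (0, 0)] (by decide)
  obtain ⟨l4, e4⟩ := hs ![(1, 0), (0, 0), (1, 0)] (by decide)
  simp only [funext_iff, Fin.forall_fin_succ, Matrix.mulVec, dotProduct, Fin.sum_univ_three, toV,
    Matrix.cons_val_zero, Matrix.cons_val_one, Matrix.cons_val, p0, p1, Pi.smul_apply, smul_eq_mul,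
    mul_zero, mul_one, add_zero, zero_add, IsEmpty.forall_iff, and_true] at e0 e1 e2 e3 e4
  obtain ⟨a0, a1, a2⟩ := e0
  obtain ⟨b0, b1, b2⟩ := e1
  obtain ⟨c0, c1, c2⟩ := e2
  obtain ⟨d0, d1, -⟩ := e3
  obtain ⟨f0, -, f2⟩ := e4
  have hz : g ∈ Subgroup.center SUF := by
    apply Cfsg.Agent.Classical.mem_center_of_suVal_scalar (c := val g 0 0)
    ext i j
    fin_cases i <;> fin_cases j <;>
      simp [Cfsg.Agent.Classical.suVal, Matrix.scalar_apply] <;>
      simp_all [val]
  rw [center_eq_bot hF.out, Subgroup.mem_bot] at hz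
  exact hz

theorem normal_eq_top (N : Subgroup SUF) [hN : N.Normal] (hne : N ≠ ⊥) : N = ⊤ := by
  classical
  haveI : Fact (Nat.Prime 7) := ⟨by norm_num⟩
  obtain ⟨n, hn, hn1⟩ : ∃ n ∈ N, n ≠ 1 := by
    by_contra hc
    push Not at hc
    exact hne ((Subgroup.eq_bot_iff_forall _).2 hc)
  have hall : ∀ y : Fin 63, ∃ m ∈ N, m • (0 : Fin 63) = y := by
    -- the orbit of the first point
    obtain ⟨y, hy, hy0⟩ : ∃ y, (∃ m ∈ N, m • (0 : Fin 63) = y) ∧ y ≠ 0 := by
      by_contra hc
      push Not at hc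
      refine hn1 (fix_all fun i => ?_)
      obtain ⟨g, rfl⟩ := transitive (F := F) 0 i
      have := hc ((g⁻¹ * n * g) • (0 : Fin 63)) ⟨_, by simpa using hN.conj_mem n hn g⁻¹, rfl⟩
      rw [mul_smul, mul_smul] at this
      exact inv_smul_eq_iff.1 this
    obtain ⟨k, g, hg, rfl⟩ := suborbits (F := F) y
    obtain ⟨m, hm, hmy⟩ := hy
    have hk : dt 0 (g • subReps k) ≠ 0 := by
      intro e
      rw [dt_eq, dh, if_neg (Ne.symm hy0)] at e
      exact absurd (congrArg Fin.val e) (Nat.succ_ne_zero _)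
    have step : ∀ x z : Fin 63, dt x z = dt 0 (g • subReps k) → (∃ m ∈ N, m • (0 : Fin 63) = x) →
        ∃ m ∈ N, m • (0 : Fin 63) = z := by
      intro x z hxz hx
      obtain ⟨m', hm', rfl⟩ := hx
      obtain ⟨j, g', hg', hz⟩ := suborbits (F := F) (m'⁻¹ • z)
      have he : dt 0 (subReps j) = dt 0 (subReps k) := by
        have e1 := dt_smul g' 0 (subReps j)
        rw [hg', hz] at e1
        have e2 := dt_smul m'⁻¹ (m' • (0 : Fin 63)) z
        rw [inv_smul_smul] at e2
        rw [← e1, e2, hxz]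
        have e3 := dt_smul g 0 (subReps k)
        rwa [hg] at e3
      have hjk : j = k := by
        have key : ∀ j k : Fin 4, dt 0 (subReps j) = dt 0 (subReps k) → j = k := by decide +kernel
        exact key j k he
      subst hjk
      refine ⟨m' * (g' * g⁻¹ * m * (g' * g⁻¹)⁻¹), mul_mem hm' (hN.conj_mem m hm _), ?_⟩
      have hgg : (g' * g⁻¹)⁻¹ • (0 : Fin 63) = 0 := by
        rw [_root_.mul_inv_rev, inv_inv, mul_smul, inv_smul_eq_iff.2 hg'.symm, hg]
      rw [mul_smul, mul_smul, mul_smul, hgg, hmy, mul_smul, inv_smul_smul, hz, smul_inv_smul]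
    have hgrow : ∀ L : List (Fin 63), (∀ x ∈ L, ∃ m ∈ N, m • (0 : Fin 63) = x) →
        ∀ z ∈ grow (dt 0 (g • subReps k)) L, ∃ m ∈ N, m • (0 : Fin 63) = z := by
      intro L hL z hz
      simp only [grow, List.mem_filter, Bool.or_eq_true, decide_eq_true_eq, List.any_eq_true,
        beq_iff_eq] at hz
      rcases hz.2 with h | ⟨x, hx, hd⟩
      · exact hL z h
      · exact step x z hd (hL x hx)
    intro z
    exact hgrow _ (hgrow _ (hgrow [0] (fun x hx => ⟨1, one_mem _, by
      rw [one_smul, List.mem_singleton.1 hx]⟩))) z (connected_data _ hk z)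
  have h63 : 63 ∣ Nat.card N := by
    have ht : (MulAction.orbit N (0 : Fin 63)) = Set.univ := Set.eq_univ_of_forall fun y => by
      obtain ⟨m, hm, e⟩ := hall y
      exact ⟨⟨m, hm⟩, e⟩
    have h := MulAction.index_stabilizer N (0 : Fin 63)
    rw [ht, Set.ncard_univ, Nat.card_fin] at h
    rw [← h]
    exact Subgroup.index_dvd_card _
  have h7 : ¬ 7 ∣ N.index := by
    intro h
    have := Nat.mul_dvd_mul ((show 7 ∣ 63 by norm_num).trans h63) h
    rw [Subgroup.card_mul_index, card_SU33] at this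
    norm_num at this
  obtain ⟨a, b, ha, hb, htop, -⟩ := exists_gens (F := F)
  rw [eq_top_iff, ← htop, Subgroup.closure_le]
  have hmem : ∀ x : SUF, x ^ 7 = 1 → x ∈ N := by
    intro x hx
    have h1 : orderOf (QuotientGroup.mk' N x) ∣ 7 :=
      orderOf_dvd_of_pow_eq_one (by rw [← map_pow, hx, map_one])
    have h2 : orderOf (QuotientGroup.mk' N x) ∣ N.index :=
      Subgroup.index_eq_card N ▸ orderOf_dvd_natCard _
    rcases (Nat.dvd_prime (by norm_num)).1 h1 with e | e
    · exact (QuotientGroup.eq_one_iff x).1 (orderOf_eq_one_iff.1 e)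
    · exact absurd (e ▸ h2) h7
  rintro x (rfl | rfl)
  · exact hmem _ ha
  · exact hmem _ hb

instance simple : IsSimpleGroup SUF where
  exists_pair_ne := ⟨(Finite.one_lt_card_iff_nontrivial.1 (by rw [card_SU33]; norm_num)).exists_pair_ne.choose,
    (Finite.one_lt_card_iff_nontrivial.1 (by rw [card_SU33]; norm_num)).exists_pair_ne.choose_spec⟩
  eq_bot_or_eq_top_of_normal N hN := by
    by_cases h : N = ⊥
    · exact Or.inl h
    · exact Or.inr (normal_eq_top N (hN := hN) h)

end Cfsg.Agent.PSU33
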