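import Mathlib
import Cfsg.Agent.Lib.Grp.Frattini

/-!
# Small self-centralizing subgroups force maximal class
-/

set_option autoImplicit false
set_option linter.style.haveILetI false
set_option linter.unusedSectionVars false

namespace Cfsg.Agent.MaxClass

open Subgroup
open scoped commutatorElement

universe u

variable {p : ℕ} [Fact p.Prime]

/-- `g ↦ g a g⁻¹ a⁻¹` on elements whose commutator with `a` is central. -/
def centralCommHom {X : Type u} [Group X] (T : Subgroup X) (a : X)
    (hT : ∀ g ∈ T, g * a * g⁻¹ * a⁻¹ ∈ center X) : T →* center X where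
  toFun g := ⟨(g : X) * a * (g : X)⁻¹ * a⁻¹, hT g g.2⟩
  map_one' := Subtype.ext (by simp)
  map_mul' g h := Subtype.ext (by
    show (g : X) * h * a * ((g : X) * h)⁻¹ * a⁻¹ =
      ((g : X) * a * (g : X)⁻¹ * a⁻¹) * ((h : X) * a * (h : X)⁻¹ * a⁻¹)
    have hc := mem_center_iff.1 (hT h h.2)
    calc (g : X) * h * a * ((g : X) * h)⁻¹ * a⁻¹
        = (g : X) * ((h : X) * a * (h : X)⁻¹ * a⁻¹) * a * (g : X)⁻¹ * a⁻¹ := by group
      _ = ((h : X) * a * (h : X)⁻¹ * a⁻¹) * ((g : X) * a * (g : X)⁻¹ * a⁻¹) := by rw [hc]; group
      _ = _ := (hc _).symm)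

theorem mem_ker_centralCommHom {X : Type u} [Group X] (T : Subgroup X) (a : X)
    (hT : ∀ g ∈ T, g * a * g⁻¹ * a⁻¹ ∈ center X) (g : T) :
    g ∈ (centralCommHom T a hT).ker ↔ Commute (g : X) a := by
  rw [MonoidHom.mem_ker, Subtype.ext_iff]
  show (g : X) * a * (g : X)⁻¹ * a⁻¹ = 1 ↔ _
  rw [mul_inv_eq_one, mul_inv_eq_iff_eq_mul]
  rfl

theorem prime_le_card {X : Type u} [Group X] [Finite X] (hX : IsPGroup p X) {H K : Subgroup X}
    (hlt : H < K) : p * Nat.card H ≤ Nat.card K := by
  obtain ⟨i, hi⟩ := IsPGroup.iff_card.1 (hX.to_subgroup H)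
  obtain ⟨j, hj⟩ := IsPGroup.iff_card.1 (hX.to_subgroup K)
  rw [hi, hj, ← pow_succ']
  refine Nat.pow_le_pow_right (Fact.out : p.Prime).pos ?_
  by_contra hc
  have : Nat.card K ≤ Nat.card H := by
    rw [hi, hj]; exact Nat.pow_le_pow_right (Fact.out : p.Prime).pos (by omega)
  exact hlt.ne (eq_of_le_of_card_ge hlt.le this)

theorem class_le_one_of_comm {X : Type u} [Group X] [Finite X] [Group.IsNilpotent X] [Nontrivial X]
    (hc : ∀ x y : X, x * y = y * x) : Group.nilpotencyClass X = 1 := by
  have h1 : Group.nilpotencyClass X ≤ 1 := by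
    rw [← Subgroup.lowerCentralSeries_eq_bot_iff_nilpotencyClass_le,
      Subgroup.top_lowerCentralSeries_one, _root_.commutator_def, eq_bot_iff, commutator_le]
    intro x _ y _
    rw [mem_bot, commutatorElement_eq_one_iff_mul_comm]
    exact hc x y
  have h0 : Group.nilpotencyClass X ≠ 0 := fun h0 => by
    haveI := Group.nilpotencyClass_zero_iff_subsingleton.1 h0
    exact not_nontrivial X ‹_›
  omega

/-- A self-centralizing subgroup of order `p ^ 2` forces maximal class. -/
theorem class_of_self_centralizing {X : Type u} [Group X] [Finite X] {n : ℕ}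
    (hX : Nat.card X = p ^ n) (A : Subgroup X) (hA : Nat.card A = p ^ 2)
    (hC : centralizer (A : Set X) = A) : Group.nilpotencyClass X = n - 1 := by
  induction n generalizing X with
  | zero =>
    have := card_le_card_group A
    rw [hA, hX, pow_zero] at this
    have := Nat.one_lt_pow (two_ne_zero) (Fact.out : p.Prime).one_lt
    omega
  | succ n ih =>
    have hP : IsPGroup p X := IsPGroup.of_card hX
    have hp := (Fact.out : p.Prime)
    haveI : Group.IsNilpotent X := hP.isNilpotent
    have hn : 1 ≤ n := by
      have h1 := card_le_card_group A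
      rw [hA, hX] at h1
      have := (Nat.pow_le_pow_iff_right hp.one_lt).1 h1
      omega
    haveI : Nontrivial X := by
      rw [← Finite.one_lt_card_iff_nontrivial, hX]
      exact Nat.one_lt_pow (by omega) hp.one_lt
    by_cases hAt : A = ⊤
    · rw [hAt, card_top, hX] at hA
      obtain rfl : n = 1 := by
        have := Nat.pow_right_injective hp.two_le hA
        omega
      refine class_le_one_of_comm fun x y => ?_
      have hx : x ∈ centralizer (A : Set X) := by rw [hC, hAt]; exact mem_top x
      exact (mem_centralizer_iff.1 hx y (by rw [hAt]; exact mem_top y)).symm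
    have hZA : center X < A := by
      refine lt_of_le_of_ne (fun z hz => ?_) fun he => hAt ?_
      · rw [← hC, mem_centralizer_iff]
        exact fun a _ => mem_center_iff.1 hz a
      · rw [← hC, ← he]
        exact (eq_top_iff' _).2 fun x => mem_centralizer_iff.2 fun z hz =>
          (mem_center_iff.1 hz x).symm
    have hZ1 : 1 < Nat.card (center X) := by
      haveI := hP.center_nontrivial
      exact Finite.one_lt_card
    have hZ : Nat.card (center X) = p := by
      have h2 := prime_le_card hP hZA
      rw [hA, pow_two] at h2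
      have h3 := Nat.le_of_mul_le_mul_left h2 hp.pos
      obtain ⟨i, hi⟩ := IsPGroup.iff_card.1 (hP.to_subgroup (center X))
      rw [hi] at h3 hZ1 ⊢
      rcases i with _ | _ | i
      · simp at hZ1
      · simp
      · exfalso
        have : p ^ 2 ≤ p ^ (i + 1 + 1) := Nat.pow_le_pow_right hp.pos (by omega)
        have : p * p ≤ p := by rw [← pow_two]; omega
        nlinarith [hp.two_le]
    set π := QuotientGroup.mk' (center X)
    have hQ : Nat.card (X ⧸ center X) = p ^ n := by
      have h1 := card_eq_card_quotient_mul_card_subgroup (center X)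
      rw [hZ, hX, pow_succ] at h1
      exact (Nat.eq_of_mul_eq_mul_right hp.pos h1).symm
    obtain ⟨a, haA, haZ⟩ := SetLike.exists_of_lt hZA
    have hgen : ∀ x ∈ A, x ∈ center X ⊔ zpowers a := by
      have hlt : center X < center X ⊔ zpowers a :=
        lt_of_le_of_ne le_sup_left fun he => haZ (he ▸ mem_sup_right (mem_zpowers a))
      have h2 := prime_le_card hP hlt
      rw [hZ, ← pow_two, ← hA] at h2
      have heq := eq_of_le_of_card_ge (sup_le hZA.le (zpowers_le.2 haA)) h2
      intro x hx
      rwa [heq]
    set T := (centralizer {π a}).comap π with hT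
    have hTc : ∀ g ∈ T, g * a * g⁻¹ * a⁻¹ ∈ center X := fun g hg => by
      rw [← QuotientGroup.eq_one_iff]
      show π (g * a * g⁻¹ * a⁻¹) = 1
      have h1 := mem_centralizer_iff.1 (mem_comap.1 hg) (π a) rfl
      rw [map_mul, map_mul, map_mul, map_inv, map_inv, ← h1, mul_inv_cancel_right, mul_inv_cancel]
    have hker : ∀ g : T, g ∈ (centralCommHom T a hTc).ker ↔ (g : X) ∈ A := fun g => by
      rw [mem_ker_centralCommHom]
      constructor
      · intro hg
        rw [← hC, mem_centralizer_iff]
        intro x hx
        have : center X ⊔ zpowers a ≤ centralizer {(g : X)} := sup_le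
          (fun z hz => mem_centralizer_singleton_iff.2 (mem_center_iff.1 hz g).symm)
          (zpowers_le.2 (mem_centralizer_singleton_iff.2 hg.symm.eq))
        exact mem_centralizer_singleton_iff.1 (this (hgen x hx))
      · intro hg
        rw [← hC] at hg
        exact (mem_centralizer_iff.1 hg a haA).symm
    have hTcard : Nat.card T ≤ p ^ 3 := by
      have h1 := card_eq_card_quotient_mul_card_subgroup (centralCommHom T a hTc).ker
      have h2 : Nat.card (T ⧸ (centralCommHom T a hTc).ker) ≤ p := by
        rw [Nat.card_congr (QuotientGroup.quotientKerEquivRange _).toEquiv]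
        exact (card_le_card_group _).trans hZ.le
      have h3 : Nat.card (centralCommHom T a hTc).ker ≤ p ^ 2 := by
        rw [← hA]
        exact Nat.card_le_card_of_injective (fun g => (⟨(g.1 : X), (hker g.1).1 g.2⟩ : A))
          fun g h he => Subtype.ext (Subtype.ext (congrArg Subtype.val he :))
      rw [h1, pow_succ']
      exact Nat.mul_le_mul h2 h3
    set C := centralizer {π a} with hCdef
    have hCle : Nat.card C ≤ p ^ 2 := by
      have h1 : (π.comp T.subtype).range = C := by
        rw [MonoidHom.range_eq_map, ← Subgroup.map_map, ← MonoidHom.range_eq_map, range_subtype, hT,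
          map_comap_eq_self_of_surjective (QuotientGroup.mk'_surjective _)]
      have h2 := card_eq_card_quotient_mul_card_subgroup (π.comp T.subtype).ker
      rw [Nat.card_congr (QuotientGroup.quotientKerEquivRange _).toEquiv, h1] at h2
      have h3 : p ≤ Nat.card (π.comp T.subtype).ker := by
        have hzT : ∀ z : center X, (z : X) ∈ T := fun z => by
          rw [hT, mem_comap, show π (z : X) = 1 from (QuotientGroup.eq_one_iff _).2 z.2]
          exact one_mem _
        calc p = Nat.card (center X) := hZ.symm
          _ ≤ _ := Nat.card_le_card_of_injective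
              (fun z => (⟨⟨(z : X), hzT z⟩, (QuotientGroup.eq_one_iff _).2 z.2⟩ :
                (π.comp T.subtype).ker))
              fun z w he => Subtype.ext (congrArg (fun t : (π.comp T.subtype).ker => ((t.1 : T) : X)) he :)
      have h4 : Nat.card C * p ≤ p ^ 2 * p :=
        (Nat.mul_le_mul_left _ h3).trans (h2.symm.le.trans (hTcard.trans (by rw [pow_succ])))
      exact Nat.le_of_mul_le_mul_right h4 hp.pos
    have hQp : IsPGroup p (X ⧸ center X) := IsPGroup.of_card hQ
    have hCeq : Nat.card C = p ^ 2 := by
      refine le_antisymm hCle ?_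
      have hle : zpowers (π a) ≤ C := zpowers_le.2 (mem_centralizer_singleton_iff.2 rfl)
      have hord : p ≤ Nat.card (zpowers (π a)) := by
        have hlt : (⊥ : Subgroup (X ⧸ center X)) < zpowers (π a) := bot_lt_iff_ne_bot.2 fun he =>
          haZ ((QuotientGroup.eq_one_iff a).1 (zpowers_eq_bot.1 he))
        simpa using prime_le_card hQp hlt
      have hne : zpowers (π a) ≠ C := fun he => by
        have hcen : center (X ⧸ center X) ≤ zpowers (π a) := fun z hz => by
          rw [he]; exact mem_centralizer_singleton_iff.2 (mem_center_iff.1 hz _).symm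
        haveI : Nontrivial (X ⧸ center X) := by
          rw [← Finite.one_lt_card_iff_nontrivial, hQ]
          exact Nat.one_lt_pow (by omega) hp.one_lt
        haveI := hQp.center_nontrivial
        have hc2 : 1 < Nat.card (center (X ⧸ center X)) := Finite.one_lt_card
        have heq : center (X ⧸ center X) = zpowers (π a) := by
          by_contra hne'
          have h5 := prime_le_card hQp (lt_of_le_of_ne hcen hne')
          have h6 : Nat.card (zpowers (π a)) ∣ p := by
            rw [Nat.card_zpowers]
            refine orderOf_dvd_of_pow_eq_one ?_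
            rw [← map_pow, QuotientGroup.mk'_apply, QuotientGroup.eq_one_iff]
            have hai : center X ⊓ zpowers a ≤ zpowers a := inf_le_right
            obtain ⟨i, hi⟩ := IsPGroup.iff_card.1 (hP.to_subgroup (zpowers a))
            rw [Nat.card_zpowers] at hi
            have hi2 : i ≤ 2 := by
              have := orderOf_dvd_natCard (⟨a, haA⟩ : A)
              rw [hA, ← orderOf_coe] at this
              exact (Nat.pow_dvd_pow_iff_le_right hp.one_lt).1 (hi ▸ this)
            by_contra hap
            have hlt : center X < center X ⊔ zpowers (a ^ p) :=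
              lt_of_le_of_ne le_sup_left fun he' => hap (he' ▸ mem_sup_right (mem_zpowers _))
            have hlt2 : center X ⊔ zpowers (a ^ p) = A := by
              refine eq_of_le_of_card_ge (sup_le hZA.le (zpowers_le.2 (pow_mem haA p))) ?_
              rw [hA, pow_two]
              exact (Nat.mul_le_mul_left p hZ.ge).trans (prime_le_card hP hlt)
            have hord1 : orderOf (a ^ p) ∣ p := by
              refine orderOf_dvd_of_pow_eq_one ?_
              rw [← pow_mul, ← pow_two, ← orderOf_dvd_iff_pow_eq_one, hi]
              exact pow_dvd_pow p hi2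
            have hpz : a ^ p = 1 ∨ orderOf (a ^ p) = p :=
              ((Nat.dvd_prime hp).1 hord1).imp orderOf_eq_one_iff.1 id
            rcases hpz with h1 | h1
            · exact hap (h1 ▸ one_mem _)
            · -- `A` is then cyclic of order `p ^ 2` and `a ^ p` generates its subgroup of order `p`
              have hao : orderOf a = p ^ 2 := by
                rcases (show i ≤ 1 ∨ i = 2 by omega) with h' | h'
                · exfalso
                  have : a ^ p = 1 := by
                    rw [← orderOf_dvd_iff_pow_eq_one, hi]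
                    exact (pow_dvd_pow p h').trans (by rw [pow_one])
                  exact hap (this ▸ one_mem _)
                · rw [hi, h']
              have hAc : A = zpowers a := (eq_of_le_of_card_ge (zpowers_le.2 haA)
                (by rw [Nat.card_zpowers, hao, hA])).symm
              have hZle : center X ≤ zpowers (a ^ p) := fun z hz => by
                obtain ⟨j, hj⟩ := mem_zpowers_iff.1 (hAc ▸ hZA.le hz)
                have hzp : z ^ p = 1 := by
                  have := orderOf_dvd_natCard (⟨z, hz⟩ : center X)
                  rw [hZ, ← orderOf_coe, orderOf_dvd_iff_pow_eq_one] at this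
                  exact this
                rw [← hj, ← zpow_natCast, ← zpow_mul, ← orderOf_dvd_iff_zpow_eq_one, hao] at hzp
                obtain ⟨c, hc⟩ := hzp
                refine mem_zpowers_iff.2 ⟨c, ?_⟩
                rw [← hj, ← zpow_natCast, ← zpow_mul]
                congr 1
                have hp0 : (p : ℤ) ≠ 0 := by exact_mod_cast hp.ne_zero
                push_cast at hc
                exact mul_right_cancel₀ hp0 (by linear_combination -hc)
              refine hap ?_
              have heq' : center X = zpowers (a ^ p) := eq_of_le_of_card_ge hZle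
                (by rw [hZ, Nat.card_zpowers, h1])
              rw [heq']
              exact mem_zpowers _
          have h7 : Nat.card (zpowers (π a)) ≤ p := Nat.le_of_dvd hp.pos h6
          have h8 := Nat.mul_le_mul_left p hc2
          omega
        have htop : C = ⊤ := (eq_top_iff' _).2 fun x => by
          have hac : π a ∈ center (X ⧸ center X) := heq ▸ mem_zpowers _
          exact mem_centralizer_singleton_iff.2 (mem_center_iff.1 hac x)
        have h9 : zpowers (π a) = ⊤ := he.trans htop
        have hcyc : IsCyclic (X ⧸ center X) := ⟨⟨π a, fun x => by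
          have : x ∈ zpowers (π a) := h9 ▸ mem_top x
          exact mem_zpowers_iff.1 this⟩⟩
        have hcomm := commutative_of_cyclic_center_quotient π (by rw [QuotientGroup.ker_mk'])
        exact hZA.ne (le_antisymm hZA.le fun x _ => mem_center_iff.2 fun y => hcomm y x)
      have h5 := prime_le_card hQp (lt_of_le_of_ne hle hne)
      rw [pow_two]
      exact (Nat.mul_le_mul_left p hord).trans h5
    have hCC : centralizer (C : Set (X ⧸ center X)) = C := by
      haveI : IsMulCommutative C := IsPGroup.isMulCommutative_of_card_eq_prime_sq hCeq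
      refine le_antisymm (fun x hx => ?_) (le_centralizer C)
      exact mem_centralizer_singleton_iff.2
        (mem_centralizer_iff.1 hx (π a) (mem_centralizer_singleton_iff.2 rfl)).symm
    have hcl := ih hQ C hCeq hCC
    rw [Group.nilpotencyClass_eq_quotient_center_plus_one, hcl]
    omega

/-- Non-abelian groups of order `p ^ 3`. -/
theorem cube_center {B : Type u} [Group B] [Finite B] (hB : Nat.card B = p ^ 3)
    (hna : ¬ IsMulCommutative B) :
    Nat.card (center B) = p ∧ (∀ x y : B, ⁅x, y⁆ ∈ center B) ∧ ∀ x : B, x ^ p ∈ center B := by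
  have hP : IsPGroup p B := IsPGroup.of_card hB
  have hp := (Fact.out : p.Prime)
  haveI : Nontrivial B := by
    rw [← Finite.one_lt_card_iff_nontrivial, hB]; exact Nat.one_lt_pow (by omega) hp.one_lt
  haveI := hP.center_nontrivial
  have h1 : 1 < Nat.card (center B) := Finite.one_lt_card
  obtain ⟨i, hi⟩ := IsPGroup.iff_card.1 (hP.to_subgroup (center B))
  have hmul := card_eq_card_quotient_mul_card_subgroup (center B)
  obtain ⟨j, hj⟩ := IsPGroup.iff_card.1 (hP.to_quotient (center B))
  rw [hi, hj, hB, ← pow_add] at hmul
  have hij : 3 = j + i := Nat.pow_right_injective hp.two_le hmul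
  have hj2 : ¬ IsCyclic (B ⧸ center B) := fun hc => hna
    ((QuotientGroup.mk' (center B)).isMulCommutative_of_isCyclic_of_ker_le_center
      (by rw [QuotientGroup.ker_mk']))
  have hi1 : i = 1 := by
    rcases i with _ | _ | i
    · simp [hi] at h1
    · rfl
    · exfalso
      refine hj2 ?_
      rcases j with _ | _ | j
      · haveI : Subsingleton (B ⧸ center B) := (Nat.card_eq_one_iff_unique.1 (by simpa using hj)).1
        exact isCyclic_of_subsingleton
      · exact isCyclic_of_prime_card (p := p) (by simpa using hj)
      · omega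
  subst hi1
  obtain rfl : j = 2 := by omega
  haveI := IsPGroup.isMulCommutative_of_card_eq_prime_sq (G := B ⧸ center B) hj
  refine ⟨by simpa using hi, fun x y => ?_, fun x => ?_⟩
  · rw [← QuotientGroup.eq_one_iff]
    show QuotientGroup.mk' (center B) ⁅x, y⁆ = 1
    rw [map_commutatorElement, commutatorElement_eq_one_iff_mul_comm]
    exact mul_comm' _ _
  · rw [← QuotientGroup.eq_one_iff, QuotientGroup.mk_pow]
    have hd : orderOf (x : B ⧸ center B) ∣ p ^ 2 := hj ▸ orderOf_dvd_natCard _
    obtain ⟨e, he, hex⟩ := (Nat.dvd_prime_pow hp).1 hd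
    rw [← orderOf_dvd_iff_pow_eq_one, hex]
    rcases e with _ | _ | e
    · simp
    · simp
    · exfalso
      exact hj2 (isCyclic_of_orderOf_eq_card _ (by rw [hex, hj]; congr 1; omega))

/-- A non-abelian subgroup of order `p ^ 3` containing its centralizer forces maximal class. -/
theorem class_of_cube {X : Type u} [Group X] [Finite X] {n : ℕ}
    (hX : Nat.card X = p ^ n) (B : Subgroup X) (hB : Nat.card B = p ^ 3)
    (hBna : ¬ IsMulCommutative B) (hC : centralizer (B : Set X) ≤ B) :
    Group.nilpotencyClass X = n - 1 := by
  have hP : IsPGroup p X := IsPGroup.of_card hX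
  have hp := (Fact.out : p.Prime)
  haveI : Group.IsNilpotent X := hP.isNilpotent
  have hn : 3 ≤ n := by
    have h1 := card_le_card_group B
    rw [hB, hX] at h1
    exact (Nat.pow_le_pow_iff_right hp.one_lt).1 h1
  haveI : Nontrivial X := by
    rw [← Finite.one_lt_card_iff_nontrivial, hX]; exact Nat.one_lt_pow (by omega) hp.one_lt
  obtain ⟨hcz, hcomm, -⟩ := cube_center hB hBna
  have hCZ : centralizer (B : Set X) = center X := by
    refine (eq_of_le_of_card_ge (fun z hz => mem_centralizer_iff.2 fun b _ => mem_center_iff.1 hz b)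
      ?_).symm
    haveI := hP.center_nontrivial
    have h1 : 1 < Nat.card (center X) := Finite.one_lt_card
    have h2 : p ≤ Nat.card (center X) := by
      obtain ⟨i, hi⟩ := IsPGroup.iff_card.1 (hP.to_subgroup (center X))
      rw [hi] at h1 ⊢
      rcases i with _ | i
      · simp at h1
      · exact Nat.le_self_pow (by omega) p
    refine le_trans ?_ h2
    rw [← hcz]
    exact Nat.card_le_card_of_injective
      (fun g : centralizer (B : Set X) => (⟨⟨(g : X), hC g.2⟩, mem_center_iff.2 fun b =>
        Subtype.ext (mem_centralizer_iff.1 g.2 b b.2)⟩ : center B))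
      fun g h he => Subtype.ext (congrArg (fun t : center B => ((t : B) : X)) he :)
  have hZB : center X ≤ B := hCZ ▸ hC
  have hcB : ∀ g ∈ B, ∀ u ∈ B, g * u * g⁻¹ * u⁻¹ ∈ center X := fun g hg u hu => by
    rw [← hCZ, mem_centralizer_iff]
    intro x hx
    exact congrArg (fun t : B => (t : X)) (mem_center_iff.1 (hcomm ⟨g, hg⟩ ⟨u, hu⟩) ⟨x, hx⟩)
  have hZ : Nat.card (center X) = p := by
    haveI := hP.center_nontrivial
    have h1 : 1 < Nat.card (center X) := Finite.one_lt_card
    have h2 : Nat.card (center X) ∣ p := hcz ▸ (card_dvd_of_injective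
      (MonoidHom.mk' (fun z : center X => (⟨⟨(z : X), hZB z.2⟩, mem_center_iff.2 fun b =>
          Subtype.ext (mem_center_iff.1 z.2 b)⟩ : center B)) fun z w => rfl)
      fun g h he => Subtype.ext (congrArg (fun t : center B => ((t : B) : X)) he :))
    rcases (Nat.dvd_prime hp).1 h2 with h | h
    · omega
    · exact h
  -- two generators of `B` modulo the centre
  obtain ⟨u, huB, huZ⟩ := SetLike.exists_of_lt (show center X < B from lt_of_le_of_ne hZB fun he => by
    rw [he, hB] at hZ
    have := Nat.pow_right_injective hp.two_le (hZ.trans (pow_one p).symm)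
    omega)
  set U := center X ⊔ zpowers u
  have hUB : U ≤ B := sup_le hZB (zpowers_le.2 huB)
  have hUne : U ≠ B := fun he => hBna ⟨⟨fun x y => Subtype.ext (by
    have key : U ≤ centralizer (U : Set X) := by
      refine sup_le (fun z hz => mem_centralizer_iff.2 fun t _ => mem_center_iff.1 hz t) (zpowers_le.2 ?_)
      refine mem_centralizer_iff.2 fun t ht => ?_
      have hle : U ≤ centralizer {u} := sup_le
        (fun z hz => mem_centralizer_singleton_iff.2 (mem_center_iff.1 hz u).symm)
        (zpowers_le.2 (mem_centralizer_singleton_iff.2 rfl))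
      exact mem_centralizer_singleton_iff.1 (hle ht)
    have hx : (x : X) ∈ U := he ▸ x.2
    have hy : (y : X) ∈ U := he ▸ y.2
    exact mem_centralizer_iff.1 (key hy) x hx)⟩⟩
  obtain ⟨v, hvB, hvU⟩ := SetLike.exists_of_lt (lt_of_le_of_ne hUB hUne)
  have hgen : U ⊔ zpowers v = B := by
    refine eq_of_le_of_card_ge (sup_le hUB (zpowers_le.2 hvB)) ?_
    have h1 := prime_le_card hP (show center X < U from lt_of_le_of_ne le_sup_left fun he => huZ
      (he ▸ (mem_sup_right (mem_zpowers u) : u ∈ U)))
    have h2 := prime_le_card hP (show U < U ⊔ zpowers v from lt_of_le_of_ne le_sup_left fun he =>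
      hvU (he ▸ mem_sup_right (mem_zpowers v)))
    rw [hZ] at h1
    rw [hB, pow_succ', pow_two]
    exact (Nat.mul_le_mul_left p h1).trans h2
  set π := QuotientGroup.mk' (center X)
  have hQ : Nat.card (X ⧸ center X) = p ^ (n - 1) := by
    have h1 := card_eq_card_quotient_mul_card_subgroup (center X)
    rw [hZ, hX, show n = n - 1 + 1 by omega, pow_succ] at h1
    exact (Nat.eq_of_mul_eq_mul_right hp.pos h1).symm
  set C := centralizer ((B.map π : Subgroup (X ⧸ center X)) : Set (X ⧸ center X))
  set T := C.comap π with hT
  have hTu : ∀ w ∈ B, ∀ g ∈ T, g * w * g⁻¹ * w⁻¹ ∈ center X := fun w hw g hg => by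
    rw [← QuotientGroup.eq_one_iff]
    show π (g * w * g⁻¹ * w⁻¹) = 1
    have h1 := mem_centralizer_iff.1 (mem_comap.1 hg) (π w) (mem_map_of_mem π hw)
    rw [map_mul, map_mul, map_mul, map_inv, map_inv, ← h1, mul_inv_cancel_right, mul_inv_cancel]
  have hBT : B ≤ T := fun g hg => by
    rw [hT, mem_comap, mem_centralizer_iff]
    rintro _ ⟨w, hw, rfl⟩
    have h1 : π (g * w * g⁻¹ * w⁻¹) = 1 := (QuotientGroup.eq_one_iff _).2 (hcB g hg w hw)
    rw [map_mul, map_mul, map_mul, map_inv, map_inv, mul_inv_eq_one, mul_inv_eq_iff_eq_mul] at h1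
    exact h1.symm
  let Φ : T →* center X × center X :=
    (centralCommHom T u (hTu u huB)).prod (centralCommHom T v (hTu v hvB))
  have hΦ : ∀ g : T, g ∈ Φ.ker → (g : X) ∈ center X := fun g hg => by
    rw [MonoidHom.ker_prod, mem_inf, mem_ker_centralCommHom, mem_ker_centralCommHom] at hg
    rw [← hCZ, mem_centralizer_iff]
    have hle : U ⊔ zpowers v ≤ centralizer {(g : X)} := sup_le (sup_le
      (fun z hz => mem_centralizer_singleton_iff.2 (mem_center_iff.1 hz g).symm)
      (zpowers_le.2 (mem_centralizer_singleton_iff.2 hg.1.symm.eq)))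
      (zpowers_le.2 (mem_centralizer_singleton_iff.2 hg.2.symm.eq))
    intro x hx
    exact mem_centralizer_singleton_iff.1 (hle (hgen.symm ▸ hx))
  have hTB : T = B := by
    refine (eq_of_le_of_card_ge hBT ?_).symm
    have h1 := card_eq_card_quotient_mul_card_subgroup Φ.ker
    have h2 : Nat.card (T ⧸ Φ.ker) ≤ p * p := by
      rw [Nat.card_congr (QuotientGroup.quotientKerEquivRange _).toEquiv]
      refine (card_le_card_group _).trans ?_
      rw [Nat.card_prod, hZ]
    have h3 : Nat.card Φ.ker ≤ p := by
      rw [← hZ]
      exact Nat.card_le_card_of_injective (fun g => (⟨(g.1 : X), hΦ g.1 g.2⟩ : center X))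
        fun g h he => Subtype.ext (Subtype.ext (congrArg Subtype.val he :))
    rw [h1, hB, pow_succ, pow_two]
    exact Nat.mul_le_mul h2 h3
  have hBm : Nat.card (B.map π) = p ^ 2 := by
    have h1 : (π.comp B.subtype).range = B.map π := by
      rw [MonoidHom.range_eq_map, ← Subgroup.map_map, ← MonoidHom.range_eq_map, range_subtype]
    have h2 := card_eq_card_quotient_mul_card_subgroup (π.comp B.subtype).ker
    rw [Nat.card_congr (QuotientGroup.quotientKerEquivRange _).toEquiv, h1] at h2
    have h3 : Nat.card (π.comp B.subtype).ker = p := by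
      rw [← MonoidHom.comap_ker, QuotientGroup.ker_mk', comap_subtype,
        Nat.card_congr (subgroupOfEquivOfLe hZB).toEquiv, hZ]
    rw [h3, hB, pow_succ] at h2
    exact (Nat.eq_of_mul_eq_mul_right hp.pos h2).symm
  have hcl := class_of_self_centralizing hQ (B.map π) hBm (by
    show C = B.map π
    rw [← hTB, hT, map_comap_eq_self_of_surjective (QuotientGroup.mk'_surjective _)])
  rw [Group.nilpotencyClass_eq_quotient_center_plus_one, hcl]
  omega

end Cfsg.Agent.MaxClass
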