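import Mathlib
import Cfsg.Prelude.Def_Transfer
import Cfsg.Agent.Lib.Transfer.NormalComplement
import Cfsg.Agent.S0033
import Cfsg.Agent.S2800

set_option autoImplicit false

namespace Cfsg.Agent.Hughes

open Cfsg.Agent
open scoped Pointwise

universe u v

theorem nilpotent_has_complement {X : Type u} [Group X] [Finite X] (h : Group.IsNilpotent X) {q : ℕ}
    [Fact q.Prime] : Cfsg.HasNormalPComplement q X := by
  obtain ⟨P⟩ : Nonempty (Sylow q X) := inferInstance
  haveI hPn : (P : Subgroup X).Normal :=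
    Sylow.normal_of_normalizerCondition normalizerCondition_of_isNilpotent P
  obtain ⟨K, hK⟩ := Subgroup.exists_right_complement'_of_coprime (N := (P : Subgroup X)) P.card_coprime_index
  obtain ⟨φ⟩ := ((isNilpotent_of_finite_tfae (G := X)).out 0 4).mp h
  have hcomm : ∀ x y : X, (orderOf x).Coprime (orderOf y) → x * y = y * x := by
    intro x y hxy
    have key : φ.symm x * φ.symm y = φ.symm y * φ.symm x := by
      funext r P'
      haveI := Fact.mk (Nat.prime_of_mem_primeFactors r.2)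
      obtain ⟨i, hi⟩ := IsPGroup.iff_orderOf.mp P'.2 (φ.symm x r P')
      obtain ⟨j, hj⟩ := IsPGroup.iff_orderOf.mp P'.2 (φ.symm y r P')
      have dx : orderOf (φ.symm x r P') ∣ orderOf x :=
        orderOf_dvd_of_pow_eq_one (by
          rw [← Pi.pow_apply, ← Pi.pow_apply, ← map_pow, pow_orderOf_eq_one, map_one]
          rfl)
      have dy : orderOf (φ.symm y r P') ∣ orderOf y :=
        orderOf_dvd_of_pow_eq_one (by
          rw [← Pi.pow_apply, ← Pi.pow_apply, ← map_pow, pow_orderOf_eq_one, map_one]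
          rfl)
      show φ.symm x r P' * φ.symm y r P' = φ.symm y r P' * φ.symm x r P'
      by_cases hi0 : φ.symm x r P' = 1
      · simp [hi0]
      by_cases hj0 : φ.symm y r P' = 1
      · simp [hj0]
      exfalso
      have h1 : i ≠ 0 := fun h0 => hi0 (orderOf_eq_one_iff.mp (by rw [hi, h0, pow_zero]))
      have h2 : j ≠ 0 := fun h0 => hj0 (orderOf_eq_one_iff.mp (by rw [hj, h0, pow_zero]))
      have hr := Nat.prime_of_mem_primeFactors r.2
      exact hr.one_lt.ne' (Nat.eq_one_of_dvd_coprimes hxy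
        ((dvd_pow_self _ h1).trans (hi ▸ dx)) ((dvd_pow_self _ h2).trans (hj ▸ dy)))
    simpa using congrArg φ key
  refine ⟨P, K, ⟨fun k hk g => ?_⟩, hK.symm⟩
  obtain ⟨⟨⟨a, ha⟩, ⟨b, hb⟩⟩, hab⟩ := (Subgroup.isComplement'_def.mp hK).2 g
  have hab' : a * b = g := hab
  have hca : ∀ c ∈ K, a * c = c * a := fun c hc => hcomm a c (Nat.Coprime.coprime_dvd_left
    (Subgroup.orderOf_mk a ha ▸ orderOf_dvd_natCard _) (Nat.Coprime.coprime_dvd_right
    (Subgroup.orderOf_mk c hc ▸ orderOf_dvd_natCard _)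
    (hK.symm.index_eq_card ▸ P.card_coprime_index)))
  have hmem : b * k * b⁻¹ ∈ K := K.mul_mem (K.mul_mem hb hk) (K.inv_mem hb)
  have e : g * k * g⁻¹ = b * k * b⁻¹ := by
    rw [← hab']
    calc a * b * k * (a * b)⁻¹ = a * (b * k * b⁻¹) * a⁻¹ := by group
      _ = b * k * b⁻¹ := by rw [hca _ hmem]; group
  rwa [e]

/-- The averaging trick: commuting `T`, `Z` of exponent `p` all of whose `Z^j T` split the identity. -/
theorem prime_mul_sub_one {E : Type v} [Ring E] {p : ℕ} (hp : p.Prime) {T Z : E} (hc : Commute Z T)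
    (hZ : Z ^ p = 1) (h : ∀ j : ℕ, ∑ i ∈ Finset.range p, (Z ^ j * T) ^ i = 0) :
    (p : E) * (Z - 1) = 0 := by
  have h1 : (∑ j ∈ Finset.range p, ∑ i ∈ Finset.range p, Z ^ (j * i) * T ^ i) * (Z - 1) = 0 := by
    rw [Finset.sum_eq_zero (fun j _ => ?_), zero_mul]
    rw [← h j]
    refine Finset.sum_congr rfl fun i _ => ?_
    rw [(hc.pow_left j).mul_pow, ← pow_mul]
  rw [Finset.sum_comm, Finset.sum_mul] at h1
  rw [Finset.sum_eq_single_of_mem 0 (Finset.mem_range.mpr hp.pos) ?_] at h1
  · simpa using h1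
  intro i hi hi0
  have hcop : i.Coprime p :=
    ((hp.coprime_iff_not_dvd).mpr fun hd => hi0 (Nat.eq_zero_of_dvd_of_lt hd (Finset.mem_range.mp hi))).symm
  have hgeom : (∑ j ∈ Finset.range p, Z ^ (j * i)) * (Z - 1) = 0 := by
    haveI : NeZero p := ⟨hp.ne_zero⟩
    let u := ZMod.unitOfCoprime i hcop
    have e : ∑ j ∈ Finset.range p, Z ^ (j * i) = ∑ j ∈ Finset.range p, Z ^ j := by
      have hper : ∀ a b : ℕ, (a : ZMod p) = b → Z ^ a = Z ^ b := by
        intro a b hab
        rw [pow_eq_pow_mod a hZ, pow_eq_pow_mod b hZ]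
        rw [ZMod.natCast_eq_natCast_iff'] at hab
        rw [hab]
      refine Finset.sum_nbij' (fun j => (j * i) % p) (fun j => ((j : ZMod p) * ↑u⁻¹).val)
        (fun j _ => Finset.mem_range.mpr (Nat.mod_lt _ hp.pos))
        (fun j _ => Finset.mem_range.mpr (ZMod.val_lt _)) ?_ ?_ ?_
      · intro j hj
        have hu : (i : ZMod p) = (u : ZMod p) := (ZMod.coe_unitOfCoprime i hcop).symm
        simp only [ZMod.natCast_mod, Nat.cast_mul, hu, mul_assoc, Units.mul_inv, mul_one]
        exact ZMod.val_cast_of_lt (Finset.mem_range.mp hj)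
      · intro j hj
        have hu : (i : ZMod p) = (u : ZMod p) := (ZMod.coe_unitOfCoprime i hcop).symm
        apply (ZMod.natCast_eq_natCast_iff' _ _ _).mp ?_ |>.trans (Nat.mod_eq_of_lt (Finset.mem_range.mp hj))
        simp only [Nat.cast_mul, ZMod.natCast_val, ZMod.cast_id', id_eq, hu, mul_assoc, Units.inv_mul, mul_one]
      · intro j hj
        exact hper _ _ (by simp)
    rw [e, geom_sum_mul, hZ, sub_self]
  have hcomm : Commute (T ^ i) (Z - 1) := (Commute.pow_left hc.symm i).sub_right (Commute.one_right _)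
  calc (∑ j ∈ Finset.range p, Z ^ (j * i) * T ^ i) * (Z - 1)
      = (∑ j ∈ Finset.range p, Z ^ (j * i)) * ((T ^ i) * (Z - 1)) := by rw [← Finset.sum_mul, mul_assoc]
    _ = 0 := by rw [hcomm.eq, ← mul_assoc, hgeom, zero_mul]

section rep

variable {G : Type u} [Group G] (N : Subgroup G) [N.Normal]

open scoped IsMulCommutative

theorem exists_rep [IsMulCommutative N] :
    ∃ ρ : G →* AddMonoid.End (Additive N), ∀ g (v : Additive N),
      ((Additive.toMul (ρ g v) : N) : G) = g * ((Additive.toMul v : N) : G) * g⁻¹ :=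
  ⟨{ toFun := fun g => MonoidHom.toAdditive (MulAut.conjNormal g : MulAut N).toMonoidHom
     map_one' := by
       refine DFunLike.ext _ _ fun v => Additive.toMul.injective (Subtype.ext ?_)
       show ((MulAut.conjNormal (1 : G) : MulAut N) (Additive.toMul v) : G) = _
       simp
     map_mul' := fun g h => by
       refine DFunLike.ext _ _ fun v => Additive.toMul.injective (Subtype.ext ?_)
       show ((MulAut.conjNormal (g * h) : MulAut N) (Additive.toMul v) : G) =
         ((MulAut.conjNormal g : MulAut N) ((MulAut.conjNormal h : MulAut N) (Additive.toMul v)) : G)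
       simp [mul_assoc] },
   fun g v => MulAut.conjNormal_apply g _⟩

theorem sum_eq_zero_of_pow [IsMulCommutative N] {ρ : G →* AddMonoid.End (Additive N)}
    (hρ : ∀ g (v : Additive N), ((Additive.toMul (ρ g v) : N) : G) = g * ((Additive.toMul v : N) : G) * g⁻¹)
    {p : ℕ} (x : G) (hx : x ^ p = 1) (h : ∀ n ∈ N, (x * n) ^ p = 1) :
    ∑ i ∈ Finset.range p, ρ x ^ i = 0 := by
  have key : ∀ (v : Additive N) (i : ℕ), (x * ((Additive.toMul v : N) : G)) ^ i =
      ((Additive.toMul (∑ k ∈ Finset.range i, (ρ x ^ (k + 1)) v) : N) : G) * x ^ i := by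
    intro v i
    induction i with
    | zero => simp
    | succ i ih =>
      have hstep : ((Additive.toMul ((ρ x ^ (i + 1)) v) : N) : G) =
          x ^ (i + 1) * ((Additive.toMul v : N) : G) * (x ^ (i + 1))⁻¹ := by rw [← map_pow, hρ]
      rw [Finset.sum_range_succ, toMul_add, Subgroup.coe_mul, pow_succ, ih, hstep]
      group
  have hsum : ∀ v : Additive N, (∑ k ∈ Finset.range p, (ρ x ^ (k + 1)) v) = 0 := by
    intro v
    apply Additive.toMul.injective
    apply Subtype.ext
    have := key v p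
    rw [h _ (Additive.toMul v).2, hx, mul_one] at this
    exact this.symm
  refine DFunLike.ext _ _ fun v => ?_
  have := congrArg (ρ x⁻¹) (hsum v)
  rw [map_sum, map_zero] at this
  rw [AddMonoid.End.zero_apply, ← this]
  let ev : AddMonoid.End (Additive N) →+ Additive N :=
    { toFun := fun f => f v, map_zero' := rfl, map_add' := fun _ _ => rfl }
  show ev (∑ i ∈ Finset.range p, ρ x ^ i) = _
  rw [map_sum]
  refine Finset.sum_congr rfl fun k _ => ?_
  show (ρ x ^ k) v = (ρ x⁻¹ * ρ x ^ (k + 1)) v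
  rw [← map_pow, ← map_pow, ← map_mul, pow_succ']
  simp

/-- The pair trick on a normal abelian subgroup of order prime to `p`. -/
theorem centralizes_of_pair [Finite G] [IsMulCommutative N] {p : ℕ} (hp : p.Prime) (hNp : ¬ p ∣ Nat.card N)
    (z t : G) (hz : ∀ n ∈ N, z ^ p * n * (z ^ p)⁻¹ = n)
    (hzt : ∀ n ∈ N, z * t * n * (z * t)⁻¹ = t * z * n * (t * z)⁻¹)
    (h : ∀ (j : ℕ), (z ^ j * t) ^ p = 1 ∧ ∀ n ∈ N, (z ^ j * t * n) ^ p = 1) :
    ∀ n ∈ N, z * n = n * z := by
  obtain ⟨ρ, hρ⟩ := exists_rep N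
  have hc : Commute (ρ z) (ρ t) := by
    show ρ z * ρ t = ρ t * ρ z
    rw [← map_mul, ← map_mul]
    refine DFunLike.ext _ _ fun v => Additive.toMul.injective (Subtype.ext ?_)
    rw [hρ, hρ]; exact hzt _ (Additive.toMul v).2
  have hZ : ρ z ^ p = 1 := by
    rw [← map_pow]
    refine DFunLike.ext _ _ fun v => Additive.toMul.injective (Subtype.ext ?_)
    rw [hρ]; exact hz _ (Additive.toMul v).2
  have hsum : ∀ j : ℕ, ∑ i ∈ Finset.range p, (ρ z ^ j * ρ t) ^ i = 0 := fun j => by
    rw [← map_pow, ← map_mul]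
    exact sum_eq_zero_of_pow N hρ _ (h j).1 (h j).2
  have hmain := prime_mul_sub_one hp hc hZ hsum
  intro n hn
  have h1 := DFunLike.congr_fun hmain (Additive.ofMul (⟨n, hn⟩ : N))
  rw [AddMonoid.End.coe_mul, Function.comp_apply, AddMonoid.End.natCast_apply, AddMonoid.End.zero_apply] at h1
  set w := (ρ z - 1) (Additive.ofMul (⟨n, hn⟩ : N)) with hw
  have hw0 : w = 0 := by
    have h2 : (Additive.toMul w) ^ p = 1 := congrArg Additive.toMul h1
    have h3 : orderOf (Additive.toMul w) ∣ p := orderOf_dvd_of_pow_eq_one h2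
    rcases (Nat.dvd_prime hp).mp h3 with h4 | h4
    · exact Additive.toMul.injective (orderOf_eq_one_iff.mp h4)
    · exact absurd (h4 ▸ orderOf_dvd_natCard _) hNp
  rw [hw] at hw0
  change ρ z _ - _ = 0 at hw0
  rw [sub_eq_zero] at hw0
  have := congrArg (fun v => ((Additive.toMul v : N) : G)) hw0
  simp only [hρ] at this
  exact mul_inv_eq_iff_eq_mul.mp this

/-- The coset average: a fixed-point-free element of order `p` over a `p'`-group `Q` acting on a `p`-group. -/
theorem bot_of_average [Finite G] [IsMulCommutative N] {p : ℕ} (hp : p.Prime) (hN : ∀ n ∈ N, n ^ p = 1)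
    (Q : Subgroup G) (hQ : ¬ p ∣ Nat.card Q) (t : G) (htQ : t ∈ Subgroup.normalizer (Q : Set G))
    (h : ∀ u ∈ Q, (t * u) ^ p = 1 ∧ ∀ n ∈ N, (t * u * n) ^ p = 1)
    (hCQ : ∀ n ∈ N, (∀ u ∈ Q, u * n = n * u) → n = 1) : N = ⊥ := by
  classical
  haveI := Fintype.ofFinite Q
  obtain ⟨ρ, hρ⟩ := exists_rep N
  have ht : t ^ p = 1 := by simpa using (h 1 Q.one_mem).1
  have hS : (∑ u : Q, ρ (u : G)) = 0 := by
    refine DFunLike.ext _ _ fun v => ?_
    rw [AddMonoid.End.zero_apply]
    set w := (∑ u : Q, ρ (u : G)) v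
    have hfixw : ∀ u : Q, ρ (u : G) w = w := by
      intro u
      show ρ (u : G) ((∑ u : Q, ρ (u : G)) v) = _
      rw [← Function.comp_apply (f := ρ (u : G)), ← AddMonoid.End.coe_mul, Finset.mul_sum]
      show (∑ i : Q, ρ (u : G) * ρ (i : G)) v = (∑ u : Q, ρ (u : G)) v
      congr 1
      exact Fintype.sum_equiv (Equiv.mulLeft u) _ _ (fun i => by rw [← map_mul]; rfl)
    apply Additive.toMul.injective
    apply Subtype.ext
    refine hCQ _ (Additive.toMul w).2 fun u hu => ?_
    have := congrArg (fun v => ((Additive.toMul v : N) : G)) (hfixw ⟨u, hu⟩)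
    simp only [hρ] at this
    exact mul_inv_eq_iff_eq_mul.mp this
  have htot : (∑ u : Q, ∑ i ∈ Finset.range p, ρ ((t * (u : G)) ^ i)) = 0 := by
    refine Finset.sum_eq_zero fun u _ => ?_
    rw [← sum_eq_zero_of_pow N hρ (t * (u : G)) (h u u.2).1 (h u u.2).2]
    exact Finset.sum_congr rfl fun i _ => map_pow ρ _ i
  rw [Finset.sum_comm, Finset.sum_eq_single_of_mem 0 (Finset.mem_range.mpr hp.pos) ?_] at htot
  · simp only [pow_zero, map_one, Finset.sum_const, Finset.card_univ] at htot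
    rw [Subgroup.eq_bot_iff_forall]
    intro n hn
    have h1 := DFunLike.congr_fun htot (Additive.ofMul (⟨n, hn⟩ : N))
    rw [nsmul_eq_mul, mul_one, AddMonoid.End.natCast_apply, AddMonoid.End.zero_apply,
      ← Nat.card_eq_fintype_card] at h1
    have h2 : n ^ Nat.card Q = 1 := congrArg (fun v => ((Additive.toMul v : N) : G)) h1
    have h4 : orderOf n = 1 := Nat.eq_one_of_dvd_coprimes ((hp.coprime_iff_not_dvd).mpr hQ)
      (orderOf_dvd_of_pow_eq_one (hN n hn)) (orderOf_dvd_of_pow_eq_one h2)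
    exact orderOf_eq_one_iff.mp h4
  intro i hi hi0
  have hcop : i.Coprime p :=
    ((hp.coprime_iff_not_dvd).mpr fun hd => hi0 (Nat.eq_zero_of_dvd_of_lt hd (Finset.mem_range.mp hi))).symm
  -- powers in a fixed coset
  have hmem : ∀ (u : Q) (k : ℕ), (t ^ k)⁻¹ * (t * (u : G)) ^ k ∈ Q := by
    intro u k
    induction k with
    | zero => simp
    | succ k ih =>
      have e : (t ^ (k + 1))⁻¹ * (t * (u : G)) ^ (k + 1) =
          (t⁻¹ * ((t ^ k)⁻¹ * (t * (u : G)) ^ k) * t) * u := by rw [pow_succ, pow_succ]; group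
      rw [e]
      exact Q.mul_mem ((Subgroup.mem_normalizer_iff''.mp htQ _).mp ih) u.2
  let f : Q → Q := fun u => ⟨_, hmem u i⟩
  have hf : Function.Bijective f := Finite.injective_iff_bijective.mp fun a b hab => by
    have h' : (t * (a : G)) ^ i = (t * (b : G)) ^ i := mul_left_cancel (congrArg Subtype.val hab)
    obtain ⟨m, hm⟩ := Nat.exists_mul_mod_eq_one_of_coprime hcop hp.one_lt
    have e : ∀ u : Q, ((t * (u : G)) ^ i) ^ m = t * u := fun u => by
      rw [← pow_mul, pow_eq_pow_mod _ (h u u.2).1, hm.2, pow_one]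
    have := congrArg (· ^ m) h'
    simp only [e] at this
    exact Subtype.ext (mul_left_cancel this)
  calc (∑ u : Q, ρ ((t * (u : G)) ^ i)) = ∑ u : Q, ρ (t ^ i) * ρ (f u : G) := by
        refine Finset.sum_congr rfl fun u _ => ?_
        rw [← map_mul, mul_inv_cancel_left]
    _ = ρ (t ^ i) * ∑ u : Q, ρ (f u : G) := by rw [Finset.mul_sum]
    _ = 0 := by rw [Fintype.sum_bijective f hf _ (fun u => ρ (u : G)) (fun _ => rfl), hS, mul_zero]

end rep

end Cfsg.Agent.Hughes
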