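import Mathlib
import Cfsg.Prelude.Def_CaseTheorems
import Cfsg.Agent.Lib.Recog.MaxClassFacts
import Cfsg.Agent.Lib.Invol.OneInvol

/-!
# p-groups whose normal abelian subgroups are cyclic
-/

set_option autoImplicit false
set_option linter.style.haveILetI false
set_option linter.unusedSectionVars false

namespace Cfsg.Agent.NAC

variable {P : Type*} [Group P] [Finite P] {p : ℕ} [Fact p.Prime]

theorem conj_pow_exp {a g : P} {r : ℤ} (h : g * a * g⁻¹ = a ^ r) :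
    ∀ k : ℕ, g ^ k * a * (g ^ k)⁻¹ = a ^ (r ^ k) := by
  intro k
  induction k with
  | zero => simp
  | succ k ih =>
      rw [show g ^ (k + 1) * a * (g ^ (k + 1))⁻¹ = g * (g ^ k * a * (g ^ k)⁻¹) * g⁻¹ by rw [pow_succ']; group, ih,
        ← conj_zpow, h, ← zpow_mul, ← pow_succ']

theorem zpow_eq_iff_dvd {a : P} {N : ℕ} (ha : orderOf a = N) {i j : ℤ} :
    a ^ i = a ^ j ↔ (N : ℤ) ∣ j - i := by
  rw [← ha, orderOf_dvd_iff_zpow_eq_one, zpow_sub, mul_inv_eq_one, eq_comm]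

theorem dvd_pow_sub (N d : ℤ) (hd : N ∣ d * d) : ∀ k : ℕ, N ∣ (1 + d) ^ k - (1 + k * d) := by
  intro k
  induction k with
  | zero => simp
  | succ k ih =>
      have h : (1 + d) ^ (k + 1) - (1 + (k + 1 : ℕ) * d) =
          ((1 + d) ^ k - (1 + k * d)) * (1 + d) + (k : ℤ) * (d * d) := by push_cast; ring
      rw [h]
      exact dvd_add (ih.mul_right _) (hd.mul_left _)

/-- The `p`-th power of a translate of an element acting as a power map. -/
theorem mul_zpow_prime {a g : P} {e : ℤ} (hg : g⁻¹ * a * g = a ^ (1 + (p : ℤ) * e)) (he : p = 2 → 2 ∣ e) :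
    ∃ u : ℤ, ¬ (p : ℤ) ∣ u ∧ ∀ j : ℤ, (g * a ^ j) ^ p = g ^ p * a ^ ((p : ℤ) * u * j) := by
  have hp : p.Prime := Fact.out
  have hmove : ∀ i : ℤ, a ^ i * g = g * a ^ ((1 + (p : ℤ) * e) * i) := fun i => by
    rw [zpow_mul, ← hg]
    have := conj_zpow (a := g⁻¹) (b := a) (i := i)
    rw [inv_inv] at this
    rw [this]; group
  have key : ∀ k : ℕ, ∃ T : ℤ, (p : ℤ) * p ∣ T - (k + p * e * (k.choose 2 : ℕ)) ∧
      ∀ j : ℤ, (g * a ^ j) ^ k = g ^ k * a ^ (T * j) := by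
    intro k
    induction k with
    | zero => exact ⟨0, by simp, fun j => by simp⟩
    | succ k ih =>
        obtain ⟨T, ⟨t, ht⟩, hT⟩ := ih
        refine ⟨(1 + (p : ℤ) * e) * T + 1, ⟨(1 + p * e) * t + e * e * (k.choose 2 : ℕ), ?_⟩, fun j => ?_⟩
        · rw [Nat.choose_succ_succ, Nat.choose_one_right]
          push_cast
          linear_combination (1 + (p : ℤ) * e) * ht
        · rw [pow_succ, hT, mul_assoc, ← mul_assoc (a ^ _), hmove, mul_assoc, ← mul_assoc, ← pow_succ, ← zpow_add]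
          congr 2
          ring
  obtain ⟨T, ⟨t, ht⟩, hT⟩ := key p
  obtain ⟨v, hv⟩ : (p : ℤ) ∣ e * (p.choose 2 : ℕ) := by
    rcases hp.eq_two_or_odd' with h2 | hodd
    · rw [h2, Nat.choose_self, Nat.cast_one, mul_one]; exact he h2
    · refine dvd_mul_of_dvd_right (Int.natCast_dvd_natCast.mpr ?_) _
      have h3 : 2 < p := by
        obtain ⟨r, hr⟩ := hodd
        have := hp.two_le
        omega
      exact hp.dvd_choose_self (by norm_num) h3
  refine ⟨1 + p * (v + t), fun hd => ?_, fun j => ?_⟩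
  · have h2 : (p : ℤ) ∣ 1 := by
      have h3 := dvd_sub hd (dvd_mul_right (p : ℤ) (v + t))
      rwa [add_sub_cancel_right] at h3
    exact (Nat.prime_iff_prime_int.mp hp).not_dvd_one h2
  · rw [hT, show T = (p : ℤ) * (1 + p * (v + t)) by linear_combination ht + (p : ℤ) * hv]

/-- The elementary plane in the modular extension of a cyclic self-centralizing subgroup. -/
theorem modular_plane {a x : P} {n : ℕ}
    (hn2 : 2 ≤ n) (hp2 : p = 2 → 3 ≤ n) (ha : orderOf a = p ^ n) (hnorm : (Subgroup.zpowers a).Normal)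
    (hC : ∀ g : P, Commute g a → g ∈ Subgroup.zpowers a) (hxp : x ^ p ∈ Subgroup.zpowers a) {c : ℤ}
    (hc : ¬ (p : ℤ) ∣ c) (hx : x⁻¹ * a * x = a ^ (1 + (p : ℤ) ^ (n - 1) * c)) :
    ∃ E : Subgroup P, ∃ y z : P, E = Subgroup.closure ({z, y} : Set P) ∧ E.Normal ∧ IsMulCommutative E ∧
      (∀ e ∈ E, e ^ p = 1) ∧ orderOf z = p ∧ z ∈ Subgroup.zpowers a ∧ y ^ p = 1 ∧ y ∉ Subgroup.zpowers a ∧
      Commute y (a ^ p) ∧
      (∀ g : P, Commute g (a ^ p) → ∃ k : ℕ, y ^ k * g ∈ Subgroup.zpowers a) ∧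
      ∀ g : P, Commute g (a ^ p) → g ^ p = 1 → g ∈ E := by
  have hp : p.Prime := Fact.out
  have hpi : Prime (p : ℤ) := Nat.prime_iff_prime_int.mp hp
  have hP0 : (p : ℤ) ≠ 0 := by exact_mod_cast hp.ne_zero
  set q : ℤ := (p : ℤ) ^ (n - 1) with hq
  have hpn : ((p ^ n : ℕ) : ℤ) = q * p := by
    push_cast; rw [hq, ← pow_succ, Nat.sub_add_cancel (by omega)]
  have hq0 : q ≠ 0 := pow_ne_zero _ hP0
  obtain ⟨f, hf⟩ : ∃ f, q = p * f := dvd_pow_self _ (by omega)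
  have hf2 : p = 2 → (2 : ℤ) ∣ f := fun h2 => by
    have h3 := hp2 h2
    have h4 : f = (p : ℤ) ^ (n - 2) := mul_left_cancel₀ hP0 (by
      rw [← hf, hq, ← pow_succ', show n - 2 + 1 = n - 1 by omega])
    rw [h4, h2]; exact dvd_pow_self _ (by omega)
  have heq : ∀ i j : ℤ, a ^ i = a ^ j ↔ q * p ∣ j - i := fun i j => by rw [zpow_eq_iff_dvd ha, hpn]
  have hconj : ∀ (g : P) (r i : ℤ), g⁻¹ * a * g = a ^ r → g⁻¹ * a ^ i * g = a ^ (r * i) := fun g r i h => by
    rw [zpow_mul, ← h]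
    have := conj_zpow (a := g⁻¹) (b := a) (i := i)
    rw [inv_inv] at this
    exact this.symm
  -- exponents of powers
  have hexp : ∀ (g : P) (d : ℤ), g⁻¹ * a * g = a ^ (1 + q * d) → ∀ k : ℕ,
      (g ^ k)⁻¹ * a * g ^ k = a ^ (1 + q * (k * d)) := by
    intro g d hg k
    have h1 := conj_pow_exp (g := g⁻¹) (r := 1 + q * d) (by rw [inv_inv]; exact hg) k
    rw [inv_pow, inv_inv] at h1
    rw [h1, heq]
    have h2 := dvd_pow_sub (q * p) (q * d) ⟨f * d * d, by rw [hf]; ring⟩ k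
    obtain ⟨t, ht⟩ := h2
    exact ⟨-t, by linear_combination -ht⟩
  have hpth : ∀ (g : P) (d : ℤ), g⁻¹ * a * g = a ^ (1 + q * d) →
      ∃ u : ℤ, ¬ (p : ℤ) ∣ u ∧ ∀ j : ℤ, (g * a ^ j) ^ p = g ^ p * a ^ ((p : ℤ) * u * j) := fun g d hg =>
    mul_zpow_prime (e := f * d) (by rw [← mul_assoc, ← hf]; exact hg) fun h2 => (hf2 h2).mul_right d
  -- adjust `x` to have order `p`
  obtain ⟨i, hi⟩ := Subgroup.mem_zpowers_iff.mp hxp
  have hip : (p : ℤ) ∣ i := by
    have h1 : x⁻¹ * a ^ i * x = a ^ i := by rw [hi, mul_assoc, (Commute.pow_self x p).eq, inv_mul_cancel_left]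
    rw [hconj x _ i hx, heq, show i - (1 + q * c) * i = q * -(c * i) by ring, mul_dvd_mul_iff_left hq0, dvd_neg] at h1
    exact (hpi.dvd_or_dvd h1).resolve_left hc
  obtain ⟨i', rfl⟩ := hip
  obtain ⟨y, hy1, hy2⟩ : ∃ y : P, y ^ p = 1 ∧ y⁻¹ * a * y = a ^ (1 + q * c) := by
    obtain ⟨u, hu, hup⟩ := hpth x c hx
    obtain ⟨v, w, hvw⟩ : IsCoprime u q := (hpi.coprime_iff_not_dvd.mpr hu).symm.pow_right
    refine ⟨x * a ^ (-(i' * v)), ?_, ?_⟩
    · rw [hup, ← hi, ← zpow_add, show (1 : P) = a ^ (0 : ℤ) from (zpow_zero a).symm, heq]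
      exact ⟨-(i' * w), by linear_combination ((p : ℤ) * i') * hvw⟩
    · rw [mul_inv_rev, show (a ^ (-(i' * v)))⁻¹ * x⁻¹ * a * (x * a ^ (-(i' * v))) =
        (a ^ (-(i' * v)))⁻¹ * (x⁻¹ * a * x) * a ^ (-(i' * v)) by group, hx]
      group
  have hyU : y ∉ Subgroup.zpowers a := fun h => by
    obtain ⟨j, rfl⟩ := Subgroup.mem_zpowers_iff.mp h
    have h1 : a ^ (1 : ℤ) = a ^ (1 + q * c) := by rw [← hy2, zpow_one]; group
    rw [heq, add_sub_cancel_left, mul_dvd_mul_iff_left hq0] at h1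
    exact hc h1
  -- the subgroup of order `p ^ 2`
  set z := a ^ q with hzdef
  have hzp : z ^ p = 1 := by
    rw [hzdef, ← zpow_natCast, ← zpow_mul, ← zpow_zero a, heq]; exact ⟨-1, by ring⟩
  have hyfix : ∀ i : ℤ, y⁻¹ * a ^ ((p : ℤ) * i) * y = a ^ ((p : ℤ) * i) := fun i => by
    rw [hconj y _ _ hy2, heq]; exact ⟨-(c * i), by ring⟩
  have hzy : Commute z y := by
    have h1 := hyfix f
    rw [← hf, ← hzdef, mul_assoc, inv_mul_eq_iff_eq_mul] at h1
    exact h1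
  set E := Subgroup.closure ({z, y} : Set P) with hE
  have hEc : IsMulCommutative E := Subgroup.isMulCommutative_closure fun s hs t ht => by
    rcases hs with rfl | rfl <;> rcases ht with rfl | rfl
    · rfl
    · exact hzy.eq
    · exact hzy.eq.symm
    · rfl
  have hEexp : ∀ e ∈ E, e ^ p = 1 := by
    intro e he
    induction he using Subgroup.closure_induction with
    | mem s hs => rcases hs with rfl | rfl <;> assumption
    | one => exact one_pow _
    | mul s t hs ht ihs iht =>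
        have : Commute s t := congrArg Subtype.val (hEc.is_comm.comm ⟨s, hs⟩ ⟨t, ht⟩)
        rw [this.mul_pow, ihs, iht, one_mul]
    | inv s _ ihs => rw [inv_pow, ihs, inv_one]
  have hzE : z ∈ E := Subgroup.subset_closure (Or.inl rfl)
  have hyE : y ∈ E := Subgroup.subset_closure (Or.inr rfl)
  have hyp : Commute y (a ^ p) := by
    have h1 := hyfix 1
    rw [mul_one, zpow_natCast, mul_assoc, inv_mul_eq_iff_eq_mul] at h1
    exact h1.symm
  have hcov : ∀ g : P, Commute g (a ^ p) → ∃ k : ℕ, y ^ k * g ∈ Subgroup.zpowers a := by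
    intro g hg
    obtain ⟨r, hr⟩ := Subgroup.mem_zpowers_iff.mp (hnorm.conj_mem a (Subgroup.mem_zpowers a) g⁻¹)
    rw [inv_inv] at hr
    have hrq : q ∣ r - 1 := by
      have h1 : g⁻¹ * a ^ (p : ℤ) * g = a ^ (p : ℤ) := by
        rw [zpow_natCast, mul_assoc, ← hg.eq, inv_mul_cancel_left]
      rw [hconj g r _ hr.symm, heq, show (p : ℤ) - r * p = p * -(r - 1) by ring, mul_comm q (p : ℤ),
        mul_dvd_mul_iff_left hP0, dvd_neg] at h1
      exact h1
    obtain ⟨c', hc'⟩ := hrq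
    have hr' : r = 1 + q * c' := by linear_combination hc'
    obtain ⟨v, w, hvw⟩ := (hpi.coprime_iff_not_dvd.mpr hc).symm
    obtain ⟨k, hk⟩ : ∃ k : ℕ, (p : ℤ) ∣ (k : ℤ) * c + c' := by
      refine ⟨((-(c' * v)) % (p : ℤ)).toNat, ?_⟩
      rw [Int.toNat_of_nonneg (Int.emod_nonneg _ hP0)]
      refine ⟨-((-(c' * v)) / (p : ℤ)) * c + w * c', ?_⟩
      have h5 := Int.emod_add_mul_ediv (-(c' * v)) (p : ℤ)
      linear_combination c * h5 - c' * hvw
    refine ⟨k, hC _ ?_⟩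
    have h1 : (y ^ k * g)⁻¹ * a * (y ^ k * g) = a := by
      rw [show (y ^ k * g)⁻¹ * a * (y ^ k * g) = g⁻¹ * ((y ^ k)⁻¹ * a * y ^ k) * g by group,
        hexp y c hy2 k, hconj g r _ hr.symm, hr']
      conv_rhs => rw [← zpow_one a]
      rw [heq]
      obtain ⟨t, ht⟩ := hk
      exact ⟨-(t + f * c' * (k * c)), by rw [hf] at *; linear_combination (-(p : ℤ) * f) * ht⟩
    exact (inv_mul_eq_iff_eq_mul.mp (by rw [← mul_assoc]; exact h1)).symm
  have hmem : ∀ g : P, Commute g (a ^ p) → g ^ p = 1 → g ∈ E := by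
    intro g hg hgp
    obtain ⟨k, hk⟩ := hcov g hg
    obtain ⟨j, hj⟩ := Subgroup.mem_zpowers_iff.mp hk
    have hyd : g = y ^ ((p - 1) * k) * a ^ j := by
      rw [hj, ← mul_assoc, ← pow_add, show (p - 1) * k + k = p * k by
        conv_rhs => rw [show p = p - 1 + 1 from (Nat.sub_add_cancel hp.one_le).symm]
        ring, pow_mul, hy1, one_pow, one_mul]
    obtain ⟨u, hu, hup⟩ := hpth (y ^ ((p - 1) * k)) _ (hexp y c hy2 _)
    have h3 : a ^ ((p : ℤ) * u * j) = a ^ (0 : ℤ) := by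
      rw [zpow_zero]
      rw [hyd, hup, ← pow_mul, mul_comm, pow_mul, hy1, one_pow, one_mul] at hgp
      exact hgp
    rw [heq, zero_sub, dvd_neg, mul_comm q (p : ℤ), mul_assoc, mul_dvd_mul_iff_left hP0] at h3
    obtain ⟨t, ht⟩ := ((hpi.coprime_iff_not_dvd.mpr hu).pow_left).dvd_of_dvd_mul_left h3
    rw [hyd]
    exact mul_mem (pow_mem hyE _) (by rw [ht, zpow_mul]; exact zpow_mem hzE t)
  have hEfix : ∀ e ∈ E, Commute e (a ^ p) := by
    intro e he
    induction he using Subgroup.closure_induction with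
    | mem s hs =>
        rcases hs with rfl | rfl
        · exact ((Commute.refl a).zpow_left q).pow_right p
        · exact hyp
    | one => exact Commute.one_left _
    | mul s t _ _ ihs iht => exact ihs.mul_left iht
    | inv s _ ihs => exact ihs.inv_left
  have hEn : E.Normal := by
    refine ⟨fun e he h => ?_⟩
    refine hmem _ ?_ (by rw [conj_pow, hEexp e he, mul_one, mul_inv_cancel])
    obtain ⟨m, hm⟩ := Subgroup.mem_zpowers_iff.mp (hnorm.conj_mem a (Subgroup.mem_zpowers a) h⁻¹)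
    rw [inv_inv] at hm
    have h2 : Commute e ((h⁻¹ * a * h) ^ p) := by
      rw [← hm, ← zpow_natCast (a ^ m) p, ← zpow_mul, mul_comm, zpow_mul, zpow_natCast]
      exact (hEfix e he).zpow_right m
    have h3 := h2.map (MulAut.conj h).toMonoidHom
    simpa [map_pow, mul_assoc] using h3
  have hzz : orderOf z = p := by
    refine orderOf_eq_prime hzp fun h => ?_
    rw [hzdef, ← zpow_zero a, heq, zero_sub, dvd_neg] at h
    have h6 : q * p ∣ q * 1 := by rwa [mul_one]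
    rw [mul_dvd_mul_iff_left hq0] at h6
    exact hpi.not_dvd_one h6
  exact ⟨E, y, z, hE, hEn, hEc, hEexp, hzz, Subgroup.zpow_mem _ (Subgroup.mem_zpowers a) q, hy1, hyU, hyp, hcov, hmem⟩

/-- The modular extension yields a noncyclic normal abelian subgroup. -/
theorem not_modular (hn : ∀ A : Subgroup P, A.Normal → IsMulCommutative A → IsCyclic A) {a x : P} {n : ℕ}
    (hn2 : 2 ≤ n) (hp2 : p = 2 → 3 ≤ n) (ha : orderOf a = p ^ n) (hnorm : (Subgroup.zpowers a).Normal)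
    (hC : ∀ g : P, Commute g a → g ∈ Subgroup.zpowers a) (hxp : x ^ p ∈ Subgroup.zpowers a) {c : ℤ}
    (hc : ¬ (p : ℤ) ∣ c) (hx : x⁻¹ * a * x = a ^ (1 + (p : ℤ) ^ (n - 1) * c)) : False := by
  have hp : p.Prime := Fact.out
  obtain ⟨E, y, z, hE, hEn, hEc, hEexp, hzz, hzU, -, hyU, -, -, -⟩ := modular_plane hn2 hp2 ha hnorm hC hxp hc hx
  have hzE : z ∈ E := hE ▸ Subgroup.subset_closure (Or.inl rfl)
  have hyE : y ∈ E := hE ▸ Subgroup.subset_closure (Or.inr rfl)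
  obtain ⟨w, hw⟩ := (hn E hEn hEc).exists_generator
  have hcard : Nat.card E ≤ p := by
    rw [← orderOf_eq_card_of_forall_mem_zpowers hw]
    exact Nat.le_of_dvd hp.pos (orderOf_dvd_of_pow_eq_one (Subtype.ext (hEexp w w.2)))
  have heq' : Subgroup.zpowers z = E :=
    Subgroup.eq_of_le_of_card_ge (Subgroup.zpowers_le.mpr hzE) (by rw [Nat.card_zpowers, hzz]; exact hcard)
  have : y ∈ Subgroup.zpowers z := heq' ▸ hyE
  exact hyU ((Subgroup.zpowers_le.mpr hzU) this)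

/-- A nontrivial `p`-th root of unity modulo `p ^ n` for odd `p`. -/
theorem root_of_odd (hodd : Odd p) {n : ℕ} (hn : 1 ≤ n) {r : ℤ} (h : (p : ℤ) ^ n ∣ r ^ p - 1)
    (hne : ¬ (p : ℤ) ^ n ∣ r - 1) : 2 ≤ n ∧ ∃ c : ℤ, ¬ (p : ℤ) ∣ c ∧ (p : ℤ) ^ n ∣ r - (1 + (p : ℤ) ^ (n - 1) * c) := by
  have hp : p.Prime := Fact.out
  have hpi : Prime (p : ℤ) := Nat.prime_iff_prime_int.mp hp
  have h1 : (p : ℤ) ∣ r - 1 := by
    have h2 : (p : ℤ) ∣ r ^ p - 1 := (dvd_pow_self _ (by omega)).trans h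
    rw [← ZMod.intCast_zmod_eq_zero_iff_dvd] at h2 ⊢
    push_cast at h2 ⊢
    rwa [ZMod.pow_card] at h2
  have hn2 : 2 ≤ n := by
    rcases Nat.lt_or_ge n 2 with h2 | h2
    · exact absurd (show (p : ℤ) ^ n ∣ r - 1 by rwa [show n = 1 by omega, pow_one]) hne
    · exact h2
  refine ⟨hn2, ?_⟩
  haveI : NeZero (p ^ n) := ⟨pow_ne_zero _ hp.ne_zero⟩
  haveI : IsCyclic (ZMod (p ^ n))ˣ := ZMod.isCyclic_units_of_prime_pow p hp (fun h2 => by
    rw [h2] at hodd; exact absurd hodd (by decide)) n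
  have hd : (p : ℤ) ^ n ∣ ((p : ℤ) ^ (n - 1)) * (p : ℤ) := by rw [← pow_succ, Nat.sub_add_cancel hn]
  let f : Fin p → ZMod (p ^ n) := fun i => ((1 + (p : ℤ) ^ (n - 1) * i.val : ℤ) : ZMod (p ^ n))
  have hcast : ∀ z : ℤ, (z : ZMod (p ^ n)) = 0 ↔ (p : ℤ) ^ n ∣ z := fun z => by
    rw [ZMod.intCast_zmod_eq_zero_iff_dvd]; push_cast; rfl
  have hfp : ∀ i, f i ^ p = 1 := fun i => by
    rw [← sub_eq_zero]
    show ((1 + (p : ℤ) ^ (n - 1) * i.val : ℤ) : ZMod (p ^ n)) ^ p - 1 = 0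
    rw [← Int.cast_pow, ← Int.cast_one (R := ZMod (p ^ n)), ← Int.cast_sub, hcast]
    have h4 := dvd_pow_sub ((p : ℤ) ^ n) ((p : ℤ) ^ (n - 1) * i.val) ?_ p
    · rw [show (1 + (p : ℤ) ^ (n - 1) * i.val) ^ p - 1 =
        ((1 + (p : ℤ) ^ (n - 1) * i.val) ^ p - (1 + (p : ℤ) * ((p : ℤ) ^ (n - 1) * i.val))) +
          (p : ℤ) ^ (n - 1) * p * i.val by ring]
      exact dvd_add h4 (hd.mul_right _)
    · refine dvd_trans (pow_dvd_pow _ (show n ≤ (n - 1) + (n - 1) by omega)) ⟨(i.val : ℤ) * i.val, ?_⟩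
      rw [pow_add]; ring
  have hrp : (r : ZMod (p ^ n)) ^ p = 1 := by
    rw [← sub_eq_zero, ← Int.cast_pow, ← Int.cast_one, ← Int.cast_sub, hcast]; exact h
  let g : Fin p → {u : (ZMod (p ^ n))ˣ // u ^ p = 1} := fun i =>
    ⟨Units.ofPowEqOne (f i) p (hfp i) hp.ne_zero, Units.ext (by simpa using hfp i)⟩
  have hginj : Function.Injective g := fun i j e => by
    have e' : f i = f j := by
      have := congrArg (fun u : {u : (ZMod (p ^ n))ˣ // u ^ p = 1} => ((u.1 : (ZMod (p ^ n))ˣ) : ZMod (p ^ n))) e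
      simpa [g] using this
    rw [← sub_eq_zero, ← Int.cast_sub, hcast, show (1 + (p : ℤ) ^ (n - 1) * i.val) - (1 + (p : ℤ) ^ (n - 1) * j.val) =
      (p : ℤ) ^ (n - 1) * ((i.val : ℤ) - j.val) by ring, show (p : ℤ) ^ n = (p : ℤ) ^ (n - 1) * p by
        rw [← pow_succ, Nat.sub_add_cancel hn], mul_dvd_mul_iff_left (pow_ne_zero _ hpi.ne_zero)] at e'
    have h5 := Int.eq_zero_of_abs_lt_dvd e' (abs_lt.mpr ⟨by have := i.isLt; have := j.isLt; omega,
      by have := i.isLt; have := j.isLt; omega⟩)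
    exact Fin.ext (by omega)
  have hbij : Function.Bijective g := by
    haveI := Fintype.ofFinite {u : (ZMod (p ^ n))ˣ // u ^ p = 1}
    refine (Nat.bijective_iff_injective_and_card g).mpr ⟨hginj, le_antisymm (Nat.card_le_card_of_injective g hginj) ?_⟩
    rw [Nat.card_eq_fintype_card, Nat.card_eq_fintype_card, Fintype.card_fin, Fintype.card_subtype]
    exact IsCyclic.card_pow_eq_one_le (α := (ZMod (p ^ n))ˣ) hp.pos
  obtain ⟨i, hi⟩ := hbij.2 ⟨Units.ofPowEqOne (r : ZMod (p ^ n)) p hrp hp.ne_zero, Units.ext (by simpa using hrp)⟩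
  have hri : f i = (r : ZMod (p ^ n)) := by
    have := congrArg (fun u : {u : (ZMod (p ^ n))ˣ // u ^ p = 1} => ((u.1 : (ZMod (p ^ n))ˣ) : ZMod (p ^ n))) hi
    simpa [g] using this
  have hdvd : (p : ℤ) ^ n ∣ r - (1 + (p : ℤ) ^ (n - 1) * i.val) := by
    rw [← hcast, Int.cast_sub, sub_eq_zero]; exact hri.symm
  refine ⟨i.val, fun hpd => hne ?_, hdvd⟩
  obtain ⟨t, ht⟩ := hpd
  rw [ht] at hdvd
  have h6 := dvd_add hdvd (hd.mul_right t)
  rwa [show r - (1 + (p : ℤ) ^ (n - 1) * ((p : ℤ) * t)) + (p : ℤ) ^ (n - 1) * (p : ℤ) * t = r - 1 by ring] at h6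

theorem pow_four_dvd_sq {r : ℤ} {n : ℕ} (hn : 2 ≤ n) (h : (2 : ℤ) ^ n ∣ r ^ 2 - 1) :
    (4 : ℤ) ∣ r - 1 ∧ (2 : ℤ) ^ (n - 1) ∣ r - 1 ∨ (2 : ℤ) ^ (n - 1) ∣ r + 1 ∧ (4 : ℤ) ∣ r + 1 := by
  have h2 : (2 : ℤ) ∣ r ^ 2 - 1 := (dvd_pow_self _ (by omega)).trans h
  have hodd : ∃ t, r = 2 * t + 1 := by
    rcases Int.even_or_odd r with ⟨t, rfl⟩ | ⟨t, rfl⟩
    · obtain ⟨s, hs⟩ := h2
      exfalso
      have : (2 : ℤ) ∣ 1 := ⟨(t + t) * t - s, by linear_combination -hs⟩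
      omega
    · exact ⟨t, rfl⟩
  obtain ⟨t, rfl⟩ := hodd
  rw [show (2 * t + 1) ^ 2 - 1 = (2 * t) * (2 * t + 2) by ring] at h
  rw [show n = n - 1 + 1 by omega, pow_succ] at h
  rcases Int.even_or_odd t with ⟨s, rfl⟩ | ⟨s, rfl⟩
  · left
    refine ⟨⟨s, by ring⟩, ?_⟩
    have h3 : (2 : ℤ) ^ (n - 1) * 2 ∣ (4 * s * (2 * s + 1)) * 2 := by convert h using 1; ring
    rw [mul_dvd_mul_iff_right (by norm_num : (2 : ℤ) ≠ 0)] at h3
    have h4 := (IsCoprime.pow_left (m := n - 1) (show IsCoprime (2 : ℤ) (2 * s + 1) from ⟨-s, 1, by ring⟩)).dvd_of_dvd_mul_right h3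
    rwa [show 2 * (s + s) + 1 - 1 = 4 * s by ring]
  · right
    refine ⟨?_, ⟨s + 1, by ring⟩⟩
    have h3 : (2 : ℤ) ^ (n - 1) * 2 ∣ ((4 * (s + 1)) * (2 * s + 1)) * 2 := by convert h using 1; ring
    rw [mul_dvd_mul_iff_right (by norm_num : (2 : ℤ) ≠ 0)] at h3
    have h4 := (IsCoprime.pow_left (m := n - 1) (show IsCoprime (2 : ℤ) (2 * s + 1) from ⟨-s, 1, by ring⟩)).dvd_of_dvd_mul_right h3
    rwa [show 2 * (2 * s + 1) + 1 + 1 = 4 * (s + 1) by ring]

/-- A cyclic self-centralizing normal subgroup without modular extension has index two, of known type. -/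
theorem no_modular_shape (hP : IsPGroup p P) {a g₀ : P} {n : ℕ} (han : orderOf a = p ^ n)
    (hnorm : (Subgroup.zpowers a).Normal) (hC : ∀ g : P, Commute g a → g ∈ Subgroup.zpowers a)
    (hg₀ : g₀ ∉ Subgroup.zpowers a)
    (hmod : ∀ (g : P) (c : ℤ), 2 ≤ n → (p = 2 → 3 ≤ n) → g ^ p ∈ Subgroup.zpowers a → ¬ (p : ℤ) ∣ c →
      g⁻¹ * a * g = a ^ (1 + (p : ℤ) ^ (n - 1) * c) → False) :
    p = 2 ∧ 2 ≤ n ∧ Nat.card P = 2 ^ (n + 1) ∧ ((∃ k : ℕ, Nonempty (P ≃* QuaternionGroup k)) ∨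
      (∃ b, b ∉ Subgroup.zpowers a ∧ b * b = 1 ∧ b * a * b⁻¹ = a⁻¹) ∨ Cfsg.IsQuasiDihedral P) := by
  have hp : p.Prime := Fact.out
  have hpi : Prime (p : ℤ) := Nat.prime_iff_prime_int.mp hp
  have hcast : ((p ^ n : ℕ) : ℤ) = (p : ℤ) ^ n := by push_cast; rfl
  have heq : ∀ i j : ℤ, a ^ i = a ^ j ↔ (p : ℤ) ^ n ∣ j - i := fun i j => by rw [zpow_eq_iff_dvd han, hcast]
  have hexp : ∀ g : P, ∃ r : ℤ, g⁻¹ * a * g = a ^ r := fun g => by
    obtain ⟨r, hr⟩ := Subgroup.mem_zpowers_iff.mp (hnorm.conj_mem a (Subgroup.mem_zpowers a) g⁻¹)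
    rw [inv_inv] at hr
    exact ⟨r, hr.symm⟩
  have hne1 : ∀ g ∉ Subgroup.zpowers a, ∀ r : ℤ, g⁻¹ * a * g = a ^ r → ¬ (p : ℤ) ^ n ∣ r - 1 := by
    intro g hg r hr hd
    refine hg (hC g ?_)
    have h1 : g⁻¹ * a * g = a := by
      rw [hr]; conv_rhs => rw [← zpow_one a]
      rw [heq, show 1 - r = -(r - 1) by ring, dvd_neg]; exact hd
    exact (inv_mul_eq_iff_eq_mul.mp (by rw [← mul_assoc]; exact h1)).symm
  have hn1 : 1 ≤ n := by
    by_contra h0
    rw [show n = 0 by omega, pow_zero, orderOf_eq_one_iff] at han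
    exact hg₀ (hC g₀ (han ▸ Commute.one_right g₀))
  have hroot : ∀ g : P, ∀ r : ℤ, g⁻¹ * a * g = a ^ r → g ^ p ∈ Subgroup.zpowers a → (p : ℤ) ^ n ∣ r ^ p - 1 := by
    intro g r hr hgp
    have h1 := conj_pow_exp (g := g⁻¹) (r := r) (by rw [inv_inv]; exact hr) p
    rw [inv_pow, inv_inv] at h1
    obtain ⟨i, hi⟩ := Subgroup.mem_zpowers_iff.mp hgp
    rw [← hi, show (a ^ i)⁻¹ * a * a ^ i = a by group] at h1
    have h2 : a ^ (1 : ℤ) = a ^ r ^ p := by rw [zpow_one]; exact h1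
    exact (heq _ _).mp h2
  have hprime : ∀ g ∉ Subgroup.zpowers a, ∃ k : ℕ, g ^ p ^ k ∉ Subgroup.zpowers a ∧
      (g ^ p ^ k) ^ p ∈ Subgroup.zpowers a := by
    intro g hg
    by_contra h
    push Not at h
    obtain ⟨m, hm⟩ := hP g
    have : ∀ k, g ^ p ^ k ∉ Subgroup.zpowers a := by
      intro k
      induction k with
      | zero => simpa using hg
      | succ k ih => rw [pow_succ, pow_mul]; exact h k ih
    exact this m (hm ▸ one_mem _)
  obtain ⟨k₀, hx, hxp⟩ := hprime g₀ hg₀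
  obtain ⟨r₀, hr₀⟩ := hexp (g₀ ^ p ^ k₀)
  rcases hp.eq_two_or_odd' with rfl | hodd
  swap
  · obtain ⟨hn2, c, hc, hd⟩ := root_of_odd hodd hn1 (hroot _ _ hr₀ hxp) (hne1 _ hx _ hr₀)
    refine (hmod _ c hn2 (fun h2 => by rw [h2] at hodd; exact absurd hodd (by decide)) hxp hc ?_).elim
    rw [hr₀, heq]
    rw [show 1 + (p : ℤ) ^ (n - 1) * c - r₀ = -(r₀ - (1 + (p : ℤ) ^ (n - 1) * c)) by ring, dvd_neg]
    exact hd
  suffices hh : 2 ≤ n ∧ Nat.card P = 2 ^ (n + 1) ∧ ((∃ k : ℕ, Nonempty (P ≃* QuaternionGroup k)) ∨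
      (∃ b, b ∉ Subgroup.zpowers a ∧ b * b = 1 ∧ b * a * b⁻¹ = a⁻¹) ∨ Cfsg.IsQuasiDihedral P) from ⟨rfl, hh⟩
  have h2z : ((2 : ℕ) : ℤ) = 2 := rfl
  -- elements squaring into the cyclic subgroup act as `-1` or `-1 + 2 ^ (n - 1)`
  have hn2 : 2 ≤ n := by
    by_contra h
    rw [show n = 1 by omega, pow_one] at han
    have h3 : ∀ g : P, Commute g a := fun g => by
      obtain ⟨r, hr⟩ := hexp g
      rcases Int.even_or_odd' r with ⟨t, rfl | rfl⟩
      · rw [zpow_mul, ← h2z, zpow_natCast, ← han, pow_orderOf_eq_one, one_zpow] at hr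
        have : a = 1 := by
          rw [show a = g * (g⁻¹ * a * g) * g⁻¹ by group, hr, mul_one, mul_inv_cancel]
        rw [this]; exact Commute.one_right g
      · rw [zpow_add, zpow_mul, ← h2z, zpow_natCast, ← han, pow_orderOf_eq_one, one_zpow, one_mul, zpow_one] at hr
        exact (inv_mul_eq_iff_eq_mul.mp (by rw [← mul_assoc]; exact hr)).symm
    exact hg₀ (hC g₀ (h3 g₀))
  have hclass : ∀ g ∉ Subgroup.zpowers a, g ^ 2 ∈ Subgroup.zpowers a → ∀ r : ℤ, g⁻¹ * a * g = a ^ r →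
      (4 : ℤ) ∣ r + 1 ∧ (2 : ℤ) ^ (n - 1) ∣ r + 1 := by
    intro g hg hg2 r hr
    have hd := hroot g r hr hg2
    rw [h2z] at hd
    rcases pow_four_dvd_sq hn2 hd with ⟨h4, hq⟩ | ⟨hq, h4⟩
    · exfalso
      have hn3 : 3 ≤ n := by
        by_contra hlt
        have hnn : n = 2 := by omega
        exact hne1 g hg r hr (by rw [hnn, h2z]; norm_num; exact h4)
      obtain ⟨c, hc⟩ := hq
      refine hmod g c (by omega) (fun _ => hn3) hg2 (fun hcd => ?_) ?_
      · refine hne1 g hg r hr ?_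
        obtain ⟨t, ht⟩ := hcd
        rw [h2z] at ht ⊢
        refine ⟨t, ?_⟩
        rw [hc, ht, ← mul_assoc, ← pow_succ, show n - 1 + 1 = n by omega]
      · rw [hr]; congr 1
        rw [h2z]; linear_combination hc
    · exact ⟨h4, hq⟩
  have hsq : ∀ g : P, g ^ 2 ∈ Subgroup.zpowers a := by
    intro g
    by_contra hg
    obtain ⟨k, hk, hk2⟩ := hprime (g ^ 2) hg
    obtain ⟨r, hr⟩ := hexp g
    have h1 := conj_pow_exp (g := g⁻¹) (r := r) (by rw [inv_inv]; exact hr) (2 * 2 ^ k)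
    rw [inv_pow, inv_inv, pow_mul] at h1
    have h4 := (hclass _ hk hk2 _ h1).1
    rw [pow_mul] at h4
    have h5 : ∀ s : ℤ, ¬ (4 : ℤ) ∣ (s ^ 2) + 1 := fun s hs => by
      have h6 := ((ZMod.intCast_zmod_eq_zero_iff_dvd _ 4).mpr (by exact_mod_cast hs) : ((s ^ 2 + 1 : ℤ) : ZMod 4) = 0)
      push_cast at h6
      revert h6
      generalize (s : ZMod 4) = w
      revert w
      decide
    rw [← pow_mul, mul_comm, pow_mul] at h4
    exact h5 _ h4
  set x := g₀ ^ 2 ^ k₀ with hxdef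
  obtain ⟨h4, hq⟩ := hclass x hx hxp r₀ hr₀
  -- index two
  have hsame : ∀ g ∉ Subgroup.zpowers a, g * x ∈ Subgroup.zpowers a := by
    intro g hg
    by_contra hgx
    obtain ⟨r, hr⟩ := hexp g
    have h4g := (hclass g hg (hsq g) r hr).1
    have h4gx := (hclass (g * x) hgx (hsq _) (r₀ * r) (by
      rw [show (g * x)⁻¹ * a * (g * x) = x⁻¹ * (g⁻¹ * a * g) * x by group, hr, zpow_mul, ← hr₀]
      have := conj_zpow (a := x⁻¹) (b := a) (i := r)
      rw [inv_inv] at this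
      exact this.symm)).1
    obtain ⟨s, hs⟩ := h4
    obtain ⟨t, ht⟩ := h4g
    obtain ⟨v, hv⟩ := h4gx
    have : (2 : ℤ) = 4 * (v - 4 * s * t + s + t) := by
      rw [show r₀ = 4 * s - 1 by linarith, show r = 4 * t - 1 by linarith] at hv
      linear_combination hv
    omega
  have hidx : (Subgroup.zpowers a).index = 2 := by
    refine Subgroup.index_eq_two_iff.mpr ⟨x, fun g => ?_⟩
    by_cases hg : g ∈ Subgroup.zpowers a
    · exact Or.inr ⟨hg, fun h => hx (by simpa using mul_mem (inv_mem hg) h)⟩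
    · exact Or.inl ⟨hsame g hg, hg⟩
  have hcard : Nat.card P = 2 ^ (n + 1) := by
    rw [← (Subgroup.zpowers a).card_mul_index, hidx, Nat.card_zpowers, han, pow_succ]
  have hcyc : ∀ b ∉ Subgroup.zpowers a, MaxClass.Cyc2 n a b := fun b hb => ⟨han, hcard, hb⟩
  have hn1' : n - 1 + 1 = n := by omega
  have heq2 : ∀ i j : ℤ, a ^ i = a ^ j ↔ (2 : ℤ) ^ n ∣ j - i := fun i j => by rw [heq, h2z]
  -- the conjugation
  have hxc : x * a * x⁻¹ = a ^ r₀ := by
    obtain ⟨i, hi⟩ := Subgroup.mem_zpowers_iff.mp hxp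
    have hc2 : Commute (x ^ 2) a := hi ▸ (Commute.refl a).zpow_left i
    rw [← hr₀]
    calc x * a * x⁻¹ = x⁻¹ * (x ^ 2 * a * (x ^ 2)⁻¹) * x := by rw [pow_two]; group
      _ = x⁻¹ * a * x := by rw [hc2.eq, mul_inv_cancel_right]
  refine ⟨hn2, hcard, ?_⟩
  obtain ⟨t, ht⟩ := hq
  -- `x * x` is in the central subgroup of order two
  obtain ⟨i, hi⟩ := Subgroup.mem_zpowers_iff.mp hxp
  have hiq : (2 : ℤ) ^ (n - 1) ∣ i := by
    have h1 : x * a ^ i * x⁻¹ = a ^ i := by rw [hi, (Commute.self_pow x 2).eq, mul_inv_cancel_right]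
    rw [← conj_zpow, hxc, ← zpow_mul, heq2] at h1
    obtain ⟨u, hu⟩ := h4
    have h2 : (2 : ℤ) ^ (n - 1) * 2 ∣ (i * (1 - 2 * u)) * 2 := by
      rw [← pow_succ, hn1']
      rwa [show i * (1 - 2 * u) * 2 = i - r₀ * i by linear_combination i * hu]
    rw [mul_dvd_mul_iff_right (by norm_num : (2 : ℤ) ≠ 0)] at h2
    exact (IsCoprime.pow_left (m := n - 1) (show IsCoprime (2 : ℤ) (1 - 2 * u) from ⟨u, 1, by ring⟩)).dvd_of_dvd_mul_right h2
  obtain ⟨s, rfl⟩ := hiq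
  set q : ℤ := (2 : ℤ) ^ (n - 1) with hqd
  have hq2 : (2 : ℤ) ^ n = q * 2 := by rw [hqd, ← pow_succ, hn1']
  have hxx : x * x = 1 ∨ x * x = a ^ (2 ^ (n - 1)) := by
    rw [← pow_two, ← hi]
    rcases Int.even_or_odd' s with ⟨w, rfl | rfl⟩
    · left; rw [← zpow_zero a, heq2, hq2]; exact ⟨-w, by ring⟩
    · right; rw [← zpow_natCast, heq2, hq2]; exact ⟨-w, by push_cast; rw [← hqd]; ring⟩
  by_cases hte : (2 : ℤ) ∣ t
  · -- inversion
    have hinv : x * a * x⁻¹ = a⁻¹ := by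
      rw [hxc, ← zpow_neg_one, heq2, hq2]
      obtain ⟨w, rfl⟩ := hte
      exact ⟨-w, by linear_combination -ht⟩
    rcases hxx with hb | hb
    · exact Or.inr (Or.inl ⟨x, hx, hb, hinv⟩)
    · exact Or.inl ⟨_, Classical.choice ((hcyc x hx).quaternion (by omega) hb hinv) |> fun e => ⟨e⟩⟩
  · -- semidihedral
    have hn3 : 3 ≤ n := by
      by_contra hlt
      have hnn : n = 2 := by omega
      apply hte
      obtain ⟨u, hu⟩ := h4
      rw [hqd, hnn] at ht
      exact ⟨u, by norm_num at ht ⊢; linarith⟩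
    have hto : ∃ w, t = 2 * w + 1 := by
      rcases Int.even_or_odd' t with ⟨w, rfl | rfl⟩
      · exact absurd (dvd_mul_right 2 w) hte
      · exact ⟨w, rfl⟩
    obtain ⟨w, rfl⟩ := hto
    have hsd : x * a * x⁻¹ = a ^ (2 ^ (n - 1) - 1) := by
      rw [hxc, ← zpow_natCast, heq2, hq2, Nat.cast_sub (Nat.one_le_two_pow)]
      exact ⟨-w, by push_cast; rw [← hqd]; linear_combination -ht⟩
    refine Or.inr (Or.inr ?_)
    rcases hxx with hb | hb
    · exact (hcyc x hx).isQuasiDihedral hn3 hb hsd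
    · have hxa : x * a ∉ Subgroup.zpowers a := fun h => hx (by
        simpa using mul_mem h (inv_mem (Subgroup.mem_zpowers a)))
      refine (hcyc (x * a) hxa).isQuasiDihedral hn3 ?_ ?_
      · rw [show x * a * (x * a) = (x * a * x⁻¹) * (x * x) * a by group, hsd, hb, ← pow_add, ← pow_succ,
          show 2 ^ (n - 1) - 1 + 2 ^ (n - 1) + 1 = 2 ^ n by
            have := Nat.one_le_two_pow (n := n - 1)
            rw [show 2 ^ n = 2 ^ (n - 1) * 2 by rw [← pow_succ, hn1']]; omega, ← han, pow_orderOf_eq_one]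
      · rw [show x * a * a * (x * a)⁻¹ = x * a * x⁻¹ by group, hsd]


/-- A `p`-group whose normal abelian subgroups are cyclic is cyclic, quaternion, dihedral or semidihedral. -/
theorem classify (hP : IsPGroup p P) (hn : ∀ A : Subgroup P, A.Normal → IsMulCommutative A → IsCyclic A) :
    IsCyclic P ∨ p = 2 ∧ ((∃ k : ℕ, Nonempty (P ≃* QuaternionGroup k)) ∨
      (∃ k : ℕ, 8 ≤ k ∧ Nonempty (P ≃* DihedralGroup k)) ∨ Cfsg.IsQuasiDihedral P) := by
  have hp : p.Prime := Fact.out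
  have hpi : Prime (p : ℤ) := Nat.prime_iff_prime_int.mp hp
  haveI := hP.isNilpotent
  obtain ⟨U, hUn, hUab, hUc⟩ := OneInvol.exists_selfCentralizing_abelian (R := P)
  have hUcyc : IsCyclic U := hn U hUn ⟨⟨fun s t => Subtype.ext (hUab s s.2 t t.2)⟩⟩
  obtain ⟨⟨a, haU⟩, hgen⟩ := hUcyc.exists_generator
  have hUa : U = Subgroup.zpowers a := by
    refine le_antisymm (fun s hs => ?_) (Subgroup.zpowers_le.mpr haU)
    obtain ⟨i, hi⟩ := Subgroup.mem_zpowers_iff.mp (hgen ⟨s, hs⟩)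
    exact ⟨i, congrArg Subtype.val hi⟩
  subst hUa
  by_cases hall : ∀ g : P, g ∈ Subgroup.zpowers a
  · exact Or.inl ⟨⟨a, hall⟩⟩
  push Not at hall
  obtain ⟨g₀, hg₀⟩ := hall
  obtain ⟨n, han⟩ := IsPGroup.iff_orderOf.mp hP a
  have hC : ∀ g : P, Commute g a → g ∈ Subgroup.zpowers a := fun g hg => hUc g fun s hs => by
    obtain ⟨i, rfl⟩ := Subgroup.mem_zpowers_iff.mp hs
    exact (hg.zpow_right i).symm
  obtain ⟨rfl, hn2, hcard, h | ⟨x, hx, hb, hinv⟩ | h⟩ := no_modular_shape hP han hUn hC hg₀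
    fun g c h1 h2 h3 h4 h5 => not_modular hn h1 h2 han hUn hC h3 h4 h5
  · exact Or.inr ⟨rfl, Or.inl h⟩
  swap
  · exact Or.inr ⟨rfl, Or.inr (Or.inr h)⟩
  refine Or.inr ⟨rfl, Or.inr (Or.inl ⟨2 ^ n, ?_, MaxClass.Cyc2.dihedral ⟨han, hcard, hx⟩ hb hinv⟩)⟩
  have hidx : (Subgroup.zpowers a).index = 2 := by
    have := (Subgroup.zpowers a).card_mul_index
    rw [Nat.card_zpowers, han, hcard, pow_succ] at this
    exact Nat.eq_of_mul_eq_mul_left (by positivity) this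
  have hsame : ∀ g ∉ Subgroup.zpowers a, g * x ∈ Subgroup.zpowers a := fun g hg =>
    (Subgroup.mul_mem_iff_of_index_two hidx).mpr (iff_of_false hg hx)
  have h2z : ((2 : ℕ) : ℤ) = 2 := rfl
  by_contra hlt
  have hnn : n = 2 := by
    rcases Nat.lt_or_ge n 3 with h3 | h3
    · omega
    · exact absurd (le_trans (by norm_num) (Nat.pow_le_pow_right two_pos h3)) hlt
  subst hnn
  -- a normal four subgroup
  have hz : (a ^ 2) * (a ^ 2) = 1 := by rw [← pow_add, show 2 + 2 = 2 ^ 2 by norm_num, ← han, pow_orderOf_eq_one]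
  have hzx : x * a ^ 2 * x⁻¹ = a ^ 2 := by
    rw [← conj_pow, hinv, inv_pow]; exact inv_eq_of_mul_eq_one_right hz
  have hcm : Commute (a ^ 2) x := (mul_inv_eq_iff_eq_mul.mp hzx).symm
  let V := Subgroup.closure ({a ^ 2, x} : Set P)
  have hVc : IsMulCommutative V := Subgroup.isMulCommutative_closure fun s hs t ht => by
    rcases hs with rfl | rfl <;> rcases ht with rfl | rfl
    · rfl
    · exact hcm.eq
    · exact hcm.eq.symm
    · rfl
  have hVe : ∀ v ∈ V, v * v = 1 := by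
    intro v hv
    induction hv using Subgroup.closure_induction with
    | mem s hs => rcases hs with rfl | rfl <;> assumption
    | one => exact one_mul _
    | mul s t hs ht ihs iht =>
        have : Commute s t := congrArg Subtype.val (hVc.is_comm.comm ⟨s, hs⟩ ⟨t, ht⟩)
        rw [show s * t * (s * t) = (s * s) * (t * t) by rw [mul_assoc, ← mul_assoc t, ← this.eq]; group, ihs, iht,
          one_mul]
    | inv s _ ihs => rw [← mul_inv_rev, ihs, inv_one]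
  have hVn : V.Normal := by
    refine ⟨fun v hv g => ?_⟩
    induction hv using Subgroup.closure_induction with
    | mem v hv =>
        have ha2 : a ^ 2 ∈ V := Subgroup.subset_closure (Or.inl rfl)
        have hxV : x ∈ V := Subgroup.subset_closure (Or.inr rfl)
        have hpow : ∀ j : ℤ, a ^ j * x * (a ^ j)⁻¹ = a ^ (2 * j) * x := fun j => by
          have hj : x * a ^ j * x⁻¹ = a ^ (-j) := by rw [← conj_zpow, hinv, inv_zpow, zpow_neg]
          calc a ^ j * x * (a ^ j)⁻¹ = a ^ j * (x * a ^ (-j) * x⁻¹) * x := by rw [zpow_neg]; group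
            _ = a ^ j * a ^ j * x := by
              rw [← conj_zpow, hinv, inv_zpow, ← zpow_neg, neg_neg]
            _ = a ^ (2 * j) * x := by rw [← zpow_add, two_mul]
        by_cases hg : g ∈ Subgroup.zpowers a
        · obtain ⟨j, rfl⟩ := Subgroup.mem_zpowers_iff.mp hg
          rcases hv with rfl | hv'
          · rw [((Commute.refl a).zpow_left j |>.pow_right 2).eq, mul_inv_cancel_right]; exact ha2
          · rw [hv', hpow, zpow_mul, ← h2z, zpow_natCast]; exact mul_mem (zpow_mem ha2 j) hxV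
        · obtain ⟨j, hj⟩ := Subgroup.mem_zpowers_iff.mp (hsame g hg)
          have hgd : g = a ^ j * x := by rw [hj, mul_assoc, hb, mul_one]
          rcases hv with rfl | hv'
          · rw [hgd, show a ^ j * x * a ^ 2 * (a ^ j * x)⁻¹ = a ^ j * (x * a ^ 2 * x⁻¹) * (a ^ j)⁻¹ by group, hzx,
              ((Commute.refl a).zpow_left j |>.pow_right 2).eq, mul_inv_cancel_right]
            exact ha2
          · rw [hv', hgd, show a ^ j * x * x * (a ^ j * x)⁻¹ = a ^ j * x * (a ^ j)⁻¹ by group, hpow, zpow_mul, ← h2z,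
              zpow_natCast]
            exact mul_mem (zpow_mem ha2 j) hxV
    | one => simp
    | mul s t _ _ ihs iht => rw [← conj_mul]; exact mul_mem ihs iht
    | inv s _ ihs => rw [← conj_inv]; exact inv_mem ihs
  obtain ⟨⟨w, hw⟩, hwg⟩ := (hn V hVn hVc).exists_generator
  have hcard2 : Nat.card V ≤ 2 := by
    rw [← orderOf_eq_card_of_forall_mem_zpowers hwg]
    exact Nat.le_of_dvd two_pos (orderOf_dvd_of_pow_eq_one (Subtype.ext (by rw [pow_two]; exact hVe w hw)))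
  have hz2 : orderOf (a ^ 2) = 2 := by
    rw [orderOf_pow, han]; decide
  have h5 : Subgroup.zpowers (a ^ 2) = V :=
    Subgroup.eq_of_le_of_card_ge (Subgroup.zpowers_le.mpr (Subgroup.subset_closure (Or.inl rfl)))
      (by rw [Nat.card_zpowers, hz2]; exact hcard2)
  have h6 : x ∈ Subgroup.zpowers (a ^ 2) := h5 ▸ Subgroup.subset_closure (Or.inr rfl)
  exact hx (Subgroup.zpowers_le.mpr (Subgroup.pow_mem _ (Subgroup.mem_zpowers a) 2) h6)

end Cfsg.Agent.NAC
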