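import Cfsg.Agent.Lib.Invol.ThreeFree.Main
import Cfsg.Agent.Lib.Lie.Sz.SylowLie
import Cfsg.Agent.Lib.Recog.Zsigmondy
import Cfsg.Agent.Lib.Invol.RankOneInter.Basic
import Cfsg.Agent.Lib.Grp.Solvable

/-!
# Suzuki groups are determined by the orders of their maximal subgroups

The orders of the maximal subgroups bound every Sylow subgroup, so the order of the group divides that of
`Sz(q)`; a primitive prime divisor of `q ^ 4 - 1` then puts a section isomorphic to `Sz(q)` in the group.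
-/

set_option autoImplicit false
set_option linter.style.haveILetI false
set_option linter.unusedSectionVars false

open Subgroup Matrix

namespace Cfsg.Agent.Recog.SuzMax

universe u

/-- The order of `Sz(2 ^ (2m+1))`. -/
def szOrd (m : ℕ) : ℕ :=
  (2 ^ (2 * m + 1)) ^ 2 * (2 ^ (2 * m + 1) - 1) * ((2 ^ (2 * m + 1)) ^ 2 + 1)

/-- The set of orders of maximal subgroups. -/
def maxOrders (X : Type*) [Group X] : Set ℕ := {k : ℕ | ∃ M : Subgroup X, IsCoatom M ∧ k = Nat.card ↥M}

theorem exists_coatom {X : Type*} [Group X] [Finite X] {H : Subgroup X} (h : H ≠ ⊤) :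
    ∃ M : Subgroup X, IsCoatom M ∧ H ≤ M :=
  (eq_top_or_exists_le_coatom H).resolve_left h

theorem nat_sub_dvd (x : ℕ) : x - 1 ∣ x ^ 2 - 1 :=
  ⟨x + 1, by rw [mul_comm, ← Nat.sq_sub_sq, one_pow]⟩

section Congr

variable {F F' : Type*} [Field F] [Field F']

/-- Apply a field isomorphism to the entries. -/
def glMap (σ : F ≃+* F') : GL (Fin 4) F ≃* GL (Fin 4) F' :=
  Units.mapEquiv (RingEquiv.mapMatrix (m := Fin 4) σ).toMulEquiv

theorem glMap_coe (σ : F ≃+* F') (g : GL (Fin 4) F) :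
    ((glMap σ g : GL (Fin 4) F') : Matrix (Fin 4) (Fin 4) F') = (g : Matrix (Fin 4) (Fin 4) F).map σ := rfl

theorem glMap_symm_apply (σ : F ≃+* F') (g : GL (Fin 4) F') : glMap σ (glMap σ.symm g) = g := by
  apply Units.ext
  ext i j
  exact σ.apply_symm_apply _

theorem glMap_mem (σ : F ≃+* F') (e : ℕ) {g : GL (Fin 4) F}
    (hg : g ∈ {g : GL (Fin 4) F | g ∈ Cfsg.Lie.Sp4 F ∧ Cfsg.Lie.star4 (g : Matrix (Fin 4) (Fin 4) F) =
      (g : Matrix (Fin 4) (Fin 4) F).map (fun x => x ^ e)}) :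
    glMap σ g ∈ {g : GL (Fin 4) F' | g ∈ Cfsg.Lie.Sp4 F' ∧ Cfsg.Lie.star4 (g : Matrix (Fin 4) (Fin 4) F') =
      (g : Matrix (Fin 4) (Fin 4) F').map (fun x => x ^ e)} := by
  obtain ⟨h1, h2⟩ := hg
  refine ⟨fun u v => ?_, ?_⟩
  · have h := congrArg σ (h1 (σ.symm ∘ u) (σ.symm ∘ v))
    have hu : σ ∘ (σ.symm ∘ u) = u := funext fun i => σ.apply_symm_apply _
    have hv : σ ∘ (σ.symm ∘ v) = v := funext fun i => σ.apply_symm_apply _
    have key : ∀ w : Fin 4 → F, (g : Matrix (Fin 4) (Fin 4) F).map σ *ᵥ (σ ∘ w) =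
        σ ∘ ((g : Matrix (Fin 4) (Fin 4) F) *ᵥ w) := fun w => by
      funext i
      exact (RingHom.map_mulVec σ.toRingHom (g : Matrix (Fin 4) (Fin 4) F) w i).symm
    have halt : ∀ a b : Fin 4 → F, σ (Cfsg.Lie.altForm4 a b) = Cfsg.Lie.altForm4 (σ ∘ a) (σ ∘ b) := fun a b => by
      simp [Cfsg.Lie.altForm4]
    rw [halt, halt, hu, hv] at h
    rw [Units.coeHom_apply, glMap_coe, ← hu, ← hv, key, key, hu, hv]
    exact h
  · rw [glMap_coe]
    ext p r
    have h := congrArg σ (congrFun (congrFun h2 p) r)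
    simpa [Cfsg.Lie.star4] using h

theorem lieSz_congr (σ : F ≃+* F') (e : ℕ) :
    Nonempty (↥(Cfsg.Lie.Sz F e) ≃* ↥(Cfsg.Lie.Sz F' e)) := by
  have hmap : (Cfsg.Lie.Sz F e).map (glMap σ).toMonoidHom = Cfsg.Lie.Sz F' e := by
    rw [Cfsg.Lie.Sz, Cfsg.Lie.Sz, MonoidHom.map_closure]
    congr 1
    ext g
    exact ⟨by rintro ⟨g, hg, rfl⟩; exact glMap_mem σ e hg,
      fun hg => ⟨glMap σ.symm g, glMap_mem σ.symm e hg, glMap_symm_apply σ g⟩⟩
  exact ⟨((Cfsg.Lie.Sz F e).equivMapOfInjective (glMap σ).toMonoidHom (glMap σ).injective).trans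
    (MulEquiv.subgroupCongr hmap)⟩

end Congr

section Model

variable {F : Type*} [Field F] [Fintype F] {m : ℕ} (hS : Suz.SzField F m)
include hS

theorem card_lie : Nat.card ↥(Cfsg.Lie.Sz F (2 ^ (m + 1))) = szOrd m := (Suz.lie_structure hS).1

theorem borel_mem_maxOrders : (2 ^ (2 * m + 1)) ^ 2 * (2 ^ (2 * m + 1) - 1) ∈
    maxOrders ↥(Cfsg.Lie.Sz F (2 ^ (m + 1))) :=
  ⟨(Suz.szEquiv hS).mapSubgroup (Suz.borel m F),
    ((Suz.szEquiv hS).mapSubgroup.isCoatom_iff _).2 (Suz.isCoatom_borel hS),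
    ((Nat.card_congr ((Suz.szEquiv hS).subgroupMap (Suz.borel m F)).toEquiv).symm.trans (Suz.card_borel hS)).symm⟩

/-- Every prime divisor of the order divides the order of a maximal subgroup. -/
theorem exists_max_dvd {r : ℕ} (hr : r.Prime) (hdvd : r ∣ szOrd m) :
    ∃ k ∈ maxOrders ↥(Cfsg.Lie.Sz F (2 ^ (m + 1))), r ∣ k := by
  haveI := Fact.mk hr
  haveI : Finite ↥(Cfsg.Lie.Sz F (2 ^ (m + 1))) := Finite.of_equiv _ (Suz.szEquiv hS).toEquiv
  haveI := Suz.lie_isSimple hS
  obtain ⟨x, hx⟩ := exists_prime_orderOf_dvd_card' r (hdvd.trans (card_lie hS).symm.dvd)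
  have hne : zpowers x ≠ ⊤ := fun e => by
    have h := Nat.card_zpowers x
    rw [e, card_top, card_lie hS, hx] at h
    have hp := h ▸ hr
    rw [szOrd] at hp
    have h2 : 2 ≤ 2 ^ (2 * m + 1) := Nat.le_self_pow (by omega) 2
    have h4 := Nat.pow_le_pow_left h2 2
    rcases Nat.prime_mul_iff.1 hp with ⟨h1, h5⟩ | ⟨-, h1⟩
    · omega
    · have := Nat.eq_one_of_mul_eq_one_right h1
      omega
  obtain ⟨M, hM, hle⟩ := exists_coatom hne
  exact ⟨_, ⟨M, hM, rfl⟩, hx ▸ Subgroup.orderOf_dvd_natCard M (hle (mem_zpowers x))⟩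

end Model

section General

variable {G : Type u} [Group G] [Finite G]

/-- In a solvable group the index of a maximal subgroup is a power of a prime. -/
theorem index_of_solvable : ∀ (n : ℕ) (X : Type u) [Group X] [Finite X], Nat.card X = n → Group.IsSolvable X →
    ∀ M : Subgroup X, IsCoatom M → ∃ p k : ℕ, p.Prime ∧ M.index = p ^ k := by
  intro n
  induction n using Nat.strong_induction_on with
  | _ n ih =>
    intro X _ _ hn hs M hM
    haveI : Nontrivial X := ⟨by
      by_contra h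
      push Not at h
      exact hM.1 (eq_top_iff.2 fun x _ => h x 1 ▸ one_mem M)⟩
    obtain ⟨N, ⟨hNn, hN⟩, hmin⟩ := (Set.toFinite {N : Subgroup X | N.Normal ∧ N ≠ ⊥}).exists_minimal
      ⟨⊤, inferInstance, top_ne_bot⟩
    haveI := hNn
    haveI := hs
    have hmin' : ∀ K : Subgroup X, K.Normal → K ≤ N → K = ⊥ ∨ K = N := fun K hK hle =>
      or_iff_not_imp_left.2 fun h => le_antisymm hle (hmin ⟨hK, h⟩ hle)
    by_cases hle : N ≤ M
    · have hlt : Nat.card (X ⧸ N) < n := by
        rw [← hn, card_eq_card_quotient_mul_card_subgroup N]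
        exact lt_mul_of_one_lt_right Nat.card_pos (one_lt_card_iff_ne_bot _ |>.2 hN)
      have hcomap : (M.map (QuotientGroup.mk' N)).comap (QuotientGroup.mk' N) = M := by
        rw [comap_map_eq, QuotientGroup.ker_mk', sup_eq_left.2 hle]
      have hco : IsCoatom (M.map (QuotientGroup.mk' N)) := by
        refine ⟨fun e => hM.1 (by rw [← hcomap, e, comap_top]), fun K hK => ?_⟩
        have h1 : M < K.comap (QuotientGroup.mk' N) := by
          rw [← hcomap]
          exact (comap_lt_comap_of_surjective (QuotientGroup.mk'_surjective N)).2 hK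
        rw [← map_comap_eq_self_of_surjective (QuotientGroup.mk'_surjective N) K, hM.2 _ h1,
          map_top_of_surjective _ (QuotientGroup.mk'_surjective N)]
      obtain ⟨p, k, hp, hk⟩ := ih _ hlt (X ⧸ N) rfl inferInstance _ hco
      refine ⟨p, k, hp, ?_⟩
      rw [← hcomap, index_comap_of_surjective _ (QuotientGroup.mk'_surjective N), hk]
    · obtain ⟨p, hp, hpg⟩ := Grp.minimal_normal_solvable_isPGroup (N := N) inferInstance hN hmin'
      haveI := Fact.mk hp
      have htop : M ⊔ N = ⊤ := hM.2 _ (left_lt_sup.2 hle)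
      obtain ⟨k, hk⟩ := IsPGroup.iff_card.1 hpg
      have h1 : N.relIndex M = N.index := by
        rw [← relIndex_top_right, ← htop, relIndex_sup_right]
      have h3 : Nat.card ↥(N.subgroupOf M) * N.relIndex M = Nat.card M := card_mul_index _
      have h4 : M.index * Nat.card ↥(N.subgroupOf M) = Nat.card N := by
        refine Nat.eq_of_mul_eq_mul_right (Nat.pos_of_ne_zero (h1 ▸ index_ne_zero_of_finite : N.relIndex M ≠ 0)) ?_
        rw [mul_assoc, h3, M.index_mul_card, h1, mul_comm, N.index_mul_card]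
      obtain ⟨j, -, hj⟩ := (Nat.dvd_prime_pow hp).1 (hk ▸ Dvd.intro _ h4)
      exact ⟨p, j, hp, hj⟩

/-- A non-solvable group has a non-abelian simple section. -/
theorem exists_simple_section {X : Type u} [Group X] [Finite X] (hns : ¬ Group.IsSolvable X) :
    ∃ (H : Subgroup X) (K : Subgroup ↥H) (_ : K.Normal), IsSimpleGroup (↥H ⧸ K) ∧ ¬ IsMulCommutative (↥H ⧸ K) := by
  obtain ⟨H, hH, hmin⟩ := (Set.toFinite {H : Subgroup X | ¬ Group.IsSolvable H}).exists_minimal
    ⟨⊤, fun h => hns (haveI := h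
      Group.isSolvable_of_surjective (f := (topEquiv : (⊤ : Subgroup X) ≃* X).toMonoidHom) topEquiv.surjective)⟩
  haveI : Nontrivial H := by
    by_contra h
    rw [not_nontrivial_iff_subsingleton] at h
    exact hH (Group.isSolvable_of_comm fun a b => Subsingleton.elim _ _)
  obtain ⟨K, ⟨hKn, hKne⟩, hKmax⟩ := (Set.toFinite {K : Subgroup ↥H | K.Normal ∧ K ≠ ⊤}).exists_maximal
    ⟨⊥, inferInstance, bot_ne_top⟩
  haveI := hKn
  haveI : Nontrivial (↥H ⧸ K) := QuotientGroup.nontrivial_iff.2 hKne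
  have hsimple : IsSimpleGroup (↥H ⧸ K) := by
    refine ⟨fun J hJ => ?_⟩
    have hKJ : K ≤ J.comap (QuotientGroup.mk' K) := fun x hx => by
      show QuotientGroup.mk' K x ∈ J
      rw [show QuotientGroup.mk' K x = 1 from (QuotientGroup.eq_one_iff x).2 hx]
      exact one_mem J
    rcases eq_or_ne (J.comap (QuotientGroup.mk' K)) ⊤ with e | e
    · right
      rw [← map_comap_eq_self_of_surjective (QuotientGroup.mk'_surjective K) J, e,
        map_top_of_surjective _ (QuotientGroup.mk'_surjective K)]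
    · left
      rw [← map_comap_eq_self_of_surjective (QuotientGroup.mk'_surjective K) J, Subgroup.map_eq_bot_iff,
        QuotientGroup.ker_mk']
      exact hKmax ⟨inferInstance, e⟩ hKJ
  refine ⟨H, K, hKn, hsimple, fun hc => hH ?_⟩
  have hKs : Group.IsSolvable K := by
    by_contra h
    have hle : H ≤ K.map H.subtype := hmin (fun hs => h (haveI := hs
      Group.isSolvable_of_isSolvable_injective (f := (K.equivMapOfInjective _ H.subtype_injective).toMonoidHom)
        (MulEquiv.injective _))) (map_subtype_le K)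
    exact hKne (eq_top_iff.2 fun x _ => by
      obtain ⟨y, hy, e⟩ := hle x.2
      rwa [← Subtype.ext (a1 := y) (a2 := x) e])
  exact (Group.isSolvable_iff_subgroup_quotient K).2 ⟨hKs, Group.isSolvable_of_comm hc.is_comm.comm⟩

/-- A solvable maximal subgroup puts every prime not dividing its order into a simple non-abelian section. -/
theorem exists_section (hns : ¬ Group.IsSolvable G) {M : Subgroup G} (hM : IsCoatom M) (hMs : Group.IsSolvable M)
    {l : ℕ} (hl : l.Prime) (hlG : l ∣ Nat.card G) (hlM : ¬ l ∣ Nat.card M) :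
    ∃ (R N : Subgroup G) (K : Subgroup ↥N) (_ : K.Normal), R ≤ K.map N.subtype ∧
      (∀ X : Subgroup G, X.Normal → Group.IsSolvable X → X ≤ R) ∧
      IsSimpleGroup (↥N ⧸ K) ∧ ¬ IsMulCommutative (↥N ⧸ K) ∧ l ∣ Nat.card (↥N ⧸ K) := by
  classical
  haveI := Fact.mk hl
  obtain ⟨R, hRc, hRs, hRmax⟩ := Invol.RankOneInter.exists_radical G
  haveI := hRc
  haveI := hRs
  have hsup : ∀ X : Subgroup G, X.Normal → ¬ X ≤ M → X ⊔ M = ⊤ := fun X _ h => hM.2 _ (right_lt_sup.2 h)
  have hRM : R ≤ M := by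
    by_contra h
    have hsq : Group.IsSolvable (G ⧸ R) := by
      haveI := hMs
      refine Group.isSolvable_of_surjective (f := (QuotientGroup.mk' R).comp M.subtype) ?_
      rw [← MonoidHom.range_eq_top, MonoidHom.range_comp, range_subtype]
      rw [← map_top_of_surjective _ (QuotientGroup.mk'_surjective R), ← hsup R inferInstance h, Subgroup.map_sup]
      rw [(Subgroup.map_eq_bot_iff R).2 (QuotientGroup.ker_mk' R).ge, bot_sup_eq]
    exact hns ((Group.isSolvable_iff_subgroup_quotient R).2 ⟨inferInstance, hsq⟩)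
  have hRne : R < ⊤ := lt_top_iff_ne_top.2 fun e => hM.1 (top_le_iff.1 (e ▸ hRM))
  obtain ⟨N, ⟨hNn, hRN⟩, hmin⟩ := (Set.toFinite {N : Subgroup G | N.Normal ∧ R < N}).exists_minimal
    ⟨⊤, inferInstance, hRne⟩
  haveI := hNn
  have hNns : ¬ Group.IsSolvable N := fun h => hRN.not_ge (hRmax N hNn h)
  have hlR : ¬ l ∣ Nat.card R := fun h => hlM (h.trans (card_dvd_of_le hRM))
  have hlN : l ∣ Nat.card N := by
    rcases Nat.Prime.dvd_mul hl |>.1 (N.index_mul_card.symm ▸ hlG) with h | h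
    · refine absurd (h.trans ?_) hlM
      have hNM : ¬ N ≤ M := fun hle => hNns (Invol.RankOneInter.isSolvable_of_le hMs hle)
      rw [← relIndex_top_right, ← hsup N hNn hNM, sup_comm, relIndex_sup_right]
      exact relIndex_dvd_card N M
    · exact h
  obtain ⟨K, ⟨hKn, hRK, hKne⟩, hKmax⟩ :=
    (Set.toFinite {K : Subgroup ↥N | K.Normal ∧ R.subgroupOf N ≤ K ∧ K ≠ ⊤}).exists_maximal
      ⟨R.subgroupOf N, inferInstance, le_rfl, fun e => hRN.not_ge fun x hx =>
        mem_subgroupOf.1 (e ▸ mem_top (⟨x, hx⟩ : N))⟩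
  haveI := hKn
  refine ⟨R, N, K, hKn, fun x hx => ⟨⟨x, hRN.le hx⟩, hRK (mem_subgroupOf.2 hx), rfl⟩, hRmax, ?_⟩
  haveI hnt : Nontrivial (↥N ⧸ K) := QuotientGroup.nontrivial_iff.2 hKne
  have hsimple : IsSimpleGroup (↥N ⧸ K) := by
    refine ⟨fun J hJ => ?_⟩
    have hKJ : K ≤ J.comap (QuotientGroup.mk' K) := fun x hx => by
      show QuotientGroup.mk' K x ∈ J
      rw [show QuotientGroup.mk' K x = 1 from (QuotientGroup.eq_one_iff x).2 hx]
      exact one_mem J
    rcases eq_or_ne (J.comap (QuotientGroup.mk' K)) ⊤ with e | e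
    · right
      rw [← map_comap_eq_self_of_surjective (QuotientGroup.mk'_surjective K) J, e,
        map_top_of_surjective _ (QuotientGroup.mk'_surjective K)]
    · left
      rw [← map_comap_eq_self_of_surjective (QuotientGroup.mk'_surjective K) J, Subgroup.map_eq_bot_iff,
        QuotientGroup.ker_mk']
      exact hKmax ⟨inferInstance, hRK.trans hKJ, e⟩ hKJ
  -- the product of the conjugate projections
  let φ : G → ↥N →* ↥N ⧸ K := fun g => (QuotientGroup.mk' K).comp (MulAut.conjNormal g).toMonoidHom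
  let Φ : ↥N →* (G → ↥N ⧸ K) := Pi.monoidHom φ
  have hker : ∀ x : N, x ∈ Φ.ker ↔ ∀ g : G, MulAut.conjNormal g x ∈ K := fun x => by
    rw [MonoidHom.mem_ker, funext_iff]
    exact forall_congr' fun g => QuotientGroup.eq_one_iff _
  have hk : Φ.ker.map N.subtype ≤ R := by
    have hn : (Φ.ker.map N.subtype ⊔ R).Normal := by
      haveI : (Φ.ker.map N.subtype).Normal := ⟨by
        rintro _ ⟨x, hx, rfl⟩ g
        refine ⟨MulAut.conjNormal g x, (hker _).2 fun g' => ?_, MulAut.conjNormal_apply g x⟩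
        have h := (hker x).1 hx (g' * g)
        rwa [map_mul, MulAut.mul_apply] at h⟩
      infer_instance
    have hle : Φ.ker.map N.subtype ⊔ R ≤ K.map N.subtype := by
      refine sup_le (map_mono fun x hx => ?_) fun x hx => ⟨⟨x, hRN.le hx⟩, hRK (mem_subgroupOf.2 hx), rfl⟩
      have h := (hker x).1 hx 1
      rwa [map_one, MulAut.one_apply] at h
    by_contra h
    have h1 := (hmin ⟨hn, right_lt_sup.2 h⟩ (hle.trans (map_subtype_le K))).trans hle
    exact hKne (eq_top_iff.2 fun x _ => by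
      obtain ⟨y, hy, e⟩ := h1 x.2
      rwa [← Subtype.ext (a1 := y) (a2 := x) e])
  refine ⟨hsimple, fun hc => hNns ?_, ?_⟩
  · haveI := hc
    haveI : Group.IsSolvable (G → ↥N ⧸ K) := Group.isSolvable_of_comm fun a b => funext fun g =>
      hc.is_comm.comm (a g) (b g)
    have hks : Group.IsSolvable Φ.ker := Group.isSolvable_of_isSolvable_injective
      (f := (Subgroup.inclusion hk).comp (Φ.ker.equivMapOfInjective _ N.subtype_injective).toMonoidHom)
      ((Subgroup.inclusion_injective hk).comp (Φ.ker.equivMapOfInjective _ N.subtype_injective).injective)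
    haveI := hks
    haveI : Group.IsSolvable (↥N ⧸ Φ.ker) :=
      Group.isSolvable_of_isSolvable_injective (f := QuotientGroup.kerLift Φ) (QuotientGroup.kerLift_injective Φ)
    exact (Group.isSolvable_iff_subgroup_quotient Φ.ker).2 ⟨hks, inferInstance⟩
  · have h1 : ¬ l ∣ Nat.card Φ.ker := fun h => hlR (h.trans (by
      rw [← card_map_of_injective N.subtype_injective]
      exact card_dvd_of_le hk))
    rw [← Φ.ker.index_mul_card] at hlN
    have h2 := ((Nat.Prime.dvd_mul hl).1 hlN).resolve_right h1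
    rw [index_ker] at h2
    haveI := Fintype.ofFinite G
    have h3 := h2.trans (card_subgroup_dvd_card _)
    rw [Nat.card_pi] at h3
    exact hl.dvd_of_dvd_pow (by rwa [Finset.prod_const] at h3)

end General

section Main

/-- A group with the maximal subgroup orders of `Sz(q)` is `Sz(q)`. -/
theorem s3728 {G : Type u} [Group G] [Finite G] {F : Type*} [Field F] [Fintype F] {m : ℕ} (hm : 1 ≤ m)
    (hF : Fintype.card F = 2 ^ (2 * m + 1))
    (h : maxOrders G = maxOrders ↥(Cfsg.Lie.Sz F (2 ^ (m + 1)))) :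
    Nonempty (G ≃* ↥(Cfsg.Lie.Sz F (2 ^ (m + 1)))) := by
  have hS : Suz.SzField F m := ⟨hm, hF⟩
  haveI : Finite ↥(Cfsg.Lie.Sz F (2 ^ (m + 1))) := Finite.of_equiv _ (Suz.szEquiv hS).toEquiv
  set q := 2 ^ (2 * m + 1) with hq
  have hdvdL : ∀ k ∈ maxOrders G, k ∣ szOrd m := fun k hk => by
    rw [h] at hk
    obtain ⟨M, -, rfl⟩ := hk
    exact card_lie hS ▸ card_subgroup_dvd_card M
  obtain ⟨MB, hMB, hMBc⟩ : q ^ 2 * (q - 1) ∈ maxOrders G := h ▸ borel_mem_maxOrders hS
  have hprime : ∀ r : ℕ, r.Prime → r ∣ szOrd m → ∃ k ∈ maxOrders G, r ∣ k := fun r hr hd =>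
    h ▸ exists_max_dvd hS hr hd
  have hq8 : 8 ≤ q := by
    calc 8 = 2 ^ 3 := by norm_num
      _ ≤ q := Nat.pow_le_pow_right (by norm_num) (by omega)
  -- the group is not solvable
  have hns : ¬ Group.IsSolvable G := by
    intro hs
    obtain ⟨p, a, hp, hidx⟩ := index_of_solvable _ G rfl hs MB hMB
    have key : ∀ r : ℕ, r.Prime → r ∣ q ^ 2 + 1 → r = p := by
      intro r hr hd
      obtain ⟨k, ⟨M, hM, rfl⟩, hk⟩ := hprime r hr (hd.mul_left _)
      have h1 := hk.trans (card_subgroup_dvd_card M)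
      rw [← MB.index_mul_card, hidx, ← hMBc] at h1
      rcases hr.dvd_mul.1 h1 with h2 | h2
      · exact (Nat.prime_dvd_prime_iff_eq hr hp).1 (hr.dvd_of_dvd_pow h2)
      · exfalso
        rcases hr.dvd_mul.1 h2 with h3 | h3
        · exact hr.one_lt.ne' (Nat.dvd_one.1 ((Nat.dvd_add_right h3).1 hd))
        · have h4 : r ∣ 2 := by
            have h5 : q ^ 2 + 1 = (q - 1) * (q + 1) + 2 := by
              obtain ⟨j, hj⟩ := Nat.exists_eq_add_of_le (show 1 ≤ q by omega)
              rw [hj, Nat.add_sub_cancel_left]; ring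
            rw [h5] at hd
            exact (Nat.dvd_add_right (h3.mul_right _)).1 hd
          have h6 : r = 2 := (Nat.prime_dvd_prime_iff_eq hr Nat.prime_two).1 h4
          subst h6
          have h7 : 2 ∣ q ^ 2 := dvd_pow (dvd_pow_self 2 (by omega)) two_ne_zero
          exact absurd ((Nat.dvd_add_right h7).1 hd) (by norm_num)
    obtain ⟨b, hb⟩ : ∃ b, b = 2 ^ (m + 1) := ⟨_, rfl⟩
    have hbq : b * b = 2 * q := by rw [hb, hq, ← pow_add, ← pow_succ']; congr 1; omega
    have hb2 : b ≤ q / 2 := by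
      rw [hb, hq, pow_succ 2 (2 * m), Nat.mul_div_cancel _ two_pos]
      exact Nat.pow_le_pow_right two_pos (by omega)
    have hfac : q ^ 2 + 1 = (q + b + 1) * (q - b + 1) := by
      obtain ⟨j, hj⟩ := Nat.exists_eq_add_of_le (show b ≤ q by omega)
      rw [hj] at hbq ⊢
      rw [Nat.add_sub_cancel_left]
      nlinarith
    have hcop : Nat.Coprime (q + b + 1) (q - b + 1) := by
      refine Nat.coprime_of_dvd' fun r hr h1 h2 => ?_
      exfalso
      have h3 := Nat.dvd_sub h1 h2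
      rw [show q + b + 1 - (q - b + 1) = 2 * b by omega, hb, ← pow_succ'] at h3
      have h4 : r = 2 := (Nat.prime_dvd_prime_iff_eq hr Nat.prime_two).1 (hr.dvd_of_dvd_pow h3)
      subst h4
      have h7 : 2 ∣ q + b := dvd_add (dvd_pow_self 2 (by omega)) (hb ▸ dvd_pow_self 2 (by omega))
      exact absurd ((Nat.dvd_add_right h7).1 h1) (by norm_num)
    obtain ⟨r, hr, hr1⟩ := Nat.exists_prime_and_dvd (show q + b + 1 ≠ 1 by omega)
    obtain ⟨s, hs', hs1⟩ := Nat.exists_prime_and_dvd (show q - b + 1 ≠ 1 by omega)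
    have e1 := key r hr (hfac ▸ hr1.mul_right _)
    have e2 := key s hs' (hfac ▸ hs1.mul_left _)
    subst e1 e2
    exact hr.one_lt.ne' (Nat.eq_one_of_dvd_coprimes hcop hr1 hs1)
  have hzp : ∀ x : G, zpowers x ≠ ⊤ := fun x e => hns (Group.isSolvable_of_comm fun a b => by
    obtain ⟨i, rfl⟩ := mem_zpowers_iff.1 (e.ge (mem_top a))
    obtain ⟨j, rfl⟩ := mem_zpowers_iff.1 (e.ge (mem_top b))
    rw [← _root_.zpow_add, ← _root_.zpow_add, add_comm])
  have hrG : ∀ r : ℕ, r.Prime → r ∣ Nat.card G → r ∣ szOrd m := by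
    intro r hr hd
    haveI := Fact.mk hr
    obtain ⟨x, hx⟩ := exists_prime_orderOf_dvd_card' r hd
    obtain ⟨M, hM, hle⟩ := exists_coatom (hzp x)
    exact (hx ▸ Subgroup.orderOf_dvd_natCard M (hle (mem_zpowers x))).trans (hdvdL _ ⟨M, hM, rfl⟩)
  have hmod : ∀ n : ℕ, Odd n → 2 ^ n % 3 = 2 ∧ (2 ^ n % 5 = 2 ∨ 2 ^ n % 5 = 3) := by
    rintro n ⟨k, rfl⟩
    induction k with
    | zero => simp
    | succ k ih =>
      rw [show 2 * (k + 1) + 1 = (2 * k + 1) + 2 by ring, pow_add, show (2 : ℕ) ^ 2 = 4 by norm_num,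
        Nat.mul_mod, Nat.mul_mod _ 4 5, ih.1]
      rcases ih.2 with e | e <;> rw [e] <;> norm_num
  have h3 : ¬ 3 ∣ Nat.card G := fun hd => by
    have h1 := hrG 3 Nat.prime_three hd
    obtain ⟨j, hj⟩ := Nat.exists_eq_add_of_le (show 1 ≤ q by omega)
    have e := (hmod (2 * m + 1) ⟨m, rfl⟩).1
    rw [← hq] at e
    rw [szOrd, ← hq] at h1
    rcases Nat.prime_three.dvd_mul.1 h1 with h1 | h1
    · rcases Nat.prime_three.dvd_mul.1 h1 with h1 | h1
      · obtain ⟨c, hc⟩ := Nat.prime_three.dvd_of_dvd_pow h1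
        omega
      · obtain ⟨c, hc⟩ := h1
        omega
    · have : q ^ 2 % 3 = 1 := by rw [Nat.pow_mod, e]
      obtain ⟨c, hc⟩ := h1
      omega
  -- a Borel subgroup is solvable
  have hMBs : Group.IsSolvable MB := by
    by_contra hno
    obtain ⟨H, K, hK, hsimp, hna⟩ := exists_simple_section (X := ↥MB) hno
    have hd : Nat.card (↥H ⧸ K) ∣ q ^ 2 * (q - 1) := hMBc ▸
      (Dvd.intro _ (K.index_mul_card)).trans (card_subgroup_dvd_card H)
    have h3' : ¬ 3 ∣ Nat.card (↥H ⧸ K) := fun e => h3 (e.trans (hd.trans (hMBc ▸ card_subgroup_dvd_card MB)))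
    haveI := hsimp
    obtain ⟨F', i1, i2, m', hm', hF', ⟨e'⟩⟩ := Invol.ThreeFree.isoSuzuki hna h3'
    rw [Nat.card_congr e'.toEquiv, card_lie ⟨hm', hF'⟩] at hd
    have h5 : 5 ∣ q ^ 2 * (q - 1) := by
      refine (Dvd.dvd.mul_left ?_ _).trans hd
      have e := (hmod (2 * m' + 1) ⟨m', rfl⟩).2
      rcases e with e | e <;> simp [Nat.dvd_iff_mod_eq_zero, Nat.add_mod, Nat.pow_mod, e]
    have hp5 : Nat.Prime 5 := by norm_num
    have e := (hmod (2 * m + 1) ⟨m, rfl⟩).2
    rw [← hq] at e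
    rcases hp5.dvd_mul.1 h5 with h6 | h6
    · have := hp5.dvd_of_dvd_pow h6
      omega
    · omega
  -- the bounds on the Sylow subgroups
  have hsyl : ∀ (r : ℕ) [Fact r.Prime] (P : Sylow r G), ¬ (P : Subgroup G).Normal →
      Nat.card P ∣ szOrd m := by
    intro r _ P hP
    obtain ⟨M, hM, hle⟩ := exists_coatom (fun e => hP (normalizer_eq_top_iff.1 e))
    exact (card_dvd_of_le (le_normalizer.trans hle)).trans (hdvdL _ ⟨M, hM, rfl⟩)
  haveI : Fact (Nat.Prime 2) := ⟨Nat.prime_two⟩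
  -- the primitive prime
  obtain ⟨l, hl, hl1, hlmin⟩ := Recog.Zsigmondy.exists_primitive (a := 2) (n := 4 * (2 * m + 1)) le_rfl (by omega)
    (by omega) (by omega)
  have hpow : ∀ j : ℕ, 2 ^ (4 * j) - 1 = ((2 ^ j) ^ 2 - 1) * ((2 ^ j) ^ 2 + 1) := fun j => by
    obtain ⟨i, hi⟩ := Nat.exists_eq_add_of_le (show 1 ≤ (2 ^ j) ^ 2 from Nat.one_le_pow _ _ (by positivity))
    rw [show 4 * j = j * 2 * 2 by ring, pow_mul, pow_mul, hi, Nat.add_sub_cancel_left,
      show (1 + i) ^ 2 = 1 + i * (1 + i + 1) by ring, Nat.add_sub_cancel_left]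
  have hl2 : l ≠ 2 := by
    rintro rfl
    have h1 : 2 ∣ 2 ^ (4 * (2 * m + 1)) := dvd_pow_self 2 (by omega)
    have := Nat.one_le_two_pow (n := 4 * (2 * m + 1))
    omega
  have hlq : l ∣ q ^ 2 + 1 := by
    rw [hpow, ← hq] at hl1
    refine (hl.dvd_mul.1 hl1).resolve_left fun e => hlmin (2 * (2 * m + 1)) (by omega) (by omega) ?_
    rwa [mul_comm 2 (2 * m + 1), pow_mul, ← hq]
  have hlMB : ¬ l ∣ q ^ 2 * (q - 1) := fun e => by
    rcases hl.dvd_mul.1 e with e | e
    · exact hl2 ((Nat.prime_dvd_prime_iff_eq hl Nat.prime_two).1 (hl.dvd_of_dvd_pow (hl.dvd_of_dvd_pow e)))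
    · exact hlmin (2 * m + 1) (by omega) (by omega) e
  have hlG : l ∣ Nat.card G := by
    obtain ⟨k, ⟨M, -, rfl⟩, hk⟩ := hprime l hl (hlq.mul_left _)
    exact hk.trans (card_subgroup_dvd_card M)
  obtain ⟨R, N, K, hK, hRK, hRmax, hsimp, hna, hlT⟩ := exists_section hns hMB hMBs hl hlG (hMBc ▸ hlMB)
  haveI := hK
  haveI := hsimp
  have hTG : Nat.card (↥N ⧸ K) ∣ Nat.card G :=
    (Dvd.intro _ K.index_mul_card).trans (card_subgroup_dvd_card N)
  obtain ⟨F', i1, i2, m', hm', hF', ⟨e'⟩⟩ := Invol.ThreeFree.isoSuzuki hna (fun e => h3 (e.trans hTG))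
  have hT : Nat.card (↥N ⧸ K) = szOrd m' := (Nat.card_congr e'.toEquiv).trans (card_lie ⟨hm', hF'⟩)
  have h2part : ∀ j : ℕ, Odd ((2 ^ (2 * j + 1) - 1) * ((2 ^ (2 * j + 1)) ^ 2 + 1)) := fun j => by
    have h1 : Even (2 ^ (2 * j + 1)) := (Nat.even_pow' (by omega)).2 even_two
    exact (Nat.Even.sub_odd Nat.one_le_two_pow h1 odd_one).mul ((h1.pow_of_ne_zero two_ne_zero).add_one)
  have hmle : m' ≤ m := by
    obtain ⟨P⟩ : Nonempty (Sylow 2 G) := inferInstance
    have hP : ¬ (P : Subgroup G).Normal := fun hn => hns (by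
      haveI := hn
      haveI : Group.IsNilpotent (P : Subgroup G) := P.isPGroup'.isNilpotent
      exact (Group.isSolvable_iff_subgroup_quotient (P : Subgroup G)).2
        ⟨inferInstance, S0205.result (Nat.not_even_iff_odd.1 fun he =>
          P.not_dvd_index (even_iff_two_dvd.1 (index_eq_card (P : Subgroup G) ▸ he)))⟩)
    have h1 : (2 ^ (2 * m' + 1)) ^ 2 ∣ Nat.card P := by
      rw [← pow_mul]
      exact P.pow_dvd_card_of_pow_dvd_card (by
        rw [pow_mul]
        exact (Dvd.intro _ (mul_assoc _ _ _).symm).trans (hT ▸ hTG))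
    have h4 := h1.trans (hsyl 2 P hP)
    rw [szOrd, mul_assoc] at h4
    have h6 : Nat.Coprime ((2 ^ (2 * m' + 1)) ^ 2) ((q - 1) * (q ^ 2 + 1)) :=
      ((Nat.coprime_two_left.2 (h2part m)).pow_left _).pow_left _
    have h7 := h6.dvd_of_dvd_mul_right h4
    rw [← pow_mul, ← pow_mul] at h7
    have := (Nat.pow_dvd_pow_iff_le_right (le_refl 2)).1 h7
    omega
  have hmm : m' = m := by
    by_contra hne
    rw [hT, szOrd] at hlT
    have h1 : l ∣ 2 ^ (4 * (2 * m' + 1)) - 1 := by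
      rw [hpow]
      rcases hl.dvd_mul.1 hlT with e | e
      · rcases hl.dvd_mul.1 e with e | e
        · exact absurd ((Nat.prime_dvd_prime_iff_eq hl Nat.prime_two).1 (hl.dvd_of_dvd_pow (hl.dvd_of_dvd_pow e)))
            hl2
        · exact (e.trans (nat_sub_dvd _)).mul_right _
      · exact e.mul_left _
    exact hlmin (4 * (2 * m' + 1)) (by omega) (by omega) h1
  subst hmm
  -- the order of the group
  have hG : Nat.card G ∣ szOrd m' := by
    rw [Nat.dvd_iff_prime_pow_dvd_dvd]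
    intro r k hr hk
    haveI := Fact.mk hr
    rcases Nat.eq_zero_or_pos k with rfl | hkpos
    · simp
    obtain ⟨P⟩ : Nonempty (Sylow r G) := inferInstance
    refine (P.pow_dvd_card_of_pow_dvd_card hk).trans (hsyl r P fun hn => ?_)
    have hrT : r ∣ K.index := by
      rw [index_eq_card, hT]
      exact hrG r hr ((dvd_pow_self r hkpos.ne').trans hk)
    have hPs : Group.IsSolvable (P : Subgroup G) := by
      haveI : Group.IsNilpotent (P : Subgroup G) := P.isPGroup'.isNilpotent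
      infer_instance
    have hle : (P : Subgroup G) ≤ K.map N.subtype := (hRmax _ hn hPs).trans hRK
    refine P.not_dvd_index (hrT.trans ((?_ : K.index ∣ (K.map N.subtype).index).trans (index_dvd_of_le hle)))
    rw [index_map_subtype]
    exact Dvd.intro _ rfl
  have hcard : Nat.card G = Nat.card (↥N ⧸ K) := Nat.dvd_antisymm (hT ▸ hG) hTG
  have hN1 := N.index_mul_card
  have hK1 := K.index_mul_card
  rw [← index_eq_card] at hcard
  have hKbot : K = ⊥ := card_eq_one.1 (by
    have : N.index * (K.index * Nat.card K) = K.index := by rw [hK1, hN1, hcard]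
    rw [mul_left_comm] at this
    have h9 := Nat.eq_one_of_mul_eq_one_left ((Nat.mul_eq_left index_ne_zero_of_finite).1 this)
    exact h9)
  have hNtop : N = ⊤ := eq_top_of_card_eq N (by
    rw [hcard, ← hK1, hKbot, card_bot, mul_one])
  obtain ⟨e''⟩ := lieSz_congr (FiniteField.ringEquivOfCardEq (hF'.trans hF.symm)) (2 ^ (m' + 1))
  exact ⟨((((Subgroup.topEquiv.symm.trans (MulEquiv.subgroupCongr hNtop.symm)).trans
    QuotientGroup.quotientBot.symm).trans (QuotientGroup.quotientMulEquivOfEq hKbot.symm)).trans e').trans e''⟩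

end Main

end Cfsg.Agent.Recog.SuzMax
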