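import Cfsg.Agent.Lib.Recog.HuppertCases
import Cfsg.Agent.Lib.Transfer.SL23Recognition

/-!
Solvable groups regular on the nonzero vectors: subgroups of index two, and the groups `SL(2,3)`, `SL(2,3) × C₅`.
-/

set_option autoImplicit false

namespace Cfsg.Agent.Recog.RegularLinear

open Cfsg.Agent Cfsg.Agent.Recog.HuppertCases

universe u v

variable {G : Type u} [Group G] [Finite G]

/-- has a subgroup of index two -/
def Two (G : Type u) [Group G] : Prop := ∃ N : Subgroup G, N.Normal ∧ N.index = 2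

theorem two_of_pGroup {P : Type*} [Group P] [Finite P] (hP : IsPGroup 2 P) (h1 : 1 < Nat.card P) :
    ∃ N : Subgroup P, N.index = 2 := by
  haveI : Fact (Nat.Prime 2) := ⟨Nat.prime_two⟩
  obtain ⟨k, hk⟩ := hP.exists_card_eq
  have hk0 : k ≠ 0 := by rintro rfl; rw [pow_zero] at hk; omega
  obtain ⟨H, hH⟩ := Sylow.exists_subgroup_card_pow_prime (G := P) 2 (n := k - 1) (hk ▸ pow_dvd_pow 2 (by omega))
  refine ⟨H, ?_⟩
  have := H.card_mul_index
  rw [hH, hk, show 2 ^ k = 2 ^ (k - 1) * 2 by rw [← pow_succ]; congr 1; omega] at this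
  exact Nat.eq_of_mul_eq_mul_left (pow_pos two_pos _) this

theorem two_of_surjective {P : Type*} [Group P] [Finite P] (f : G →* P) (hf : Function.Surjective f)
    (hP : IsPGroup 2 P) (h1 : 1 < Nat.card P) : Two G := by
  obtain ⟨N, hN⟩ := two_of_pGroup hP h1
  have hi : (N.comap f).index = 2 := by rw [Subgroup.index_comap_of_surjective N hf, hN]
  exact ⟨N.comap f, Subgroup.normal_of_index_eq_two hi, hi⟩

/-- a homomorphism with commutative even image -/
theorem two_of_even {A : Type*} [Group A] (f : G →* A) (hcomm : ∀ a ∈ f.range, ∀ b ∈ f.range, Commute a b)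
    (heven : 2 ∣ Nat.card f.range) : Two G := by
  haveI : Finite f.range := Finite.of_surjective f.rangeRestrict f.rangeRestrict_surjective
  letI : CommGroup f.range :=
    { (inferInstance : Group f.range) with mul_comm := fun a b => Subtype.ext (hcomm a a.2 b b.2).eq }
  obtain ⟨k, m, hm, hkm⟩ := Nat.exists_eq_pow_mul_and_not_dvd (Nat.card_pos (α := f.range)).ne' 2 (by norm_num)
  let g : f.range →* f.range := powMonoidHom m
  have hg : IsPGroup 2 g.range := by
    rintro ⟨_, x, rfl⟩
    refine ⟨k, Subtype.ext ?_⟩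
    show (x ^ m) ^ 2 ^ k = 1
    rw [← pow_mul, mul_comm, ← hkm, pow_card_eq_one']
  refine two_of_surjective ((g.rangeRestrict).comp f.rangeRestrict)
    (g.rangeRestrict_surjective.comp f.rangeRestrict_surjective) hg ?_
  haveI : Fact (Nat.Prime 2) := ⟨Nat.prime_two⟩
  obtain ⟨u, hu⟩ := exists_prime_orderOf_dvd_card' (G := f.range) 2 heven
  refine Finite.one_lt_card_iff_nontrivial.mpr ⟨⟨⟨g u, u, rfl⟩, 1, fun h => ?_⟩⟩
  have h1 : u ^ m = 1 := congrArg Subtype.val h
  exact hm (hu ▸ orderOf_dvd_of_pow_eq_one h1)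

/-- conjugation on a normal subgroup -/
def conjHom (A : Subgroup G) (hA : A.Normal) : G →* MulAut A :=
  haveI := hA
  MulAut.conjNormal

theorem mulAut_comm_of_prime {A : Type*} [Group A] [Finite A] [IsCyclic A] (a b : MulAut A) : Commute a b := by
  obtain ⟨x, hx⟩ := IsCyclic.exists_generator (α := A)
  refine MulEquiv.ext fun y => ?_
  obtain ⟨i, rfl⟩ := hx y
  obtain ⟨k, hk⟩ := hx (a x)
  obtain ⟨l, hl⟩ := hx (b x)
  simp only at hk hl
  show a (b (x ^ i)) = b (a (x ^ i))
  rw [map_zpow, map_zpow, map_zpow, map_zpow, ← hk, ← hl, map_zpow, map_zpow, ← hk, ← hl, ← zpow_mul x k, ← zpow_mul x l,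
    mul_comm k l]

/-- without a subgroup of index two, a small cyclic normal subgroup is central -/
theorem central_of_coprime (h2 : ¬ Two G) (A : Subgroup G) (hA : A.Normal) [IsCyclic A] (N : ℕ)
    (hN : Nat.card (MulAut A) ∣ N) (hg : ∀ d : ℕ, d ∣ Nat.card G → d ∣ N → ¬ 2 ∣ d → d = 1) :
    ∀ a ∈ A, ∀ g : G, Commute g a := by
  haveI := hA
  let f : G →* MulAut A := MulAut.conjNormal
  have hodd : ¬ 2 ∣ Nat.card f.range := fun h => h2 (two_of_even f (fun a _ b _ => mulAut_comm_of_prime a b) h)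
  have h1 : Nat.card f.range = 1 := hg _ (Subgroup.card_range_dvd f) ((Subgroup.card_subgroup_dvd_card _).trans hN) hodd
  intro a ha g
  have hker : f g = 1 := by
    have := Subgroup.card_eq_one.mp h1
    have hm : f g ∈ f.range := ⟨g, rfl⟩
    rwa [this, Subgroup.mem_bot] at hm
  have := congrArg Subtype.val (MulEquiv.ext_iff.mp hker ⟨a, ha⟩)
  rw [MulAut.conjNormal_apply] at this
  simp only [MulAut.one_apply] at this
  exact mul_inv_eq_iff_eq_mul.mp this

/-- a unique involution -/
def UniqueInv (G : Type u) [Group G] (z : G) : Prop := orderOf z = 2 ∧ ∀ g : G, g ^ 2 = 1 → g = 1 ∨ g = z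

theorem uniqueInv_central {z : G} (hz : UniqueInv G z) (g : G) : Commute g z := by
  have h2 : (g * z * g⁻¹) ^ 2 = 1 := by rw [conj_pow, ← hz.1, pow_orderOf_eq_one, mul_one, mul_inv_cancel]
  rcases hz.2 _ h2 with h | h
  · have : z = 1 := by
      rw [mul_inv_eq_one, mul_eq_left] at h; exact h
    rw [this]; exact Commute.one_right g
  · exact mul_inv_eq_iff_eq_mul.mp h

theorem sylow_three_data (h2 : ¬ Two G) {k : ℕ} (hk : k = 3 ∨ k = 4) (hcard : Nat.card G = 2 ^ k * 3) {z : G}
    (hz : UniqueInv G z) (a : G) (ha : orderOf a = 3) :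
    ∃ φ : G →* Equiv.Perm (Fin 4), φ.range = alternatingGroup (Fin 4) ∧ φ a ≠ 1 := by
  classical
  haveI : Fact (Nat.Prime 3) := ⟨by norm_num⟩
  obtain ⟨P⟩ : Nonempty (Sylow 3 G) := Sylow.nonempty
  have hP3 : Nat.card P = 3 := by
    rw [P.card_eq_multiplicity, hcard, Nat.factorization_mul (by positivity) (by norm_num), Finsupp.add_apply,
      Nat.factorization_pow, Finsupp.smul_apply, Nat.prime_two.factorization, Nat.Prime.factorization_self (by norm_num)]
    simp
  haveI : IsCyclic P := isCyclic_of_prime_card hP3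
  have hne1 : Nat.card (Sylow 3 G) ≠ 1 := by
    intro h1
    haveI := (Nat.card_eq_one_iff_unique.mp h1).1
    have hn : (P : Subgroup G).Normal := P.normal_of_subsingleton
    have hc := central_of_coprime h2 (P : Subgroup G) hn 2 (by
      rw [IsCyclic.card_mulAut, hP3]; decide) (fun d _ hd2 hodd => by
        rcases (Nat.dvd_prime Nat.prime_two).mp hd2 with h | h
        · exact h
        · exact absurd (h ▸ dvd_rfl) hodd)
    haveI := hn
    refine h2 (two_of_surjective (QuotientGroup.mk' (P : Subgroup G)) (QuotientGroup.mk'_surjective _) ?_ ?_)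
    · refine IsPGroup.of_card (n := k) ?_
      have := (P : Subgroup G).card_mul_index
      rw [hP3, hcard] at this
      rw [← Subgroup.index_eq_card]; omega
    · have := (P : Subgroup G).card_mul_index
      rw [hP3, hcard] at this
      rw [← Subgroup.index_eq_card]
      have : 2 ^ 3 ≤ 2 ^ k := Nat.pow_le_pow_right two_pos (by omega)
      omega
  have hdvd : Nat.card (Sylow 3 G) ∣ 2 ^ k := by
    have h1 := Sylow.card_dvd_index P
    have := (P : Subgroup G).card_mul_index
    rw [hP3, hcard] at this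
    rwa [show (P : Subgroup G).index = 2 ^ k by omega] at h1
  have hmod := card_sylow_modEq_one 3 G
  have hn16 : Nat.card (Sylow 3 G) ≠ 16 := by
    intro h16
    have h1 := P.card_eq_index_normalizer
    have hN := (Subgroup.normalizer ((P : Subgroup G) : Set G)).card_mul_index
    have hidx : (Subgroup.normalizer ((P : Subgroup G) : Set G)).index = 16 := by rw [← h16]; exact h1.symm
    rw [hidx, hcard] at hN
    have hzN : z ∈ Subgroup.normalizer ((P : Subgroup G) : Set G) :=
      Subgroup.centralizer_le_normalizer _ (Subgroup.mem_centralizer_iff.mpr fun x _ => (uniqueInv_central hz x).eq)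
    have := orderOf_dvd_natCard (⟨z, hzN⟩ : Subgroup.normalizer ((P : Subgroup G) : Set G))
    rw [← Subgroup.orderOf_coe, hz.1] at this
    have e : Nat.card (Subgroup.normalizer ((P : Subgroup G) : Set G)) * 16 = 2 ^ k * 3 := hN
    obtain ⟨c, hc⟩ := this
    rw [hc] at e
    rcases hk with rfl | rfl
    · omega
    · omega
  have hn4 : Nat.card (Sylow 3 G) = 4 := by
    obtain ⟨j, hj, hje⟩ := (Nat.dvd_prime_pow Nat.prime_two).mp hdvd
    rw [hje] at hmod hne1 hn16 ⊢
    have hj4 : j ≤ 4 := by omega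
    unfold Nat.ModEq at hmod
    interval_cases j <;> simp_all
  haveI := Fintype.ofFinite (Sylow 3 G)
  let e : Sylow 3 G ≃ Fin 4 := Fintype.equivFinOfCardEq (by rw [← Nat.card_eq_fintype_card, hn4])
  let ψ : G →* Equiv.Perm (Fin 4) := e.permCongrHom.toMonoidHom.comp (MulAction.toPermHom G (Sylow 3 G))
  have hsign : ∀ g, Equiv.Perm.sign (ψ g) = 1 := by
    intro g
    by_contra hne
    refine h2 (two_of_even (Equiv.Perm.sign.comp ψ) (fun a _ b _ => Commute.all a b) ?_)
    have htop : (Equiv.Perm.sign.comp ψ).range = ⊤ := by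
      refine (Subgroup.eq_top_iff' _).mpr fun x => ?_
      rcases Int.units_eq_one_or x with rfl | rfl
      · exact one_mem _
      · exact ⟨g, (Int.units_eq_one_or _).resolve_left hne⟩
    rw [htop, Subgroup.card_top]
    simp
  have hle : ψ.range ≤ alternatingGroup (Fin 4) := by
    rintro _ ⟨g, rfl⟩; exact Equiv.Perm.mem_alternatingGroup.mpr (hsign g)
  have htrans : 4 ∣ Nat.card ψ.range := by
    haveI : MulAction.IsPretransitive ψ.range (Fin 4) := ⟨fun x y => by
      obtain ⟨g, hg⟩ := MulAction.exists_smul_eq G (e.symm x) (e.symm y)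
      refine ⟨⟨ψ g, g, rfl⟩, ?_⟩
      show e (g • e.symm x) = y
      rw [hg, Equiv.apply_symm_apply]⟩
    have := Subgroup.index_dvd_card (MulAction.stabilizer ψ.range (0 : Fin 4))
    rwa [MulAction.index_stabilizer, MulAction.orbit_eq_univ, Set.ncard_univ, Nat.card_fin] at this
  -- `a` moves something
  have ha1 : ψ a ≠ 1 := by
    intro h
    have hfix : ∀ Q : Sylow 3 G, a • Q = Q := fun Q => by
      have := Equiv.ext_iff.mp h (e Q)
      exact e.injective (by simpa [ψ] using this)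
    have haQ : ∀ Q : Sylow 3 G, (Q : Subgroup G) = Subgroup.zpowers a := by
      intro Q
      have hN : a ∈ Subgroup.normalizer ((Q : Subgroup G) : Set G) := Sylow.smul_eq_iff_mem_normalizer.mp (hfix Q)
      have hap : IsPGroup 3 (Subgroup.zpowers a) := IsPGroup.of_card (n := 1) (by rw [Nat.card_zpowers, ha, pow_one])
      have hsup : IsPGroup 3 ((Q : Subgroup G) ⊔ Subgroup.zpowers a : Subgroup G) :=
        IsPGroup.to_sup_of_normal_left' Q.isPGroup' hap (Subgroup.zpowers_le.mpr hN)
      have hge : Subgroup.zpowers a ≤ (Q : Subgroup G) := by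
        have := Q.is_maximal' hsup le_sup_left
        exact le_sup_right.trans this.le
      have hQc : Nat.card (Q : Subgroup G) = 3 := by
        rw [Q.card_eq_multiplicity, ← P.card_eq_multiplicity]; exact hP3
      exact (Subgroup.eq_of_le_of_card_ge hge (by rw [Nat.card_zpowers, ha, hQc])).symm
    have : Subsingleton (Sylow 3 G) := ⟨fun Q Q' => Sylow.ext ((haQ Q).trans (haQ Q').symm)⟩
    have := Finite.card_le_one_iff_subsingleton.mpr this
    omega
  refine ⟨ψ, Subgroup.eq_of_le_of_card_ge hle ?_, ha1⟩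
  have h3 : 3 ∣ Nat.card ψ.range := by
    have h1 : orderOf (ψ a) = 3 := orderOf_eq_prime (by rw [← map_pow, ← ha, pow_orderOf_eq_one, map_one]) ha1
    have := orderOf_dvd_natCard (⟨ψ a, a, rfl⟩ : ψ.range)
    rwa [← Subgroup.orderOf_coe, h1] at this
  have h12 : 12 ∣ Nat.card ψ.range := Nat.Coprime.mul_dvd_of_dvd_of_dvd (by norm_num : Nat.Coprime 4 3) htrans h3
  rw [show Nat.card (alternatingGroup (Fin 4)) = 12 by rw [nat_card_alternatingGroup, Nat.card_fin]; rfl]
  exact Nat.le_of_dvd Nat.card_pos h12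

/-- order 48 -/
theorem order_fortyeight (h2 : ¬ Two G) (hcard : Nat.card G = 48) {z : G} (hz : UniqueInv G z) :
    ∃ K : Subgroup G, K.Normal ∧ Nat.card K = 4 ∧ ∀ a ∈ K, ∀ g : G, Commute g a := by
  haveI : Fact (Nat.Prime 3) := ⟨by norm_num⟩
  obtain ⟨a, ha⟩ := exists_prime_orderOf_dvd_card' (G := G) 3 (by rw [hcard]; norm_num)
  obtain ⟨φ, hφ, -⟩ := sylow_three_data h2 (Or.inr rfl) (by rw [hcard]; norm_num) hz a ha
  have h12 : Nat.card φ.range = 12 := by rw [hφ, nat_card_alternatingGroup, Nat.card_fin]; rfl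
  have h4 : Nat.card φ.ker = 4 := by
    have := Subgroup.card_mul_index φ.ker
    rw [Subgroup.index_ker, h12, hcard] at this
    omega
  haveI : IsCyclic φ.ker := by
    by_contra hnc
    haveI : Fact (Nat.Prime 2) := ⟨Nat.prime_two⟩
    have hexp : ∀ x : φ.ker, x ^ 2 = 1 := fun x => by
      obtain ⟨j, hj, hje⟩ := (Nat.dvd_prime_pow Nat.prime_two).mp
        (show orderOf x ∣ 2 ^ 2 by have := orderOf_dvd_natCard x; rwa [h4] at this)
      interval_cases j
      · rw [pow_zero, orderOf_eq_one_iff] at hje; rw [hje, one_pow]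
      · rw [← orderOf_dvd_iff_pow_eq_one, hje]; norm_num
      · exact absurd (isCyclic_of_orderOf_eq_card x (by rw [hje, h4]; norm_num)) hnc
    have hsub : ∀ x : φ.ker, (x : G) = 1 ∨ (x : G) = z := fun x => hz.2 _ (by
      simpa using congrArg Subtype.val (hexp x))
    have hle : Nat.card φ.ker ≤ Nat.card ({1, z} : Set G) := Nat.card_le_card_of_injective
      (fun x => (⟨(x : G), by rcases hsub x with h | h <;> simp [h]⟩ : ({1, z} : Set G)))
      (fun x y h => Subtype.ext (congrArg (fun w : ({1, z} : Set G) => (w : G)) h))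
    rw [h4, Nat.card_coe_set_eq] at hle
    have := Set.ncard_insert_le 1 ({z} : Set G)
    rw [Set.ncard_singleton] at this
    omega
  refine ⟨φ.ker, inferInstance, h4, central_of_coprime h2 φ.ker inferInstance 2 ?_ ?_⟩
  · rw [IsCyclic.card_mulAut, h4]; decide
  · intro d _ hd2 hodd
    rcases (Nat.dvd_prime Nat.prime_two).mp hd2 with h | h
    · exact h
    · exact absurd (h ▸ dvd_rfl) hodd

/-- order 24 -/
theorem order_twentyfour (h2 : ¬ Two G) (hcard : Nat.card G = 24) {z : G} (hz : UniqueInv G z) :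
    Nonempty (G ≃* Matrix.SpecialLinearGroup (Fin 2) (ZMod 3)) := by
  classical
  haveI : Fact (Nat.Prime 3) := ⟨by norm_num⟩
  obtain ⟨a, ha⟩ := exists_prime_orderOf_dvd_card' (G := G) 3 (by rw [hcard]; norm_num)
  obtain ⟨φ, hφ, ha1⟩ := sylow_three_data h2 (Or.inl rfl) (by rw [hcard]; norm_num) hz a ha
  have hzc := uniqueInv_central hz
  have hzz : z * z = 1 := by rw [← pow_two, ← hz.1, pow_orderOf_eq_one]
  have h12 : Nat.card φ.range = 12 := by rw [hφ, nat_card_alternatingGroup, Nat.card_fin]; rfl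
  have h2k : Nat.card φ.ker = 2 := by
    have := Subgroup.card_mul_index φ.ker
    rw [Subgroup.index_ker, h12, hcard] at this
    omega
  have hker : ∀ g, φ g = 1 → g = 1 ∨ g = z := fun g hg => hz.2 g (by
    have := congrArg Subtype.val (pow_card_eq_one' (x := (⟨g, hg⟩ : φ.ker)))
    rw [h2k] at this; simpa using this)
  have hφz : φ z = 1 := by
    haveI : Fact (Nat.Prime 2) := ⟨Nat.prime_two⟩
    obtain ⟨u, hu⟩ := exists_prime_orderOf_dvd_card' (G := φ.ker) 2 (by rw [h2k])
    rcases hker u u.2 with h | h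
    · have h' : orderOf (u : G) = 2 := by rw [Subgroup.orderOf_coe, hu]
      rw [h, orderOf_one] at h'
      omega
    · rw [← h]; exact u.2
  have key : ∀ α : Equiv.Perm (Fin 4), α ^ 3 = 1 → α ≠ 1 → ∃ x : Equiv.Perm (Fin 4), Equiv.Perm.sign x = 1 ∧
      x ^ 2 = 1 ∧ x ≠ 1 ∧ α * x * α⁻¹ ≠ x ∧ x * (α * x * α⁻¹) = (α * x * α⁻¹) * x ∧
      α * (α * x * α⁻¹) * α⁻¹ = x * (α * x * α⁻¹) := by decide +kernel
  obtain ⟨x, hxs, hx2, hx1, hne, hcm, hrot⟩ :=
    key (φ a) (by rw [← map_pow, ← ha, pow_orderOf_eq_one, map_one]) ha1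
  obtain ⟨i₀, hi₀⟩ : x ∈ φ.range := hφ ▸ Equiv.Perm.mem_alternatingGroup.mpr hxs
  have hsq : ∀ g, φ g ≠ 1 → φ g ^ 2 = 1 → g * g = z := by
    intro g hg hg2
    rcases hker (g * g) (by rw [map_mul, ← pow_two, hg2]) with h | h
    · rcases hz.2 g (by rw [pow_two]; exact h) with h' | h'
      · exact absurd (by rw [h', map_one]) hg
      · exact absurd (by rw [h', hφz]) hg
    · exact h
  obtain ⟨j₀, hj₀⟩ : ∃ g, g = a * i₀ * a⁻¹ := ⟨_, rfl⟩
  have hφj : φ j₀ = φ a * x * (φ a)⁻¹ := by rw [hj₀, map_mul, map_mul, map_inv, hi₀]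
  obtain ⟨e, he, hrot'⟩ : ∃ e, (e = 1 ∨ e = z) ∧ a * j₀ * a⁻¹ = e * (i₀ * j₀) := by
    refine ⟨(a * j₀ * a⁻¹) * (i₀ * j₀)⁻¹, hker _ ?_, by rw [inv_mul_cancel_right]⟩
    rw [map_mul, map_mul, map_mul, map_inv, map_inv, map_mul, hφj, hi₀, hrot, mul_inv_cancel]
  have hee : e * e = 1 := by rcases he with rfl | rfl <;> simp [hzz]
  have hec : ∀ g, Commute g e := fun g => by rcases he with rfl | rfl; exacts [Commute.one_right g, hzc g]
  have hφe : φ e = 1 := by rcases he with rfl | rfl; exacts [map_one φ, hφz]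
  obtain ⟨i, hi⟩ : ∃ g, g = i₀ * e := ⟨_, rfl⟩
  obtain ⟨j, hj⟩ : ∃ g, g = a * i * a⁻¹ := ⟨_, rfl⟩
  have hji : j = j₀ * e := by
    rw [hj, hi, hj₀]
    rw [show a * (i₀ * e) * a⁻¹ = a * i₀ * (e * a⁻¹) by group, ← (hec a⁻¹).eq]; group
  have hφi : φ i = x := by rw [hi, map_mul, hφe, mul_one, hi₀]
  have hφj' : φ j = φ a * x * (φ a)⁻¹ := by rw [hji, map_mul, hφe, mul_one, hφj]
  have hii : i * i = z := hsq i (hφi ▸ hx1) (hφi ▸ hx2)
  have hjj : j * j = z := hsq j
    (by rw [hφj']; intro h; exact hx1 (by rwa [mul_inv_eq_one, mul_eq_left] at h))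
    (by rw [hφj', conj_pow, hx2, mul_one, mul_inv_cancel])
  have hanti : j * i = i⁻¹ * j := by
    have hcase : (i * j) * (j * i)⁻¹ = 1 ∨ (i * j) * (j * i)⁻¹ = z := hker _ (by
      rw [map_mul, map_inv, map_mul, map_mul, hφi, hφj', hcm, mul_inv_cancel])
    rcases hcase with h | h
    · rw [mul_inv_eq_one] at h
      exfalso
      have h4 : (i * j) * (i * j) = 1 := by
        calc (i * j) * (i * j) = i * (j * i) * j := by group
          _ = (i * i) * (j * j) := by rw [← h]; group
          _ = 1 := by rw [hii, hjj, hzz]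
      rcases hz.2 (i * j) (by rw [pow_two]; exact h4) with h5 | h5
      all_goals
        have h6 := congrArg φ h5
        rw [map_mul, hφi, hφj'] at h6
        simp only [map_one, hφz] at h6
        refine hne ?_
        rw [show φ a * x * (φ a)⁻¹ = x⁻¹ from (eq_inv_of_mul_eq_one_right h6)]
        exact inv_eq_of_mul_eq_one_right (by rw [← pow_two]; exact hx2)
    · have hzi : i⁻¹ = i * z := inv_eq_of_mul_eq_one_right (by rw [← mul_assoc, hii, hzz])
      have hz' : z⁻¹ = z := inv_eq_of_mul_eq_one_right hzz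
      rw [hzi]
      calc j * i = (i * j * (j * i)⁻¹)⁻¹ * (i * j) := by group
        _ = z * (i * j) := by rw [h, hz']
        _ = i * z * j := by rw [← mul_assoc, ← (hzc i).eq]
  have hrel : Transfer.SL23.Rel i j a :=
    ⟨by rw [show 4 = 2 * 2 from rfl, pow_mul, pow_two i, hii, pow_two, hzz], by rw [hjj, hii], hanti,
      by rw [← ha, pow_orderOf_eq_one], hj.symm, by
      rw [hji, show a * (j₀ * e) * a⁻¹ = a * j₀ * (e * a⁻¹) by group, ← (hec a⁻¹).eq,
        show a * j₀ * (a⁻¹ * e) = (a * j₀ * a⁻¹) * e by group, hrot']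
      rw [hi]
      calc e * (i₀ * j₀) * e = i₀ * j₀ * (e * e) := by rw [← (hec (i₀ * j₀)).eq]; group
        _ = i₀ * (e * e) * j₀ := by rw [hee]; group
        _ = i₀ * e * (e * j₀) := by group
        _ = _ := by rw [(hec j₀).eq]⟩
  -- the normal forms exhaust the group
  have hqa : ∀ (s : Fin 4) (t : Fin 2) (u : Fin 3), Transfer.SL23.ev i j a (s, t, u) = 1 →
      x ^ s.val * (φ a * x * (φ a)⁻¹) ^ t.val * φ a ^ u.val = 1 := by
    intro s t u h
    have := congrArg φ h
    simpa [Transfer.SL23.ev, hφi, hφj'] using this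
  have key2 : ∀ α : Equiv.Perm (Fin 4), α ^ 3 = 1 → ∀ x : Equiv.Perm (Fin 4), x ^ 2 = 1 → x ≠ 1 → α * x * α⁻¹ ≠ x →
      x * (α * x * α⁻¹) = (α * x * α⁻¹) * x →
      ∀ (s : Fin 4) (t : Fin 2) (u : Fin 3), x ^ s.val * (α * x * α⁻¹) ^ t.val * α ^ u.val = 1 →
        (s = 0 ∨ s = 2) ∧ t = 0 ∧ u = 0 := by decide +kernel
  have h1 : ∀ w : Transfer.SL23.Word, Transfer.SL23.ev i j a w = 1 → w = (0, 0, 0) := by
    rintro ⟨s, t, u⟩ h
    obtain ⟨hs, rfl, rfl⟩ := key2 (φ a) (by rw [← map_pow, ← ha, pow_orderOf_eq_one, map_one]) x hx2 hx1 hne hcm s t u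
      (hqa s t u h)
    rcases hs with rfl | rfl
    · rfl
    · exfalso
      have h' : i ^ 2 = 1 := by simpa [Transfer.SL23.ev] using h
      rw [pow_two, hii] at h'
      have := hz.1
      rw [h', orderOf_one] at this
      omega
  have hinj := hrel.injective h1
  have hbij : Function.Bijective (Transfer.SL23.ev i j a) := by
    haveI := Fintype.ofFinite G
    refine (Fintype.bijective_iff_injective_and_card _).mpr ⟨hinj, ?_⟩
    rw [← Nat.card_eq_fintype_card (α := G), hcard]
    rfl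
  refine Transfer.SL23.nonempty_equiv hrel h1 ((Subgroup.eq_top_iff' _).mpr fun g => ?_)
  obtain ⟨⟨s, t, u⟩, rfl⟩ := hbij.2 g
  refine Subgroup.mul_mem _ (Subgroup.mul_mem _ ?_ ?_) ?_ <;> refine Subgroup.pow_mem _ (Subgroup.subset_closure ?_) _ <;>
    simp

theorem normal_forms_card : Nat.card Transfer.SL23.Word = 24 := by simp [Transfer.SL23.Word]

/-- a normal subgroup of prime order `r`, central -/
theorem central_prime [Group.IsSolvable G] (h2 : ¬ Two G) {k r : ℕ} (hk : k ≤ 4) (hr : r = 5 ∧ k = 3 ∨ r = 11 ∧ k = 4)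
    (hcard : Nat.card G = 2 ^ k * 3 * r) :
    ∃ C : Subgroup G, C.Normal ∧ Nat.card C = r ∧ ∀ a ∈ C, ∀ g : G, Commute g a := by
  classical
  have hrp : r.Prime := by rcases hr with ⟨rfl, -⟩ | ⟨rfl, -⟩ <;> norm_num
  haveI := Fact.mk hrp
  by_cases hC : pCore r G = ⊥
  · exfalso
    obtain ⟨x, hx⟩ := exists_prime_orderOf_dvd_card' (G := G) r (by rw [hcard]; exact dvd_mul_left _ _)
    obtain ⟨s, hs, hmoved⟩ := exists_moved hC hx
    haveI := Fact.mk hs
    set P := pCore s G
    haveI hPn : P.Normal := Grp.pCore_isNormal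
    have hP : IsPGroup s P := Grp.pCore_isPGroup
    obtain ⟨w, hw⟩ := hP.exists_card_eq
    have hdvd : s ^ w ∣ 2 ^ k * 3 * r := hw ▸ hcard ▸ Subgroup.card_subgroup_dvd_card P
    refine hmoved fun t ht => ?_
    letI : MulAction (Subgroup.zpowers x) P :=
      { smul := fun g t => ⟨(g : G) * t * (g : G)⁻¹, hPn.conj_mem t t.2 g⟩
        one_smul := fun t => Subtype.ext (by show ((1 : Subgroup.zpowers x) : G) * t * _ = t; simp)
        mul_smul := fun g h t => Subtype.ext (by
          show ((g * h : Subgroup.zpowers x) : G) * t * ((g * h : Subgroup.zpowers x) : G)⁻¹ =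
            (g : G) * ((h : G) * t * (h : G)⁻¹) * (g : G)⁻¹
          simp [mul_assoc]) }
    have hxp : IsPGroup r (Subgroup.zpowers x) := IsPGroup.of_card (n := 1) (by rw [Nat.card_zpowers, hx, pow_one])
    have hmod := hxp.card_modEq_card_fixedPoints P
    let Fx : Subgroup P := (Subgroup.centralizer {x}).subgroupOf P
    have hfix : MulAction.fixedPoints (Subgroup.zpowers x) P = (Fx : Set P) := by
      ext t
      simp only [Fx, SetLike.mem_coe, Subgroup.mem_subgroupOf, Subgroup.mem_centralizer_singleton_iff]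
      refine ⟨fun h => ?_, fun h g => ?_⟩
      · have h1 : x * t * x⁻¹ = (t : G) := congrArg Subtype.val (h ⟨x, Subgroup.mem_zpowers x⟩)
        exact (mul_inv_eq_iff_eq_mul.mp h1).symm
      · obtain ⟨k, hk⟩ := g.2
        refine Subtype.ext ?_
        show (g : G) * t * (g : G)⁻¹ = t
        rw [← hk, ((Commute.zpow_right (h : Commute (t : G) x) k).symm).eq, mul_inv_cancel_right]
    rw [hfix] at hmod
    obtain ⟨i, hi, hiF⟩ := (Nat.dvd_prime_pow hs).mp (hw ▸ Subgroup.card_subgroup_dvd_card Fx)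
    have hFtop : Fx = ⊤ := by
      refine Subgroup.eq_top_of_card_eq Fx ?_
      rcases eq_or_ne s r with rfl | hsr
      · have hb : Nat.card P = 1 := Subgroup.card_eq_one.mpr hC
        have := Nat.dvd_one.mp (hb ▸ Subgroup.card_subgroup_dvd_card Fx)
        rw [this, hb]
      have hcop : Nat.Coprime (s ^ w) r := ((Nat.coprime_primes hs hrp).mpr hsr).pow_left w
      have hdvd' := hcop.dvd_of_dvd_mul_right hdvd
      have hmod' : s ^ w ≡ s ^ i [MOD r] := by rw [← hw, ← hiF]; exact hmod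
      rw [hiF, hw]
      rcases Nat.eq_zero_or_pos w with rfl | hw0
      · rw [show i = 0 by omega]
      rcases hs.dvd_mul.mp ((dvd_pow_self s hw0.ne').trans hdvd') with h | h
      · obtain rfl := (Nat.prime_dvd_prime_iff_eq hs Nat.prime_two).mp (hs.dvd_of_dvd_pow h)
        have hwk : w ≤ k := by
          have := Nat.Coprime.dvd_of_dvd_mul_right (Nat.Coprime.pow_left w (by norm_num : Nat.Coprime 2 3)) hdvd'
          exact (Nat.pow_dvd_pow_iff_le_right (by norm_num)).mp this
        have key5 : ∀ a ≤ 3, ∀ b ≤ 3, 2 ^ a % 5 = 2 ^ b % 5 → a = b := by decide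
        have key11 : ∀ a ≤ 4, ∀ b ≤ 4, 2 ^ a % 11 = 2 ^ b % 11 → a = b := by decide
        unfold Nat.ModEq at hmod'
        rcases hr with ⟨rfl, rfl⟩ | ⟨rfl, rfl⟩
        · rw [key5 w hwk i (by omega) hmod']
        · rw [key11 w hwk i (by omega) hmod']
      · obtain rfl := (Nat.prime_dvd_prime_iff_eq hs (by norm_num)).mp h
        have hw1 : w ≤ 1 := by
          have := Nat.Coprime.dvd_of_dvd_mul_left (Nat.Coprime.pow _ _ (by norm_num : Nat.Coprime 3 2)) hdvd'
          rw [← pow_one 3] at this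
          exact (Nat.pow_dvd_pow_iff_le_right (show 1 < 3 by norm_num)).mp this
        obtain rfl : w = 1 := by omega
        rcases (show i = 0 ∨ i = 1 by omega) with rfl | rfl
        · unfold Nat.ModEq at hmod'
          rcases hr with ⟨rfl, rfl⟩ | ⟨rfl, rfl⟩ <;> norm_num at hmod'
        · rfl
    have : (⟨t, ht⟩ : P) ∈ Fx := hFtop ▸ Subgroup.mem_top _
    exact Subgroup.mem_centralizer_singleton_iff.mp this
  · set C := pCore r G
    have hC' : IsPGroup r C := Grp.pCore_isPGroup
    have hn : C.Normal := Grp.pCore_isNormal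
    obtain ⟨w, hw⟩ := hC'.exists_card_eq
    have hw0 : w ≠ 0 := fun h0 => hC (Subgroup.card_eq_one.mp (by rw [hw, h0, pow_zero]))
    have hw1 : w = 1 := by
      by_contra hne
      have : r ^ 2 ∣ 2 ^ k * 3 * r := (pow_dvd_pow r (by omega)).trans (hw ▸ hcard ▸ Subgroup.card_subgroup_dvd_card C)
      rw [pow_two] at this
      have h23 := Nat.dvd_of_mul_dvd_mul_right hrp.pos this
      rcases hrp.dvd_mul.mp h23 with h | h
      · have := (Nat.prime_dvd_prime_iff_eq hrp Nat.prime_two).mp (hrp.dvd_of_dvd_pow h); omega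
      · have := (Nat.prime_dvd_prime_iff_eq hrp (by norm_num)).mp h; omega
    have hCc : Nat.card C = r := by rw [hw, hw1, pow_one]
    haveI : IsCyclic C := isCyclic_of_prime_card hCc
    refine ⟨C, hn, hCc, central_of_coprime h2 C hn (r - 1) (by rw [IsCyclic.card_mulAut, hCc, Nat.totient_prime hrp]) ?_⟩
    intro d hd hd' hodd
    rcases hr with ⟨rfl, rfl⟩ | ⟨rfl, rfl⟩
    · norm_num at hd'
      have := Nat.le_of_dvd (by norm_num) hd'
      interval_cases d <;> omega
    · norm_num at hd'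
      have hd11 : d ∣ 5 := by
        have h10 : d ∣ 2 * 5 := hd'
        exact (Nat.Coprime.dvd_of_dvd_mul_left ((Nat.prime_two.coprime_iff_not_dvd.mpr hodd).symm) h10)
      rcases (Nat.dvd_prime (by norm_num)).mp hd11 with h | h
      · exact h
      · exfalso
        rw [hcard, h] at hd
        subst_vars
        norm_num at hd

/-- complement of a central prime-order subgroup -/
theorem complement {C : Subgroup G} (hn : C.Normal) {r m : ℕ} (hC : Nat.card C = r) (hcard : Nat.card G = m * r)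
    (hcop : r.Coprime m) (hc : ∀ a ∈ C, ∀ g : G, Commute g a) (h2 : ¬ Two G) {z : G} (hz : UniqueInv G z)
    (hodd : Odd r) :
    ∃ H : Subgroup G, Nat.card H = m ∧ ¬ Two H ∧ (∃ z' : H, UniqueInv H z') ∧ Nonempty (G ≃* C × H) := by
  haveI := hn
  have hidx : C.index = m := by
    have := C.card_mul_index
    rw [hC, hcard, mul_comm m r] at this
    exact Nat.eq_of_mul_eq_mul_left (hC ▸ Nat.card_pos) this
  obtain ⟨H, hH⟩ := Subgroup.exists_right_complement'_of_coprime (N := C) (by rw [hC, hidx]; exact hcop)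
  have hHc : Nat.card H = m := by
    have := hH.card_mul
    rw [hC, hcard, mul_comm m r] at this
    exact Nat.eq_of_mul_eq_mul_left (hC ▸ Nat.card_pos) this
  let f : C × H →* G :=
    { toFun := fun p => (p.1 : G) * p.2
      map_one' := by simp
      map_mul' := fun p p' => by
        show ((p.1 * p'.1 : C) : G) * ((p.2 * p'.2 : H) : G) = _
        rw [Subgroup.coe_mul, Subgroup.coe_mul, mul_assoc, ← mul_assoc (p'.1 : G), ← (hc _ p'.1.2 (p.2 : G)).eq]
        group }
  let e : C × H ≃* G := MulEquiv.ofBijective f hH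
  refine ⟨H, hHc, fun ⟨N, hN, hN2⟩ => h2 ?_, ?_, ⟨e.symm⟩⟩
  · refine ⟨(N.comap ((MonoidHom.snd C H).comp e.symm.toMonoidHom)), inferInstance, ?_⟩
    rw [Subgroup.index_comap_of_surjective N (Prod.snd_surjective.comp e.symm.surjective), hN2]
  · have h2m : 2 ∣ m := by
      have h1 : 2 ∣ Nat.card G := hz.1 ▸ orderOf_dvd_natCard z
      rw [hcard] at h1
      exact (Nat.prime_two.dvd_mul.mp h1).resolve_right (Nat.two_dvd_ne_zero.mpr (Nat.odd_iff.mp hodd))
    haveI : Fact (Nat.Prime 2) := ⟨Nat.prime_two⟩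
    obtain ⟨u, hu⟩ := exists_prime_orderOf_dvd_card' (G := H) 2 (hHc ▸ h2m)
    refine ⟨u, hu, fun g hg => ?_⟩
    have huz : (u : G) = z := by
      rcases hz.2 u (by rw [← hu, ← Subgroup.orderOf_coe, pow_orderOf_eq_one]) with h | h
      · have := hu; rw [← Subgroup.orderOf_coe, h, orderOf_one] at this; omega
      · exact h
    rcases hz.2 g (by simpa using congrArg Subtype.val hg) with h | h
    · exact Or.inl (Subtype.ext h)
    · exact Or.inr (Subtype.ext (h.trans huz.symm))

end Cfsg.Agent.Recog.RegularLinear
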