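import Mathlib

set_option autoImplicit false

namespace Cfsg.Agent.AffineClosure

/-- A map agreeing on every triple with some affine map is affine (odd characteristic). -/
theorem affine_of_triples (p : ℕ) [Fact p.Prime] (hp : p ≠ 2) {V : Type*} [AddCommGroup V] [Module (ZMod p) V]
    (σ : Equiv.Perm V)
    (hσ : ∀ x y z : V, ∃ (A : V ≃ₗ[ZMod p] V) (b : V), σ x = A x + b ∧ σ y = A y + b ∧ σ z = A z + b) :
    ∃ (A : V ≃ₗ[ZMod p] V) (b : V), ∀ x, σ x = A x + b := by
  have hline : ∀ (x y : V) (c : ZMod p), σ (x + c • (y - x)) = σ x + c • (σ y - σ x) := by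
    intro x y c
    obtain ⟨A, b, h1, h2, h3⟩ := hσ x y (x + c • (y - x))
    rw [h1, h2, h3, map_add, map_smul, map_sub, add_sub_add_right_eq_sub]
    abel
  have h2 : (2 : ZMod p) ≠ 0 := by
    intro h
    have h' : ((2 : ℕ) : ZMod p) = 0 := by exact_mod_cast h
    rw [ZMod.natCast_eq_zero_iff] at h'
    exact hp ((Nat.prime_dvd_prime_iff_eq Fact.out Nat.prime_two).mp h')
  let f : V → V := fun x => σ x - σ 0
  have hsmul : ∀ (c : ZMod p) x, f (c • x) = c • f x := by
    intro c x
    have := hline 0 x c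
    simp only [sub_zero, zero_add] at this
    simp only [f, this, add_sub_cancel_left]
  have hadd : ∀ x y, f (x + y) = f x + f y := by
    intro x y
    have h := hline x y (2⁻¹ : ZMod p)
    have e : x + y = (2 : ZMod p) • (x + (2⁻¹ : ZMod p) • (y - x)) := by
      rw [smul_add, smul_smul, mul_inv_cancel₀ h2, one_smul, two_smul]; abel
    rw [e, hsmul]
    simp only [f, h]
    rw [smul_sub, smul_add, smul_smul, mul_inv_cancel₀ h2, one_smul, two_smul, two_smul]
    abel
  let L : V →ₗ[ZMod p] V := { toFun := f, map_add' := hadd, map_smul' := hsmul }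
  have hbij : Function.Bijective L := (Equiv.subRight (σ 0)).bijective.comp σ.bijective
  exact ⟨LinearEquiv.ofBijective L hbij, σ 0, fun x => (sub_add_cancel (σ x) (σ 0)).symm⟩

end Cfsg.Agent.AffineClosure
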