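import Mathlib
import Cfsg.Agent.Lib.Recog.SpectrumA6

/-! Affine groups `F₄^(2×k) ⋊ SL₂(F₄)` have spectrum {1,2,3,4,5}. -/

set_option autoImplicit false

open Matrix

namespace Cfsg.Agent.Recog

variable {F : Type*} [Field F] [Fintype F] {k : Type*} [Fintype k] [DecidableEq k]

/-- block form of the affine matrices -/
def IsAff (M : Matrix (Fin 2 ⊕ k) (Fin 2 ⊕ k) F) : Prop :=
  ∃ (g : Matrix (Fin 2) (Fin 2) F) (v : Matrix (Fin 2) k F), g.det = 1 ∧ M = fromBlocks g v 0 1

theorem isAff_mul {M N : Matrix (Fin 2 ⊕ k) (Fin 2 ⊕ k) F} (hM : IsAff M) (hN : IsAff N) : IsAff (M * N) := by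
  obtain ⟨g, v, hg, rfl⟩ := hM
  obtain ⟨h, w, hh, rfl⟩ := hN
  exact ⟨g * h, g * w + v, by rw [det_mul, hg, hh, one_mul], by simp [fromBlocks_multiply]⟩

theorem isAff_one : IsAff (1 : Matrix (Fin 2 ⊕ k) (Fin 2 ⊕ k) F) :=
  ⟨1, 0, det_one, fromBlocks_one.symm⟩

theorem isAff_pow_cases (hF : Fintype.card F = 4) {M : Matrix (Fin 2 ⊕ k) (Fin 2 ⊕ k) F} (hM : IsAff M) :
    M ^ 4 = 1 ∨ M ^ 3 = 1 ∨ M ^ 5 = 1 := by
  obtain ⟨g, v, hg, rfl⟩ := hM
  haveI := charTwo_of_card_four hF
  have h2 : (2 : F) = 0 := by exact_mod_cast CharP.cast_eq_zero F 2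
  refine pow_eq_one_of_char_poly hF _ (g.trace) ?_
  have hch : g * g + g.trace • g + 1 = 0 := by
    rw [det_fin_two] at hg
    ext i j
    fin_cases i <;> fin_cases j <;> simp [Matrix.mul_apply, Fin.sum_univ_two, trace_fin_two]
    · linear_combination -hg + (g 0 0 * g 0 0 + g 0 0 * g 1 1) * h2
    · linear_combination (g 0 0 * g 0 1 + g 0 1 * g 1 1) * h2
    · linear_combination (g 0 0 * g 1 0 + g 1 0 * g 1 1) * h2
    · linear_combination -hg + (g 1 1 * g 1 1 + g 0 0 * g 1 1) * h2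
  rw [pow_two, ← fromBlocks_one, fromBlocks_multiply, fromBlocks_smul, fromBlocks_add, fromBlocks_add, sub_eq_add_neg,
    fromBlocks_neg, fromBlocks_add, fromBlocks_multiply, ← fromBlocks_zero]
  simp only [Matrix.mul_zero, Matrix.zero_mul, add_zero, zero_add, Matrix.mul_one, Matrix.one_mul, smul_zero, hch,
    add_neg_cancel, neg_zero]

/-- the spectrum of the affine group, as soon as there is a translation column -/
theorem spectrum_aff (hF : Fintype.card F = 4) [Nonempty k] (H : Subgroup (SpecialLinearGroup (Fin 2 ⊕ k) F))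
    (hH : ∀ M, M ∈ H ↔ IsAff (M : Matrix (Fin 2 ⊕ k) (Fin 2 ⊕ k) F)) :
    Set.range (orderOf : H → ℕ) = {1, 2, 3, 4, 5} := by
  classical
  haveI := charTwo_of_card_four hF
  have h2 : (2 : F) = 0 := by exact_mod_cast CharP.cast_eq_zero F 2
  let φ : H →* Matrix (Fin 2 ⊕ k) (Fin 2 ⊕ k) F := { toFun := fun x => x.1.1, map_one' := rfl, map_mul' := fun _ _ => rfl }
  have hφ : Function.Injective φ := fun x y h => Subtype.ext (Subtype.ext h)
  have hcoe : ∀ (x : H) (n : ℕ), (x ^ n = 1 ↔ φ x ^ n = 1) := fun x n => by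
    rw [← map_pow, ← map_one φ, hφ.eq_iff]
  have mk : ∀ (g : Matrix (Fin 2) (Fin 2) F) (v : Matrix (Fin 2) k F), g.det = 1 →
      ∃ x : H, φ x = fromBlocks g v 0 1 := fun g v hg =>
    ⟨⟨⟨fromBlocks g v 0 1, by rw [det_fromBlocks_zero₂₁, hg, det_one, one_mul]⟩, (hH _).mpr ⟨g, v, hg, rfl⟩⟩, rfl⟩
  ext d
  constructor
  · rintro ⟨x, rfl⟩
    simp only [Set.mem_insert_iff, Set.mem_singleton_iff]
    rcases isAff_pow_cases hF ((hH _).mp x.2) with h | h | h <;>
      have hd := orderOf_dvd_of_pow_eq_one ((hcoe x _).mpr h) <;>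
      have hle := Nat.le_of_dvd (by norm_num) hd <;>
      have hpos := orderOf_pos x <;>
      omega
  · intro hd
    simp only [Set.mem_insert_iff, Set.mem_singleton_iff] at hd
    have hne : ∀ A : Matrix (Fin 2) (Fin 2) F, ∀ v : Matrix (Fin 2) k F, A ≠ 1 → fromBlocks A v 0 1 ≠ 1 := fun A v h h' =>
      h (by rw [← fromBlocks_one, fromBlocks_inj] at h'; exact h'.1)
    rcases hd with rfl | rfl | rfl | rfl | rfl
    · exact ⟨1, orderOf_one⟩
    · haveI : Fact (Nat.Prime 2) := ⟨Nat.prime_two⟩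
      obtain ⟨x, hx⟩ := mk !![1, 1; 0, 1] 0 (by simp)
      refine ⟨x, orderOf_eq_prime ((hcoe x 2).mpr ?_) (fun h => hne !![1, 1; 0, 1] 0 ?_ ?_)⟩
      · rw [hx, pow_two, fromBlocks_multiply, ← fromBlocks_one]
        congr 1 <;> simp [← Matrix.ext_iff, Fin.forall_fin_two, Matrix.one_fin_two, one_add_one_eq_two, h2, vecHead, vecTail]
      · intro h'; have := congrFun (congrFun h' 0) 1; simp at this
      · rw [← hx, h]; simp
    · haveI : Fact (Nat.Prime 3) := ⟨Nat.prime_three⟩
      obtain ⟨x, hx⟩ := mk !![1, 1; 1, 0] 0 (by simp [det_fin_two]; linear_combination -h2)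
      refine ⟨x, orderOf_eq_prime ((hcoe x 3).mpr ?_) (fun h => hne !![1, 1; 1, 0] 0 ?_ ?_)⟩
      · rw [hx, pow_three, fromBlocks_multiply, fromBlocks_multiply, ← fromBlocks_one]
        congr 1 <;> simp [← Matrix.ext_iff, Fin.forall_fin_two, Matrix.one_fin_two, one_add_one_eq_two, h2, vecHead, vecTail]
      · intro h'; have := congrFun (congrFun h' 0) 1; simp at this
      · rw [← hx, h]; simp
    · obtain ⟨i₀⟩ := ‹Nonempty k›
      obtain ⟨x, hx⟩ := mk !![1, 1; 0, 1] (Matrix.of fun i _ => ![0, 1] i) (by simp)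
      refine ⟨x, ?_⟩
      haveI : Fact (Nat.Prime 2) := ⟨Nat.prime_two⟩
      have hx2 : ¬ x ^ 2 = 1 := fun h => by
        have h' := (hcoe x 2).mp h
        rw [hx, pow_two, fromBlocks_multiply, ← fromBlocks_one, fromBlocks_inj] at h'
        have := congrFun (congrFun h'.2.1 0) i₀
        simp [Matrix.mul_apply, Fin.sum_univ_two, vecHead, vecTail] at this
      have hx4 : x ^ 4 = 1 := by
        rw [hcoe, hx, show (4 : ℕ) = 2 * 2 by norm_num, pow_mul, pow_two, pow_two, fromBlocks_multiply, fromBlocks_multiply,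
          ← fromBlocks_one]
        congr 1 <;> simp [← Matrix.ext_iff, Fin.forall_fin_two, Matrix.one_fin_two, Matrix.mul_apply, Fin.sum_univ_two,
          one_add_one_eq_two, h2, vecHead, vecTail]
      exact orderOf_eq_prime_pow (p := 2) (n := 1) (by simpa using hx2) hx4
    · haveI : Fact (Nat.Prime 5) := ⟨by norm_num⟩
      obtain ⟨t, ht0, ht1⟩ : ∃ t : F, t ≠ 0 ∧ t ≠ 1 := by
        by_contra h
        push Not at h
        have hsub : (Finset.univ : Finset F) ⊆ {0, 1} := fun t _ => by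
          by_cases ht : t = 0
          · simp [ht]
          · simp [h t ht]
        have := Finset.card_le_card hsub
        have := Finset.card_le_two (a := (0 : F)) (b := 1)
        rw [Finset.card_univ, hF] at *
        omega
      have ht4 : t ^ 4 = t := hF ▸ FiniteField.pow_card t
      have hq : t ^ 2 + t + 1 = 0 := by
        have h3 : (t - 1) * (t ^ 2 + t + 1) * t = 0 := by linear_combination ht4
        rcases mul_eq_zero.mp h3 with h4 | h4
        · exact (mul_eq_zero.mp h4).resolve_left (sub_ne_zero.mpr ht1)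
        · exact absurd h4 ht0
      obtain ⟨x, hx⟩ := mk !![t, 1; 1, 0] 0 (by simp [det_fin_two]; linear_combination -h2)
      refine ⟨x, orderOf_eq_prime ((hcoe x 5).mpr ?_) (fun h => hne !![t, 1; 1, 0] 0 ?_ ?_)⟩
      · rw [hx, show (5 : ℕ) = 4 + 1 by norm_num, pow_succ, show (4 : ℕ) = 2 * 2 by norm_num, pow_mul, pow_two,
          pow_two, fromBlocks_multiply, fromBlocks_multiply, fromBlocks_multiply, ← fromBlocks_one]
        congr 1 <;> simp [← Matrix.ext_iff, Fin.forall_fin_two, Matrix.one_fin_two] <;> refine ⟨⟨?_, ?_⟩, ?_, ?_⟩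
        · linear_combination (t ^ 3 - t ^ 2 + 4 * t - 3) * hq + (t + 1) * h2
        · linear_combination (t ^ 2 - t + 3) * hq + (-t - 1) * h2
        · linear_combination (t ^ 2 - t + 3) * hq + (-t - 1) * h2
        · linear_combination (t - 1) * hq + (t + 0) * h2
      · intro h'; have := congrFun (congrFun h' 0) 1; simp at this
      · rw [← hx, h]; simp

end Cfsg.Agent.Recog
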