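import Cfsg.Agent.Lib.Recog.TICube
import Cfsg.Agent.Lib.Block.Central

/-!
The virtual character argument: each of the three standard involutions lies in a proper normal
subgroup, and this forces the whole group to be the normalizer.
-/

namespace Cfsg.Agent.Recog.TICube

open scoped ComplexConjugate
open Cfsg Cfsg.Agent.Char

universe u

section

variable {G : Type u} [Group G] [Fintype G] {H T : Subgroup G}

theorem pow_six (σ : D) : σ ^ 6 = 1 := by
  have h : σ ^ Fintype.card D = 1 := pow_card_eq_one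
  rwa [Fintype.card_perm, Fintype.card_fin] at h

theorem fin3_ne : ∀ i : Fin 3, i + 1 ≠ i ∧ i + 2 ≠ i := by decide

theorem jF_split : ∀ i l : Fin 3, (if i = l then (1 : D) else tau) =
    (if i = l + 1 then 1 else tau) * (if i = l + 2 then 1 else tau) := by decide

theorem jF_third : ∀ q m i k : Fin 3, m ≠ i → m ≠ k → i ≠ k → (if q = m then (1 : D) else tau) =
    (if q = i then 1 else tau) * (if q = k then 1 else tau) := by decide

noncomputable def phi (e : H ≃* M) (l : Fin 3) : H → ℂ := fun h => F (proj e l h)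

theorem phi_gen (e : H ≃* M) (l : Fin 3) : IsGeneralizedCharacter H (phi e l) :=
  IsGenChar.comp (proj e l) isGenChar_F

theorem phi_supp (e : H ≃* M) (l : Fin 3) {h : H} (hh : phi e l h ≠ 0) :
    Equiv.Perm.sign (proj e l h) = 1 ∧ proj e l h ≠ 1 := by
  by_contra hc
  exact hh (by rw [phi, F, if_neg hc])

theorem Setup.supp_sq (S : Setup H T) (e : H ≃* M) (l : Fin 3) {h : H} (hh : phi e l h ≠ 0) :
    (h : G) ^ 2 ∈ T ∧ (h : G) ^ 2 ≠ 1 := by
  refine ⟨?_, fun h1 => ?_⟩
  · have := (S.mem_T_iff e (h ^ 2)).2 fun k => by rw [map_pow]; exact sq_even _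
    simpa using this
  · have h2 : h ^ 2 = 1 := Subtype.ext (by simpa using h1)
    have h3 := congrArg (proj e l) h2
    rw [map_pow, map_one] at h3
    exact sq_ne_one _ (phi_supp e l hh).1 (phi_supp e l hh).2 h3

theorem Setup.ind_eq (S : Setup H T) (e : H ≃* M) (l : Fin 3) {d : H} (hd : phi e l d ≠ 0) :
    indFun H (phi e l) d = phi e l d := by
  classical
  have hval : ∀ x : G, extendByZero H (phi e l) (x⁻¹ * d * x) =
      if x ∈ H then phi e l d else 0 := by
    intro x
    split_ifs with hx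
    · rw [extendByZero_of_mem _ (mul_mem (mul_mem (inv_mem hx) d.2) hx)]
      have h := IsGenChar.classFun (phi_gen e l) d (⟨x, hx⟩⁻¹)
      rw [inv_inv] at h
      exact h
    · by_cases hm : x⁻¹ * (d : G) * x ∈ H
      · rw [extendByZero_of_mem _ hm]
        by_contra hne
        obtain ⟨hT, h1⟩ := S.supp_sq e l hd
        have h2 := (S.supp_sq e l hne).1
        simp only at h2
        have h3 : x⁻¹ * (d : G) ^ 2 * x⁻¹⁻¹ ∈ T := by
          convert h2 using 1
          simp only [sq]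
          group
        exact hx (by simpa using inv_mem (S.ti hT h1 h3))
      · exact extendByZero_not_mem _ hm
  simp only [indFun, hval]
  rw [← Finset.sum_filter, Finset.sum_const, nsmul_eq_mul, ← Fintype.card_subtype,
    ← Nat.card_eq_fintype_card, ← mul_assoc,
    inv_mul_cancel₀ (Nat.cast_ne_zero.2 Nat.card_pos.ne'), one_mul]

theorem sum_proj [Fintype H] (hcard : Nat.card H = 108) (e : H ≃* M) (l : Fin 3) (f : D → ℂ) :
    ∑ h : H, f (proj e l h) = 18 * ∑ σ : D, f σ := by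
  classical
  have hr : ∀ σ : D, σ ∈ Set.range (proj e l) := fun σ => proj_surjective e l σ
  have hc : ∀ σ : D, (Finset.univ.filter fun h : H => proj e l h = σ).card = 18 := by
    intro σ
    have h1 : ∑ τ : D, (Finset.univ.filter fun h : H => proj e l h = τ).card = 108 := by
      rw [← hcard, Nat.card_eq_fintype_card, ← Finset.card_univ,
        Finset.card_eq_sum_card_fiberwise (f := proj e l) (t := Finset.univ) (by simp)]
    simp only [fun τ => MonoidHom.card_fiber_eq_of_mem_range (proj e l) (hr τ) (hr σ),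
      Finset.sum_const, Finset.card_univ, Fintype.card_perm, Fintype.card_fin,
      smul_eq_mul] at h1
    norm_num [Nat.factorial] at h1
    omega
  rw [← Finset.sum_fiberwise Finset.univ (proj e l), Finset.mul_sum]
  refine Finset.sum_congr rfl fun σ _ => ?_
  rw [Finset.sum_congr rfl (fun h hh => by rw [(Finset.mem_filter.1 hh).2]), Finset.sum_const, hc,
    nsmul_eq_mul]
  norm_num

theorem sum_F : ∑ σ : D, F σ = 6 ∧ ∑ σ : D, F σ * conj (F σ) = 18 := by
  have hc : (Finset.univ.filter fun σ : D => Equiv.Perm.sign σ = 1 ∧ σ ≠ 1).card = 2 := by decide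
  have h : ∀ σ : D, F σ * conj (F σ) = 3 * F σ := fun σ => by
    unfold F; split_ifs <;> simp [map_ofNat]
  have h1 : ∑ σ : D, F σ = 6 := by
    simp only [F, ← Finset.sum_filter, Finset.sum_const, hc, nsmul_eq_mul]
    norm_num
  refine ⟨h1, ?_⟩
  rw [Finset.sum_congr rfl fun σ _ => h σ, ← Finset.mul_sum, h1]
  norm_num

theorem Setup.ind_norm (S : Setup H T) (e : H ≃* M) (l : Fin 3) :
    classInner (indFun H (phi e l)) (indFun H (phi e l)) = 3 ∧
      classInner (indFun H (phi e l)) (fun _ => 1) = 1 := by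
  classical
  haveI := Fintype.ofFinite H
  constructor
  · rw [classInner_indFun H _ (indFun_classFun H _), classInner]
    have h : ∀ x : H, phi e l x * conj (indFun H (phi e l) x) =
        (fun σ => F σ * conj (F σ)) (proj e l x) := by
      intro x
      by_cases hx : phi e l x = 0
      · show _ = phi e l x * conj (phi e l x)
        rw [hx, zero_mul, zero_mul]
      · rw [S.ind_eq e l hx]; rfl
    rw [Finset.sum_congr rfl fun x _ => h x, sum_proj S.cardH e l (fun σ => F σ * conj (F σ)),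
      sum_F.2, S.cardH]
    norm_num
  · rw [classInner_indFun H _ (IsIrr.classFun isIrr_one), classInner]
    simp only [map_one, mul_one]
    rw [show ∑ x : H, phi e l x = ∑ x : H, F (proj e l x) from rfl, sum_proj S.cardH e l F,
      sum_F.1, S.cardH]
    norm_num

theorem Setup.ind_sq (S : Setup H T) (e : H ≃* M) (l : Fin 3) {g : G} (hg : g ^ 2 = 1) :
    indFun H (phi e l) g = 0 := by
  refine indFun_eq_zero_of_not_conj H _ fun x hx => ?_
  by_contra hne
  refine (S.supp_sq e l hne).2 ?_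
  show (x⁻¹ * g * x) ^ 2 = 1
  have h : (MulAut.conj x⁻¹) g ^ 2 = 1 := by rw [← map_pow, hg, map_one]
  simpa [MulAut.conj_apply] using h

/-- The products of conjugates of two standard involutions avoid the support. -/
theorem Setup.ind_prod (S : Setup H T) (e : H ≃* M) {l k : Fin 3} (hlk : k ≠ l) (a c : G) :
    indFun H (phi e l) (a * jE e l * a⁻¹ * (c * jE e k * c⁻¹)) = 0 := by
  refine indFun_eq_zero_of_not_conj H _ fun z hz => ?_
  by_contra hne
  obtain ⟨hT, h1⟩ := S.supp_sq e l hne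
  simp only at hT h1
  set x := (z⁻¹ * a) * jE e l * (z⁻¹ * a)⁻¹ with hxd
  set y := (z⁻¹ * c) * jE e k * (z⁻¹ * c)⁻¹ with hyd
  have hxy : z⁻¹ * (a * jE e l * a⁻¹ * (c * jE e k * c⁻¹)) * z = x * y := by
    rw [hxd, hyd]; group
  rw [hxy] at hT h1
  have hx2 : x * x = 1 := by
    have h : (MulAut.conj (z⁻¹ * a)) ((jE e l : G)) ^ 2 = 1 := by
      rw [← map_pow, show ((jE e l : G)) ^ 2 = 1 by simpa using congrArg Subtype.val (jE_sq e l),
        map_one]
    rw [MulAut.conj_apply, sq] at h; exact h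
  have hy2 : y * y = 1 := by
    have h : (MulAut.conj (z⁻¹ * c)) ((jE e k : G)) ^ 2 = 1 := by
      rw [← map_pow, show ((jE e k : G)) ^ 2 = 1 by simpa using congrArg Subtype.val (jE_sq e k),
        map_one]
    rw [MulAut.conj_apply, sq] at h; exact h
  have hxi : x⁻¹ = x := inv_eq_of_mul_eq_one_right hx2
  have hyi : y⁻¹ = y := inv_eq_of_mul_eq_one_right hy2
  have hxH : x ∈ H := by
    refine S.inv_mem_H hT h1 ?_
    calc x * (x * y) ^ 2 * x⁻¹ = (x * x) * (y * x * y) * x⁻¹ := by rw [sq]; group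
      _ = y * x * y * x := by rw [hx2, one_mul, hxi]
      _ = y⁻¹ * x⁻¹ * (y⁻¹ * x⁻¹) := by rw [hxi, hyi]; group
      _ = ((x * y) ^ 2)⁻¹ := by rw [sq]; group
  have hyH : y ∈ H := by
    have h := mul_mem (inv_mem hxH) (hxy ▸ hz)
    simpa using h
  have hne1 : ∀ {i : Fin 3} {g v : G}, v = g * jE e i * g⁻¹ → v ≠ 1 := by
    intro i g v hv h
    rw [hv, mul_inv_eq_one, mul_eq_left] at h
    have := (pat_jE e i).2 (i + 1) (fin3_ne i).1
    rw [show jE e i = 1 from Subtype.ext h, map_one, map_one] at this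
    exact absurd this (by decide)
  obtain ⟨i, hi⟩ := exists_pat e (h := ⟨x, hxH⟩) (fun h => hne1 hxd (congrArg Subtype.val h))
    (Subtype.ext (by simpa [sq] using hx2))
  obtain ⟨i', hi'⟩ := exists_pat e (h := ⟨y, hyH⟩) (fun h => hne1 hyd (congrArg Subtype.val h))
    (Subtype.ext (by simpa [sq] using hy2))
  have e1 := S.pat_eq e (pat_jE e l) hi hxd.symm
  have e2 := S.pat_eq e (pat_jE e k) hi' hyd.symm
  subst e1 e2
  have hs := (phi_supp e l hne).1
  have he : (⟨_, hz⟩ : H) = ⟨x, hxH⟩ * ⟨y, hyH⟩ := Subtype.ext hxy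
  rw [he, map_mul, hi.1, one_mul, hi'.2 l hlk.symm] at hs
  exact absurd hs (by decide)

theorem key_identity {X0 Xj Xk a Y0 Yj Yk b : ℂ} (hX : X0 ≠ 0) (hY : Y0 ≠ 0)
    (ha : a = 1 ∨ a = -1) (hb : b = 1 ∨ b = -1) (h0 : 1 + a * X0 + b * Y0 = 0)
    (hj : 1 + a * Xj + b * Yj = 0) (hk : 1 + a * Xk + b * Yk = 0)
    (hs : 1 + a * (Xj * Xk / X0) + b * (Yj * Yk / Y0) = 0) : Xj = X0 ∨ Xk = X0 := by
  have h : (X0 - Xj) * (X0 - Xk) = 0 := by
    rcases ha with rfl | rfl <;> rcases hb with rfl | rfl <;> field_simp at hs <;> grind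
  rcases mul_eq_zero.1 h with h1 | h1
  · exact Or.inl (sub_eq_zero.1 h1).symm
  · exact Or.inr (sub_eq_zero.1 h1).symm

/-- For each coordinate there is a proper normal subgroup containing the standard involution. -/
theorem Setup.exists_normal (S : Setup H T) (e : H ≃* M) (l : Fin 3) :
    ∃ N : Subgroup G, N.Normal ∧ N ≠ ⊤ ∧ (jE e l : G) ∈ N := by
  classical
  set Φ := indFun H (phi e l) with hΦ
  have hgen : IsGeneralizedCharacter G Φ := IsGenChar.ind H (phi_gen e l)
  obtain ⟨a, ha, hdec⟩ := IsGenChar.exists_decomp hgen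
  obtain ⟨hn, hone⟩ := S.ind_norm e l
  let one : IrrCharacter G := Block.trivialIrr G
  have ha1 : a one = 1 := by
    have h := ha one
    rw [show (one : G → ℂ) = fun _ => 1 from rfl, hΦ, hone] at h
    exact_mod_cast h.symm
  have hsq : ∑ φ : IrrCharacter G, a φ ^ 2 = 3 := by
    rw [← hΦ, hdec, IsGenChar.classInner_self_int] at hn
    exact_mod_cast hn
  rw [← Finset.add_sum_erase _ _ (Finset.mem_univ one), ha1] at hsq
  have hs2 : ∑ φ ∈ Finset.univ.erase one, a φ ^ 2 = 2 := by linarith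
  have hle : ∀ φ ∈ Finset.univ.erase one, a φ = 0 ∨ a φ = 1 ∨ a φ = -1 := by
    intro φ hφ
    have := Finset.single_le_sum (f := fun x => a x ^ 2) (fun x _ => sq_nonneg _) hφ
    rw [hs2] at this
    have h5 : -1 ≤ a φ ∧ a φ ≤ 1 := ⟨by nlinarith, by nlinarith⟩
    omega
  have hcard : ((Finset.univ.erase one).filter fun φ => a φ ≠ 0).card = 2 := by
    have h : ∑ φ ∈ Finset.univ.erase one, a φ ^ 2 =
        ∑ φ ∈ Finset.univ.erase one, (if a φ ≠ 0 then (1 : ℤ) else 0) :=
      Finset.sum_congr rfl fun φ hφ => by rcases hle φ hφ with h | h | h <;> simp [h]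
    rw [h, Finset.sum_boole] at hs2
    exact_mod_cast hs2
  obtain ⟨X, Y, hXY, hset⟩ := Finset.card_eq_two.mp hcard
  have hX : X ∈ (Finset.univ.erase one).filter fun φ => a φ ≠ 0 := hset ▸ (by simp)
  have hY : Y ∈ (Finset.univ.erase one).filter fun φ => a φ ≠ 0 := hset ▸ (by simp)
  rw [Finset.mem_filter] at hX hY
  have hX1 : X ≠ one := Finset.ne_of_mem_erase hX.1
  have hY1 : Y ≠ one := Finset.ne_of_mem_erase hY.1
  have hsum : ∀ (v : IrrCharacter G → ℂ), v one = 1 →
      ∑ φ : IrrCharacter G, (a φ : ℂ) * v φ = 1 + (a X : ℂ) * v X + (a Y : ℂ) * v Y := by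
    intro v hv
    rw [← Finset.add_sum_erase _ _ (Finset.mem_univ one), ha1, hv,
      ← Finset.sum_filter_of_ne (p := fun φ => a φ ≠ 0) (fun φ _ h hz => h (by simp [hz])),
      hset, Finset.sum_pair hXY]
    push_cast
    ring
  have happ : ∀ g : G, Φ g = 1 + (a X : ℂ) * (X : G → ℂ) g + (a Y : ℂ) * (Y : G → ℂ) g := by
    intro g
    rw [← hsum (fun φ => (φ : G → ℂ) g) rfl]
    conv_lhs => rw [hdec]
    rw [Finset.sum_apply]
    rfl
  have hz : ∀ g : G, g ^ 2 = 1 → 1 + (a X : ℂ) * (X : G → ℂ) g + (a Y : ℂ) * (Y : G → ℂ) g = 0 :=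
    fun g hg => by rw [← happ]; exact S.ind_sq e l hg
  have hj2 : ∀ i, (jE e i : G) ^ 2 = 1 := fun i => by
    simpa using congrArg Subtype.val (jE_sq e i)
  have hcoef : ∀ Z : IrrCharacter G, Z ∈ Finset.univ.erase one → a Z ≠ 0 →
      (a Z : ℂ) = 1 ∨ (a Z : ℂ) = -1 := fun Z h1 h2 => by
    rcases (hle Z h1).resolve_left h2 with h | h <;> simp [h]
  have hstep : ∀ k, k ≠ l → (X : G → ℂ) (jE e l) = (X : G → ℂ) 1 ∨
      (X : G → ℂ) (jE e k) = (X : G → ℂ) 1 := by
    intro k hk
    refine key_identity (IsIrr.one_ne_zero X.2) (IsIrr.one_ne_zero Y.2) (hcoef X hX.1 hX.2)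
      (hcoef Y hY.1 hY.2) (hz 1 (one_pow 2)) (hz _ (hj2 l)) (hz _ (hj2 k)) ?_
    have hG : ((Nat.card G : ℂ)) ≠ 0 := Nat.cast_ne_zero.2 Nat.card_pos.ne'
    have hS : ∀ φ : IrrCharacter G, ∑ c : G, ∑ b : G,
        (φ : G → ℂ) (b * jE e l * b⁻¹ * (c * jE e k * c⁻¹)) =
        (Nat.card G : ℂ) * (Nat.card G : ℂ) *
          ((φ : G → ℂ) (jE e l) * (φ : G → ℂ) (jE e k) / (φ : G → ℂ) 1) := by
      intro φ
      simp only [sum_conj_apply φ.2, IsIrr.classFun φ.2 _ _, Finset.sum_const, Finset.card_univ,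
        ← Nat.card_eq_fintype_card, nsmul_eq_mul]
      ring
    have hzero : ∑ c : G, ∑ b : G, Φ (b * jE e l * b⁻¹ * (c * jE e k * c⁻¹)) = 0 :=
      Finset.sum_eq_zero fun c _ => Finset.sum_eq_zero fun b _ => S.ind_prod e hk b c
    simp only [happ, Finset.sum_add_distrib, ← Finset.mul_sum, hS, Finset.sum_const,
      Finset.card_univ, ← Nat.card_eq_fintype_card, nsmul_eq_mul, mul_one] at hzero
    refine (mul_eq_zero.1 (?_ : (Nat.card G : ℂ) * (Nat.card G : ℂ) * _ = 0)).resolve_left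
      (mul_ne_zero hG hG)
    linear_combination hzero
  let N := charKer (IsIrr.isCharacter X.2)
  refine ⟨N, charKer_normal _, fun hN => hX1 (Subtype.ext ?_), ?_⟩
  · show (X : G → ℂ) = (one : G → ℂ)
    exact irr_const_eq_one X.2 fun g => (mem_charKer (IsIrr.isCharacter X.2)).1
      (show g ∈ N from hN.symm ▸ Subgroup.mem_top g)
  · rw [mem_charKer]
    by_contra hne
    have key : ∀ k, k ≠ l → (jE e k : G) ∈ N := fun k hk =>
      (mem_charKer _).2 ((hstep k hk).resolve_left hne)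
    have h : (jE e l : G) = jE e (l + 1) * jE e (l + 2) := by
      refine congrArg Subtype.val (proj_ext e (a := jE e l) (b := jE e (l + 1) * jE e (l + 2))
        fun i => ?_)
      rw [map_mul, proj_jE, proj_jE, proj_jE]
      exact jF_split i l
    refine hne ((mem_charKer (IsIrr.isCharacter X.2)).1 ?_)
    rw [h]
    exact mul_mem (key _ (fin3_ne l).1) (key _ (fin3_ne l).2)

theorem Setup.commutator_mem (S : Setup H T) (e : H ≃* M) {N : Subgroup G} (hN : N.Normal)
    {i k : Fin 3} (hki : k ≠ i) {h : H} (hh : (h : G) ∈ N) (hp : Equiv.Perm.sign (proj e k h) = -1)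
    (ho : ∀ m, m ≠ k → Commute (proj e m h) (proj e m (uE e k))) : (uE e k : G) ∈ N := by
  have hc : (uE e k : G) * h * (uE e k : G)⁻¹ * (h : G)⁻¹ ∈ N :=
    mul_mem (hN.conj_mem _ hh _) (inv_mem hh)
  have hkey : ∀ σ : D, Equiv.Perm.sign σ = -1 → c3 * σ * c3⁻¹ * σ⁻¹ = c3 ^ 2 := by decide
  have he : uE e k * h * (uE e k)⁻¹ * h⁻¹ = uE e k ^ 2 := by
    refine proj_ext e fun m => ?_
    simp only [map_mul, map_inv, map_pow, proj_uE]
    split_ifs with hm
    · subst hm; exact hkey _ hp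
    · simp
  have h2 : (uE e k : G) ^ 2 ∈ N := by
    rw [show (uE e k : G) ^ 2 = ((uE e k * h * (uE e k)⁻¹ * h⁻¹ : H) : G) by rw [he]; simp]
    simpa using hc
  have h3 : (uE e k : G) = ((uE e k : G) ^ 2) ^ 2 := by
    rw [← pow_mul]
    have h4 : uE e k = uE e k ^ (2 * 2) := proj_ext e fun m => by
      rw [map_pow, proj_uE]; split_ifs <;> decide
    exact congrArg Subtype.val h4
  rw [h3]
  exact pow_mem h2 2

theorem Setup.not_both (S : Setup H T) (e : H ≃* M) {N : Subgroup G} (hN : N.Normal)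
    (hNtop : N ≠ ⊤) {i k : Fin 3} (hik : i ≠ k) (hi : (jE e i : G) ∈ N)
    (hk : (jE e k : G) ∈ N) : False := by
  haveI : Fact (Nat.Prime 3) := ⟨by norm_num⟩
  haveI := hN
  have hu : ∀ m, (uE e m : G) ∈ N := by
    intro m
    rcases ne_or_eq m i with hm | hm
    · exact S.commutator_mem e hN (i := i) hm hi ((pat_jE e i).2 m hm) fun m' hm' => by
        rw [proj_uE, if_neg hm']; exact Commute.one_right _
    · exact S.commutator_mem e hN (i := k) (hm ▸ hik) hk ((pat_jE e k).2 m (hm ▸ hik)) fun m' hm' => by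
        rw [proj_uE, if_neg hm']; exact Commute.one_right _
  have hj : ∀ m, (jE e m : G) ∈ N := by
    intro m
    rcases ne_or_eq m i with hm | rfl
    · rcases ne_or_eq m k with hm' | rfl
      · have h : jE e m = jE e i * jE e k := proj_ext e fun q => by
          rw [map_mul, proj_jE, proj_jE, proj_jE]
          exact jF_third q m i k hm hm' hik
        rw [h, Subgroup.coe_mul]
        exact mul_mem hi hk
      · exact hk
    · exact hi
  have hHN : H ≤ N := by
    intro g hg
    obtain ⟨x, s, hx⟩ := M_gen _ (e ⟨g, hg⟩).2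
    have he : (⟨g, hg⟩ : H) = uE e 0 ^ (x 0 : ℕ) * uE e 1 ^ (x 1 : ℕ) * uE e 2 ^ (x 2 : ℕ) *
        ![1, jE e 0, jE e 1, jE e 2] s := by
      refine proj_ext e fun m => ?_
      have h := congrFun hx m
      simp only [Pi.mul_apply, Pi.pow_apply] at h
      simp only [map_mul, map_pow]
      have hv : proj e m (![1, jE e 0, jE e 1, jE e 2] s) = (![1, jF 0, jF 1, jF 2] s : Fin 3 → D) m := by
        fin_cases s
        · exact map_one _
        · exact proj_symm e _ (jF_mem 0) m
        · exact proj_symm e _ (jF_mem 1) m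
        · exact proj_symm e _ (jF_mem 2) m
      refine h.trans ?_
      rw [hv, show proj e m (uE e 0) = uF 0 m from proj_symm e _ (uF_mem 0) m,
        show proj e m (uE e 1) = uF 1 m from proj_symm e _ (uF_mem 1) m,
        show proj e m (uE e 2) = uF 2 m from proj_symm e _ (uF_mem 2) m]
    have hs : ((![1, jE e 0, jE e 1, jE e 2] s : H) : G) ∈ N := by
      fin_cases s
      · exact one_mem N
      · exact hj 0
      · exact hj 1
      · exact hj 2
    have := mul_mem (mul_mem (mul_mem (pow_mem (hu 0) (x 0 : ℕ)) (pow_mem (hu 1) (x 1 : ℕ)))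
      (pow_mem (hu 2) (x 2 : ℕ))) hs
    have h2 := congrArg Subtype.val he
    simp only [Subgroup.coe_mul, Subgroup.coe_pow] at h2
    rw [h2]
    exact this
  have hTp : IsPGroup 3 T := IsPGroup.of_card (n := 3) (by rw [S.card]; norm_num)
  obtain ⟨P, hP⟩ := hTp.exists_le_sylow
  have hPT : (P : Subgroup G) = T :=
    le_antisymm (S.pgroup_le P.2 (hP (uE_mem S e 0)) (uE_mem S e 0) (uE_ne e 0)) hP
  have hPN : (P : Subgroup G) ≤ N := hPT ▸ S.le.trans hHN
  have h := Sylow.normalizer_sup_eq_top (P.subtype hPN)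
  rw [Sylow.coe_subtype, Subgroup.subgroupOf_map_subtype, inf_eq_left.2 hPN, hPT, S.norm,
    sup_eq_right.2 hHN] at h
  exact hNtop h

/-- The main theorem. -/
theorem Setup.eq_top (S : Setup H T) : H = ⊤ := by
  obtain ⟨e⟩ := S.iso
  haveI : Fact (Nat.Prime 3) := ⟨by norm_num⟩
  obtain ⟨A, hA, hAt, hA0⟩ := S.exists_normal e 0
  obtain ⟨B, hB, hBt, hB1⟩ := S.exists_normal e 1
  haveI := hA
  haveI := hB
  set L := A ⊓ B with hL
  haveI hLn : L.Normal := Subgroup.normal_inf_normal A B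
  have hu2 : (uE e 2 : G) ∈ L :=
    ⟨S.commutator_mem e hA (i := 0) (by decide) hA0 ((pat_jE e 0).2 2 (by decide)) fun m hm => by
      rw [proj_uE, if_neg hm]; exact Commute.one_right _,
    S.commutator_mem e hB (i := 1) (by decide) hB1 ((pat_jE e 1).2 2 (by decide)) fun m hm => by
      rw [proj_uE, if_neg hm]; exact Commute.one_right _⟩
  -- the elements of `L` in `H` lie in `T`
  have hLH : ∀ h : H, (h : G) ∈ L → (h : G) ∈ T := by
    intro h hh
    by_contra hnT
    have h3 : h ^ 3 ≠ 1 := fun h1 => hnT (S.three_mem h.2 (k := 1) (by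
      simpa using congrArg Subtype.val h1))
    have h6 : (h ^ 3) ^ 2 = 1 := proj_ext e fun m => by
      rw [map_pow, map_pow, map_one, ← pow_mul]
      exact pow_six _
    obtain ⟨i, hi⟩ := exists_pat e h3 h6
    have hx : ((h ^ 3 : H) : G) ∈ L := by simpa using pow_mem hh 3
    have hconj : ∃ v : H, v * h ^ 3 * v⁻¹ = jE e i := by
      let w : Fin 3 → Fin 3 := fun m =>
        if proj e m (h ^ 3) = tau then 0 else if c3 * proj e m (h ^ 3) * c3⁻¹ = tau then 1 else 2
      refine ⟨uE e 0 ^ (w 0 : ℕ) * uE e 1 ^ (w 1 : ℕ) * uE e 2 ^ (w 2 : ℕ), proj_ext e fun m => ?_⟩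
      have hv : proj e m (uE e 0 ^ (w 0 : ℕ) * uE e 1 ^ (w 1 : ℕ) * uE e 2 ^ (w 2 : ℕ)) =
          c3 ^ (w m : ℕ) := by
        simp only [map_mul, map_pow, proj_uE]
        fin_cases m <;> simp
      rw [map_mul, map_mul, map_inv, hv, proj_jE]
      have hsq : proj e m (h ^ 3) ^ 2 = 1 := by rw [← map_pow, h6, map_one]
      rcases eq_or_ne m i with hm | hm
      · subst hm
        rw [if_pos rfl, hi.1, mul_one, mul_inv_cancel]
      · rw [if_neg hm]
        have hs := hi.2 m hm
        simp only [w]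
        generalize proj e m (h ^ 3) = σ at hs hsq
        revert σ
        decide
    obtain ⟨v, hv⟩ := hconj
    have hji : (jE e i : G) ∈ L := by
      rw [← hv]
      simpa [mul_assoc] using hLn.conj_mem _ hx (v : G)
    rcases eq_or_ne i 0 with hi0 | hi0
    · subst hi0
      exact S.not_both e hB hBt (by decide : (0 : Fin 3) ≠ 1) hji.2 hB1
    · exact S.not_both e hA hAt hi0 hji.1 hA0
  -- a Sylow 3-subgroup of `L`
  let W : Subgroup L := T.subgroupOf L
  have hWp : IsPGroup 3 W := by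
    intro x
    exact ⟨3, Subtype.ext (Subtype.ext (by simpa using S.pow27 x.2))⟩
  let P : Sylow 3 L := ⟨W, hWp, fun {Q} hQ hWQ => le_antisymm (fun q hq =>
    S.pgroup_le (hQ.map L.subtype) ⟨_, hWQ (show (⟨_, hu2⟩ : L) ∈ W from uE_mem S e 2), rfl⟩
      (uE_mem S e 2) (uE_ne e 2) ⟨q, hq, rfl⟩) hWQ⟩
  have hnorm : Subgroup.normalizer ((P : Subgroup L) : Set L) ≤
      Subgroup.centralizer ((P : Subgroup L) : Set L) := by
    intro x hx
    have h1 : x * ⟨_, hu2⟩ * x⁻¹ ∈ W :=
      (Subgroup.mem_normalizer_iff.1 hx _).1 (uE_mem S e 2)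
    have hxH : (x : G) ∈ H := S.ti (uE_mem S e 2) (uE_ne e 2) h1
    rw [Subgroup.mem_centralizer_iff]
    intro w hw
    exact Subtype.ext (S.comm hw (hLH ⟨x, hxH⟩ x.2))
  have hc := MonoidHom.ker_transferSylow_isComplement' P hnorm
  set K := (MonoidHom.transferSylow P hnorm).ker with hK
  have hKcard : ¬ 3 ∣ Nat.card K := by
    rw [← hc.index_eq_card]
    exact P.not_dvd_index
  have hKmem : ∀ x : L, x ∈ K ↔ (orderOf x).Coprime 3 := by
    intro x
    constructor
    · intro hx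
      refine Nat.Coprime.symm ((Nat.prime_three.coprime_iff_not_dvd).2 fun h => hKcard ?_)
      exact h.trans (Subgroup.orderOf_dvd_natCard _ hx)
    · intro hx
      rw [hK, MonoidHom.mem_ker, ← orderOf_eq_one_iff]
      have h1 : orderOf (MonoidHom.transferSylow P hnorm x) ∣ orderOf x := orderOf_map_dvd _ x
      obtain ⟨n, hn⟩ := IsPGroup.iff_card.1 P.2
      have h2 : orderOf (MonoidHom.transferSylow P hnorm x) ∣ 3 ^ n := hn ▸ orderOf_dvd_natCard _
      exact Nat.eq_one_of_dvd_coprimes (hx.pow_right n) h1 h2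
  let R : Subgroup G := K.map L.subtype
  have hR : ∀ g : G, g ∈ R ↔ g ∈ L ∧ (orderOf g).Coprime 3 := by
    intro g
    constructor
    · rintro ⟨x, hx, rfl⟩
      exact ⟨x.2, by simpa using (hKmem x).1 hx⟩
    · rintro ⟨h1, h2⟩
      exact ⟨⟨g, h1⟩, (hKmem _).2 (by simpa [Subgroup.orderOf_mk] using h2), rfl⟩
  haveI hRn : R.Normal := ⟨fun r hr g => by
    rw [hR] at hr ⊢
    refine ⟨hLn.conj_mem _ hr.1 g, ?_⟩
    rw [← MulAut.conj_apply, MulEquiv.orderOf_eq]; exact hr.2⟩
  have hfix : ∀ t ∈ T, t ≠ 1 → ∀ r ∈ R, t * r = r * t → r = 1 := by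
    intro t ht ht1 r hr hcomm
    have hrH : r ∈ H := S.cent t ht ht1 (Subgroup.mem_centralizer_singleton_iff.2 hcomm.symm)
    have hrT : r ∈ T := hLH ⟨r, hrH⟩ ((hR r).1 hr).1
    rw [← orderOf_eq_one_iff]
    exact Nat.eq_one_of_dvd_coprimes (Nat.Coprime.pow_right 3 ((hR r).1 hr).2) dvd_rfl
      (orderOf_dvd_of_pow_eq_one (S.pow27 hrT))
  have hRbot : R = ⊥ := by
    by_contra hne
    have hT : T ≠ ⊥ := fun h => uE_ne e 2 (Subgroup.mem_bot.1 (h ▸ uE_mem S e 2))
    obtain ⟨⟨t, ht⟩, hgen⟩ := (Block.PrimeMul.isCyclic_of_fpf T R hne hT (fun a ha b hb => S.comm ha hb) hfix).exists_ofOrder_eq_natCard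
    rw [S.card] at hgen
    have h3 : (⟨t, ht⟩ : T) ^ 3 = 1 := by
      refine Subtype.ext ?_
      have h : (⟨t, S.le ht⟩ : H) ^ 3 = 1 := proj_ext e fun i => by
        rw [map_pow, map_one]; exact even_pow_three _ ((S.mem_T_iff e ⟨t, S.le ht⟩).1 ht i)
      simpa using congrArg Subtype.val h
    have := orderOf_dvd_of_pow_eq_one h3
    rw [hgen] at this
    norm_num at this
  have hLT : ∀ g ∈ L, g ∈ T := by
    intro g hg
    have hKbot : K = ⊥ := (Subgroup.map_eq_bot_iff_of_injective _ L.subtype_injective).1 hRbot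
    have hPtop : (P : Subgroup L) = ⊤ := by
      rw [hKbot] at hc
      exact Subgroup.isComplement'_bot_left.1 hc
    have : (⟨g, hg⟩ : L) ∈ (P : Subgroup L) := hPtop ▸ Subgroup.mem_top _
    exact this
  rw [eq_top_iff]
  intro g _
  exact S.ti (uE_mem S e 2) (uE_ne e 2) (hLT _ (hLn.conj_mem _ hu2 g))

end

end Cfsg.Agent.Recog.TICube
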