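import Cfsg.Agent.Lib.Recog.MonoCubeChar
import Cfsg.Agent.Lib.Recog.TICubeMain
import Cfsg.Agent.Lib.Transfer.Cores

/-!
A finite group with a subgroup `3³:S₄` containing the centralizers of the non-trivial elements of
its core, and in which the core contains the conjugates in the subgroup of its elements of weight
one, coincides with that subgroup.
-/

namespace Cfsg.Agent.Recog.MonoCube

open scoped ComplexConjugate
open Cfsg Cfsg.Agent.Char

universe u

namespace W

set_option maxRecDepth 100000

theorem inJ_inv : ∀ w : W, inJ w = true → inJ w⁻¹ = true := by decide +kernel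

theorem gB_facts : gB * gB = gB⁻¹ ∧ gB * gB * (gB * gB) = gB ∧ inJ cZ = true := by decide +kernel

theorem inJ_p : ∀ w : W, inJ w = true → w.p = 0 := by decide +kernel

theorem pinv_zero : pinv 0 = 0 := rfl

/-- The core. -/
def jGrp : Subgroup W where
  carrier := {w | inJ w = true}
  one_mem' := rfl
  mul_mem' ha hb := (inJ_mul _ ha _ hb).1
  inv_mem' ha := inJ_inv _ ha

/-- The Sylow three-subgroup. -/
def pGrp : Subgroup W where
  carrier := {w | inP w = true}
  one_mem' := rfl
  mul_mem' ha hb := (inP_mul _ ha _ hb).1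
  inv_mem' ha := (inP_mul _ ha _ ha).2

/-- The stabilizer of the three blocks. -/
def zeroGrp : Subgroup W where
  carrier := {w | w.p = 0}
  one_mem' := rfl
  mul_mem' {a b} (ha : a.p = 0) (hb : b.p = 0) := by
    show pm a.p b.p = 0
    rw [ha, hb]; rfl
  inv_mem' {a} (ha : a.p = 0) := by
    show pinv a.p = 0
    rw [ha]; rfl

theorem mem_jGrp {w : W} : w ∈ jGrp ↔ inJ w = true := Iff.rfl
theorem mem_pGrp {w : W} : w ∈ pGrp ↔ inP w = true := Iff.rfl
theorem mem_zeroGrp {w : W} : w ∈ zeroGrp ↔ w.p = 0 := Iff.rfl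

theorem card_jGrp : Nat.card jGrp = 27 := by
  show Nat.card {w : W // inJ w = true} = 27
  rw [Nat.card_eq_fintype_card, Fintype.card_subtype]
  exact card_inJ

theorem card_pGrp : Nat.card pGrp = 81 := by
  show Nat.card {w : W // inP w = true} = 81
  rw [Nat.card_eq_fintype_card, Fintype.card_subtype]
  exact card_inP

theorem normal_three_le {N : Subgroup W} [hN : N.Normal] (hp : IsPGroup 3 N) {w : W}
    (hw : w ∈ N) : inJ w = true := by
  have hnine : ∀ v ∈ N, nine v = true := fun v hv => by
    obtain ⟨k, hk⟩ := hp ⟨v, hv⟩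
    exact nine_of_pow (k := k) (by simpa using congrArg Subtype.val hk)
  by_contra h
  have h1 := normal_witness w (hnine w hw) (Bool.eq_false_iff.2 h)
  rw [hnine _ (mul_mem (inv_mem hw) (hN.conj_mem w hw gV))] at h1
  exact absurd h1 (by decide)

/-- Affine maps of three points. -/
def aff (n : Bool) (x : Fin 3) : Equiv.Perm (Fin 3) where
  toFun i := ap n i + x
  invFun i := ap n (i - x)
  left_inv := by revert n x; decide
  right_inv := by revert n x; decide

theorem aff_sign : ∀ n x, Equiv.Perm.sign (aff n x) = if n then -1 else 1 := by decide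
theorem neg_prod : ∀ e : Fin 4, ((neg 0 e 0 ^^ neg 0 e 1) ^^ neg 0 e 2) = false := by decide
theorem P_zero : ∀ b, P 0 b = b := by decide

/-- The three block permutations. -/
def blocks : zeroGrp →* TICube.M where
  toFun w := ⟨fun b => aff (neg (w : W).p (w : W).e b) ((w : W).sh b), by
    show ∏ b, Equiv.Perm.sign (aff (neg (w : W).p (w : W).e b) ((w : W).sh b)) = 1
    simp only [Fin.prod_univ_three, aff_sign, show (w : W).p = 0 from w.2]
    have h := neg_prod (w : W).e
    revert h
    cases neg 0 (w : W).e 0 <;> cases neg 0 (w : W).e 1 <;> cases neg 0 (w : W).e 2 <;> simp⟩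
  map_one' := by
    refine Subtype.ext (funext fun b => Equiv.ext fun i => ?_)
    have h := congrArg Prod.snd (act_one (b, i))
    simpa [act, aff, P_zero, show (1 : W).p = 0 from rfl] using h
  map_mul' v w := by
    refine Subtype.ext (funext fun b => Equiv.ext fun i => ?_)
    have h := congrArg Prod.snd (act_mul (v : W) (w : W) (b, i))
    simpa [act, aff, P_zero, show (v : W).p = 0 from v.2, show (w : W).p = 0 from w.2,
      show ((v : W) * w).p = 0 from mul_mem v.2 w.2] using h

theorem blocks_injective : Function.Injective blocks := by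
  intro v w h
  refine Subtype.ext (act_inj fun t => ?_)
  have h1 := DFunLike.congr_fun (congrFun (congrArg Subtype.val h) t.1) t.2
  simp only [act, show (v : W).p = 0 from v.2, show (w : W).p = 0 from w.2, P_zero]
  refine Prod.ext rfl ?_
  simpa [blocks, aff, show (v : W).p = 0 from v.2, show (w : W).p = 0 from w.2] using h1

theorem zero_iso : Nonempty (zeroGrp ≃* TICube.M) := by
  refine ⟨MulEquiv.ofBijective blocks (blocks_injective.bijective_of_nat_card_le ?_)⟩
  rw [TICube.card_M]
  show 108 ≤ Nat.card {w : W // w.p = 0}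
  rw [Nat.card_eq_fintype_card, Fintype.card_subtype]
  exact le_of_eq (by decide +kernel)

/-- Normal subgroups containing the first involution. -/
theorem normal_cases (L : Subgroup W) [hL : L.Normal] (hv : gV ∈ L) :
    (∀ w : W, w ∈ L ↔ w.p = 0) ∨ ∀ w : W, odd w.p = false → w ∈ L := by
  obtain ⟨hA, -, -, -⟩ := gens_comm
  obtain ⟨hBB, hB4, -⟩ := gB_facts
  have ha : gA ∈ L := by
    rw [hA, show gV * gA * gV⁻¹ * gA⁻¹ = gV * (gA * gV⁻¹ * gA⁻¹) by group]
    exact mul_mem hv (hL.conj_mem _ (inv_mem hv) _)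
  have hy : aY ∈ L := by rw [aY, hBB]; exact hL.conj_mem _ ha _
  have hz : aZ ∈ L := by
    rw [aZ, hBB]
    simpa using hL.conj_mem _ ha gB⁻¹
  have he : vE ∈ L := mul_mem (mul_mem (mul_mem ha ha) (mul_mem hy hy)) hv
  have hsh : ∀ a b c, shifts a b c ∈ L := by
    intro a b c
    have h : ∀ g ∈ L, ∀ a : Fin 3, (if a = 0 then 1 else if a = 1 then g else g * g) ∈ L := by
      intro g hg a
      split_ifs
      exacts [one_mem _, hg, mul_mem hg hg]
    exact mul_mem (mul_mem (h _ ha _) (h _ hy _)) (h _ hz _)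
  have hs : ∀ e, signs e ∈ L := by
    intro e
    fin_cases e
    · exact one_mem _
    · show gB * gB * vE * gB ∈ L
      rw [hBB]
      simpa using hL.conj_mem _ he gB⁻¹
    · show gB * vE * (gB * gB) ∈ L
      rw [hBB]
      exact hL.conj_mem _ he gB
    · exact he
  have hmem : ∀ w : W, tops w.p ∈ L ↔ w ∈ L := by
    intro w
    obtain ⟨e, h⟩ := word w
    constructor
    · intro ht
      rw [← h]
      exact mul_mem (mul_mem (hsh _ _ _) ht) (hs e)
    · intro hw
      rw [← h] at hw
      have := mul_mem (mul_mem (inv_mem (hsh w.x w.y w.z)) hw) (inv_mem (hs e))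
      simpa [mul_assoc] using this
  have h0 : ∀ w : W, w.p = 0 → w ∈ L := fun w hw => (hmem w).1 (by rw [hw]; exact one_mem _)
  by_cases hB : gB ∈ L
  · refine Or.inr fun w hw => (hmem w).1 ?_
    have hp : w.p = 0 ∨ w.p = 1 ∨ w.p = 2 := by
      revert hw
      generalize w.p = p
      revert p
      decide
    rcases hp with h | h | h <;> rw [h]
    · exact one_mem _
    · exact hB
    · exact mul_mem hB hB
  · refine Or.inl fun w => ⟨fun hw => ?_, h0 w⟩
    have low : ∀ v : W, v ∈ L → v.p = 1 ∨ v.p = 2 → False := by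
      intro v hv' hp
      have ht := (hmem v).2 hv'
      rcases hp with h | h <;> rw [h] at ht
      · exact hB ht
      · refine hB ?_
        rw [← hB4]
        exact mul_mem ht ht
    by_contra hne
    by_cases ho : odd w.p = true
    · refine low _ ?_ (odd_commutator w.p ho)
      have ht := (hmem w).2 hw
      rw [show tops w.p * gB * (tops w.p)⁻¹ * gB⁻¹ =
        tops w.p * (gB * (tops w.p)⁻¹ * gB⁻¹) by group]
      exact mul_mem ht (hL.conj_mem _ (inv_mem ht) _)
    · refine low w hw ?_
      revert hne ho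
      generalize w.p = p
      revert p
      decide

end W

open W

variable {G : Type u} [Group G] [Fintype G]

omit [Fintype G] in
theorem pCore_iff {H : Subgroup G} (e : H ≃* W) [Finite G] (h : H) :
    h ∈ Cfsg.pCore 3 H ↔ inJ (e h) = true := by
  constructor
  · intro hh
    haveI : (Cfsg.pCore 3 H).Normal := Cfsg.Agent.Transfer.pCore_normal' 3 H
    haveI : ((Cfsg.pCore 3 H).map e.toMonoidHom).Normal :=
      Subgroup.Normal.map inferInstance _ e.surjective
    exact normal_three_le (N := (Cfsg.pCore 3 H).map e.toMonoidHom)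
      ((Cfsg.Agent.Transfer.pCore_isPGroup 3 H).map _) ⟨h, hh, rfl⟩
  · intro hh
    haveI : jGrp.Normal := ⟨fun w hw g => inJ_conj w hw g⟩
    have hp : IsPGroup 3 (jGrp.comap e.toMonoidHom) := fun x => ⟨1, Subtype.ext (e.injective (by
      rw [pow_one, Subgroup.coe_pow, map_pow, Subgroup.coe_one, map_one]
      exact inJ_pow_three x.2))⟩
    exact Cfsg.Agent.Transfer.le_pCore (Subgroup.Normal.comap inferInstance _) hp hh

namespace Ctx

variable {H : Subgroup G} (C : Ctx H)

/-- The embedding of the code group. -/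
noncomputable def emb : W →* G := H.subtype.comp C.e.symm.toMonoidHom

theorem emb_mem (w : W) : C.emb w ∈ H := (C.e.symm w).2

theorem emb_injective : Function.Injective C.emb :=
  Subtype.val_injective.comp C.e.symm.injective

theorem e_emb (w : W) : C.e ⟨C.emb w, C.emb_mem w⟩ = w := C.e.apply_symm_apply w

theorem emb_e (h : H) : C.emb (C.e h) = h := congrArg Subtype.val (C.e.symm_apply_apply h)

theorem ti_emb {w : W} (hw : good w = true) (h1 : wt w = 1) {g : G}
    (hg : g * C.emb w * g⁻¹ ∈ H) : g ∈ H :=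
  C.ti_one (h := C.e.symm w) (by rwa [C.e.apply_symm_apply]) (by rwa [C.e.apply_symm_apply]) hg

theorem good_cZ : good cZ = true := by
  obtain ⟨h1, h2, -⟩ := fusion_data
  exact good_iff.2 ⟨h1, h2⟩

/-- The Sylow three-subgroup of the code group is one of `G`. -/
theorem sylow_max {Q : Subgroup G} (hQ : IsPGroup 3 Q) (hle : pGrp.map C.emb ≤ Q) :
    Q = pGrp.map C.emb := by
  haveI : Fact (Nat.Prime 3) := ⟨by norm_num⟩
  set P := pGrp.map C.emb with hP
  have hcardP : Nat.card P = 81 := by
    rw [hP, Subgroup.card_map_of_injective C.emb_injective, card_pGrp]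
  have hPH : P ≤ H := by
    rintro _ ⟨w, -, rfl⟩
    exact C.emb_mem w
  have hS : Q ⊓ H = P := by
    refine (Subgroup.eq_of_le_of_card_ge (le_inf hle hPH) ?_).symm
    have h3 : IsPGroup 3 (Q ⊓ H : Subgroup G) := hQ.to_le inf_le_left
    obtain ⟨n, hn⟩ := IsPGroup.iff_card.1 h3
    have hd : Nat.card (Q ⊓ H : Subgroup G) ∣ 648 := C.card_H ▸ Subgroup.card_dvd_of_le inf_le_right
    rw [hn] at hd ⊢
    rw [hcardP]
    have hn4 : n ≤ 4 := by
      by_contra h
      have h5 : 3 ^ 5 ∣ 648 := (pow_dvd_pow 3 (by omega)).trans hd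
      norm_num at h5
    calc 3 ^ n ≤ 3 ^ 4 := Nat.pow_le_pow_right (by norm_num) hn4
      _ = 81 := by norm_num
  by_contra hne
  haveI : Group.IsNilpotent Q := hQ.isNilpotent
  have hlt : P.subgroupOf Q < ⊤ := lt_top_iff_ne_top.2 fun h => hne
    (le_antisymm (Subgroup.subgroupOf_eq_top.1 h) hle)
  obtain ⟨x, hx, hxP⟩ := SetLike.exists_of_lt
    (normalizerCondition_of_isNilpotent (P.subgroupOf Q) hlt)
  refine hxP ?_
  have hzP : C.emb cZ ∈ P := ⟨cZ, inP_of_inJ _ gB_facts.2.2, rfl⟩
  have h1 : (x : G) * C.emb cZ * (x : G)⁻¹ ∈ P :=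
    (Subgroup.mem_normalizer_iff.1 hx ⟨_, hle hzP⟩).1 hzP
  have hxH : (x : G) ∈ H := C.ti_emb good_cZ fusion_data.2.2.2.2.1 (hPH h1)
  show (x : G) ∈ P
  rw [← hS]
  exact ⟨x.2, hxH⟩

theorem sum_normSq (χ : IrrCharacter G) :
    ∑ g : G, Complex.normSq ((χ : G → ℂ) g) = Nat.card G := by
  have h := classInner_self_irr χ.2
  rw [classInner, inv_mul_eq_iff_eq_mul₀ (Nat.cast_ne_zero.2 Nat.card_pos.ne'), mul_one] at h
  simp only [Complex.mul_conj, ← Complex.ofReal_sum] at h
  exact_mod_cast h

include C in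
theorem eq_top : H = ⊤ := by
  classical
  haveI : Fact (Nat.Prime 3) := ⟨by norm_num⟩
  obtain ⟨χ, h2, hV⟩ := C.exists_degree_two
  set N := charKer (IsIrr.isCharacter χ.2) with hN
  haveI hNn : N.Normal := charKer_normal _
  set L := N.comap C.emb with hL
  haveI : L.Normal := Subgroup.Normal.comap hNn _
  have hbig : ¬ N.index ≤ 2 := by
    intro hi
    have hsum : ∑ g ∈ Finset.univ.filter (fun g => g ∈ N), Complex.normSq ((χ : G → ℂ) g) ≤
        (Nat.card G : ℝ) := by
      rw [← sum_normSq χ]
      exact Finset.sum_le_sum_of_subset_of_nonneg (Finset.subset_univ _)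
        fun g _ _ => Complex.normSq_nonneg _
    rw [Finset.sum_congr rfl fun g hg => by
      rw [(mem_charKer _).1 (Finset.mem_filter.1 hg).2, h2], Finset.sum_const,
      ← Fintype.card_subtype, ← Nat.card_eq_fintype_card, nsmul_eq_mul] at hsum
    have h4 : Complex.normSq (2 : ℂ) = 4 := by simp [Complex.normSq_ofNat]; norm_num
    rw [h4] at hsum
    have h5 : Nat.card N * 4 ≤ Nat.card G := by exact_mod_cast hsum
    rw [← N.index_mul_card] at h5
    have := Nat.card_pos (α := N)
    nlinarith
  have hvL : gV ∈ L := hV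
  rcases normal_cases L hvL with hzero | heven
  swap
  · exfalso
    refine hbig ?_
    let P := pGrp.map C.emb
    have hPN : P ≤ N := by
      rintro _ ⟨w, hw, rfl⟩
      refine heven w ?_
      have hw' : inP w = true := hw
      simp only [inP, Bool.and_eq_true] at hw'
      simpa using hw'.2
    have hPp : IsPGroup 3 P := IsPGroup.of_card (n := 4) (by
      rw [Subgroup.card_map_of_injective C.emb_injective, card_pGrp]; norm_num)
    let S : Sylow 3 G := ⟨P, hPp, fun hQ hle => C.sylow_max hQ hle⟩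
    have hsup := Sylow.normalizer_sup_eq_top (S.subtype hPN)
    rw [Sylow.coe_subtype, Subgroup.subgroupOf_map_subtype, inf_eq_left.2 (show (S : Subgroup G) ≤ N
      from hPN)] at hsup
    have hnorm : Subgroup.normalizer (P : Set G) ≤ H := by
      intro g hg
      have hz : C.emb cZ ∈ P := ⟨cZ, inP_of_inJ _ gB_facts.2.2, rfl⟩
      obtain ⟨w, -, hw⟩ := (Subgroup.mem_normalizer_iff.1 hg _).1 hz
      exact C.ti_emb good_cZ fusion_data.2.2.2.2.1 (hw ▸ C.emb_mem w)
    have hHN : H ⊔ N = ⊤ := by
      refine top_unique (hsup.symm.le.trans ?_)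
      exact sup_le (hnorm.trans le_sup_left) le_sup_right
    have hidx : N.index = L.index := by
      rw [← Subgroup.relIndex_top_right N, ← hHN, Subgroup.relIndex_sup_right, hL, emb,
        ← Subgroup.comap_comap, Subgroup.index_comap_of_surjective _ C.e.symm.surjective]
      rfl
    rw [hidx]
    have hmul := L.index_mul_card
    rw [Nat.card_eq_fintype_card (α := W), card_W] at hmul
    have hge : 324 ≤ Nat.card L := by
      rw [← card_even, Nat.card_eq_fintype_card, Fintype.card_subtype]
      refine Finset.card_le_card fun w hw => ?_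
      simp only [Finset.mem_filter, Finset.mem_univ, true_and] at hw ⊢
      exact heven w (by simpa using hw)
    nlinarith
  have hJN : ∀ w, inJ w = true → C.emb w ∈ N := fun w hw => (hzero w).2 (inJ_p w hw)
  let H' := H.subgroupOf N
  let T : Subgroup N := (jGrp.map C.emb).subgroupOf N
  have hzN : C.emb cZ ∈ N := hJN _ gB_facts.2.2
  have hS : TICube.Setup H' T := by
    refine ⟨?_, ?_, ?_, ?_, ?_⟩
    · obtain ⟨f⟩ := zero_iso
      refine ⟨MulEquiv.trans (N := zeroGrp)
        { toFun := fun x => ⟨C.e ⟨(x : N), x.2⟩, (hzero _).1 ?_⟩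
          invFun := fun w => ⟨⟨C.emb w, (hzero _).2 w.2⟩, C.emb_mem w⟩
          left_inv := fun x => Subtype.ext (Subtype.ext (C.emb_e _))
          right_inv := fun w => Subtype.ext (C.e_emb w)
          map_mul' := fun x y => Subtype.ext (map_mul C.e ⟨(x : N), x.2⟩ ⟨(y : N), y.2⟩) } f⟩
      show C.emb _ ∈ N
      rw [C.emb_e]
      exact (x : N).2
    · rintro x ⟨w, -, hw⟩
      show (x : G) ∈ H
      have hw' : C.emb w = (x : G) := hw
      exact hw' ▸ C.emb_mem w
    · rw [Nat.card_congr (Subgroup.subgroupOfEquivOfLe (H := jGrp.map C.emb) (K := N) (by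
        rintro _ ⟨w, hw, rfl⟩
        exact hJN w hw)).toEquiv, Subgroup.card_map_of_injective C.emb_injective, card_jGrp]
    · refine le_antisymm (fun x hx => ?_) (fun x hx => ?_)
      · obtain ⟨w, -, hw⟩ := (Subgroup.mem_normalizer_iff.1 hx ⟨_, hzN⟩).1
          ⟨cZ, gB_facts.2.2, rfl⟩
        show (x : G) ∈ H
        have hw' : C.emb w = (x : G) * C.emb cZ * (x : G)⁻¹ := hw
        exact C.ti_emb good_cZ fusion_data.2.2.2.2.1 (hw' ▸ C.emb_mem w)
      · rw [Subgroup.mem_normalizer_iff]
        intro t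
        have key : ∀ y : G, y ∈ H → (t : G) ∈ jGrp.map C.emb →
            y * t * y⁻¹ ∈ jGrp.map C.emb := by
          rintro y hy ⟨w, hw, hwt⟩
          refine ⟨C.e ⟨y, hy⟩ * w * (C.e ⟨y, hy⟩)⁻¹, inJ_conj w hw _, ?_⟩
          rw [map_mul, map_mul, map_inv, C.emb_e, hwt]
        refine ⟨fun ht => key x hx ht, fun ht => ?_⟩
        obtain ⟨w, hw, hwt⟩ := ht
        refine ⟨C.e ⟨(x : G)⁻¹, inv_mem hx⟩ * w * (C.e ⟨(x : G)⁻¹, inv_mem hx⟩)⁻¹,
          inJ_conj w hw _, ?_⟩
        rw [map_mul, map_mul, map_inv, C.emb_e, hwt]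
        simp [mul_assoc]
    · rintro t ⟨w, hw, hwt⟩ ht1 x hx
      show (x : G) ∈ H
      have hw' : C.emb w = (t : G) := hwt
      refine C.cent ⟨C.emb w, C.emb_mem w⟩ ?_ ?_
      · rw [C.e_emb]
        exact good_iff.2 ⟨hw, fun h => ht1 (Subtype.ext (by rw [← hw', h, map_one]; rfl))⟩
      · refine Subgroup.mem_centralizer_singleton_iff.2 ?_
        show (x : G) * C.emb w = C.emb w * (x : G)
        rw [hw']
        exact congrArg Subtype.val (Subgroup.mem_centralizer_singleton_iff.1 hx)
  have htop := hS.eq_top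
  rw [eq_top_iff]
  intro g _
  refine C.ti_emb good_cZ fusion_data.2.2.2.2.1 ?_
  exact Subgroup.subgroupOf_eq_top.1 htop (hNn.conj_mem _ hzN g)

end Ctx

end Cfsg.Agent.Recog.MonoCube
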