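import Mathlib

set_option autoImplicit false

open MulAction

namespace Cfsg.Agent.Recog

variable {G Ω : Type*} [Group G] [MulAction G Ω]

/-- double count of incidences of the elements of a coset of a transitive subgroup -/
theorem sum_card_fixedBy_coset [Fintype Ω] [Nonempty Ω] (D : Subgroup G) [Fintype D] [IsPretransitive D Ω] (g : G) :
    ∑ d : D, Nat.card (fixedBy Ω (g * (d : G))) = Nat.card D := by
  classical
  have h1 : ∀ d : D, Nat.card (fixedBy Ω (g * (d : G))) = ∑ ω : Ω, if d • ω = g⁻¹ • ω then 1 else 0 := by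
    intro d
    rw [Nat.card_eq_fintype_card, Fintype.card_ofFinset, Finset.card_filter]
    refine Finset.sum_congr rfl fun ω _ => ?_
    simp only [mem_fixedBy, Subgroup.smul_def, mul_smul, smul_eq_iff_eq_inv_smul]
  have h2 : ∀ ω : Ω, (∑ d : D, if d • ω = g⁻¹ • ω then 1 else 0) * Fintype.card Ω = Fintype.card D := by
    intro ω
    obtain ⟨d₀, hd₀⟩ := exists_smul_eq D ω (g⁻¹ • ω)
    have e : (Finset.univ.filter fun d : D => d • ω = g⁻¹ • ω).card = Fintype.card (stabilizer D ω) := by
      rw [← Fintype.card_coe]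
      refine Fintype.card_congr ⟨fun d => ⟨d₀⁻¹ * d.1, ?_⟩, fun s => ⟨d₀ * s.1, ?_⟩, ?_, ?_⟩
      · rw [mem_stabilizer_iff, mul_smul, (Finset.mem_filter.mp d.2).2, ← hd₀, inv_smul_smul]
      · rw [Finset.mem_filter]
        exact ⟨Finset.mem_univ _, by rw [mul_smul, mem_stabilizer_iff.mp s.2, hd₀]⟩
      · intro d; simp
      · intro s; simp
    rw [Finset.sum_boole, Nat.cast_id, e, ← Nat.card_eq_fintype_card (α := Ω),
      ← index_stabilizer_of_transitive (G := D) ω, ← Nat.card_eq_fintype_card, Subgroup.card_mul_index,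
      Nat.card_eq_fintype_card]
  simp only [h1]
  rw [Finset.sum_comm]
  have hn : 0 < Fintype.card Ω := Fintype.card_pos
  refine Nat.eq_of_mul_eq_mul_right hn ?_
  rw [Finset.sum_mul, Finset.sum_congr rfl (fun ω _ => h2 ω), Finset.sum_const, Finset.card_univ,
    smul_eq_mul, Nat.card_eq_fintype_card, mul_comm]

/-- a transitive group on at least two points has a derangement -/
theorem exists_derangement [Finite G] [Finite Ω] [Nontrivial Ω] [IsPretransitive G Ω] :
    ∃ g : G, ∀ ω : Ω, g • ω ≠ ω := by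
  classical
  let _ := Fintype.ofFinite Ω
  let _ := Fintype.ofFinite G
  by_contra h
  push Not at h
  haveI : IsPretransitive (⊤ : Subgroup G) Ω :=
    ⟨fun x y => ⟨⟨_, Subgroup.mem_top _⟩, (exists_smul_eq G x y).choose_spec⟩⟩
  have hsum := sum_card_fixedBy_coset (Ω := Ω) (⊤ : Subgroup G) 1
  have hlt : ∑ _d : (⊤ : Subgroup G), 1 < ∑ d : (⊤ : Subgroup G), Nat.card (fixedBy Ω ((1 : G) * (d : G))) := by
    refine Finset.sum_lt_sum (fun d _ => ?_) ⟨1, Finset.mem_univ _, ?_⟩
    · obtain ⟨ω, hω⟩ := h ((1 : G) * (d : G))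
      haveI : Nonempty (fixedBy Ω ((1 : G) * (d : G))) := ⟨⟨ω, hω⟩⟩
      exact Nat.card_pos
    · have : fixedBy Ω ((1 : G) * ((1 : (⊤ : Subgroup G)) : G)) = Set.univ := by ext; simp
      rw [this, Nat.card_coe_set_eq, Set.ncard_univ]
      exact Finite.one_lt_card
  rw [hsum, Finset.sum_const, Finset.card_univ, smul_eq_mul, mul_one, Nat.card_eq_fintype_card] at hlt
  exact lt_irrefl _ hlt

variable [FaithfulSMul G Ω]

theorem derangement_closure_normal : (Subgroup.closure {g : G | ∀ ω : Ω, g • ω ≠ ω}).Normal := by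
  constructor
  intro n hn g
  have : Subgroup.closure {g : G | ∀ ω : Ω, g • ω ≠ ω} ≤
      (Subgroup.closure {g : G | ∀ ω : Ω, g • ω ≠ ω}).comap (MulAut.conj g).toMonoidHom := by
    rw [Subgroup.closure_le]
    intro d hd
    refine Subgroup.subset_closure fun ω hω => ?_
    simp only [MulEquiv.coe_toMonoidHom, MulAut.conj_apply, mul_smul, smul_eq_iff_eq_inv_smul g] at hω
    exact hd _ hω
  exact this hn

theorem derangement_closure_transitive [Finite G] [Finite Ω] [IsPretransitive G Ω] :
    IsPretransitive (Subgroup.closure {g : G | ∀ ω : Ω, g • ω ≠ ω}) Ω := by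
  classical
  set D := Subgroup.closure {g : G | ∀ ω : Ω, g • ω ≠ ω} with hD
  have hn : D.Normal := derangement_closure_normal
  refine ⟨fun x y => ?_⟩
  by_contra hxy
  -- the orbits of a normal subgroup are permuted by the group
  let B := Quotient (orbitRel D Ω)
  have hwd : ∀ (g : G) (a b : Ω), orbitRel D Ω a b → orbitRel D Ω (g • a) (g • b) := by
    intro g a b hab
    obtain ⟨d, rfl⟩ := hab
    exact ⟨⟨g * d * g⁻¹, hn.conj_mem _ d.2 g⟩, by simp [Subgroup.smul_def, mul_smul]⟩
  letI : MulAction G B :=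
    { smul := fun g => Quotient.map' (g • ·) (hwd g)
      one_smul := fun q => Quotient.inductionOn' q fun a => congrArg Quotient.mk'' (one_smul G a)
      mul_smul := fun g h q => Quotient.inductionOn' q fun a => congrArg Quotient.mk'' (mul_smul g h a) }
  haveI : IsPretransitive G B := ⟨fun p q => Quotient.inductionOn₂' p q fun a b => by
    obtain ⟨g, hg⟩ := exists_smul_eq G a b
    exact ⟨g, congrArg Quotient.mk'' hg⟩⟩
  haveI : Nontrivial B := ⟨⟨Quotient.mk'' x, Quotient.mk'' y, fun h => hxy (by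
    obtain ⟨d, hd⟩ := Quotient.eq''.mp h.symm
    exact ⟨d, hd⟩)⟩⟩
  obtain ⟨g, hg⟩ := exists_derangement (G := G) (Ω := B)
  have hgD : g ∈ D := Subgroup.subset_closure fun ω hω =>
    hg (Quotient.mk'' ω) (congrArg Quotient.mk'' hω)
  exact hg (Quotient.mk'' x) (Quotient.sound' ⟨⟨g, hgD⟩, rfl⟩)

/-- outside the subgroup generated by the derangements every element fixes exactly one point -/
theorem card_fixedBy_eq_one_of_notMem [Finite G] [Finite Ω] [IsPretransitive G Ω] (g : G)
    (hg : g ∉ Subgroup.closure {g : G | ∀ ω : Ω, g • ω ≠ ω}) : Nat.card (fixedBy Ω g) = 1 := by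
  classical
  set D := Subgroup.closure {g : G | ∀ ω : Ω, g • ω ≠ ω} with hD
  let _ := Fintype.ofFinite Ω
  let _ := Fintype.ofFinite D
  haveI := derangement_closure_transitive (G := G) (Ω := Ω)
  rcases isEmpty_or_nonempty Ω with hΩ | hΩ
  · exact absurd (Subgroup.subset_closure fun ω => isEmptyElim ω) hg
  have hpos : ∀ d : D, 1 ≤ Nat.card (fixedBy Ω (g * (d : G))) := by
    intro d
    by_contra h
    have hd : g * (d : G) ∈ D := by
      refine Subgroup.subset_closure fun ω hω => h ?_
      haveI : Nonempty (fixedBy Ω (g * (d : G))) := ⟨⟨ω, hω⟩⟩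
      exact Nat.card_pos
    exact hg (by simpa using D.mul_mem hd (D.inv_mem d.2))
  have hsum := sum_card_fixedBy_coset (Ω := Ω) D g
  have := (Finset.sum_eq_sum_iff_of_le (fun d (_ : d ∈ Finset.univ) => hpos d)).mp
    (by rw [hsum]; simp [Nat.card_eq_fintype_card]) 1 (Finset.mem_univ _)
  simpa using this.symm

end Cfsg.Agent.Recog
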