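import Mathlib
import Cfsg.Agent.Lib.Recog.Derangements

/-! The index of the subgroup generated by the derangements divides every suborbit length. -/

set_option autoImplicit false

open MulAction

namespace Cfsg.Agent.Recog

variable {G Ω : Type*} [Group G] [MulAction G Ω] [Finite G] [Finite Ω] [FaithfulSMul G Ω] [IsPretransitive G Ω]

theorem orbit_eq_index_mul {a b : Ω} (hab : b ≠ a) :
    Nat.card (orbit (stabilizer G a) b) = (Subgroup.closure {g : G | ∀ ω : Ω, g • ω ≠ ω}).index *
      Nat.card (orbit (stabilizer G a ⊓ Subgroup.closure {g : G | ∀ ω : Ω, g • ω ≠ ω} : Subgroup G) b) := by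
  set D := Subgroup.closure {g : G | ∀ ω : Ω, g • ω ≠ ω} with hD
  have hDt : IsPretransitive D Ω := derangement_closure_transitive
  haveI hDn : D.Normal := derangement_closure_normal
  set A := stabilizer G a
  set B := stabilizer G b
  have hle : A ⊓ B ≤ D := by
    intro g hg
    by_contra h
    have := card_fixedBy_eq_one_of_notMem g h
    rw [Nat.card_eq_one_iff_unique] at this
    haveI := this.1
    exact hab (congrArg Subtype.val (Subsingleton.elim (⟨b, hg.2⟩ : fixedBy Ω g) ⟨a, hg.1⟩))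
  have h1 : ∀ K : Subgroup G, Nat.card (orbit K b) = B.relIndex K := fun K => by
    rw [Nat.card_coe_set_eq, ← index_stabilizer]; rfl
  rw [h1, h1]
  have e1 : (A ⊓ B).relIndex A = B.relIndex A := Subgroup.inf_relIndex_left _ _
  have e2 := Subgroup.relIndex_mul_relIndex (A ⊓ B) (A ⊓ D) A (le_inf inf_le_left hle) inf_le_left
  have e3 : (A ⊓ D).relIndex A = D.index := by
    rw [Subgroup.inf_relIndex_left, ← Subgroup.relIndex_sup_right A D, ← Subgroup.relIndex_top_right (H := D)]
    congr 1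
    refine top_le_iff.mp fun g _ => ?_
    obtain ⟨d, hd⟩ := exists_smul_eq D a (g • a)
    rw [show g = (d : G) * ((d : G)⁻¹ * g) by group]
    refine mul_mem (Subgroup.mem_sup_right d.2) (Subgroup.mem_sup_left ?_)
    rw [mem_stabilizer_iff, mul_smul, ← hd, Subgroup.smul_def, inv_smul_smul]
  have e4 : (A ⊓ B).relIndex (A ⊓ D) = B.relIndex (A ⊓ D) := by
    rw [← Subgroup.inf_relIndex_right B (A ⊓ D), ← Subgroup.inf_relIndex_right (A ⊓ B) (A ⊓ D)]
    congr 1
    ext x
    simp only [Subgroup.mem_inf]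
    tauto
  rw [← e1, ← e2, e3, e4, mul_comm]

theorem index_dvd_ncard_invariant {a : Ω} (S : Set Ω) (haS : a ∉ S)
    (hS : ∀ g ∈ stabilizer G a, ∀ x ∈ S, g • x ∈ S) :
    (Subgroup.closure {g : G | ∀ ω : Ω, g • ω ≠ ω}).index ∣ S.ncard := by
  classical
  let A := stabilizer G a
  let T : SubMulAction A Ω := { carrier := S, smul_mem' := fun g x hx => hS g g.2 x hx }
  let _ := Fintype.ofFinite (orbitRel.Quotient A T)
  rw [← Nat.card_coe_set_eq]
  show _ ∣ Nat.card T
  rw [Nat.card_congr (MulAction.selfEquivSigmaOrbits A T), Nat.card_sigma]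
  refine Finset.dvd_sum fun q _ => ?_
  set x : T := q.out with hx
  have e : Nat.card (orbit A x) = Nat.card (orbit A (x : Ω)) := by
    refine Nat.card_congr (Equiv.ofBijective (fun y => ⟨((y : T) : Ω), ?_⟩) ⟨fun y z h => ?_, ?_⟩)
    · obtain ⟨g, hg⟩ := y.2
      exact ⟨g, congrArg Subtype.val hg⟩
    · exact Subtype.ext (Subtype.ext (congrArg (Subtype.val : orbit A (x : Ω) → Ω) h))
    · rintro ⟨_, g, rfl⟩
      exact ⟨⟨g • x, g, rfl⟩, rfl⟩
  have hne : (x : Ω) ≠ a := fun h => haS (h ▸ x.2)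
  show _ ∣ Nat.card (orbit A x)
  rw [e, orbit_eq_index_mul hne]
  exact dvd_mul_right _ _

theorem index_dvd_card_sub_one [Nonempty Ω] :
    (Subgroup.closure {g : G | ∀ ω : Ω, g • ω ≠ ω}).index ∣ Nat.card Ω - 1 := by
  obtain ⟨a⟩ := ‹Nonempty Ω›
  have := index_dvd_ncard_invariant (G := G) ({a}ᶜ : Set Ω) (a := a) (by simp) (fun g hg x hx h => hx (by
    rw [Set.mem_singleton_iff] at h ⊢
    exact MulAction.injective g (h.trans hg.symm)))
  rwa [Set.ncard_compl, Set.ncard_singleton] at this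

end Cfsg.Agent.Recog
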