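import Cfsg.Agent.Lib.Classical.OrthDickson

/-!
Isometries of orthogonal sums in characteristic two: Siegel transformations of two-power order, and
elements of composite order assembled from the summands.
-/

set_option autoImplicit false
set_option linter.unusedSectionVars false
set_option quotPrecheck false

namespace Cfsg.Agent.Recog.EightBlk

open Matrix Cfsg Cfsg.Agent.Classical Cfsg.Agent.Classical.OrthAut

variable {F : Type*} [Field F]
variable {V V' W W' U : Type*} [AddCommGroup V] [Module F V] [AddCommGroup V'] [Module F V'] [AddCommGroup W]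
  [Module F W] [AddCommGroup W'] [Module F W'] [AddCommGroup U] [Module F U]

/-- Two forms correspond under a linear equivalence. -/
def Eqv (Q : V → F) (Q' : W → F) : Prop := ∃ e : V ≃ₗ[F] W, ∀ v, Q' (e v) = Q v

/-- The orthogonal sum. -/
def dsum (Q : V → F) (Q' : W → F) : V × W → F := fun x => Q x.1 + Q' x.2

theorem Eqv.trans {Q : V → F} {Q' : W → F} {Q'' : U → F} (h : Eqv Q Q') (h' : Eqv Q' Q'') : Eqv Q Q'' := by
  obtain ⟨e, he⟩ := h
  obtain ⟨f, hf⟩ := h'
  exact ⟨e.trans f, fun v => (hf (e v)).trans (he v)⟩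

theorem Eqv.symm {Q : V → F} {Q' : W → F} (h : Eqv Q Q') : Eqv Q' Q := by
  obtain ⟨e, he⟩ := h
  exact ⟨e.symm, fun v => by conv_rhs => rw [← e.apply_symm_apply v, he]⟩

theorem eqv_refl (Q : V → F) : Eqv Q Q := ⟨LinearEquiv.refl F V, fun _ => rfl⟩

theorem Eqv.dsum_congr {Q : V → F} {Q₁ : V' → F} {R : W → F} {R₁ : W' → F} (h : Eqv Q Q₁) (h' : Eqv R R₁) :
    Eqv (dsum Q R) (dsum Q₁ R₁) := by
  obtain ⟨e, he⟩ := h
  obtain ⟨f, hf⟩ := h'
  exact ⟨e.prodCongr f, fun v => by simp only [dsum, LinearEquiv.prodCongr_apply, he, hf]⟩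

theorem eqv_assoc (Q : V → F) (Q' : W → F) (Q'' : U → F) :
    Eqv (dsum (dsum Q Q') Q'') (dsum Q (dsum Q' Q'')) :=
  ⟨LinearEquiv.prodAssoc F V W U, fun v => by simp [dsum, add_assoc]⟩

theorem eqv_comm (Q : V → F) (Q' : W → F) : Eqv (dsum Q Q') (dsum Q' Q) :=
  ⟨LinearEquiv.prodComm F V W, fun v => by simp [dsum, add_comm]⟩

/-- The isometries of a form. -/
def aut (Q : V → F) : Subgroup (V ≃ₗ[F] V) where
  carrier := {g | ∀ v, Q (g v) = Q v}
  mul_mem' {a b} ha hb v := (ha (b v)).trans (hb v)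
  one_mem' _ := rfl
  inv_mem' {a} ha v := by
    have h := ha (a⁻¹ v)
    rw [show a (a⁻¹ v) = v from a.apply_symm_apply v] at h
    exact h.symm

theorem aut_apply {Q : V → F} (g : aut Q) (v : V) : Q (g.1 v) = Q v := g.2 v

theorem coe_mul_apply {Q : V → F} (g h : aut Q) (v : V) : (g * h).1 v = g.1 (h.1 v) := rfl

theorem coe_one_apply (Q : V → F) (v : V) : (1 : aut Q).1 v = v := rfl

/-- The first summand's isometries in the sum. -/
def inlA (Q : V → F) (Q' : W → F) : aut Q →* aut (dsum Q Q') where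
  toFun g := ⟨g.1.prodCongr (LinearEquiv.refl F W), fun v => by simp [dsum, aut_apply]⟩
  map_one' := Subtype.ext (LinearEquiv.ext fun v => rfl)
  map_mul' _ _ := Subtype.ext (LinearEquiv.ext fun v => rfl)

/-- The second summand's isometries in the sum. -/
def inrA (Q : V → F) (Q' : W → F) : aut Q' →* aut (dsum Q Q') where
  toFun g := ⟨(LinearEquiv.refl F V).prodCongr g.1, fun v => by simp [dsum, aut_apply]⟩
  map_one' := Subtype.ext (LinearEquiv.ext fun v => rfl)
  map_mul' _ _ := Subtype.ext (LinearEquiv.ext fun v => rfl)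

theorem inlA_apply {Q : V → F} {Q' : W → F} (g : aut Q) (v : V × W) : (inlA Q Q' g).1 v = (g.1 v.1, v.2) := rfl

theorem inrA_apply {Q : V → F} {Q' : W → F} (g : aut Q') (v : V × W) : (inrA Q Q' g).1 v = (v.1, g.1 v.2) := rfl

theorem inlA_injective (Q : V → F) (Q' : W → F) : Function.Injective (inlA Q Q') := fun g h hgh =>
  Subtype.ext (LinearEquiv.ext fun v => congrArg Prod.fst (congrArg (fun k : aut (dsum Q Q') => k.1 (v, 0)) hgh))

theorem inrA_injective (Q : V → F) (Q' : W → F) : Function.Injective (inrA Q Q') := fun g h hgh =>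
  Subtype.ext (LinearEquiv.ext fun v => congrArg Prod.snd (congrArg (fun k : aut (dsum Q Q') => k.1 (0, v)) hgh))

theorem commute_lr {Q : V → F} {Q' : W → F} (g : aut Q) (h : aut Q') : Commute (inlA Q Q' g) (inrA Q Q' h) :=
  Subtype.ext (LinearEquiv.ext fun _ => rfl)

/-- Transport of an isometry along an equivalence. -/
theorem exists_map_aut {Q : V → F} {Q' : W → F} (h : Eqv Q Q') {n : ℕ} (g : aut Q) (hg : orderOf g = n) :
    ∃ g' : aut Q', orderOf g' = n := by
  obtain ⟨e, he⟩ := h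
  let f : aut Q →* aut Q' :=
    { toFun := fun k => ⟨(e.symm.trans k.1).trans e, fun v => by
        show Q' (e (k.1 (e.symm v))) = Q' v
        rw [he, aut_apply k, ← he, e.apply_symm_apply]⟩
      map_one' := Subtype.ext (LinearEquiv.ext fun v => e.apply_symm_apply v)
      map_mul' := fun a b => Subtype.ext (LinearEquiv.ext fun v => by
        show e (a.1 (b.1 (e.symm v))) = e (a.1 (e.symm (e (b.1 (e.symm v)))))
        rw [e.symm_apply_apply]) }
  refine ⟨f g, (orderOf_injective f (fun a b hab => Subtype.ext (LinearEquiv.ext fun v => e.injective ?_)) g).trans hg⟩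
  have := congrArg (fun k : aut Q' => k.1 (e v)) hab
  show e (a.1 v) = e (b.1 v)
  simpa [f] using this

section Transport

variable {ι : Type} [Fintype ι] [DecidableEq ι] {Q : V → F} {Q' : QuadraticForm F (ι → F)}
  (e : V ≃ₗ[F] (ι → F)) (he : ∀ v, Q' (e v) = Q v)

/-- The matrix of an isometry in the coordinates given by `e`. -/
noncomputable def matHom (Q : V → F) : aut Q →* Matrix ι ι F where
  toFun g := LinearMap.toMatrix' ((e.symm.trans g.1).trans e).toLinearMap
  map_one' := by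
    rw [show ((e.symm.trans (1 : aut Q).1).trans e).toLinearMap = LinearMap.id from
      LinearMap.ext fun v => e.apply_symm_apply v, LinearMap.toMatrix'_id]
  map_mul' g h := by
    rw [← LinearMap.toMatrix'_comp]
    congr 1
    refine LinearMap.ext fun v => ?_
    show e (g.1 (h.1 (e.symm v))) = e (g.1 (e.symm (e (h.1 (e.symm v)))))
    rw [e.symm_apply_apply]

theorem matHom_mulVec (g : aut Q) (v : V) : matHom e Q g *ᵥ e v = e (g.1 v) := by
  show LinearMap.toMatrix' ((e.symm.trans g.1).trans e).toLinearMap *ᵥ e v = _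
  rw [LinearMap.toMatrix'_mulVec]
  show e (g.1 (e.symm (e v))) = _
  rw [e.symm_apply_apply]

/-- Isometries as elements of the matrix group. -/
noncomputable def toOG : aut Q →* isometryGroup F ⇑Q' :=
  ((matHom e Q).toHomUnits).codRestrict (isometryGroup F ⇑Q') fun g => mem_isometryGroup.2 fun w => by
    obtain ⟨v, rfl⟩ := e.surjective w
    show Q' (matHom e Q g *ᵥ e v) = Q' (e v)
    rw [matHom_mulVec, he, he]; exact g.2 v

theorem toOG_apply (g : aut Q) (v : V) : ogVal (toOG e he g) *ᵥ e v = e (g.1 v) := matHom_mulVec e g v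

theorem toOG_injective : Function.Injective (toOG e he) := fun g h hgh =>
  Subtype.ext (LinearEquiv.ext fun v => e.injective (by rw [← toOG_apply e he g v, hgh, toOG_apply]))

end Transport

section Siegel

variable [CharP F 2]

/-- The hyperbolic plane. -/
noncomputable def hyp : QuadraticForm F (F × F) := QuadraticMap.linMulLin (LinearMap.fst F F F) (LinearMap.snd F F F)

theorem hyp_apply (p : F × F) : hyp p = p.1 * p.2 := rfl

/-- A hyperbolic plane glued to `W`. -/
noncomputable def ext2 (q : QuadraticForm F W) : QuadraticForm F ((F × F) × W) := QuadraticMap.prod hyp q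

theorem coe_ext2 (q : QuadraticForm F W) : ⇑(ext2 q) = dsum ⇑(hyp : QuadraticForm F (F × F)) ⇑q := rfl

theorem add_self2 {M : Type*} [AddCommGroup M] [Module F M] (x : M) : x + x = 0 := by
  rw [← two_smul F, CharTwo.two_eq_zero, zero_smul]

variable {q : QuadraticForm F W}

theorem polar_aut (g : aut ⇑q) (x y : W) : QuadraticMap.polar q (g.1 x) (g.1 y) = QuadraticMap.polar q x y := by
  simp only [QuadraticMap.polar, ← map_add, aut_apply g]

/-- A Siegel transformation following an isometry of `W`. -/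
noncomputable def sieg (r : aut ⇑q) (w : W) : aut ⇑(ext2 q) :=
  ⟨{ toFun := fun v => ((v.1.1 + QuadraticMap.polar q (r.1 v.2) w + v.1.2 * q w, v.1.2), r.1 v.2 + v.1.2 • w)
     invFun := fun v => ((v.1.1 + QuadraticMap.polar q (v.2 + v.1.2 • w) w + v.1.2 * q w, v.1.2),
        r.1.symm (v.2 + v.1.2 • w))
     map_add' := fun x y => by
      simp only [Prod.fst_add, Prod.snd_add, map_add, QuadraticMap.polar_add_left, add_smul, Prod.mk_add_mk]
      refine Prod.ext (Prod.ext ?_ rfl) ?_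
      · ring
      · show r.1 x.2 + r.1 y.2 + (x.1.2 • w + y.1.2 • w) = r.1 x.2 + x.1.2 • w + (r.1 y.2 + y.1.2 • w)
        abel
     map_smul' := fun c x => by
      simp only [Prod.smul_fst, Prod.smul_snd, map_smul, QuadraticMap.polar_smul_left, RingHom.id_apply,
        Prod.smul_mk, smul_add, smul_smul, smul_eq_mul]
      refine Prod.ext (Prod.ext ?_ rfl) rfl
      ring
     left_inv := fun v => by
      refine Prod.ext (Prod.ext ?_ rfl) ?_
      · show v.1.1 + QuadraticMap.polar q (r.1 v.2) w + v.1.2 * q w +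
          QuadraticMap.polar q (r.1 v.2 + v.1.2 • w + v.1.2 • w) w + v.1.2 * q w = v.1.1
        rw [add_assoc (r.1 v.2), add_self2 (F := F) (v.1.2 • w), add_zero]
        linear_combination (QuadraticMap.polar q (r.1 v.2) w + v.1.2 * q w) * CharTwo.two_eq_zero (R := F)
      · show r.1.symm (r.1 v.2 + v.1.2 • w + v.1.2 • w) = v.2
        rw [add_assoc, add_self2 (F := F) (v.1.2 • w), add_zero, LinearEquiv.symm_apply_apply]
     right_inv := fun v => by
      refine Prod.ext (Prod.ext ?_ rfl) ?_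
      · show v.1.1 + QuadraticMap.polar q (v.2 + v.1.2 • w) w + v.1.2 * q w +
          QuadraticMap.polar q (r.1 (r.1.symm (v.2 + v.1.2 • w))) w + v.1.2 * q w = v.1.1
        rw [LinearEquiv.apply_symm_apply]
        linear_combination (QuadraticMap.polar q (v.2 + v.1.2 • w) w + v.1.2 * q w) * CharTwo.two_eq_zero (R := F)
      · show r.1 (r.1.symm (v.2 + v.1.2 • w)) + v.1.2 • w = v.2
        rw [LinearEquiv.apply_symm_apply, add_assoc, add_self2 (F := F) (v.1.2 • w), add_zero] },
    fun v => by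
      show (v.1.1 + QuadraticMap.polar q (r.1 v.2) w + v.1.2 * q w) * v.1.2 + q (r.1 v.2 + v.1.2 • w) =
        v.1.1 * v.1.2 + q v.2
      rw [QuadraticMap.map_add ⇑q, QuadraticMap.map_smul, QuadraticMap.polar_smul_right, aut_apply r, smul_eq_mul,
        smul_eq_mul]
      linear_combination (v.1.2 * QuadraticMap.polar q (r.1 v.2) w + v.1.2 ^ 2 * q w) * CharTwo.two_eq_zero (R := F)⟩

theorem sieg_apply (r : aut ⇑q) (w : W) (v : (F × F) × W) : (sieg r w).1 v =
    ((v.1.1 + QuadraticMap.polar q (r.1 v.2) w + v.1.2 * q w, v.1.2), r.1 v.2 + v.1.2 • w) := rfl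

theorem sieg_mul (r r' : aut ⇑q) (w w' : W) : sieg r w * sieg r' w' = sieg (r * r') (w + r.1 w') := by
  refine Subtype.ext (LinearEquiv.ext fun v => ?_)
  rw [coe_mul_apply, sieg_apply r' w', sieg_apply, sieg_apply, coe_mul_apply]
  simp only [map_add, map_smul, QuadraticMap.polar_add_left, QuadraticMap.polar_add_right,
    QuadraticMap.polar_smul_left, polar_aut, QuadraticMap.map_add ⇑q, aut_apply r, smul_add, smul_eq_mul]
  refine Prod.ext (Prod.ext ?_ rfl) ?_
  · rw [QuadraticMap.polar_comm ⇑q w (r.1 w')]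
    ring
  · show r.1 (r'.1 v.2) + v.1.2 • r.1 w' + v.1.2 • w = r.1 (r'.1 v.2) + (v.1.2 • w + v.1.2 • r.1 w')
    abel

theorem sieg_one_zero : sieg (1 : aut ⇑q) 0 = 1 :=
  Subtype.ext (LinearEquiv.ext fun v => by simp [sieg_apply])

theorem sieg_pow (r : aut ⇑q) (w : W) (n : ℕ) :
    sieg r w ^ n = sieg (r ^ n) (∑ i ∈ Finset.range n, (r ^ i).1 w) := by
  induction n with
  | zero => rw [pow_zero, pow_zero, Finset.range_zero, Finset.sum_empty, sieg_one_zero]
  | succ n ih =>
    rw [pow_succ, ih, sieg_mul, ← pow_succ, Finset.sum_range_succ]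

/-- The isotropic vector moved by the Siegel transformations. -/
def fv : (F × F) × W := ((0, 1), 0)

theorem sieg_fv (r : aut ⇑q) (w : W) : (sieg r w).1 fv = ((q w, 1), w) := by
  simp [sieg_apply, fv]

theorem orderOf_sieg {r : aut ⇑q} {w : W} {k : ℕ} (hr : r ^ 2 ^ k = 1)
    (hw : ∑ i ∈ Finset.range (2 ^ k), (r ^ i).1 w ≠ 0) : orderOf (sieg r w) = 2 ^ (k + 1) := by
  refine orderOf_eq_prime_pow (p := 2) ?_ ?_
  · intro h
    have := congrArg (fun g : aut ⇑(ext2 q) => (g.1 fv).2) h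
    rw [sieg_pow] at this
    simp only [sieg_fv] at this
    exact hw this
  · rw [pow_succ, pow_mul, pow_two, sieg_pow, sieg_mul, hr, one_mul, coe_one_apply, add_self2 (F := F), sieg_one_zero]

variable (z : W) (hz : q z ≠ 0)

/-- The reflection at `z`. -/
noncomputable def rfl2 : aut ⇑q :=
  have key : ∀ x, x + ((q z)⁻¹ * QuadraticMap.polar q x z) • z +
      ((q z)⁻¹ * QuadraticMap.polar q (x + ((q z)⁻¹ * QuadraticMap.polar q x z) • z) z) • z = x := fun x => by
    rw [QuadraticMap.polar_add_left, QuadraticMap.polar_smul_left, QuadraticMap.polar_self, add_assoc, ← add_smul]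
    have : (q z)⁻¹ * QuadraticMap.polar q x z + (q z)⁻¹ * (QuadraticMap.polar q x z +
        ((q z)⁻¹ * QuadraticMap.polar q x z) • (2 • q z)) = 0 := by
      rw [two_nsmul, CharTwo.add_self_eq_zero, smul_zero, add_zero, CharTwo.add_self_eq_zero]
    rw [this, zero_smul, add_zero]
  ⟨{ toFun := fun x => x + ((q z)⁻¹ * QuadraticMap.polar q x z) • z
     invFun := fun x => x + ((q z)⁻¹ * QuadraticMap.polar q x z) • z
     map_add' := fun x y => by rw [QuadraticMap.polar_add_left, mul_add, add_smul]; abel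
     map_smul' := fun c x => by
      rw [QuadraticMap.polar_smul_left, RingHom.id_apply, smul_add, smul_smul, smul_eq_mul, mul_left_comm]
     left_inv := key
     right_inv := key },
    fun x => by
      show q (x + ((q z)⁻¹ * QuadraticMap.polar q x z) • z) = q x
      rw [QuadraticMap.map_add ⇑q, QuadraticMap.map_smul, QuadraticMap.polar_smul_right, smul_eq_mul, smul_eq_mul]
      field_simp
      linear_combination (QuadraticMap.polar q x z ^ 2) * CharTwo.two_eq_zero (R := F)⟩

theorem rfl2_apply (x : W) : (rfl2 z hz).1 x = x + ((q z)⁻¹ * QuadraticMap.polar q x z) • z := rfl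

theorem rfl2_sq : rfl2 z hz ^ 2 ^ 1 = 1 := by
  refine Subtype.ext (LinearEquiv.ext fun x => ?_)
  exact (rfl2 z hz).1.left_inv x

variable {z}

include hz in
/-- The element of order four on a hyperbolic plane glued to a plane. -/
theorem exists_four {w : W} (hw : QuadraticMap.polar q w z ≠ 0) :
    ∃ T : aut ⇑(ext2 q), orderOf T = 4 ∧ (T ^ 2).1 fv ≠ fv ∧
      ∑ i ∈ Finset.range 4, (T ^ i).1 fv ≠ 0 := by
  have hz0 : z ≠ 0 := fun h => hw (by rw [h, QuadraticMap.polar_zero_right])
  have hmove : (rfl2 z hz).1 w - w = ((q z)⁻¹ * QuadraticMap.polar q w z) • z := by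
    rw [rfl2_apply, add_sub_cancel_left]
  have hs : ∑ i ∈ Finset.range (2 ^ 1), (rfl2 z hz ^ i).1 w ≠ 0 := by
    rw [show (2 : ℕ) ^ 1 = 2 from rfl, Finset.sum_range_succ, Finset.sum_range_one, pow_zero, pow_one, coe_one_apply]
    intro h
    have h' : (rfl2 z hz).1 w = w := by
      rw [← sub_eq_zero, sub_eq_add_neg, show -w = w from neg_eq_of_add_eq_zero_left (add_self2 (F := F) w), add_comm]
      exact h
    rw [h', sub_self] at hmove
    exact smul_ne_zero (mul_ne_zero (inv_ne_zero hz) hw) hz0 hmove.symm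
  have ho := orderOf_sieg (rfl2_sq z hz) hs
  refine ⟨sieg (rfl2 z hz) w, ho, ?_, ?_⟩
  · rw [sieg_pow, sieg_fv]
    intro h
    exact hs (congrArg Prod.snd h)
  · intro h
    have h2 := congrArg (fun v : (F × F) × W => v.1.1) h
    simp only [Finset.sum_range_succ, Finset.sum_range_zero, sieg_pow, sieg_fv, pow_zero, pow_one, coe_one_apply,
      zero_add, map_zero, Prod.fst_add, QuadraticMap.map_zero, Prod.fst_zero] at h2
    have e2 : (rfl2 z hz ^ 2).1 w = w := by rw [show (2 : ℕ) = 2 ^ 1 from rfl, rfl2_sq]; rfl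
    rw [e2, add_comm (w + _) w, ← add_assoc, add_self2 (F := F) w, zero_add, QuadraticMap.map_add ⇑q,
      aut_apply (rfl2 z hz)] at h2
    have h3 : QuadraticMap.polar q w ((rfl2 z hz).1 w) = 0 := by
      linear_combination h2 - (2 * q w) * CharTwo.two_eq_zero (R := F)
    rw [rfl2_apply, QuadraticMap.polar_add_right, QuadraticMap.polar_self, QuadraticMap.polar_smul_right,
      two_nsmul, CharTwo.add_self_eq_zero, zero_add, smul_eq_mul] at h3
    exact mul_ne_zero (mul_ne_zero (inv_ne_zero hz) hw) hw h3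

include hz in
/-- The element of order eight on two hyperbolic planes glued to a plane. -/
theorem exists_eight {w : W} (hw : QuadraticMap.polar q w z ≠ 0) :
    ∃ R : aut ⇑(ext2 (ext2 q)), orderOf R = 8 := by
  obtain ⟨T, hT, -, hs⟩ := exists_four hz hw
  exact ⟨sieg T fv, orderOf_sieg (k := 2) (by rw [show (2 : ℕ) ^ 2 = 4 from rfl, ← hT, pow_orderOf_eq_one]) hs⟩

end Siegel

section Assemble

variable {ι : Type} [Fintype ι] [DecidableEq ι] {Q : QuadraticForm F (ι → F)}
variable {Q₁ : V → F} {Q₂ : W → F} {Q₃ : U → F}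

local notation "OG" => isometryGroup F ⇑Q

/-- An element of order `n` with an anisotropic fixed vector. -/
def A1 (Q : QuadraticForm F (ι → F)) (n : ℕ) : Prop :=
  ∃ (g : isometryGroup F ⇑Q) (v : ι → F), orderOf g = n ∧ ogVal g *ᵥ v = v ∧ Q v ≠ 0

/-- An element of order `n` and a commuting one of order four moving a fixed vector. -/
def A2 (Q : QuadraticForm F (ι → F)) (n : ℕ) : Prop :=
  ∃ (g T : isometryGroup F ⇑Q) (v : ι → F), orderOf g = n ∧ orderOf T = 4 ∧ Commute g T ∧
    ogVal g *ᵥ v = v ∧ ogVal (T ^ 2) *ᵥ v ≠ v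

/-- An element of order `n` and a commuting one of order eight. -/
def A3 (Q : QuadraticForm F (ι → F)) (n : ℕ) : Prop :=
  ∃ g R : isometryGroup F ⇑Q, orderOf g = n ∧ orderOf R = 8 ∧ Commute g R

/-- An element of order `n`, a commuting one of order four, and a vector with nonzero norm beside a reflection. -/
def A4 (Q : QuadraticForm F (ι → F)) (n : ℕ) : Prop :=
  ∃ (g T : isometryGroup F ⇑Q) (z v : ι → F), orderOf g = n ∧ orderOf T = 4 ∧ Commute g T ∧
    ogVal g *ᵥ v = v ∧ ogVal g *ᵥ z = z ∧ ogVal T *ᵥ z = z ∧ Q z ≠ 0 ∧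
    (∀ i : ℕ, QuadraticMap.polar Q (ogVal (T ^ i) *ᵥ v) z = 0) ∧
    ∑ i ∈ Finset.range 4, ogVal (T ^ i) *ᵥ v ≠ 0

theorem exists_coprime (h : Eqv (dsum Q₁ Q₂) ⇑Q) {g₁ : aut Q₁} {g₂ : aut Q₂}
    (hco : (orderOf g₁).Coprime (orderOf g₂)) : ∃ g : OG, orderOf g = orderOf g₁ * orderOf g₂ := by
  obtain ⟨e, he⟩ := h
  refine ⟨toOG e he (inlA Q₁ Q₂ g₁ * inrA Q₁ Q₂ g₂), ?_⟩
  rw [orderOf_injective _ (toOG_injective e he), (commute_lr g₁ g₂).orderOf_mul_eq_mul_orderOf_of_coprime,
    orderOf_injective _ (inlA_injective Q₁ Q₂), orderOf_injective _ (inrA_injective Q₁ Q₂)]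
  rwa [orderOf_injective _ (inlA_injective Q₁ Q₂), orderOf_injective _ (inrA_injective Q₁ Q₂)]

theorem exists_one (h : Eqv Q₁ ⇑Q) (g₁ : aut Q₁) : ∃ g : OG, orderOf g = orderOf g₁ := by
  obtain ⟨e, he⟩ := h
  exact ⟨toOG e he g₁, orderOf_injective _ (toOG_injective e he) g₁⟩

theorem a1_of (h : Eqv (dsum Q₁ Q₂) ⇑Q) (h0 : Q₁ 0 = 0) (g₁ : aut Q₁) {v : W} (hv : Q₂ v ≠ 0) :
    A1 Q (orderOf g₁) := by
  obtain ⟨e, he⟩ := h
  refine ⟨toOG e he (inlA Q₁ Q₂ g₁), e (0, v), ?_, ?_, ?_⟩
  · rw [orderOf_injective _ (toOG_injective e he), orderOf_injective _ (inlA_injective Q₁ Q₂)]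
  · rw [toOG_apply, inlA_apply, map_zero]
  · rwa [he, dsum, h0, zero_add]

theorem a2_of (h : Eqv (dsum Q₁ Q₂) ⇑Q) (g₁ : aut Q₁) {T : aut Q₂} (hT : orderOf T = 4) {v : W}
    (hv : (T ^ 2).1 v ≠ v) : A2 Q (orderOf g₁) := by
  obtain ⟨e, he⟩ := h
  refine ⟨toOG e he (inlA Q₁ Q₂ g₁), toOG e he (inrA Q₁ Q₂ T), e (0, v), ?_, ?_, (commute_lr g₁ T).map _, ?_, ?_⟩
  · rw [orderOf_injective _ (toOG_injective e he), orderOf_injective _ (inlA_injective Q₁ Q₂)]
  · rw [orderOf_injective _ (toOG_injective e he), orderOf_injective _ (inrA_injective Q₁ Q₂), hT]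
  · rw [toOG_apply, inlA_apply, map_zero]
  · rw [← map_pow, ← map_pow, toOG_apply, inrA_apply]
    exact fun hh => hv (congrArg Prod.snd (e.injective hh))

theorem a3_of (h : Eqv (dsum Q₁ Q₂) ⇑Q) (g₁ : aut Q₁) {R : aut Q₂} (hR : orderOf R = 8) : A3 Q (orderOf g₁) := by
  obtain ⟨e, he⟩ := h
  refine ⟨toOG e he (inlA Q₁ Q₂ g₁), toOG e he (inrA Q₁ Q₂ R), ?_, ?_, (commute_lr g₁ R).map _⟩
  · rw [orderOf_injective _ (toOG_injective e he), orderOf_injective _ (inlA_injective Q₁ Q₂)]
  · rw [orderOf_injective _ (toOG_injective e he), orderOf_injective _ (inrA_injective Q₁ Q₂), hR]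

theorem a4_of (h : Eqv (dsum Q₁ (dsum Q₂ Q₃)) ⇑Q) (h1 : Q₁ 0 = 0) (h2 : Q₂ 0 = 0) (h3 : Q₃ 0 = 0)
    (g₁ : aut Q₁) {T : aut Q₂} (hT : orderOf T = 4) {v : W} (hs : ∑ i ∈ Finset.range 4, (T ^ i).1 v ≠ 0)
    {z : U} (hz : Q₃ z ≠ 0) : A4 Q (orderOf g₁) := by
  obtain ⟨e, he⟩ := h
  set g : OG := toOG e he (inlA Q₁ (dsum Q₂ Q₃) g₁) with hg
  set T' : OG := toOG e he (inrA Q₁ (dsum Q₂ Q₃) (inlA Q₂ Q₃ T)) with hT'
  have hTi : ∀ (i : ℕ) (y : W) (x : U), ogVal (T' ^ i) *ᵥ e (0, (y, x)) = e (0, ((T ^ i).1 y, x)) := fun i y x => by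
    rw [hT', ← map_pow, ← map_pow, ← map_pow, toOG_apply, inrA_apply, inlA_apply]
  have hgf : ∀ y, ogVal g *ᵥ e (0, y) = e (0, y) := fun y => by rw [hg, toOG_apply, inlA_apply, map_zero]
  refine ⟨g, T', e (0, (0, z)), e (0, (v, 0)), ?_, ?_, (commute_lr g₁ _).map _, hgf _, hgf _, ?_, ?_, fun i => ?_, ?_⟩
  · rw [hg, orderOf_injective _ (toOG_injective e he), orderOf_injective _ (inlA_injective _ _)]
  · rw [hT', orderOf_injective _ (toOG_injective e he), orderOf_injective _ (inrA_injective _ _),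
      orderOf_injective _ (inlA_injective _ _), hT]
  · have := hTi 1 0 z
    rwa [pow_one, pow_one, map_zero] at this
  · rw [he, dsum, dsum, h1, h2, zero_add, zero_add]; exact hz
  · rw [hTi, QuadraticMap.polar, ← map_add, he, he, he]
    simp [dsum, h1, h2, h3]
  · simp only [hTi, ← map_sum]
    intro hh
    have := congrArg (fun p : V × (W × U) => p.2.1) (e.map_eq_zero_iff.1 hh)
    simp only [Prod.snd_sum, Prod.fst_sum, Prod.snd_zero, Prod.fst_zero] at this
    exact hs this

end Assemble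

end Cfsg.Agent.Recog.EightBlk
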