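import Cfsg.Agent.Lib.Recog.EightTori

/-!
Witnesses for the maximal element orders in the elliptic orthogonal group of dimension eight,
characteristic two.
-/

set_option autoImplicit false
set_option linter.unusedSectionVars false

namespace Cfsg.Agent.Recog.EightBlk

open Matrix Cfsg Cfsg.Agent.Classical Cfsg.Agent.Classical.OrthAut

variable {F : Type*} [Field F] [Fintype F] [CharP F 2] {a b : F}

local notation "q" => Fintype.card F

theorem even_card : Even (Fintype.card F) := by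
  haveI : Fact (Nat.Prime 2) := ⟨Nat.prime_two⟩
  obtain ⟨k, -, hk⟩ := FiniteField.card F 2
  exact hk ▸ even_two.pow_of_ne_zero k.pos.ne'

theorem coprime_two {x y : ℕ} (hx : Odd x) (h : y = x + 2) : x.Coprime y := by
  subst h
  exact Nat.coprime_self_add_right.2 (Nat.coprime_two_right.2 hx)

/-- `x + 1` is prime to `y` when `y ≡ ±1` or `±2` modulo `x + 1` -/
theorem coprime_of_mul_add {x y z c : ℕ} (hx : Odd x) (hc : c = 1 ∨ c = 2) (h : y = x * z + c ∨ y + c = x * z) :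
    x.Coprime y := by
  have hco : x.Coprime c := by
    rcases hc with rfl | rfl
    exacts [Nat.coprime_one_right x, Nat.coprime_two_right.2 hx]
  refine Nat.coprime_of_dvd' fun r hr hrx hry => ?_
  have hd : r ∣ c := by
    rcases h with h | h
    · rw [h] at hry
      exact (Nat.dvd_add_iff_right (hrx.mul_right z)).2 hry
    · have := hrx.mul_right z
      rw [← h] at this
      exact (Nat.dvd_add_iff_right hry).2 this
  exact hco ▸ Nat.dvd_gcd hrx hd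

variable (hab : Aniso F a b)
include hab

theorem glue₁ (k l : ℕ) (h : k + l = 3) :
    Eqv (dsum ⇑(qfPlus k F) ⇑(qfMinus l F a b)) ⇑(qfMinus 3 F a b) := h ▸ eqv_plus_minus k l

theorem glue₂ (k l : ℕ) (h : k + l = 3) :
    Eqv (dsum ⇑(qfMinus l F a b) ⇑(qfPlus k F)) ⇑(qfMinus 3 F a b) := (eqv_comm _ _).trans (glue₁ hab k l h)

theorem exists_pair {V W : Type*} [AddCommGroup V] [Module F V] [AddCommGroup W] [Module F W] {Q₁ : V → F}
    {Q₂ : W → F} {g₁ : aut Q₁} {g₂ : aut Q₂} (hco : (orderOf g₁).Coprime (orderOf g₂)) :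
    ∃ g : aut (dsum Q₁ Q₂), orderOf g = orderOf g₁ * orderOf g₂ := by
  refine ⟨inlA Q₁ Q₂ g₁ * inrA Q₁ Q₂ g₂, ?_⟩
  rw [(commute_lr g₁ g₂).orderOf_mul_eq_mul_orderOf_of_coprime, orderOf_injective _ (inlA_injective Q₁ Q₂),
    orderOf_injective _ (inrA_injective Q₁ Q₂)]
  rwa [orderOf_injective _ (inlA_injective Q₁ Q₂), orderOf_injective _ (inrA_injective Q₁ Q₂)]

theorem witness_odd (N : ℕ) (hN : N = q ^ 4 - 1 ∨ N = q ^ 4 + 1 ∨ N = (q ^ 3 - 1) * (q + 1) ∨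
    N = (q ^ 3 + 1) * (q - 1)) : ∃ g : isometryGroup F ⇑(qfMinus 3 F a b), orderOf g = N := by
  have hev := even_card (F := F)
  have h2 : 2 ≤ q := Fintype.one_lt_card
  have hsq : 2 ≤ q ^ 2 := h2.trans (Nat.le_self_pow two_ne_zero q)
  rcases hN with rfl | rfl | rfl | rfl
  · obtain ⟨g₁, h₁⟩ := torus_plus (F := F) 1
    obtain ⟨g₂, h₂⟩ := torus_minus 1 hab
    obtain ⟨g, hg⟩ := exists_coprime (glue₁ hab 2 1 rfl) (g₁ := g₁) (g₂ := g₂) (by
      rw [h₁, h₂, show (1 : ℕ) + 1 = 2 from rfl]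
      exact coprime_two (Nat.Even.sub_odd (by omega) (hev.pow_of_ne_zero two_ne_zero) odd_one) (by omega))
    refine ⟨g, hg.trans ?_⟩
    rw [h₁, h₂, mul_comm, ← Nat.sq_sub_sq, one_pow, ← pow_mul]
  · obtain ⟨g₁, h₁⟩ := torus_minus 3 hab
    obtain ⟨g, hg⟩ := exists_one (eqv_refl ⇑(qfMinus 3 F a b)) g₁
    exact ⟨g, hg.trans h₁⟩
  · obtain ⟨g₁, h₁⟩ := torus_plus (F := F) 2
    obtain ⟨g₂, h₂⟩ := torus_minus 0 hab
    obtain ⟨g, hg⟩ := exists_coprime (glue₁ hab 3 0 rfl) (g₁ := g₁) (g₂ := g₂) (by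
      rw [h₁, h₂, zero_add, pow_one]
      refine (coprime_of_mul_add (z := q ^ 2 - q + 1) (c := 2) hev.add_one (Or.inr rfl) (Or.inr ?_)).symm
      have h1 : q ≤ q ^ 2 := Nat.le_self_pow two_ne_zero q
      have h3 : 1 ≤ q ^ 3 := Nat.one_le_pow _ _ (by omega)
      obtain ⟨t, ht⟩ := Nat.exists_eq_add_of_le h1
      rw [ht, Nat.add_sub_cancel_left]
      zify [h3]
      have ht' : ((q : ℕ) : ℤ) ^ 2 = (q : ℤ) + t := by exact_mod_cast ht
      linear_combination ((q : ℤ) + 1) * ht')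
    exact ⟨g, hg.trans (by rw [h₁, h₂, zero_add, pow_one])⟩
  · obtain ⟨g₁, h₁⟩ := torus_plus (F := F) 0
    obtain ⟨g₂, h₂⟩ := torus_minus 2 hab
    obtain ⟨g, hg⟩ := exists_coprime (glue₁ hab 1 2 rfl) (g₁ := g₁) (g₂ := g₂) (by
      rw [h₁, h₂, zero_add, pow_one]
      refine coprime_of_mul_add (z := q ^ 2 + q + 1) (c := 2) (Nat.Even.sub_odd (by omega) hev odd_one) (Or.inr rfl)
        (Or.inl ?_)
      zify [show 1 ≤ q by omega]
      ring)
    exact ⟨g, hg.trans (by rw [h₁, h₂, zero_add, pow_one, mul_comm])⟩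

theorem witness_one (n : ℕ) (hn : n = q ^ 3 - 1 ∨ n = q ^ 3 + 1 ∨ n = (q ^ 2 + 1) * (q - 1) ∨
    n = (q ^ 2 + 1) * (q + 1)) : A1 (qfMinus 3 F a b) n := by
  have hev := even_card (F := F)
  have h2 : 2 ≤ q := Fintype.one_lt_card
  obtain ⟨zp, wp, hzp, -⟩ := planeP (F := F)
  obtain ⟨zm, wm, hzm, -⟩ := planeM hab
  rcases hn with rfl | rfl | rfl | rfl
  · obtain ⟨g₁, h₁⟩ := torus_plus (F := F) 2
    exact h₁ ▸ a1_of (glue₁ hab 3 0 rfl) (QuadraticMap.map_zero _) g₁ hzm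
  · obtain ⟨g₁, h₁⟩ := torus_minus 2 hab
    exact h₁ ▸ a1_of (glue₂ hab 1 2 rfl) (QuadraticMap.map_zero _) g₁ hzp
  · obtain ⟨g₁, h₁⟩ := torus_plus (F := F) 0
    obtain ⟨g₂, h₂⟩ := torus_minus 1 hab
    obtain ⟨g, hg⟩ := exists_pair hab (g₁ := g₁) (g₂ := g₂) (by
      rw [h₁, h₂, zero_add, pow_one]
      refine coprime_of_mul_add (z := q + 1) (c := 2) (Nat.Even.sub_odd (by omega) hev odd_one) (Or.inr rfl)
        (Or.inl ?_)
      zify [show 1 ≤ q by omega]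
      ring)
    have hg' : orderOf g = (q ^ 2 + 1) * (q - 1) := by
      rw [hg, h₁, h₂]
      norm_num [mul_comm]
    exact hg' ▸ a1_of (((eqv_plus_minus 1 1).dsum_congr (eqv_refl _)).trans (glue₂ hab 1 (1 + 1) rfl))
      (by simp [dsum]) g hzp
  · obtain ⟨g₁, h₁⟩ := torus_minus 1 hab
    obtain ⟨g₂, h₂⟩ := torus_minus 0 hab
    obtain ⟨g, hg⟩ := exists_pair hab (g₁ := g₁) (g₂ := g₂) (by
      rw [h₁, h₂, zero_add, pow_one]
      refine (coprime_of_mul_add (z := q - 1) (c := 2) hev.add_one (Or.inr rfl) (Or.inl ?_)).symm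
      zify [show 1 ≤ q by omega]
      ring)
    have hg' : orderOf g = (q ^ 2 + 1) * (q + 1) := by
      rw [hg, h₁, h₂]
      norm_num
    exact hg' ▸ a1_of ((eqv_assoc _ _ _).trans (((eqv_refl _).dsum_congr (eqv_minus_minus hab)).trans
      (glue₂ hab 2 1 rfl))) (by simp [dsum]) g hzm

theorem witness_two (n : ℕ) (hn : n = q ^ 2 - 1 ∨ n = q ^ 2 + 1) : A2 (qfMinus 3 F a b) n := by
  obtain ⟨zp, wp, hzp, hwp⟩ := planeP (F := F)
  obtain ⟨zm, wm, hzm, hwm⟩ := planeM hab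
  rcases hn with rfl | rfl
  · obtain ⟨g₁, h₁⟩ := torus_plus (F := F) 1
    obtain ⟨T, hT, hT2, -⟩ := exists_four hzm hwm
    exact h₁ ▸ a2_of (((eqv_refl _).dsum_congr (eqv_ext2_minus 0)).trans (glue₁ hab 2 (1 + 0) rfl)) g₁ hT hT2
  · obtain ⟨g₁, h₁⟩ := torus_minus 1 hab
    obtain ⟨T, hT, hT2, -⟩ := exists_four hzp hwp
    exact h₁ ▸ a2_of (((eqv_refl _).dsum_congr (eqv_ext2_plus 1)).trans (glue₂ hab (1 + 1) 1 rfl)) g₁ hT hT2

theorem witness_three (n : ℕ) (hn : n = q - 1 ∨ n = q + 1) :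
    A3 (qfMinus 3 F a b) n ∧ A4 (qfMinus 3 F a b) n := by
  obtain ⟨zp, wp, hzp, hwp⟩ := planeP (F := F)
  obtain ⟨zm, wm, hzm, hwm⟩ := planeM hab
  rcases hn with rfl | rfl
  · obtain ⟨g₁, h₁⟩ := torus_plus (F := F) 0
    have h₁' : orderOf g₁ = q - 1 := h₁.trans (by norm_num)
    obtain ⟨R, hR⟩ := exists_eight hzm hwm
    obtain ⟨T, hT, -, hTs⟩ := exists_four hzm hwm
    refine ⟨h₁' ▸ a3_of (((eqv_refl _).dsum_congr ?_).trans (glue₁ hab 1 2 rfl)) g₁ hR,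
      h₁' ▸ a4_of (((eqv_refl _).dsum_congr ?_).trans (glue₁ hab 1 2 rfl)) (QuadraticMap.map_zero _)
        (QuadraticMap.map_zero _) (QuadraticMap.map_zero _) g₁ hT hTs hzp⟩
    · rw [coe_ext2]
      exact (eqv_hyp.dsum_congr (eqv_ext2_minus 0)).trans (eqv_plus_minus 1 (1 + 0))
    · exact (((eqv_ext2_minus 0).dsum_congr (eqv_refl _)).trans (eqv_comm _ _)).trans (eqv_plus_minus 1 (1 + 0))
  · obtain ⟨g₁, h₁⟩ := torus_minus 0 hab
    have h₁' : orderOf g₁ = q + 1 := h₁.trans (by norm_num)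
    obtain ⟨R, hR⟩ := exists_eight hzp hwp
    obtain ⟨T, hT, -, hTs⟩ := exists_four hzp hwp
    refine ⟨h₁' ▸ a3_of (((eqv_refl _).dsum_congr ?_).trans (glue₂ hab 3 0 rfl)) g₁ hR,
      h₁' ▸ a4_of (((eqv_refl _).dsum_congr ?_).trans (glue₂ hab 3 0 rfl)) (QuadraticMap.map_zero _)
        (QuadraticMap.map_zero _) (QuadraticMap.map_zero _) g₁ hT hTs hzp⟩
    · rw [coe_ext2]
      exact (eqv_hyp.dsum_congr (eqv_ext2_plus 1)).trans (eqv_plus_plus 1 (1 + 1))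
    · exact ((eqv_ext2_plus 1).dsum_congr (eqv_refl _)).trans (eqv_plus_plus (1 + 1) 1)

end Cfsg.Agent.Recog.EightBlk
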