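import Mathlib

/-!
Element orders in the split extensions `Vᵏ ⋊ G`, `V` a module in characteristic `p`.
-/

set_option autoImplicit false

namespace Cfsg.Agent.Recog.ModCover

variable {p : ℕ} {K V G : Type*} [Field K] [CharP K p] [AddCommGroup V] [Module K V] [Group G]

/-- the diagonal action on `Vⁿ⁺¹` -/
def act (T : G →* (Module.End K V)ˣ) (n : ℕ) : G →* MulAut (Multiplicative (Fin (n + 1) → V)) :=
  MonoidHom.mk' (fun g => AddEquiv.toMultiplicative (AddEquiv.piCongrRight fun _ : Fin (n + 1) =>
    (LinearMap.GeneralLinearGroup.toLinearEquiv (T g)).toAddEquiv))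
    (fun g h => MulEquiv.ext fun a => by
      apply Multiplicative.toAdd.injective
      funext i
      show ((T (g * h) : Module.End K V)) (a.toAdd i) = (T g : Module.End K V) ((T h : Module.End K V) (a.toAdd i))
      rw [map_mul]; rfl)

/-- `Vⁿ⁺¹ ⋊ G` -/
abbrev H (T : G →* (Module.End K V)ˣ) (n : ℕ) : Type _ := Multiplicative (Fin (n + 1) → V) ⋊[act T n] G

variable (T : G →* (Module.End K V)ˣ) {n : ℕ}

theorem pow_right (h : H T n) (m : ℕ) : (h ^ m).right = h.right ^ m :=
  map_pow (SemidirectProduct.rightHom : H T n →* G) h m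

theorem pow_left (h : H T n) (m : ℕ) (i : Fin (n + 1)) :
    (h ^ m).left.toAdd i =
      (∑ j ∈ Finset.range m, (T h.right : Module.End K V) ^ j) (h.left.toAdd i) := by
  induction m with
  | zero => rfl
  | succ m ih =>
    rw [pow_succ', SemidirectProduct.mul_left, toAdd_mul, Pi.add_apply]
    show _ + (T h.right : Module.End K V) ((h ^ m).left.toAdd i) = _
    rw [ih, ← Module.End.mul_apply, Finset.mul_sum, Finset.sum_range_succ' _ m]
    simp only [← pow_succ', pow_zero, LinearMap.add_apply, Module.End.one_apply]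
    abel

theorem pow_eq_one_of_sum {h : H T n} {m : ℕ} (hg : h.right ^ m = 1)
    (hs : ∑ j ∈ Finset.range m, (T h.right : Module.End K V) ^ j = 0) : h ^ m = 1 := by
  refine SemidirectProduct.ext ?_ ((pow_right T h m).trans hg)
  apply Multiplicative.toAdd.injective
  funext i
  rw [pow_left, hs]
  rfl

include p in
theorem pow_mul_eq_one {h : H T n} {m : ℕ} (hg : h.right ^ m = 1) : h ^ (m * p) = 1 := by
  refine SemidirectProduct.ext ?_ ?_
  · apply Multiplicative.toAdd.injective
    funext i
    have hr : (h ^ m).right = 1 := (pow_right T h m).trans hg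
    rw [pow_mul, pow_left, hr, map_one]
    simp only [Units.val_one, one_pow, Finset.sum_const, Finset.card_range]
    show (p • (1 : Module.End K V)) _ = _
    rw [LinearMap.smul_apply, ← Nat.cast_smul_eq_nsmul K, CharP.cast_eq_zero, zero_smul]
    rfl
  · rw [pow_right, pow_mul, hg, one_pow]; rfl

/-- with no fixed vectors the norm map vanishes -/
theorem sum_eq_zero {g : G} {m : ℕ} (hg : g ^ m = 1) (hfix : ∀ v : V, (T g : Module.End K V) v = v → v = 0) :
    ∑ j ∈ Finset.range m, (T g : Module.End K V) ^ j = 0 := by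
  refine LinearMap.ext fun v => hfix _ ?_
  have h := mul_geom_sum (T g : Module.End K V) m
  rw [← Units.val_pow_eq_pow_val, ← map_pow, hg, map_one, Units.val_one, sub_self, sub_mul, one_mul, sub_eq_zero] at h
  exact DFunLike.congr_fun h v

/-- the norm map of a unipotent operator -/
theorem sum_unipotent [Fact p.Prime] [Nontrivial V] {E : Module.End K V} {d : ℕ} (hd : d < p) (hE : (E - 1) ^ d = 0) :
    ∑ j ∈ Finset.range p, E ^ j = 0 := by
  haveI : CharP (Polynomial K) p := inferInstance
  have hp1 : 1 ≤ p := (Fact.out : p.Prime).one_le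
  have h1 : (∑ j ∈ Finset.range p, (Polynomial.X : Polynomial K) ^ j) = (Polynomial.X - 1) ^ (p - 1) := by
    apply mul_right_cancel₀ (Polynomial.X_sub_C_ne_zero (1 : K))
    rw [Polynomial.C_1, geom_sum_mul, ← pow_succ, Nat.sub_add_cancel hp1, sub_pow_char, one_pow]
  have h2 := congrArg (Polynomial.aeval E) h1
  simp only [map_sum, map_pow, map_sub, Polynomial.aeval_X, map_one] at h2
  rw [h2, show p - 1 = d + (p - 1 - d) by omega, pow_add, hE, zero_mul]

/-- a fixed vector multiplies a `p'`-order by `p` -/
theorem exists_order_mul [Fact p.Prime] (g : G) (hco : p.Coprime (orderOf g)) {v : V} (hv : v ≠ 0)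
    (hfix : (T g : Module.End K V) v = v) : ∃ h : H T n, orderOf h = p * orderOf g := by
  let a : H T n := SemidirectProduct.inl (Multiplicative.ofAdd fun _ => v)
  let b : H T n := SemidirectProduct.inr g
  have ha : orderOf a = p := by
    rw [orderOf_injective _ SemidirectProduct.inl_injective]
    refine orderOf_eq_prime ?_ fun h => hv (congrFun (congrArg Multiplicative.toAdd h) 0)
    apply Multiplicative.toAdd.injective
    funext i
    show (p • (fun _ : Fin (n + 1) => v)) i = 0
    rw [Pi.smul_apply, ← Nat.cast_smul_eq_nsmul K, CharP.cast_eq_zero, zero_smul]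
  have hb : orderOf b = orderOf g := orderOf_injective _ SemidirectProduct.inr_injective g
  have hc : Commute a b := by
    refine SemidirectProduct.ext ?_ ?_
    · apply Multiplicative.toAdd.injective
      funext i
      simp only [a, b, SemidirectProduct.mul_left, SemidirectProduct.left_inl, SemidirectProduct.left_inr,
        SemidirectProduct.right_inr, SemidirectProduct.right_inl, map_one]
      show v + _ = 0 + (T g : Module.End K V) v
      simp [hfix]
    · simp [a, b]
  exact ⟨a * b, by rw [hc.orderOf_mul_eq_mul_orderOf_of_coprime (by rw [ha, hb]; exact hco), ha, hb]⟩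

/-- a nonvanishing norm map multiplies a `p`-order by `p` -/
theorem exists_order_pow [Fact p.Prime] (g : G) {e : ℕ} (hg : orderOf g = p ^ e) {v : V}
    (hs : (∑ j ∈ Finset.range (p ^ e), (T g : Module.End K V) ^ j) v ≠ 0) :
    ∃ h : H T n, orderOf h = p ^ (e + 1) := by
  let h : H T n := ⟨Multiplicative.ofAdd fun _ => v, g⟩
  refine ⟨h, orderOf_eq_prime_pow (fun hh => hs ?_) ?_⟩
  · have := congrFun (congrArg (fun x : H T n => x.left.toAdd) hh) 0
    rw [pow_left] at this
    exact this
  · rw [pow_succ]
    exact pow_mul_eq_one T (show g ^ p ^ e = 1 from hg ▸ pow_orderOf_eq_one g)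

theorem exists_order_inr (g : G) : ∃ h : H T n, orderOf h = orderOf g :=
  ⟨SemidirectProduct.inr g, orderOf_injective _ SemidirectProduct.inr_injective g⟩

theorem card_H [Finite V] [Finite G] : Nat.card (H T n) = Nat.card V ^ (n + 1) * Nat.card G := by
  rw [SemidirectProduct.card, Nat.card_congr Multiplicative.toAdd, Nat.card_fun, Nat.card_fin]

/-- transport to `Type 0` and compare spectra -/
theorem package [Finite V] [Nontrivial V] [Finite G] (n : ℕ) (S : Set ℕ)
    (hS : Set.range (orderOf : H T n → ℕ) = S) :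
    ∃ (H' : Type) (_ : Group H') (_ : Fintype H'), n < Fintype.card H' ∧
      Set.range (orderOf : H' → ℕ) = S := by
  haveI : Finite (H T n) := Finite.of_equiv _ SemidirectProduct.equivProd.symm
  let E : H T n ≃* Shrink.{0} (H T n) := Shrink.mulEquiv.symm
  haveI : Finite (Shrink.{0} (H T n)) := Finite.of_equiv _ E.toEquiv
  letI : Fintype (Shrink.{0} (H T n)) := Fintype.ofFinite _
  refine ⟨Shrink.{0} (H T n), inferInstance, inferInstance, ?_, ?_⟩
  · rw [← Nat.card_eq_fintype_card, Nat.card_congr E.toEquiv.symm, card_H]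
    calc n < n + 1 := Nat.lt_succ_self n
      _ ≤ Nat.card V ^ (n + 1) := (Nat.lt_pow_self Finite.one_lt_card).le
      _ ≤ _ := Nat.le_mul_of_pos_right _ Nat.card_pos
  · rw [← hS]
    ext m
    exact ⟨fun ⟨x, hx⟩ => ⟨E.symm x, by rw [MulEquiv.orderOf_eq, hx]⟩,
      fun ⟨x, hx⟩ => ⟨E x, by rw [MulEquiv.orderOf_eq, hx]⟩⟩

end Cfsg.Agent.Recog.ModCover
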