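import Mathlib
import Cfsg.Agent.S0144

/-!
# A solvable group with the spectrum `{1,2,3,4,5,6,9,12}`

A 2-Frobenius group `A ⋊ (5 : 4)` with `A` a group of order `81 ^ 7` and exponent nine in which the
fixed points of an involution have exponent three.
-/

set_option autoImplicit false

namespace Cfsg.Agent.Recog.TwoFrob81

theorem range_of_three {G : Type*} [Group G] [Finite G] (h : ∀ x : G, x ^ 5 = 1 ∨ x ^ 9 = 1 ∨ x ^ 12 = 1)
    (h5 : ∃ x : G, orderOf x = 5) (h9 : ∃ x : G, orderOf x = 9) (h12 : ∃ x : G, orderOf x = 12) :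
    Set.range (orderOf : G → ℕ) = {n | n ∣ 5 ∨ n ∣ 9 ∨ n ∣ 12} := by
  have key : ∀ N n : ℕ, N ≠ 0 → n ∣ N → (∃ x : G, orderOf x = N) → ∃ x : G, orderOf x = n := by
    rintro N n hN ⟨c, rfl⟩ ⟨x, hx⟩
    refine ⟨x ^ c, ?_⟩
    have hc : c ≠ 0 := fun h => hN (by rw [h, mul_zero])
    rw [orderOf_pow_of_dvd hc ⟨n, by rw [hx, mul_comm]⟩, hx, Nat.mul_div_cancel _ (Nat.pos_of_ne_zero hc)]
  ext n
  constructor
  · rintro ⟨x, rfl⟩
    exact (h x).imp orderOf_dvd_of_pow_eq_one (Or.imp orderOf_dvd_of_pow_eq_one orderOf_dvd_of_pow_eq_one)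
  · rintro (h | h | h)
    · exact key 5 n (by norm_num) h h5
    · exact key 9 n (by norm_num) h h9
    · exact key 12 n (by norm_num) h h12

/-- The 3-group. -/
@[ext]
structure Three (K : Type) where
  u : K
  t : K
  p : K
  r : K
  p2 : K
  r2 : K
  z : K

namespace Three

variable {K : Type} [Field K] [CharP K 3]

theorem three_zero : (3 : K) = 0 := CharP.cast_eq_zero K 3

theorem cube_add (a b : K) : (a + b) ^ 3 = a ^ 3 + b ^ 3 := by
  linear_combination (a ^ 2 * b + a * b ^ 2) * (three_zero (K := K))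

theorem nine_add (a b : K) : (a + b) ^ 9 = a ^ 9 + b ^ 9 := by
  rw [show (9 : ℕ) = 3 * 3 from rfl, pow_mul, cube_add, cube_add, ← pow_mul, ← pow_mul]

instance : Mul (Three K) := ⟨fun x y =>
  ⟨x.u + y.u, x.t + y.t, x.p + y.p + x.u * y.u ^ 3, x.r + y.r + x.u ^ 3 * y.t ^ 9,
    x.p2 + y.p2 + x.u ^ 9 * y.u ^ 3, x.r2 + y.r2 + x.u ^ 3 * y.t,
    x.z + y.z + x.u * y.r + x.p * y.t ^ 9 - (x.u ^ 9 * y.r2 + x.p2 * y.t)⟩⟩

instance : One (Three K) := ⟨⟨0, 0, 0, 0, 0, 0, 0⟩⟩

instance : Inv (Three K) := ⟨fun x =>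
  ⟨-x.u, -x.t, x.u ^ 4 - x.p, x.u ^ 3 * x.t ^ 9 - x.r, x.u ^ 12 - x.p2, x.u ^ 3 * x.t - x.r2,
    -x.z - x.u * (x.u ^ 3 * x.t ^ 9 - x.r) + x.p * x.t ^ 9 + x.u ^ 9 * (x.u ^ 3 * x.t - x.r2) - x.p2 * x.t⟩⟩

theorem mul_def (x y : Three K) : x * y =
  ⟨x.u + y.u, x.t + y.t, x.p + y.p + x.u * y.u ^ 3, x.r + y.r + x.u ^ 3 * y.t ^ 9,
    x.p2 + y.p2 + x.u ^ 9 * y.u ^ 3, x.r2 + y.r2 + x.u ^ 3 * y.t,
    x.z + y.z + x.u * y.r + x.p * y.t ^ 9 - (x.u ^ 9 * y.r2 + x.p2 * y.t)⟩ := rfl

theorem one_def : (1 : Three K) = ⟨0, 0, 0, 0, 0, 0, 0⟩ := rfl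

instance : Group (Three K) where
  mul_assoc a b c := by
    simp only [mul_def, Three.mk.injEq, cube_add, nine_add]
    refine ⟨?_, ?_, ?_, ?_, ?_, ?_, ?_⟩ <;> ring
  one_mul a := by
    simp only [mul_def, one_def]
    ext <;> simp
  mul_one a := by
    simp only [mul_def, one_def]
    ext <;> simp
  inv_mul_cancel a := by
    show (⟨-a.u, -a.t, a.u ^ 4 - a.p, a.u ^ 3 * a.t ^ 9 - a.r, a.u ^ 12 - a.p2, a.u ^ 3 * a.t - a.r2,
      -a.z - a.u * (a.u ^ 3 * a.t ^ 9 - a.r) + a.p * a.t ^ 9 + a.u ^ 9 * (a.u ^ 3 * a.t - a.r2) - a.p2 * a.t⟩ :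
        Three K) * a = 1
    have e3 : ∀ b : K, (-b) ^ 3 = -b ^ 3 := fun b => Odd.neg_pow (by decide) b
    have e9 : ∀ b : K, (-b) ^ 9 = -b ^ 9 := fun b => Odd.neg_pow (by decide) b
    simp only [mul_def, one_def, Three.mk.injEq, e3, e9]
    refine ⟨?_, ?_, ?_, ?_, ?_, ?_, ?_⟩ <;> ring

/-- Coordinates. -/
def coords : Three K ≃ K × K × K × K × K × K × K where
  toFun x := (x.u, x.t, x.p, x.r, x.p2, x.r2, x.z)
  invFun x := ⟨x.1, x.2.1, x.2.2.1, x.2.2.2.1, x.2.2.2.2.1, x.2.2.2.2.2.1, x.2.2.2.2.2.2⟩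
  left_inv _ := rfl
  right_inv _ := rfl

instance [Fintype K] : Fintype (Three K) := Fintype.ofEquiv _ coords.symm

theorem pow_three (x : Three K) : x ^ 3 = ⟨0, 0, 0, 0, 0, 0, x.u ^ 4 * x.t ^ 9 - x.u ^ 12 * x.t⟩ := by
  have h := three_zero (K := K)
  rw [show x ^ 3 = x * x * x from pow_three' x]
  simp only [mul_def, Three.mk.injEq, cube_add, nine_add]
  refine ⟨?_, ?_, ?_, ?_, ?_, ?_, ?_⟩
  · linear_combination x.u * h
  · linear_combination x.t * h
  · linear_combination (x.p + x.u ^ 4) * h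
  · linear_combination (x.r + x.u ^ 3 * x.t ^ 9) * h
  · linear_combination (x.p2 + x.u ^ 12) * h
  · linear_combination (x.r2 + x.u ^ 3 * x.t) * h
  · linear_combination (x.z + x.u * x.r + x.p * x.t ^ 9 - x.u ^ 9 * x.r2 - x.p2 * x.t) * h

theorem pow_nine (x : Three K) : x ^ 9 = 1 := by
  rw [show (9 : ℕ) = 3 * 3 from rfl, pow_mul, pow_three, pow_three, one_def]
  simp

/-- scaling -/
def tauFun (c : Kˣ) (x : Three K) : Three K :=
  ⟨c * x.u, c * x.t, (c : K) ^ 4 * x.p, (c : K) ^ 12 * x.r, (c : K) ^ 12 * x.p2, (c : K) ^ 4 * x.r2, (c : K) ^ 13 * x.z⟩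

theorem tauFun_tauFun (c d : Kˣ) (x : Three K) : tauFun c (tauFun d x) = tauFun (c * d) x := by
  ext <;> simp [tauFun, mul_pow] <;> ring

theorem tauFun_one (x : Three K) : tauFun (1 : Kˣ) x = x := by
  ext <;> simp [tauFun]

def tau : Kˣ →* MulAut (Three K) where
  toFun c :=
    { toFun := tauFun c
      invFun := tauFun c⁻¹
      left_inv := fun x => by rw [tauFun_tauFun, inv_mul_cancel, tauFun_one]
      right_inv := fun x => by rw [tauFun_tauFun, mul_inv_cancel, tauFun_one]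
      map_mul' := fun x y => by
        simp only [mul_def, tauFun, Three.mk.injEq, mul_pow]
        refine ⟨?_, ?_, ?_, ?_, ?_, ?_, ?_⟩ <;> ring }
  map_one' := MulEquiv.ext fun x => tauFun_one x
  map_mul' c d := MulEquiv.ext fun x => (tauFun_tauFun c d x).symm

theorem tau_apply (c : Kˣ) (x : Three K) : tau c x = tauFun c x := rfl

/-- Frobenius on coordinates -/
def frobFun (x : Three K) : Three K :=
  ⟨x.u ^ 3, x.t ^ 3, x.p ^ 3, x.r ^ 3, x.p2 ^ 3, x.r2 ^ 3, x.z ^ 3⟩

noncomputable def frob [Fintype K] : MulAut (Three K) :=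
  MulEquiv.ofBijective (MonoidHom.mk' frobFun fun x y => by
      have hs : ∀ a b : K, (a - b) ^ 3 = a ^ 3 - b ^ 3 := fun a b => by
        linear_combination (-a ^ 2 * b + a * b ^ 2) * (three_zero (K := K))
      simp only [mul_def, frobFun, cube_add, hs, mul_pow, ← pow_mul])
    (by
      refine Function.Injective.bijective_of_finite fun x y h => ?_
      have hi : ∀ a b : K, a ^ 3 = b ^ 3 → a = b := fun a b hab => by
        haveI : Fact (Nat.Prime 3) := ⟨Nat.prime_three⟩
        exact frobenius_inj K 3 hab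
      have h' : frobFun x = frobFun y := h
      simp only [frobFun, Three.mk.injEq] at h'
      obtain ⟨h1, h2, h3, h4, h5, h6, h7⟩ := h'
      exact Three.ext (hi _ _ h1) (hi _ _ h2) (hi _ _ h3) (hi _ _ h4) (hi _ _ h5) (hi _ _ h6) (hi _ _ h7))

theorem frob_pow [Fintype K] (j : ℕ) (x : Three K) : (frob ^ j) x =
    ⟨x.u ^ 3 ^ j, x.t ^ 3 ^ j, x.p ^ 3 ^ j, x.r ^ 3 ^ j, x.p2 ^ 3 ^ j, x.r2 ^ 3 ^ j, x.z ^ 3 ^ j⟩ := by
  induction j with
  | zero => simp
  | succ j ih =>
    rw [pow_succ', MulAut.mul_apply, ih]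
    show frobFun _ = _
    simp only [frobFun, ← pow_mul, ← pow_succ]

theorem frob_pow_tau [Fintype K] (j : ℕ) (c : Kˣ) : frob ^ j * tau c = tau (c ^ 3 ^ j) * frob ^ j := by
  refine MulEquiv.ext fun x => ?_
  rw [MulAut.mul_apply, MulAut.mul_apply, frob_pow, frob_pow, tau_apply, tau_apply]
  ext <;> simp [tauFun, mul_pow, ← pow_mul, mul_comm (3 ^ j)]

end Three

/-- The group `5 : 4`. -/
@[ext]
structure F20 where
  i : ZMod 5
  j : ZMod 4
deriving DecidableEq

namespace F20

def equiv : F20 ≃ ZMod 5 × ZMod 4 where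
  toFun x := (x.i, x.j)
  invFun x := ⟨x.1, x.2⟩
  left_inv _ := rfl
  right_inv _ := rfl

instance : Fintype F20 := Fintype.ofEquiv _ equiv.symm

instance : Mul F20 := ⟨fun x y => ⟨x.i + 3 ^ x.j.val * y.i, x.j + y.j⟩⟩
instance : One F20 := ⟨⟨0, 0⟩⟩
instance : Inv F20 := ⟨fun x => ⟨-(3 ^ (-x.j).val * x.i), -x.j⟩⟩

instance : Group F20 where
  mul_assoc := by decide +kernel
  one_mul := by decide +kernel
  mul_one := by decide +kernel
  inv_mul_cancel := by decide +kernel

@[simp] theorem one_i : (1 : F20).i = 0 := rfl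

@[simp] theorem one_j : (1 : F20).j = 0 := rfl

theorem card : Nat.card F20 = 20 := by
  rw [Nat.card_congr equiv, Nat.card_prod, Nat.card_zmod, Nat.card_zmod]

theorem pow_five : ∀ m : ZMod 5, (⟨m, 0⟩ : F20) ^ 5 = 1 := by decide +kernel

theorem pow_four : ∀ j : ZMod 4, (⟨0, j⟩ : F20) ^ 4 = 1 := by decide +kernel

theorem conj_zero : ∀ i : ZMod 5, ∀ j : ZMod 4, j ≠ 0 →
    ∃ m : ZMod 5, (⟨m, 0⟩ : F20) * ⟨i, j⟩ * (⟨m, 0⟩ : F20)⁻¹ = ⟨0, j⟩ := by decide +kernel

theorem ne_one : ¬ (⟨1, 0⟩ : F20) = 1 := by decide +kernel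

theorem pow_ne : ¬ (⟨0, 1⟩ : F20) ^ 5 = 1 ∧ ¬ (⟨0, 1⟩ : F20) ^ 6 = 1 ∧ ¬ (⟨0, 1⟩ : F20) ^ 9 = 1 := by decide +kernel

end F20

section Model

variable {K : Type} [Field K] [CharP K 3] [Fintype K]

theorem pow_q (h81 : Fintype.card K = 81) (a : K) : a ^ 81 = a := h81 ▸ FiniteField.pow_card a

theorem frob_four (h81 : Fintype.card K = 81) : (Three.frob : MulAut (Three K)) ^ 4 = 1 := by
  refine MulEquiv.ext fun x => ?_
  rw [Three.frob_pow, MulAut.one_apply]
  ext <;> exact pow_q h81 _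

noncomputable def act (h81 : Fintype.card K = 81) (ζ : Kˣ) (hζ : ζ ^ 5 = 1) : F20 →* MulAut (Three K) :=
  MonoidHom.mk' (fun x => Three.tau (ζ ^ x.i.val) * Three.frob ^ x.j.val) fun x y => by
    show Three.tau (ζ ^ (x.i + 3 ^ x.j.val * y.i).val) * Three.frob ^ (x.j + y.j).val = _
    rw [mul_assoc, ← mul_assoc (Three.frob ^ x.j.val), Three.frob_pow_tau, mul_assoc (Three.tau _), ← pow_add,
      ← mul_assoc, ← map_mul, ← pow_mul, ← pow_add]
    refine congrArg₂ (· * ·) (congrArg Three.tau ?_) ?_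
    · refine pow_eq_pow_of_modEq ?_ hζ
      rw [← ZMod.natCast_eq_natCast_iff]
      push_cast
      rw [ZMod.natCast_zmod_val, ZMod.natCast_zmod_val, ZMod.natCast_zmod_val, mul_comm]
    · refine (pow_eq_pow_of_modEq ?_ (frob_four h81))
      rw [ZMod.val_add]
      exact Nat.mod_modEq _ _

theorem exists_model (h81 : Fintype.card K = 81) :
    ∃ (H : Type) (_ : Group H) (_ : Fintype H), Group.IsSolvable H ∧
      Set.range (orderOf : H → ℕ) = {n | n ∣ 5 ∨ n ∣ 9 ∨ n ∣ 12} := by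
  classical
  haveI : Fact (Nat.Prime 3) := ⟨Nat.prime_three⟩
  haveI : Fact (Nat.Prime 5) := ⟨by norm_num⟩
  obtain ⟨ζ, hζo⟩ := exists_prime_orderOf_dvd_card' (G := Kˣ) 5 (by
    rw [Nat.card_units, Nat.card_eq_fintype_card, h81]; norm_num)
  have hζ : ζ ^ 5 = 1 := hζo ▸ pow_orderOf_eq_one ζ
  let ψ := act h81 ζ hζ
  have hψ : ∀ k, ψ k = Three.tau (ζ ^ k.i.val) * Three.frob ^ k.j.val := fun k => rfl
  haveI : Fintype (Three K ⋊[ψ] F20) := Fintype.ofEquiv _ SemidirectProduct.equivProd.symm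
  refine ⟨Three K ⋊[ψ] F20, inferInstance, inferInstance, ?_, ?_⟩
  · haveI : Group.IsSolvable F20 := Cfsg.Agent.S0144.result 2 5 2 1 Nat.prime_two (by norm_num) (by rw [F20.card]; norm_num)
    haveI : Group.IsNilpotent (Three K) :=
      IsPGroup.isNilpotent (p := 3) fun x => ⟨2, Three.pow_nine x⟩
    exact solvable_of_ker_le_range SemidirectProduct.inl SemidirectProduct.rightHom
      SemidirectProduct.range_inl_eq_ker_rightHom.ge
  have hne : ∀ i : ZMod 5, i ≠ 0 → ∀ m : ℕ, ¬ 5 ∣ m → ((ζ ^ i.val : Kˣ) : K) ^ m ≠ 1 := by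
    intro i hi m hm h
    rw [← Units.val_pow_eq_pow_val, Units.val_eq_one, ← pow_mul, ← orderOf_dvd_iff_pow_eq_one, hζo] at h
    rcases (Nat.Prime.dvd_mul (by norm_num)).mp h with h' | h'
    · exact hi ((ZMod.val_eq_zero i).mp (Nat.eq_zero_of_dvd_of_lt h' (ZMod.val_lt i)))
    · exact hm h'
  have hfpf : ∀ i : ZMod 5, i ≠ 0 → ∀ a : Three K, ψ ⟨i, 0⟩ a = a → a = 1 := by
    intro i hi a ha
    rw [hψ, show (0 : ZMod 4).val = 0 from rfl, pow_zero, mul_one, Three.tau_apply] at ha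
    have key : ∀ m : ℕ, ¬ 5 ∣ m → ∀ v : K, ((ζ ^ i.val : Kˣ) : K) ^ m * v = v → v = 0 := by
      intro m hm v hv
      by_contra hv0
      exact hne i hi m hm (mul_eq_right₀ hv0 |>.mp hv)
    rw [Three.tauFun] at ha
    rw [Three.one_def]
    obtain ⟨h1, h2, h3, h4, h5, h6, h7⟩ := Three.ext_iff.mp ha
    refine Three.ext ?_ ?_ ?_ ?_ ?_ ?_ ?_
    · exact key 1 (by norm_num) _ (by rw [pow_one]; exact h1)
    · exact key 1 (by norm_num) _ (by rw [pow_one]; exact h2)
    · exact key 4 (by norm_num) _ h3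
    · exact key 12 (by norm_num) _ h4
    · exact key 12 (by norm_num) _ h5
    · exact key 4 (by norm_num) _ h6
    · exact key 13 (by norm_num) _ h7
  have hconj5 : ∀ i : ZMod 5, ∀ m, (⟨m, 0⟩ : F20) ^ 5 = 1 := fun _ => F20.pow_five
  have hall : ∀ h : Three K ⋊[ψ] F20, h ^ 5 = 1 ∨ h ^ 9 = 1 ∨ h ^ 12 = 1 := by
    intro h
    by_cases hj : h.right.j = 0
    · by_cases hi : h.right.i = 0
      · right; left
        have hh : h = SemidirectProduct.inl h.left :=
          SemidirectProduct.ext (by simp) (by simpa using F20.ext (by simpa using hi) (by simpa using hj))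
        rw [hh, ← map_pow, Three.pow_nine, map_one]
      · left
        set k := h.right with hk
        have hk' : k = ⟨k.i, 0⟩ := F20.ext rfl hj
        have hbij : Function.Surjective fun g : Three K => g * (ψ k g)⁻¹ := by
          refine (Finite.injective_iff_surjective).mp fun g g' hg => ?_
          have hfix : ψ k (g'⁻¹ * g) = g'⁻¹ * g := by
            rw [map_mul, map_inv]
            have hg' : g * (ψ k g)⁻¹ = g' * (ψ k g')⁻¹ := hg
            calc (ψ k g')⁻¹ * ψ k g = g'⁻¹ * (g' * (ψ k g')⁻¹) * ψ k g := by group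
              _ = g'⁻¹ * (g * (ψ k g)⁻¹) * ψ k g := by rw [hg']
              _ = g'⁻¹ * g := by group
          rw [hk'] at hfix
          exact (inv_mul_eq_one.mp (hfpf _ hi _ hfix)).symm
        obtain ⟨g, hg⟩ := hbij h.left
        have hh : h = SemidirectProduct.inl g * SemidirectProduct.inr k * (SemidirectProduct.inl g)⁻¹ := by
          refine SemidirectProduct.ext ?_ (by simp [hk])
          have hg' : g * (ψ k g)⁻¹ = h.left := hg
          simp [← hg', hk]
        rw [hh, conj_pow, ← map_pow, hk', hconj5 0, map_one, mul_one, mul_inv_cancel]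
    · right; right
      obtain ⟨m, hm⟩ := F20.conj_zero h.right.i h.right.j hj
      set c : Three K ⋊[ψ] F20 := SemidirectProduct.inr ⟨m, 0⟩
      set h' := c * h * c⁻¹ with hh'
      have hr : h'.right = ⟨0, h.right.j⟩ := by simpa [hh', c] using hm
      suffices h' ^ 12 = 1 by
        rw [hh', conj_pow] at this
        exact (conj_eq_one_iff).mp this
      set n := h.right.j.val
      have hact : ∀ a : Three K, ψ h'.right a = (Three.frob ^ n) a := fun a => by
        rw [hr, hψ, show (0 : ZMod 5).val = 0 from rfl, pow_zero, map_one, one_mul]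
      have hr4 : (h' ^ 4).right = 1 := by
        have h1 : (h' ^ 4).right = h'.right ^ 4 := map_pow SemidirectProduct.rightHom h' 4
        rw [h1, hr, F20.pow_four]
      set N := (h' ^ 4).left with hNdef
      have h4 : h' ^ 4 = SemidirectProduct.inl N := SemidirectProduct.ext (by simp [hNdef]) (by simpa using hr4)
      have hN : N = h'.left * (Three.frob ^ n) (h'.left * (Three.frob ^ n) (h'.left * (Three.frob ^ n) h'.left)) := by
        rw [hNdef, show h' ^ 4 = h' * (h' * (h' * h')) by rw [pow_succ', pow_succ', pow_succ', pow_one]]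
        simp [SemidirectProduct.mul_left, SemidirectProduct.mul_right, hact]
      have hadd : ∀ a b : K, (a + b) ^ 3 ^ n = a ^ 3 ^ n + b ^ 3 ^ n := fun a b => add_pow_char_pow a b 3 n
      have hfix : N.u ^ 3 ^ n = N.u ∧ N.t ^ 3 ^ n = N.t := by
        have h81' : ∀ a : K, (((a ^ 3 ^ n) ^ 3 ^ n) ^ 3 ^ n) ^ 3 ^ n = a := by
          intro a
          simp only [← pow_mul, ← pow_add]
          rw [show n + n + n + n = 4 * n by ring, pow_mul, show (3 : ℕ) ^ 4 = 81 from rfl]
          induction n with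
          | zero => simp
          | succ d hd => rw [pow_succ, pow_mul, hd, pow_q h81]
        constructor <;> rw [hN] <;> simp only [Three.mul_def, Three.frob_pow, hadd, h81'] <;> abel
      have hnine : ∀ a : K, a ^ 3 ^ n = a → a ^ 9 = a := by
        intro a ha
        have hn : n = 1 ∨ n = 2 ∨ n = 3 := by
          have h1 : n < 4 := ZMod.val_lt _
          have h2 : n ≠ 0 := fun h0 => hj ((ZMod.val_eq_zero _).mp h0)
          omega
        rcases hn with h | h | h <;> rw [h] at ha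
        · rw [show (9 : ℕ) = 3 * 3 from rfl, pow_mul]
          simp only [pow_one] at ha
          rw [ha, ha]
        · exact ha
        · calc a ^ 9 = (a ^ 81) ^ 9 := by rw [pow_q h81]
            _ = (a ^ 27) ^ 27 := by rw [← pow_mul, ← pow_mul]
            _ = a := by rw [show (27 : ℕ) = 3 ^ 3 from rfl, ha, ha]
      have hN3 : N ^ 3 = 1 := by
        rw [Three.pow_three, Three.one_def, Three.mk.injEq]
        refine ⟨rfl, rfl, rfl, rfl, rfl, rfl, ?_⟩
        rw [show (12 : ℕ) = 3 + 9 from rfl, pow_add N.u 3 9, hnine _ hfix.1, hnine _ hfix.2]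
        ring
      rw [show (12 : ℕ) = 4 * 3 from rfl, pow_mul, h4, ← map_pow, hN3, map_one]
  refine range_of_three hall ?_ ?_ ?_
  · refine ⟨SemidirectProduct.inr ⟨1, 0⟩, orderOf_eq_prime (by rw [← map_pow, hconj5 0, map_one]) fun h => ?_⟩
    have := congrArg SemidirectProduct.right h
    simp at this
    exact F20.ne_one this
  · obtain ⟨a, ha⟩ : ∃ a : K, a ^ 4 - a ^ 12 ≠ 0 := by
      by_contra hcon
      push Not at hcon
      have hsub : (Finset.univ : Finset K) ⊆ insert 0 (Polynomial.nthRootsFinset 8 1) := by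
        intro a _
        by_cases h0 : a = 0
        · simp [h0]
        · refine Finset.mem_insert_of_mem ((Polynomial.mem_nthRootsFinset (by norm_num) _).mpr ?_)
          have h1 : a ^ 4 * (1 - a ^ 8) = 0 := by linear_combination hcon a
          exact (sub_eq_zero.mp ((mul_eq_zero.mp h1).resolve_left (pow_ne_zero _ h0))).symm
      have h1 := (Finset.card_le_card hsub).trans (Finset.card_insert_le _ _)
      rw [Finset.card_univ, h81] at h1
      have h2 : (Polynomial.nthRootsFinset 8 (1 : K)).card ≤ 8 := by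
        rw [Polynomial.nthRootsFinset_def]
        exact (Multiset.toFinset_card_le _).trans (Polynomial.card_nthRoots 8 1)
      omega
    refine ⟨SemidirectProduct.inl ⟨a, 1, 0, 0, 0, 0, 0⟩, ?_⟩
    rw [orderOf_injective _ SemidirectProduct.inl_injective]
    refine orderOf_eq_prime_pow (p := 3) (n := 1) (fun h => ha ?_) (Three.pow_nine _)
    rw [pow_one, Three.pow_three, Three.one_def, Three.mk.injEq] at h
    simpa using h.2.2.2.2.2.2
  · refine ⟨⟨⟨1, 0, 0, 0, 0, 0, 0⟩, ⟨0, 1⟩⟩, ?_⟩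
    set h : Three K ⋊[ψ] F20 := ⟨⟨1, 0, 0, 0, 0, 0, 0⟩, ⟨0, 1⟩⟩ with hh
    have h4 : h ^ 4 ≠ 1 := by
      intro hc
      have hl := congrArg (fun x : Three K ⋊[ψ] F20 => x.left.u) hc
      rw [show h ^ 4 = h * (h * (h * h)) by rw [pow_succ', pow_succ', pow_succ', pow_one]] at hl
      simp [hh, SemidirectProduct.mul_left, hψ, Three.mul_def, Three.tau_apply, Three.tauFun, Three.one_def] at hl
      rw [show (1 : ZMod 4).val = 1 from rfl, pow_one] at hl
      have hf : ∀ x : Three K, ((Three.frob : MulAut (Three K)) x).u = x.u ^ 3 := fun x => rfl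
      simp [hf, Three.mul_def] at hl
      have h3 := Three.three_zero (K := K)
      have : (1 : K) = 0 := by linear_combination hl - 243 * h3
      exact one_ne_zero this
    have h6 : h ^ 6 ≠ 1 := by
      intro hc
      have hr := congrArg (SemidirectProduct.rightHom) hc
      rw [map_pow, map_one] at hr
      exact F20.pow_ne.elim fun a b => b.elim fun b c => (by simp [hh] at hr; first | exact a hr | exact b hr | exact c hr)
    have hd : orderOf h ∣ 12 := by
      rcases hall h with hc | hc | hc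
      · exfalso
        have hr := congrArg (SemidirectProduct.rightHom) hc
        rw [map_pow, map_one] at hr
        exact F20.pow_ne.elim fun a b => b.elim fun b c => (by simp [hh] at hr; first | exact a hr | exact b hr | exact c hr)
      · exfalso
        have hr := congrArg (SemidirectProduct.rightHom) hc
        rw [map_pow, map_one] at hr
        exact F20.pow_ne.elim fun a b => b.elim fun b c => (by simp [hh] at hr; first | exact a hr | exact b hr | exact c hr)
      · exact orderOf_dvd_of_pow_eq_one hc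
    have hn4 : ¬ orderOf h ∣ 4 := fun hd' => h4 (orderOf_dvd_iff_pow_eq_one.mp hd')
    have hn6 : ¬ orderOf h ∣ 6 := fun hd' => h6 (orderOf_dvd_iff_pow_eq_one.mp hd')
    have hle := Nat.le_of_dvd (by norm_num) hd
    revert hd hn4 hn6
    interval_cases orderOf h <;> norm_num

end Model

end Cfsg.Agent.Recog.TwoFrob81
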