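import Mathlib
import Cfsg.Prelude.Def_Classical
import Cfsg.Agent.Lib.Classical.SympOrders
import Cfsg.Agent.Lib.Recog.TwoFrobenius81

/-!
# The spectrum of `PSp(4,3)`
-/

set_option autoImplicit false

open Cfsg Cfsg.Agent.Classical Matrix

namespace Cfsg.Agent.Recog.Sp43

/-- one step of multiplication by `X` modulo `X⁴ + tX³ + (2+g)X² + tX + 1` -/
def step (t g : ZMod 3) (c : ZMod 3 × ZMod 3 × ZMod 3 × ZMod 3) : ZMod 3 × ZMod 3 × ZMod 3 × ZMod 3 :=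
  (-c.2.2.2, c.1 - t * c.2.2.2, c.2.1 - (2 + g) * c.2.2.2, c.2.2.1 - t * c.2.2.2)

theorem step_table : ∀ t g : ZMod 3, ∃ k ∈ [5, 9, 12],
    (step t g)^[k] (1, 0, 0, 0) = (1, 0, 0, 0) ∨ (step t g)^[k] (1, 0, 0, 0) = (-1, 0, 0, 0) := by
  decide +kernel

section Rel

variable {R : Type*} [CommRing R]

theorem quad_of_skew (K : Matrix (Fin 2 ⊕ Fin 2) (Fin 2 ⊕ Fin 2) R) (hd : ∀ i, K i i = 0) (hs : ∀ i j, K j i = -K i j) :
    ∃ t g : R, (-(Matrix.J (Fin 2) R * K)) * (-(Matrix.J (Fin 2) R * K)) + t • (-(Matrix.J (Fin 2) R * K)) + g • 1 = 0 := by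
  refine ⟨K (Sum.inl 0) (Sum.inr 0) + K (Sum.inl 1) (Sum.inr 1),
    K (Sum.inl 0) (Sum.inr 0) * K (Sum.inl 1) (Sum.inr 1) - K (Sum.inl 0) (Sum.inr 1) * K (Sum.inl 1) (Sum.inr 0)
      - K (Sum.inl 0) (Sum.inl 1) * K (Sum.inr 0) (Sum.inr 1), ?_⟩
  have h10 := hs (Sum.inl 0) (Sum.inl 1)
  have h20 := hs (Sum.inl 0) (Sum.inr 0)
  have h30 := hs (Sum.inl 0) (Sum.inr 1)
  have h21 := hs (Sum.inl 1) (Sum.inr 0)
  have h31 := hs (Sum.inl 1) (Sum.inr 1)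
  have h32 := hs (Sum.inr 0) (Sum.inr 1)
  ext i j
  rcases i with i | i <;> rcases j with j | j <;> fin_cases i <;> fin_cases j <;>
    simp [Matrix.mul_apply, Matrix.J, Fintype.sum_sum_type, Fin.sum_univ_two, Matrix.fromBlocks, Matrix.one_apply,
      Matrix.neg_apply, Matrix.smul_apply, h10, h20, h30, h21, h31, h32, hd] <;> ring

end Rel

variable {F : Type*} [Field F] [Fintype F]

theorem exists_phi (hF : Fintype.card F = 3) : ∃ φ : ZMod 3 →+* F, Function.Bijective φ :=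
  ⟨(ZMod.ringEquivOfPrime F Nat.prime_three hF).toRingHom, (ZMod.ringEquivOfPrime F Nat.prime_three hF).bijective⟩

theorem two_ne (hF : Fintype.card F = 3) : (2 : F) ≠ 0 := by
  obtain ⟨φ, hφ⟩ := exists_phi hF
  rw [← map_ofNat φ 2]
  exact fun h => absurd (hφ.1 (h.trans (map_zero φ).symm)) (by decide)

theorem pow_cases_sp (hF : Fintype.card F = 3) (A : Matrix.symplecticGroup (Fin 2) F) :
    ∃ k ∈ [5, 9, 12], A ^ k = 1 ∨ A ^ k = sympNegOne 2 F := by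
  classical
  obtain ⟨φ, hφ⟩ := exists_phi hF
  set M : Matrix (Fin 2 ⊕ Fin 2) (Fin 2 ⊕ Fin 2) F := A.1 with hM
  set J := Matrix.J (Fin 2) F with hJdef
  have hJ2 : J * J = -1 := Matrix.J_squared (Fin 2) F
  have hJT : Jᵀ = -J := Matrix.J_transpose (Fin 2) F
  have hA : M * J * Mᵀ = J := SymplecticGroup.mem_iff.mp A.2
  have hA' : Mᵀ * J * M = J := SymplecticGroup.mem_iff'.mp A.2
  set K := J * M + Mᵀ * J with hK
  set S := -(J * K) with hS
  have hskew : ∀ i j, K j i = -K i j := by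
    intro i j
    have h : Kᵀ = -K := by
      rw [hK, Matrix.transpose_add, Matrix.transpose_mul, Matrix.transpose_mul, Matrix.transpose_transpose, hJT]
      rw [Matrix.mul_neg, Matrix.neg_mul, neg_add]; abel
    have := congrFun (congrFun h i) j
    simpa using this
  have hdiag : ∀ i, K i i = 0 := fun i => by
    have h := hskew i i
    have h2 : (2 : F) * K i i = 0 := by linear_combination h
    exact (mul_eq_zero.mp h2).resolve_left (two_ne hF)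
  obtain ⟨t', g', hq⟩ := quad_of_skew K hdiag hskew
  obtain ⟨t, rfl⟩ := hφ.2 t'
  obtain ⟨g, rfl⟩ := hφ.2 g'
  rw [← hJdef, ← hS] at hq
  have hSM : S * M = M * M + 1 := by
    have h1 : S = M - J * Mᵀ * J := by
      rw [hS, hK, Matrix.mul_add, ← Matrix.mul_assoc, hJ2, Matrix.neg_mul, one_mul, ← Matrix.mul_assoc]; abel
    rw [h1, Matrix.sub_mul, Matrix.mul_assoc J, Matrix.mul_assoc J, hA', hJ2, sub_neg_eq_add]
  have hMS : Commute M S := by
    have hinv : M * (-(J * Mᵀ * J)) = 1 := by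
      rw [Matrix.mul_neg, ← Matrix.mul_assoc, ← Matrix.mul_assoc, hA, hJ2, neg_neg]
    have hinv' : (-(J * Mᵀ * J)) * M = 1 := by
      rw [Matrix.neg_mul, Matrix.mul_assoc J, Matrix.mul_assoc J, hA', hJ2, neg_neg]
    have h1 : S = M + (-(J * Mᵀ * J)) := by
      rw [hS, hK, Matrix.mul_add, ← Matrix.mul_assoc, hJ2, Matrix.neg_mul, one_mul, ← Matrix.mul_assoc]; abel
    rw [h1]
    exact (Commute.refl M).add_right (hinv.trans hinv'.symm)
  have hrel : M ^ 4 = -(φ t • M ^ 3) - (φ (2 + g)) • M ^ 2 - φ t • M - 1 := by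
    have h := congrArg (· * (M * M)) hq
    simp only [Matrix.zero_mul, add_mul, smul_mul_assoc, one_mul] at h
    have e1 : S * S * (M * M) = (M * M + 1) * (M * M + 1) := by
      calc S * S * (M * M) = S * (S * M) * M := by simp only [Matrix.mul_assoc]
        _ = S * (M * (S * M)) := by
            rw [hSM, Matrix.mul_assoc, show (M * M + 1) * M = M * (M * M + 1) by noncomm_ring]
        _ = S * M * (S * M) := by simp only [Matrix.mul_assoc]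
        _ = _ := by rw [hSM]
    rw [e1, ← Matrix.mul_assoc S, hSM] at h
    have h' : M ^ 4 + φ t • M ^ 3 + φ g • M ^ 2 + (M ^ 2 + M ^ 2) + φ t • M + 1 = 0 := by
      rw [← h]
      simp only [pow_succ, pow_zero, one_mul, add_mul, mul_add, mul_one, smul_add, Matrix.mul_assoc]
      abel
    rw [map_add, map_ofNat, add_smul, two_smul, eq_sub_iff_add_eq, eq_sub_iff_add_eq, eq_sub_iff_add_eq, eq_neg_iff_add_eq_zero, ← h']
    abel
  let ev : ZMod 3 × ZMod 3 × ZMod 3 × ZMod 3 → Matrix (Fin 2 ⊕ Fin 2) (Fin 2 ⊕ Fin 2) F := fun c =>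
    φ c.1 • 1 + φ c.2.1 • M + φ c.2.2.1 • M ^ 2 + φ c.2.2.2 • M ^ 3
  have hstep : ∀ c, M * ev c = ev (step t g c) := by
    intro c
    simp only [ev, step, mul_add, mul_smul_comm, mul_one, ← pow_succ', show M * M = M ^ 2 from (sq M).symm,
      map_neg, map_sub, map_mul]
    rw [show (2 + 1 : ℕ) = 3 from rfl, show (3 + 1 : ℕ) = 4 from rfl, hrel]
    simp only [smul_sub, smul_neg, smul_smul, neg_smul, sub_smul, mul_comm (φ t) (φ c.2.2.2), mul_comm (φ (2 + g)) (φ c.2.2.2)]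
    abel
  have hpow : ∀ k : ℕ, M ^ k = ev ((step t g)^[k] (1, 0, 0, 0)) := by
    intro k
    induction k with
    | zero => simp [ev]
    | succ k ih => rw [pow_succ', ih, hstep, Function.iterate_succ_apply']
  have hval : ∀ k : ℕ, ((A ^ k : Matrix.symplecticGroup (Fin 2) F) : Matrix (Fin 2 ⊕ Fin 2) (Fin 2 ⊕ Fin 2) F) = M ^ k :=
    fun k => rfl
  obtain ⟨k, hk, hk'⟩ := step_table t g
  refine ⟨k, hk, hk'.imp (fun h => Subtype.ext ?_) (fun h => Subtype.ext ?_)⟩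
  · rw [hval, hpow, h]; simp [ev]
  · rw [hval, hpow, h]; simp [ev, sympNegOne]

theorem negOne_map (n : ℕ) : spToPSp n F (sympNegOne n F) = 1 :=
  (QuotientGroup.eq_one_iff _).2 (Subgroup.mem_center_iff.2 fun g => (sympNegOne_commute g).eq.symm)

theorem exists_order (hF : Fintype.card F = 3) (φ : ZMod 3 →+* F) (hφ : Function.Injective φ)
    (M : Matrix (Fin 2 ⊕ Fin 2) (Fin 2 ⊕ Fin 2) (ZMod 3)) (hM : M * Matrix.J (Fin 2) (ZMod 3) * Mᵀ = Matrix.J (Fin 2) (ZMod 3))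
    (N : ℕ) (hN : M ^ N = 1) (hno : ∀ d : ℕ, d ∣ N → d < N → M ^ d ≠ 1 ∧ M ^ d ≠ -1) (hN0 : N ≠ 0) :
    ∃ x : PSp 2 F, orderOf x = N := by
  have hJ : (Matrix.J (Fin 2) (ZMod 3)).map φ = Matrix.J (Fin 2) F := by
    ext i j
    rcases i with i | i <;> rcases j with j | j <;> simp [Matrix.J, Matrix.one_apply] <;> split_ifs <;> simp
  let Φ : Matrix (Fin 2 ⊕ Fin 2) (Fin 2 ⊕ Fin 2) (ZMod 3) →+* Matrix (Fin 2 ⊕ Fin 2) (Fin 2 ⊕ Fin 2) F := φ.mapMatrix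
  have hinj : Function.Injective Φ := Matrix.map_injective hφ
  have hmem : Φ M ∈ Matrix.symplecticGroup (Fin 2) F := by
    rw [SymplecticGroup.mem_iff]
    have h := congrArg Φ hM
    rw [map_mul, map_mul] at h
    simp only [Φ, RingHom.mapMatrix_apply, hJ, ← Matrix.transpose_map] at h ⊢
    exact h
  let A : Matrix.symplecticGroup (Fin 2) F := ⟨Φ M, hmem⟩
  have hval : ∀ k : ℕ, ((A ^ k : Matrix.symplecticGroup (Fin 2) F) : Matrix (Fin 2 ⊕ Fin 2) (Fin 2 ⊕ Fin 2) F) = Φ (M ^ k) :=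
    fun k => by rw [map_pow]; rfl
  refine ⟨spToPSp 2 F A, ?_⟩
  have h1 : spToPSp 2 F A ^ N = 1 := by
    rw [← map_pow, show A ^ N = 1 from Subtype.ext (by rw [hval, hN, map_one]; rfl), map_one]
  have hd := orderOf_dvd_of_pow_eq_one h1
  by_contra hne
  have hlt : orderOf (spToPSp 2 F A) < N := lt_of_le_of_ne (Nat.le_of_dvd (Nat.pos_of_ne_zero hN0) hd) hne
  obtain ⟨a1, a2⟩ := hno _ hd hlt
  rcases spToPSp_pow_eq_one (pow_orderOf_eq_one (spToPSp 2 F A)) with h | h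
  · exact a1 (hinj (by rw [← hval, h, map_one]; rfl))
  · refine a2 (hinj ?_)
    rw [← hval, h, map_neg, map_one]
    rfl

def M5 : Matrix (Fin 2 ⊕ Fin 2) (Fin 2 ⊕ Fin 2) (ZMod 3) :=
  Matrix.fromBlocks !![2, 1; 2, 0] !![0, 0; 1, 1] !![0, 0; 2, 0] !![0, 1; 0, 0]

def M9 : Matrix (Fin 2 ⊕ Fin 2) (Fin 2 ⊕ Fin 2) (ZMod 3) :=
  Matrix.fromBlocks !![0, 0; 2, 0] !![0, 1; 0, 0] !![2, 2; 0, 0] !![0, 0; 2, 1]

def M12 : Matrix (Fin 2 ⊕ Fin 2) (Fin 2 ⊕ Fin 2) (ZMod 3) :=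
  Matrix.fromBlocks !![0, 0; 0, 0] !![1, 0; 0, 1] !![2, 0; 0, 2] !![2, 0; 0, 0]

theorem m5_spec : M5 * Matrix.J (Fin 2) (ZMod 3) * M5ᵀ = Matrix.J (Fin 2) (ZMod 3) ∧ M5 ^ 5 = 1 ∧
    ∀ d < 5, d ∣ 5 → M5 ^ d ≠ 1 ∧ M5 ^ d ≠ -1 := by decide +kernel

theorem m9_spec : M9 * Matrix.J (Fin 2) (ZMod 3) * M9ᵀ = Matrix.J (Fin 2) (ZMod 3) ∧ M9 ^ 9 = 1 ∧
    ∀ d < 9, d ∣ 9 → M9 ^ d ≠ 1 ∧ M9 ^ d ≠ -1 := by decide +kernel

theorem m12_spec : M12 * Matrix.J (Fin 2) (ZMod 3) * M12ᵀ = Matrix.J (Fin 2) (ZMod 3) ∧ M12 ^ 12 = 1 ∧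
    ∀ d < 12, d ∣ 12 → M12 ^ d ≠ 1 ∧ M12 ^ d ≠ -1 := by decide +kernel

theorem range_orderOf (hF : Fintype.card F = 3) :
    Set.range (orderOf : PSp 2 F → ℕ) = {n | n ∣ 5 ∨ n ∣ 9 ∨ n ∣ 12} := by
  obtain ⟨φ, hφ⟩ := exists_phi hF
  refine TwoFrob81.range_of_three (fun x => ?_) ?_ ?_ ?_
  · obtain ⟨A, rfl⟩ := QuotientGroup.mk'_surjective _ x
    obtain ⟨k, hk, hA⟩ := pow_cases_sp hF A
    have h : spToPSp 2 F A ^ k = 1 := by
      rcases hA with h | h <;> rw [← map_pow, h]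
      · exact map_one _
      · exact negOne_map 2
    simp only [List.mem_cons, List.not_mem_nil, or_false] at hk
    rcases hk with rfl | rfl | rfl
    exacts [Or.inl h, Or.inr (Or.inl h), Or.inr (Or.inr h)]
  · exact exists_order hF φ hφ.1 M5 m5_spec.1 5 m5_spec.2.1 (fun d h1 h2 => m5_spec.2.2 d h2 h1) (by norm_num)
  · exact exists_order hF φ hφ.1 M9 m9_spec.1 9 m9_spec.2.1 (fun d h1 h2 => m9_spec.2.2 d h2 h1) (by norm_num)
  · exact exists_order hF φ hφ.1 M12 m12_spec.1 12 m12_spec.2.1 (fun d h1 h2 => m12_spec.2.2 d h2 h1) (by norm_num)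

end Cfsg.Agent.Recog.Sp43
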