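import Mathlib
import Cfsg.Prelude.Def_Classical
import Cfsg.Agent.Lib.Classical.SympOrders
import Cfsg.Agent.Lib.Recog.SpectrumSp43
import Cfsg.Agent.Lib.Fus.PrimeGraphSymp

/-!
The element orders of `PSp(4, q)`: every one divides a member of a short list `OrdList q p`, and every member
of the list divides one of them.
-/

set_option autoImplicit false
set_option maxHeartbeats 800000

namespace Cfsg.Agent.Recog.SpFourOrd

open Polynomial Matrix Cfsg Cfsg.Agent.Classical

/-- the maximal element orders of `PSp(4, q)`, `q` a power of `p` -/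
def OrdList (q p N : ℕ) : Prop :=
  if p = 2 then N = 4 ∨ N = 2 * (q - 1) ∨ N = 2 * (q + 1) ∨ N = q ^ 2 - 1 ∨ N = q ^ 2 + 1
  else N = p * (q - 1) ∨ N = p * (q + 1) ∨ N = (q ^ 2 - 1) / 2 ∨ N = (q ^ 2 + 1) / 2 ∨ (p = 3 ∧ N = 9)

/-- two finite groups with the same maximal element orders have the same set of element orders -/
theorem range_eq_of_list {G H : Type*} [Group G] [Group H] [Finite G] [Finite H] (L : ℕ → Prop)
    (hG : ∀ x : G, ∃ N, L N ∧ x ^ N = 1) (hH : ∀ x : H, ∃ N, L N ∧ x ^ N = 1)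
    (hG' : ∀ N, L N → ∃ x : G, N ∣ orderOf x) (hH' : ∀ N, L N → ∃ x : H, N ∣ orderOf x) :
    Set.range (orderOf : G → ℕ) = Set.range (orderOf : H → ℕ) := by
  refine Set.Subset.antisymm ?_ ?_
  · intro n hn
    obtain ⟨x, rfl⟩ := hn
    obtain ⟨N, hN, hxN⟩ := hG x
    obtain ⟨y, hy⟩ := hH' N hN
    exact ⟨y ^ (orderOf y / orderOf x), orderOf_pow_orderOf_div (orderOf_pos y).ne'
      ((orderOf_dvd_of_pow_eq_one hxN).trans hy)⟩
  · intro n hn
    obtain ⟨x, rfl⟩ := hn
    obtain ⟨N, hN, hxN⟩ := hH x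
    obtain ⟨y, hy⟩ := hG' N hN
    exact ⟨y ^ (orderOf y / orderOf x), orderOf_pow_orderOf_div (orderOf_pos y).ne'
      ((orderOf_dvd_of_pow_eq_one hxN).trans hy)⟩

section Quad

variable {K : Type*} [Field K]

/-- `X² - sX + 1` -/
noncomputable def quad (s : K) : K[X] := X ^ 2 - C s * X + 1

theorem quad_eq {lam : K} (hl : lam ≠ 0) : quad (lam + lam⁻¹) = (X - C lam) * (X - C lam⁻¹) := by
  have h : C lam * C lam⁻¹ = (1 : K[X]) := by rw [← C_mul, mul_inv_cancel₀ hl, C_1]
  rw [quad, C_add]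
  linear_combination -h

theorem quad_pm {ε : K} (hε : ε ^ 2 = 1) : quad (2 * ε) = (X - C ε) ^ 2 := by
  have h : C ε * C ε = (1 : K[X]) := by rw [← C_mul, ← pow_two, hε, C_1]
  rw [quad, C_mul, map_ofNat]
  linear_combination -h

theorem quad_coprime {s t : K} (h : s ≠ t) : IsCoprime (quad s) (quad t) := by
  have hb : C (t - s)⁻¹ * (C t - C s) = (1 : K[X]) := by
    rw [← C_sub, ← C_mul, inv_mul_cancel₀ (sub_ne_zero.mpr h.symm), C_1]
  refine ⟨1 - (X - C s) * C (t - s)⁻¹, (X - C s) * C (t - s)⁻¹, ?_⟩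
  rw [quad, quad]
  linear_combination (-X ^ 2 + C s * X) * hb

theorem linear_dvd {lam c : K} {m : ℕ} (h : lam ^ m = c) : X - C lam ∣ X ^ m - C c := by
  rw [dvd_iff_isRoot]; simp [h]

theorem quad_dvd {lam c : K} {m : ℕ} (hl : lam ≠ 0) (hne : lam ≠ lam⁻¹) (h : lam ^ m = c)
    (hc : c ^ 2 = 1) : quad (lam + lam⁻¹) ∣ X ^ m - C c := by
  rw [quad_eq hl]
  refine IsCoprime.mul_dvd ?_ (linear_dvd h) (linear_dvd ?_)
  · exact isCoprime_X_sub_C_of_isUnit_sub (sub_ne_zero.mpr hne).isUnit
  · rw [inv_pow, h]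
    exact inv_eq_of_mul_eq_one_right (by rw [← pow_two, hc])

theorem exists_lam [IsAlgClosed K] (s : K) : ∃ lam : K, lam ≠ 0 ∧ s = lam + lam⁻¹ := by
  have hd : (quad s).natDegree = 2 := by rw [quad]; compute_degree!
  obtain ⟨lam, h⟩ := IsAlgClosed.exists_root (quad s) fun h => by
    rw [natDegree_eq_of_degree_eq_some h] at hd; exact two_ne_zero hd.symm
  simp [quad] at h
  have h0 : lam ≠ 0 := by rintro rfl; simp at h
  exact ⟨lam, h0, by field_simp; linear_combination -h⟩

theorem pm_of_self_inv {lam : K} (hl : lam ≠ 0) (h : lam = lam⁻¹) :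
    ∃ ε : K, ε ^ 2 = 1 ∧ lam + lam⁻¹ = 2 * ε := by
  refine ⟨lam, ?_, by rw [← h]; ring⟩
  rw [pow_two]; nth_rw 2 [h]; exact mul_inv_cancel₀ hl

/-- a root of a polynomial `X² - sX + 1` with `s` fixed by `x ↦ x ^ Q` -/
theorem root_cases (p : ℕ) [Fact p.Prime] [CharP K p] {Q k : ℕ} (hQ : Q = p ^ k) {lam : K} (hl : lam ≠ 0)
    (hs : (lam + lam⁻¹) ^ Q = lam + lam⁻¹) : lam ^ (Q - 1) = 1 ∨ lam ^ (Q + 1) = 1 := by
  have hQ1 : 1 ≤ Q := hQ ▸ Nat.one_le_pow _ _ (Fact.out : p.Prime).pos
  have h1 : (lam + lam⁻¹) ^ Q = lam ^ Q + (lam ^ Q)⁻¹ := by rw [hQ, add_pow_char_pow, inv_pow]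
  rw [hs] at h1
  have hm := pow_ne_zero Q hl
  have e : (lam ^ Q - lam) * (lam ^ Q - lam⁻¹) = 0 := by
    linear_combination (lam ^ Q) * h1.symm + mul_inv_cancel₀ hl - mul_inv_cancel₀ hm
  rcases mul_eq_zero.mp e with e | e
  · left
    have h2 : lam ^ Q = lam := sub_eq_zero.mp e
    exact mul_right_cancel₀ hl (by rw [← pow_succ, Nat.sub_add_cancel hQ1, h2, one_mul])
  · right
    rw [pow_succ, sub_eq_zero.mp e, inv_mul_cancel₀ hl]

end Quad

section Upper

variable {F : Type*} [Field F] [Fintype F]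

local notation "Sp4" => Matrix.symplecticGroup (Fin 2) F
local notation "M4" => Matrix (Fin 2 ⊕ Fin 2) (Fin 2 ⊕ Fin 2)

omit [Fintype F] in
/-- the characteristic equation of a symplectic matrix of degree four -/
theorem quartic (A : Sp4) : ∃ t g : F, (A.1 : M4 F) ^ 4 + t • A.1 ^ 3 + (g + 2) • A.1 ^ 2 + t • A.1 + 1 = 0 := by
  classical
  set M : M4 F := A.1 with hM
  set J := Matrix.J (Fin 2) F
  have hJ2 : J * J = -1 := Matrix.J_squared (Fin 2) F
  have hJT : Jᵀ = -J := Matrix.J_transpose (Fin 2) F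
  have hA : M * J * Mᵀ = J := SymplecticGroup.mem_iff.mp A.2
  have hA' : Mᵀ * J * M = J := SymplecticGroup.mem_iff'.mp A.2
  set K := J * M + Mᵀ * J with hK
  set S := -(J * K) with hS
  have hKX : K = J * M - (J * M)ᵀ := by
    rw [hK, Matrix.transpose_mul, hJT, Matrix.mul_neg, sub_neg_eq_add]
  have hskew : ∀ i j, K j i = -K i j := fun i j => by
    rw [hKX]; simp only [Matrix.sub_apply, Matrix.transpose_apply]; ring
  have hdiag : ∀ i, K i i = 0 := fun i => by
    rw [hKX]; simp only [Matrix.sub_apply, Matrix.transpose_apply, sub_self]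
  obtain ⟨t, g, hq⟩ := Sp43.quad_of_skew K hdiag hskew
  rw [← hS] at hq
  have h1 : S = M - J * Mᵀ * J := by
    rw [hS, hK, Matrix.mul_add, ← Matrix.mul_assoc, hJ2, Matrix.neg_mul, one_mul, ← Matrix.mul_assoc]; abel
  have hSM : S * M = M * M + 1 := by
    rw [h1, Matrix.sub_mul, Matrix.mul_assoc J, Matrix.mul_assoc J, hA', hJ2, sub_neg_eq_add]
  have hMS : M * S = M * M + 1 := by
    rw [h1, Matrix.mul_sub, ← Matrix.mul_assoc, ← Matrix.mul_assoc, hA, hJ2, sub_neg_eq_add]
  have e1 : S * S * (M * M) = (M * M + 1) * (M * M + 1) := by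
    calc S * S * (M * M) = S * (S * M) * M := by simp only [Matrix.mul_assoc]
      _ = S * (M * (S * M)) := by
          rw [hSM, Matrix.mul_assoc, show (M * M + 1) * M = M * (M * M + 1) by noncomm_ring]
      _ = S * M * (S * M) := by simp only [Matrix.mul_assoc]
      _ = _ := by rw [hSM]
  have h := congrArg (· * (M * M)) hq
  simp only [Matrix.zero_mul, add_mul, smul_mul_assoc, one_mul] at h
  rw [e1, ← Matrix.mul_assoc S, hSM] at h
  refine ⟨t, g, ?_⟩
  rw [← h, add_smul, two_smul]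
  simp only [pow_succ, pow_zero, one_mul, add_mul, mul_add, mul_one, smul_add, Matrix.mul_assoc]
  abel

/-- the embedding into the matrices over an algebraic closure -/
noncomputable abbrev toBar (F : Type*) [Field F] : M4 F →+* M4 (AlgebraicClosure F) :=
  (algebraMap F (AlgebraicClosure F)).mapMatrix

theorem sp_pow_of_bar {A : Sp4} {N : ℕ} {c : AlgebraicClosure F} (hc : c ^ 2 = 1)
    (h : toBar F A.1 ^ N = c • (1 : M4 (AlgebraicClosure F))) : spToPSp 2 F A ^ N = 1 := by
  have hinj : Function.Injective (toBar F) := fun X Y h =>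
    Matrix.ext fun i j => (algebraMap F (AlgebraicClosure F)).injective (congrFun (congrFun h i) j)
  rw [← map_pow] at h
  rw [← map_pow]
  rcases sq_eq_one_iff.1 hc with rfl | rfl
  · rw [show A ^ N = 1 from Subtype.ext (hinj (by
      rw [one_smul] at h
      rw [show ((A ^ N : Sp4) : M4 F) = A.1 ^ N from rfl, h]; exact (map_one (toBar F)).symm)), map_one]
  · rw [show A ^ N = sympNegOne 2 F from Subtype.ext (hinj (by
      rw [neg_one_smul] at h
      rw [show ((A ^ N : Sp4) : M4 F) = A.1 ^ N from rfl, h, sympNegOne]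
      simp [map_neg])), Sp43.negOne_map]

variable (p : ℕ) [Fact p.Prime] [CharP F p]

theorem upper (x : PSp 2 F) : ∃ N, OrdList (Fintype.card F) p N ∧ x ^ N = 1 := by
  classical
  obtain ⟨A, rfl⟩ := QuotientGroup.mk'_surjective _ x
  change ∃ N, OrdList (Fintype.card F) p N ∧ spToPSp 2 F A ^ N = 1
  haveI : CharP (AlgebraicClosure F) p := inferInstance
  set q := Fintype.card F with hq
  have hpp := (Fact.out : p.Prime)
  obtain ⟨k, hqk⟩ : ∃ k, q = p ^ k := by
    obtain ⟨k, -, hk⟩ := FiniteField.card F p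
    exact ⟨k, hk⟩
  have hk0 : k ≠ 0 := by
    rintro rfl
    have := Fintype.one_lt_card (α := F)
    rw [pow_zero] at hqk
    omega
  obtain ⟨t, g, hrel⟩ := quartic A
  set M := toBar F A.1 with hM
  set τ := algebraMap F (AlgebraicClosure F) t with hτ
  set γ := algebraMap F (AlgebraicClosure F) g with hγ
  have hτq : τ ^ q = τ := by rw [hτ, ← map_pow, hq, FiniteField.pow_card]
  have hγq : γ ^ q = γ := by rw [hγ, ← map_pow, hq, FiniteField.pow_card]
  obtain ⟨s, hs⟩ : ∃ s : AlgebraicClosure F, s ^ 2 + τ * s + γ = 0 := by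
    have hd : (X ^ 2 + C τ * X + C γ).natDegree = 2 := by compute_degree!
    obtain ⟨s, hs⟩ := IsAlgClosed.exists_root (X ^ 2 + C τ * X + C γ) fun h => by
      rw [natDegree_eq_of_degree_eq_some h] at hd; exact two_ne_zero hd.symm
    exact ⟨s, by simpa using hs⟩
  set s' := -τ - s with hs'
  have hprod : s * s' = γ := by rw [hs']; linear_combination -hs
  have hM0 : aeval M (quad s * quad s') = 0 := by
    have e : quad s * quad s' = X ^ 4 + C τ * X ^ 3 + C (γ + 2) * X ^ 2 + C τ * X + 1 := by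
      have e1 : C s + C s' = -C τ := by rw [← C_add, hs']; simp
      have e2 : C s * C s' = C γ := by rw [← C_mul, hprod]
      rw [quad, quad, map_add, map_ofNat]
      linear_combination (-X ^ 3 - X) * e1 + X ^ 2 * e2
    rw [e]
    simp only [map_add, map_mul, map_pow, aeval_X, aeval_C, map_one]
    have h := congrArg (toBar F) hrel
    simp only [map_add, map_pow, map_zero, map_one, Matrix.smul_eq_diagonal_mul, map_mul] at h
    rw [← h]
    simp [M, τ, γ, Matrix.algebraMap_eq_diagonal, toBar, RingHom.mapMatrix_apply, Matrix.diagonal_map]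
    rfl
  -- divisibility gives the order
  have fin : ∀ (m j : ℕ) (c : AlgebraicClosure F), c ^ 2 = 1 → quad s * quad s' ∣ (X ^ m - C c) ^ p ^ j →
      spToPSp 2 F A ^ (m * p ^ j) = 1 := by
    intro m j c hc hd
    refine sp_pow_of_bar (c := c ^ p ^ j) (by rw [← pow_mul, mul_comm, pow_mul, hc, one_pow]) ?_
    obtain ⟨R, hR⟩ := hd
    have h := congrArg (aeval M) hR
    rw [map_mul, hM0, zero_mul, sub_pow_char_pow, ← pow_mul, map_sub, map_pow, aeval_X, ← C_pow, aeval_C,
      sub_eq_zero, Algebra.algebraMap_eq_smul_one] at h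
    exact h
  have hfrob : ∀ (x : AlgebraicClosure F), x ^ 2 + τ * x + γ = 0 → (x ^ q) ^ 2 + τ * x ^ q + γ = 0 := by
    intro x hx
    have h := congrArg (· ^ q) hx
    simp only [hqk, zero_pow (pow_ne_zero k hpp.ne_zero), add_pow_char_pow, mul_pow, ← pow_mul] at h
    simp only [← hqk, hτq, hγq] at h
    rw [← pow_mul, mul_comm q 2]
    rw [mul_comm 2 q] at h ⊢
    exact h
  have hroots : ∀ x : AlgebraicClosure F, x ^ 2 + τ * x + γ = 0 → x = s ∨ x = s' := by
    intro x hx
    have e : (x - s) * (x - s') = 0 := by rw [hs']; linear_combination hx - hs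
    exact (mul_eq_zero.mp e).imp sub_eq_zero.mp sub_eq_zero.mp
  have finj : ∀ x y : AlgebraicClosure F, x ^ q = y ^ q → x = y := fun x y h => by
    rw [hqk] at h
    exact iterateFrobenius_inj (AlgebraicClosure F) p k h
  have hone : ∀ c : AlgebraicClosure F, c ^ 2 = 1 → p ≠ 2 → c ^ q = c := fun c hc hp2 => by
    obtain ⟨e, he⟩ : Odd q := hqk ▸ (hpp.odd_of_ne_two hp2).pow
    rw [he, pow_succ, pow_mul, hc, one_pow, one_mul]
  -- one factor whose parameter is fixed
  have hfix : ∀ u : AlgebraicClosure F, u ^ q = u →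
      (quad u ∣ X ^ (q - 1) - C 1 ∨ quad u ∣ X ^ (q + 1) - C 1) ∨
      (∃ ε : AlgebraicClosure F, ε ^ 2 = 1 ∧ u = 2 * ε ∧
        ∀ m₀, (m₀ = q - 1 ∨ m₀ = q + 1) → quad u ∣ (X ^ m₀ - C 1) ^ p) := by
    intro u hu
    obtain ⟨lam, hl, rfl⟩ := exists_lam u
    by_cases hne : lam = lam⁻¹
    · right
      obtain ⟨ε, hε, he⟩ := pm_of_self_inv hl hne
      refine ⟨ε, hε, he, fun m₀ hm₀ => ?_⟩
      rw [he, quad_pm hε]
      refine (pow_dvd_pow _ hpp.two_le).trans (pow_dvd_pow_of_dvd (linear_dvd ?_) p)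
      rcases hpp.eq_two_or_odd' with h2 | hodd
      · have h20 : (2 : AlgebraicClosure F) = 0 := by subst h2; exact_mod_cast CharP.cast_eq_zero (AlgebraicClosure F) 2
        have : ε = 1 := by
          rcases sq_eq_one_iff.1 hε with h | h
          · exact h
          · rw [h]; linear_combination (-1 : AlgebraicClosure F) * h20
        rw [this, one_pow]
      · have hqodd : Odd q := hqk ▸ hodd.pow
        have he2 : Even m₀ := by
          rcases hm₀ with rfl | rfl
          · exact Nat.Odd.sub_odd hqodd odd_one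
          · exact hqodd.add_odd odd_one
        obtain ⟨e, rfl⟩ := he2
        rw [← two_mul, pow_mul, hε, one_pow]
    · left
      rcases root_cases p hqk hl hu with h | h
      · exact Or.inl (quad_dvd hl hne h (one_pow 2))
      · exact Or.inr (quad_dvd hl hne h (one_pow 2))
  have hdiv : ∀ m e : ℕ, (X ^ m - C (1 : AlgebraicClosure F)) ∣ X ^ (m * e) - C 1 := fun m e => by
    rw [pow_mul, C_1]; exact sub_one_dvd_pow_sub_one _ e
  have hLsub : OrdList q p (p * (q - 1)) ∧ OrdList q p (p * (q + 1)) := by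
    rw [OrdList, OrdList]; split_ifs with h <;> simp [h]
  have hLm : ∀ m, (m = q - 1 ∨ m = q + 1) → OrdList q p (m * p ^ 1) := by
    rintro m (rfl | rfl) <;> rw [pow_one, mul_comm]
    exacts [hLsub.1, hLsub.2]
  have hmul : q * q = q ^ 2 := (pow_two q).symm
  by_cases hss : s = s'
  · -- equal factors
    have hsq : s ^ q = s := by
      rcases hroots _ (hfrob s hs) with h | h
      · exact h
      · rw [h, ← hss]
    rw [← hss] at hM0 fin
    rcases hfix s hsq with (h | h) | ⟨ε, hε, he, -⟩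
    · refine ⟨_, hLm (q - 1) (Or.inl rfl), fin (q - 1) 1 1 (one_pow 2) ?_⟩
      rw [← pow_two, pow_one]
      exact (pow_dvd_pow_of_dvd h 2).trans (pow_dvd_pow _ hpp.two_le)
    · refine ⟨_, hLm (q + 1) (Or.inr rfl), fin (q + 1) 1 1 (one_pow 2) ?_⟩
      rw [← pow_two, pow_one]
      exact (pow_dvd_pow_of_dvd h 2).trans (pow_dvd_pow _ hpp.two_le)
    · -- unipotent up to sign
      have hu : quad s * quad s = (X - C ε) ^ 4 := by rw [he, quad_pm hε]; ring
      by_cases hp4 : 4 ≤ p
      · refine ⟨_, hLsub.1, ?_⟩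
        rw [pow_mul]
        have h := fin 1 1 ε hε (by rw [hu, pow_one, pow_one]; exact pow_dvd_pow _ hp4)
        rw [one_mul, pow_one] at h
        rw [h, one_pow]
      · rcases (by have := hpp.two_le; omega : p = 2 ∨ p = 3) with rfl | rfl
        · refine ⟨4, by rw [OrdList, if_pos rfl]; exact Or.inl rfl, ?_⟩
          exact fin 1 2 ε hε (by rw [hu, pow_one]; exact dvd_rfl)
        · refine ⟨9, by rw [OrdList, if_neg (by omega)]; simp, ?_⟩
          exact fin 1 2 ε hε (by rw [hu, pow_one]; exact pow_dvd_pow _ (by norm_num))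
  · have hco := quad_coprime hss
    by_cases hsq : s ^ q = s
    · have hsq' : s' ^ q = s' := by
        rcases hroots _ (hfrob s' (by rw [hs']; linear_combination hs)) with h | h
        · exfalso
          exact hss (finj _ _ (hsq.trans h.symm))
        · exact h
      rcases hfix s hsq with h1 | ⟨-, -, -, h1'⟩
      · rcases hfix s' hsq' with h2 | ⟨-, -, -, h2'⟩
        · -- both semisimple
          by_cases hp2 : p = 2
          · refine ⟨q ^ 2 - 1, by rw [OrdList, if_pos hp2]; simp, ?_⟩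
            have hM' : (q - 1) * (q + 1) = q ^ 2 - 1 := by
              rw [mul_comm, ← Nat.sq_sub_sq, one_pow]
            have hd : ∀ u, (quad u ∣ X ^ (q - 1) - C (1 : AlgebraicClosure F) ∨ quad u ∣ X ^ (q + 1) - C 1) →
                quad u ∣ X ^ (q ^ 2 - 1) - C 1 := by
              rintro u (h | h)
              · rw [← hM']; exact h.trans (hdiv _ _)
              · rw [← hM', mul_comm]; exact h.trans (hdiv _ _)
            simpa using fin (q ^ 2 - 1) 0 1 (one_pow 2) (by rw [pow_zero, pow_one]; exact hco.mul_dvd (hd _ h1) (hd _ h2))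
          · refine ⟨(q ^ 2 - 1) / 2, by rw [OrdList, if_neg hp2]; simp, ?_⟩
            obtain ⟨e, he⟩ : Odd q := hqk ▸ (hpp.odd_of_ne_two hp2).pow
            have e1 : (q ^ 2 - 1) / 2 = (q - 1) * (e + 1) := by
              have : q ^ 2 - 1 = 2 * ((q - 1) * (e + 1)) := by
                rw [← one_pow 2, Nat.sq_sub_sq, he]; simp; ring
              rw [this, Nat.mul_div_cancel_left _ two_pos]
            have e2 : (q ^ 2 - 1) / 2 = (q + 1) * e := by
              rw [e1, he]; simp; ring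
            have hd : ∀ u, (quad u ∣ X ^ (q - 1) - C (1 : AlgebraicClosure F) ∨ quad u ∣ X ^ (q + 1) - C 1) →
                quad u ∣ X ^ ((q ^ 2 - 1) / 2) - C 1 := by
              rintro u (h | h)
              · rw [e1]; exact h.trans (hdiv _ _)
              · rw [e2]; exact h.trans (hdiv _ _)
            simpa using fin ((q ^ 2 - 1) / 2) 0 1 (one_pow 2) (by rw [pow_zero, pow_one]; exact hco.mul_dvd (hd _ h1) (hd _ h2))
        · obtain ⟨m₀, hm₀, hd⟩ : ∃ m₀, (m₀ = q - 1 ∨ m₀ = q + 1) ∧ quad s ∣ X ^ m₀ - C 1 := by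
            rcases h1 with h | h
            exacts [⟨_, Or.inl rfl, h⟩, ⟨_, Or.inr rfl, h⟩]
          refine ⟨_, hLm m₀ hm₀, fin m₀ 1 1 (one_pow 2) ?_⟩
          rw [pow_one]
          exact hco.mul_dvd (hd.trans (dvd_pow_self _ hpp.ne_zero)) (h2' m₀ hm₀)
      · rcases hfix s' hsq' with h2 | ⟨-, -, -, h2'⟩
        · obtain ⟨m₀, hm₀, hd⟩ : ∃ m₀, (m₀ = q - 1 ∨ m₀ = q + 1) ∧ quad s' ∣ X ^ m₀ - C 1 := by
            rcases h2 with h | h
            exacts [⟨_, Or.inl rfl, h⟩, ⟨_, Or.inr rfl, h⟩]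
          refine ⟨_, hLm m₀ hm₀, fin m₀ 1 1 (one_pow 2) ?_⟩
          rw [pow_one]
          exact hco.mul_dvd (h1' m₀ hm₀) (hd.trans (dvd_pow_self _ hpp.ne_zero))
        · refine ⟨_, hLm (q - 1) (Or.inl rfl), fin (q - 1) 1 1 (one_pow 2) ?_⟩
          rw [pow_one]
          exact hco.mul_dvd (h1' _ (Or.inl rfl)) (h2' _ (Or.inl rfl))
    · -- conjugate factors
      have hsw : s ^ q = s' := (hroots _ (hfrob s hs)).resolve_left hsq
      have hs'q : s' ^ q = s := by
        rcases hroots _ (hfrob s' (by rw [hs']; linear_combination hs)) with h | h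
        · exact h
        · exfalso; exact hss (finj _ _ (hsw.trans h.symm))
      have hsQ : s ^ q ^ 2 = s := by rw [← hmul, pow_mul, hsw, hs'q]
      obtain ⟨lam, hl, hlam⟩ := exists_lam s
      have hne : lam ≠ lam⁻¹ := by
        intro h
        obtain ⟨ε, hε, he⟩ := pm_of_self_inv hl h
        refine hsq ?_
        rw [hlam, he]
        rcases sq_eq_one_iff.1 hε with rfl | rfl
        · rw [mul_one, ← map_ofNat (algebraMap F (AlgebraicClosure F)), ← map_pow, hq, FiniteField.pow_card]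
        · rw [mul_neg_one, ← map_ofNat (algebraMap F (AlgebraicClosure F)), ← map_neg, ← map_pow, hq,
            FiniteField.pow_card]
      have hlam' : s' = lam ^ q + (lam ^ q)⁻¹ := by
        rw [← hsw, hlam, hqk, add_pow_char_pow, inv_pow]
      have hne' : lam ^ q ≠ (lam ^ q)⁻¹ := by
        rw [← inv_pow]
        exact fun h => hne (finj _ _ h)
      have hq1 : 1 ≤ q := Fintype.card_pos
      have mk : ∀ (m : ℕ) (c : AlgebraicClosure F), c ^ 2 = 1 → c ^ q = c → lam ^ m = c →
          spToPSp 2 F A ^ m = 1 := by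
        intro m c hc hcq hm
        have hd : quad s * quad s' ∣ (X ^ m - C c) ^ p ^ 0 := by
          rw [pow_zero, pow_one]
          refine hco.mul_dvd ?_ ?_
          · rw [hlam]; exact quad_dvd hl hne hm hc
          · rw [hlam']
            exact quad_dvd (pow_ne_zero q hl) hne' (by rw [← pow_mul, mul_comm, pow_mul, hm, hcq]) hc
        have h := fin m 0 c hc hd
        rwa [pow_zero, mul_one] at h
      rcases root_cases p (Q := q ^ 2) (k := k * 2) (by rw [hqk, pow_mul]) hl (by rw [← hlam]; exact hsQ) with h | h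
      · by_cases hp2 : p = 2
        · exact ⟨_, by rw [OrdList, if_pos hp2]; simp, mk (q ^ 2 - 1) 1 (one_pow 2) (one_pow q) h⟩
        · refine ⟨(q ^ 2 - 1) / 2, by rw [OrdList, if_neg hp2]; simp, mk _ (lam ^ ((q ^ 2 - 1) / 2)) ?_ ?_ rfl⟩
          · rw [← pow_mul, Nat.div_mul_cancel, h]
            exact (Nat.Odd.sub_odd ((hqk ▸ (hpp.odd_of_ne_two hp2).pow : Odd q).pow) odd_one).two_dvd
          · exact hone _ (by
              rw [← pow_mul, Nat.div_mul_cancel, h]
              exact (Nat.Odd.sub_odd ((hqk ▸ (hpp.odd_of_ne_two hp2).pow : Odd q).pow) odd_one).two_dvd) hp2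
      · by_cases hp2 : p = 2
        · exact ⟨_, by rw [OrdList, if_pos hp2]; simp, mk (q ^ 2 + 1) 1 (one_pow 2) (one_pow q) h⟩
        · refine ⟨(q ^ 2 + 1) / 2, by rw [OrdList, if_neg hp2]; simp, mk _ (lam ^ ((q ^ 2 + 1) / 2)) ?_ ?_ rfl⟩
          · rw [← pow_mul, Nat.div_mul_cancel, h]
            exact ((hqk ▸ (hpp.odd_of_ne_two hp2).pow : Odd q).pow.add_odd odd_one).two_dvd
          · exact hone _ (by
              rw [← pow_mul, Nat.div_mul_cancel, h]
              exact ((hqk ▸ (hpp.odd_of_ne_two hp2).pow : Odd q).pow.add_odd odd_one).two_dvd) hp2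

end Upper

section Lower

variable {F : Type*} [Field F] [Fintype F]

local notation "Sp(" m ")" => Matrix.symplecticGroup (Fin m) F
local notation "Sp4" => Matrix.symplecticGroup (Fin 2) F
local notation "M4" => Matrix (Fin 2 ⊕ Fin 2) (Fin 2 ⊕ Fin 2)
local notation "MB" => Matrix (Fin 2) (Fin 2) F

/-- the blocks of a regular unipotent element -/
def regA (F : Type*) [Field F] : Matrix (Fin 2) (Fin 2) F := !![1, 1; 0, 1]

/-- the blocks of a regular unipotent element -/
def regB (F : Type*) [Field F] : Matrix (Fin 2) (Fin 2) F := !![0, 1; 0, 1]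

/-- the blocks of a regular unipotent element -/
def regD (F : Type*) [Field F] : Matrix (Fin 2) (Fin 2) F := !![1, 0; -1, 1]

omit [Fintype F] in
/-- a regular unipotent element of `Sp₄` -/
theorem exists_regular : ∃ u : Sp4, (u.1 - 1) ^ 3 ≠ 0 ∧ (u.1 - 1) ^ 4 = 0 ∧ (u.1 - 1) ^ 2 ≠ 0 := by
  have hmem : fromBlocks (regA F) (regB F) 0 (regD F) ∈ Matrix.symplecticGroup (Fin 2) F := by
    rw [SymplecticGroup.mem_iff]
    ext r s
    rcases r with i | i <;> rcases s with j | j <;> fin_cases i <;> fin_cases j <;>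
      simp [Matrix.mul_apply, Matrix.J, Fintype.sum_sum_type, Fin.sum_univ_two, regA, regB, regD, fromBlocks]
  set u : Sp4 := ⟨_, hmem⟩
  have hu : u.1 - 1 = fromBlocks !![0, 1; 0, 0] (regB F) 0 !![0, 0; -1, 0] := by
    show fromBlocks (regA F) (regB F) 0 (regD F) - 1 = _
    ext r s
    rcases r with i | i <;> rcases s with j | j <;> fin_cases i <;> fin_cases j <;>
      simp [regA, regB, regD, Matrix.one_apply]
  refine ⟨u, fun h => ?_, ?_, fun h => ?_⟩
  · rw [hu, pow_succ, pow_two, fromBlocks_multiply, fromBlocks_multiply] at h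
    have := congrFun (congrFun h (.inl 0)) (.inr 0)
    simp [regB, Matrix.mul_apply, Fin.sum_univ_two] at this
  · rw [hu, pow_succ, pow_succ, pow_two, fromBlocks_multiply, fromBlocks_multiply, fromBlocks_multiply]
    ext r s
    rcases r with i | i <;> rcases s with j | j <;> fin_cases i <;> fin_cases j <;>
      simp [regB, Matrix.mul_apply, Fin.sum_univ_two]
  · rw [hu, pow_two, fromBlocks_multiply] at h
    have := congrFun (congrFun h (.inl 0)) (.inr 1)
    simp [regB, Matrix.mul_apply, Fin.sum_univ_two] at this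

theorem dvd_of_image {n N : ℕ} (hN : N ≠ 0) (x : Sp(n)) (hx : orderOf x = 2 * N) :
    N ∣ orderOf (spToPSp n F x) := by
  have h := orderOf_dvd_two_mul_psp x
  rw [hx] at h
  exact (Nat.mul_dvd_mul_iff_left two_pos).mp h

/-- an element of order `p` in `Sp₂` -/
theorem exists_transvection (p : ℕ) [Fact p.Prime] [CharP F p] : ∃ z : Sp(1), orderOf z = p := by
  let U : F → Sp(1) := fun a => ⟨fromBlocks 1 (Matrix.of fun _ _ => a) 0 1, by
    rw [SymplecticGroup.mem_iff]
    ext r s
    rcases r with i | i <;> rcases s with j | j <;> fin_cases i <;> fin_cases j <;>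
      simp [Matrix.mul_apply, Matrix.J, Fintype.sum_sum_type, fromBlocks]⟩
  have hn : ∀ n : ℕ, U 1 ^ n = U n := by
    intro n
    induction n with
    | zero =>
      refine Subtype.ext ?_
      show (1 : Matrix (Fin 1 ⊕ Fin 1) (Fin 1 ⊕ Fin 1) F) = fromBlocks 1 _ 0 1
      ext r s
      rcases r with i | i <;> rcases s with j | j <;> fin_cases i <;> fin_cases j <;> simp
    | succ n ih =>
      rw [pow_succ, ih]
      refine Subtype.ext ?_
      show fromBlocks 1 _ 0 1 * fromBlocks 1 _ 0 1 = fromBlocks 1 _ 0 1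
      rw [fromBlocks_multiply]
      ext r s
      rcases r with i | i <;> rcases s with j | j <;> fin_cases i <;> fin_cases j <;> simp [add_comm]
  refine ⟨U 1, orderOf_eq_prime ?_ fun h => ?_⟩
  · rw [hn, CharP.cast_eq_zero]
    refine Subtype.ext ?_
    show fromBlocks 1 _ 0 1 = (1 : Matrix (Fin 1 ⊕ Fin 1) (Fin 1 ⊕ Fin 1) F)
    ext r s
    rcases r with i | i <;> rcases s with j | j <;> fin_cases i <;> fin_cases j <;> simp
  · have h' := congrFun (congrFun (congrArg Subtype.val h) (.inl 0)) (.inr 0)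
    simp [U] at h'

variable (p : ℕ) [Fact p.Prime] [CharP F p]

theorem lower (N : ℕ) (hN : OrdList (Fintype.card F) p N) : ∃ x : PSp 2 F, N ∣ orderOf x := by
  classical
  have hpp := (Fact.out : p.Prime)
  set q := Fintype.card F with hq
  have hq2 : 2 ≤ q := Fintype.one_lt_card
  have hmul : q * q = q ^ 2 := (pow_two q).symm
  have hqq : 4 ≤ q ^ 2 := by rw [← hmul]; exact Nat.mul_le_mul hq2 hq2
  obtain ⟨k, hqk⟩ : ∃ k, q = p ^ k := by
    obtain ⟨k, -, hk⟩ := FiniteField.card F p
    exact ⟨k, hk⟩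
  have hk0 : k ≠ 0 := by rintro rfl; rw [pow_zero] at hqk; omega
  have hpq : p ∣ q := hqk ▸ dvd_pow_self p hk0
  rw [OrdList] at hN
  split_ifs at hN with hp2
  · subst hp2
    have h20 : (2 : F) = 0 := by exact_mod_cast CharP.cast_eq_zero F 2
    have mk : ∀ (x : Sp4), ∃ y : PSp 2 F, orderOf x ∣ orderOf y := fun x =>
      ⟨spToPSp 2 F x, by rw [Cfsg.Agent.Fus.PrimeGraph.orderOf_spToPSp x (Or.inr h20)]⟩
    obtain ⟨z, hz⟩ := exists_transvection (F := F) 2
    have hodd : ∀ d, (d = q - 1 ∨ d = q + 1) → Nat.Coprime 2 d := by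
      intro d hd
      rw [Nat.coprime_two_left, Nat.odd_iff]
      have : q % 2 = 0 := Nat.mod_eq_zero_of_dvd hpq |> id
      omega
    have two : ∀ d, (d = q - 1 ∨ d = q + 1) → ∃ y : PSp 2 F, 2 * d ∣ orderOf y := by
      intro d hd
      obtain ⟨x, hx⟩ := Cfsg.Agent.Fus.PrimeGraph.exists_symp_torus (F := F) (e := 1) (M := d) le_rfl
        (by rw [pow_one, ← hq]; rcases hd with rfl | rfl <;> simp)
      obtain ⟨w, hw⟩ := Cfsg.Agent.Fus.PrimeGraph.exists_symp_product (n := 2) le_rfl (hodd d hd) hz hx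
      obtain ⟨y, hy⟩ := mk w
      exact ⟨y, hw ▸ hy⟩
    have sq : ∀ d, (d = q ^ 2 - 1 ∨ d = q ^ 2 + 1) → ∃ y : PSp 2 F, d ∣ orderOf y := by
      intro d hd
      obtain ⟨x, hx⟩ := Cfsg.Agent.Fus.PrimeGraph.exists_symp_torus (F := F) (e := 2) (M := d) (by omega)
        (by rw [← hq]; rcases hd with rfl | rfl <;> simp)
      obtain ⟨y, hy⟩ := mk x
      exact ⟨y, hx ▸ hy⟩
    rcases hN with rfl | rfl | rfl | rfl | rfl
    · obtain ⟨u, -, h4, h2⟩ := exists_regular (F := F)
      obtain ⟨y, hy⟩ := mk u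
      haveI : CharP (M4 F) 2 := inferInstance
      have hc : Commute u.1 (1 : M4 F) := Commute.one_right _
      have hu4 : orderOf u = 2 ^ (1 + 1) := by
        refine orderOf_eq_prime_pow (fun h => h2 ?_) (Subtype.ext ?_)
        · rw [pow_one] at h
          rw [sub_pow_char_of_commute 2 hc, one_pow, show u.1 ^ 2 = ((u ^ 2 : Sp4) : M4 F) from rfl, h]
          exact sub_self _
        · show u.1 ^ 2 ^ 2 = 1
          rw [← sub_eq_zero, ← one_pow (2 ^ 2), ← sub_pow_char_pow_of_commute 2 2 hc]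
          exact h4
      exact ⟨y, (show 4 = orderOf u from hu4.symm) ▸ hy⟩
    · exact two _ (Or.inl rfl)
    · exact two _ (Or.inr rfl)
    · exact sq _ (Or.inl rfl)
    · exact sq _ (Or.inr rfl)
  · have h2F : (2 : F) ≠ 0 := fun h => hp2 ((Nat.prime_dvd_prime_iff_eq hpp Nat.prime_two).mp
      ((CharP.cast_eq_zero_iff F p 2).mp (by exact_mod_cast h)))
    obtain ⟨z, hz⟩ := exists_transvection (F := F) p
    have hpodd : Odd p := hpp.odd_of_ne_two hp2
    have one : ∀ d, (d = q - 1 ∨ d = q + 1) → ∃ y : PSp 2 F, p * d ∣ orderOf y := by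
      intro d hd
      obtain ⟨x, hx⟩ := exists_symp_order_of_dvd (F := F) h2F (e := 1) (M := d) le_rfl
        (by rw [pow_one, ← hq]; rcases hd with rfl | rfl <;> simp)
      obtain ⟨y, hy⟩ := exists_psp_lcm h2F (show 1 + 1 = 2 from rfl) le_rfl x z (hz ▸ hpodd)
      refine ⟨y, dvd_trans ?_ hy⟩
      rw [hx, hz, Nat.lcm_comm, Nat.Coprime.lcm_eq_mul]
      rw [hpp.coprime_iff_not_dvd]
      intro h
      rcases hd with rfl | rfl
      · have h' := Nat.dvd_sub hpq h
        rw [show q - (q - 1) = 1 by omega] at h'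
        exact hpp.not_dvd_one h'
      · exact hpp.not_dvd_one ((Nat.dvd_add_right hpq).mp h)
    have sq : ∀ d, (d = q ^ 2 - 1 ∨ d = q ^ 2 + 1) → ∃ y : PSp 2 F, d / 2 ∣ orderOf y := by
      intro d hd
      have he : 2 ∣ d := by
        have ho : Odd (q ^ 2) := (hqk ▸ hpodd.pow : Odd q).pow
        rcases hd with rfl | rfl
        exacts [(Nat.Odd.sub_odd ho odd_one).two_dvd, (ho.add_odd odd_one).two_dvd]
      obtain ⟨x, hx⟩ := exists_symp_order_of_dvd (F := F) h2F (e := 2) (M := d) (by omega)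
        (by rw [← hq]; rcases hd with rfl | rfl <;> simp)
      exact ⟨_, dvd_of_image (by omega) x (by rw [hx, Nat.mul_div_cancel' he])⟩
    rcases hN with rfl | rfl | rfl | rfl | ⟨rfl, rfl⟩
    · exact one _ (Or.inl rfl)
    · exact one _ (Or.inr rfl)
    · exact sq _ (Or.inl rfl)
    · exact sq _ (Or.inr rfl)
    · obtain ⟨u, h3, h4, -⟩ := exists_regular (F := F)
      haveI : CharP (M4 F) 3 := inferInstance
      have hc : Commute u.1 (1 : M4 F) := Commute.one_right _
      have e3 : u.1 ^ 3 = 1 + (u.1 - 1) ^ 3 := by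
        rw [sub_pow_char_of_commute 3 hc, one_pow, add_sub_cancel]
      have e9 : u.1 ^ 9 = 1 := by
        have h9 : (u.1 - 1) ^ 3 ^ 2 = 0 := by
          rw [show (3 ^ 2 : ℕ) = 4 + 5 from rfl, pow_add, h4, zero_mul]
        rw [sub_pow_char_pow_of_commute 3 2 hc, one_pow, sub_eq_zero] at h9
        exact h9
      refine ⟨spToPSp 2 F u, ?_⟩
      have hd : orderOf (spToPSp 2 F u) ∣ 9 := orderOf_dvd_of_pow_eq_one (by
        rw [← map_pow, show u ^ 9 = 1 from Subtype.ext e9, map_one])
      obtain ⟨i, hi, he⟩ := (Nat.dvd_prime_pow Nat.prime_three).mp (show orderOf (spToPSp 2 F u) ∣ 3 ^ 2 from hd)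
      interval_cases i <;> rw [he]
      all_goals first
        | exact dvd_rfl
        | exfalso
          have h1 : spToPSp 2 F u ^ 3 = 1 := orderOf_dvd_iff_pow_eq_one.mp (by rw [he]; norm_num)
          rcases spToPSp_pow_eq_one h1 with h | h
          · exact h3 (by
              have := congrArg Subtype.val h
              rw [show ((u ^ 3 : Sp4) : M4 F) = u.1 ^ 3 from rfl, e3] at this
              simpa using this)
          · have hv : u.1 ^ 3 = -1 := by
              have := congrArg Subtype.val h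
              rw [show ((u ^ 3 : Sp4) : M4 F) = u.1 ^ 3 from rfl] at this
              rw [this, sympNegOne]
            have h91 : u.1 ^ 9 = (-1) ^ 3 := by rw [← hv, ← pow_mul]
            rw [e9] at h91
            have := congrFun (congrFun h91 (.inl 0)) (.inl 0)
            simp [pow_succ] at this
            exact h2F (by linear_combination this)

end Lower

end Cfsg.Agent.Recog.SpFourOrd
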