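import Cfsg.Agent.Lib.Recog.EightOrders
import Cfsg.Agent.Lib.Recog.EightWitness
import Cfsg.Agent.Lib.Recog.ModuleCover
import Cfsg.Agent.Lib.Recog.SpFourOrders
import Cfsg.Agent.Lib.Classical.OrthModels
import Cfsg.Agent.Lib.Classical.Symp

/-!
`PSp₈(q)`, `GO⁻₈(q)` and `Vⁿ ⋊ Ω⁻₈(q)`, `q` even, have the same maximal element orders.
-/

set_option autoImplicit false
set_option linter.unusedSectionVars false
set_option quotPrecheck false

namespace Cfsg.Agent.Recog.EightOrd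

open Matrix Cfsg Cfsg.Agent.Classical Cfsg.Agent.Classical.OrthAut Cfsg.Agent.Recog.EightBlk

variable {F : Type*} [Field F] [Fintype F] [CharP F 2]

/-- A matrix preserving a non-degenerate bilinear form has inverse-closed eigenvalues. -/
theorem inv_closed {ι : Type} [Fintype ι] [DecidableEq ι] {A G : Matrix ι ι F} (hG : IsUnit G) (h : Aᵀ * G * A = G) :
    IsUnit A ∧ (eigRoots (AlgebraicClosure F) A).map (fun x => x⁻¹) = eigRoots (AlgebraicClosure F) A := by
  have hdG := (Matrix.isUnit_iff_isUnit_det G).1 hG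
  have hBA : (G⁻¹ * Aᵀ * G) * A = 1 := by
    rw [Matrix.mul_assoc, Matrix.mul_assoc, ← Matrix.mul_assoc Aᵀ, h, Matrix.nonsing_inv_mul _ hdG]
  refine ⟨IsUnit.of_mul_eq_one_right _ hBA, ?_⟩
  obtain ⟨u, rfl⟩ := hG
  have hcp : ((u : Matrix ι ι F)⁻¹ * Aᵀ * (u : Matrix ι ι F)).charpoly = A.charpoly := by
    rw [Matrix.charpoly_units_conj', Matrix.charpoly_transpose]
  have hm : ((u : Matrix ι ι F)⁻¹ * Aᵀ * (u : Matrix ι ι F)).map (algebraMap F (AlgebraicClosure F)) *
      A.map (algebraMap F (AlgebraicClosure F)) = 1 := by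
    rw [← Matrix.map_mul, hBA, Matrix.map_one _ (map_zero _) (map_one _)]
  have h2 := roots_charpoly_inv hm
  rw [Matrix.charpoly_map, hcp, ← Matrix.charpoly_map] at h2
  exact h2.symm

/-- The centre of a symplectic group in characteristic two is trivial. -/
theorem center_bot : Subgroup.center (Matrix.symplecticGroup (Fin 4) F) = ⊥ := by
  rw [Subgroup.eq_bot_iff_forall]
  intro A hA
  obtain ⟨l, hl, h⟩ := eq_scalar_of_commute_sympTv A fun v => (Subgroup.mem_center_iff.1 hA _).symm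
  have hl1 : l = 1 := by
    rcases sq_eq_one_iff.1 hl with h | h
    · exact h
    · rw [h, CharTwo.neg_eq]
  exact Subtype.ext ((h (by omega)).trans (by rw [hl1, one_smul]; rfl))

theorem upper_sp (x : PSp 4 F) : ∃ N, L8 (Fintype.card F) N ∧ x ^ N = 1 := by
  obtain ⟨A, rfl⟩ := QuotientGroup.mk'_surjective _ x
  obtain ⟨hu, hinv⟩ := inv_closed (A := A.1) (G := Matrix.J (Fin 4) F)
    ((Matrix.isUnit_iff_isUnit_det _).2 (Matrix.isUnit_det_J _ _)) (SymplecticGroup.mem_iff'.1 A.2)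
  obtain ⟨N, hL, hN, -⟩ := main (by simp) A.1 hu hinv
  exact ⟨N, hL, by rw [← map_pow, show A ^ N = 1 from Subtype.ext hN, map_one]⟩

variable {a b : F}

local notation "Qm" => qfMinus 3 F a b
local notation "OG" => isometryGroup F ⇑(qfMinus 3 F a b)

theorem og_main (hab : Aniso F a b) (g : OG) : ∃ N, L8 (Fintype.card F) N ∧ g ^ N = 1 ∧
    (Module.finrank F (fixSub g) ≠ 1 → ∑ i ∈ Finset.range N, ogVal g ^ i = 0) := by
  classical
  set G := LinearMap.BilinForm.toMatrix' (QuadraticMap.polarBilin Qm) with hG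
  have hGu : IsUnit G := (Matrix.isUnit_iff_isUnit_det G).2 (isUnit_iff_ne_zero.2
    ((LinearMap.BilinForm.nondegenerate_iff_det_ne_zero (Pi.basisFun F _)).1 (nondegenerate_qfMinus 3 hab)))
  have hA : (ogVal g)ᵀ * G * ogVal g = G := by
    calc (ogVal g)ᵀ * G * ogVal g
        = LinearMap.BilinForm.toMatrix' (LinearMap.BilinForm.comp (QuadraticMap.polarBilin Qm)
            (Matrix.toLin' (ogVal g)) (Matrix.toLin' (ogVal g))) := by
          rw [LinearMap.BilinForm.toMatrix'_comp, LinearMap.toMatrix'_toLin']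
      _ = G := by
          rw [hG]
          congr 1
          refine LinearMap.ext₂ fun u v => ?_
          show QuadraticMap.polar Qm (Matrix.toLin' (ogVal g) u) (Matrix.toLin' (ogVal g) v) = QuadraticMap.polar Qm u v
          rw [Matrix.toLin'_apply, Matrix.toLin'_apply]
          simp only [QuadraticMap.polar, ← Matrix.mulVec_add, ogVal_quad]
  obtain ⟨hu, hinv⟩ := inv_closed hGu hA
  obtain ⟨N, hL, hN, hsum⟩ := main (by simp) (ogVal g) hu hinv
  refine ⟨N, hL, ogVal_ext ?_, fun h => hsum ?_⟩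
  · have hpow : ∀ n : ℕ, ogVal (g ^ n) = ogVal g ^ n := fun n => by
      induction n with
      | zero => rw [pow_zero, pow_zero, ogVal_one]
      | succ n ih => rw [pow_succ, pow_succ, ogVal_mul, ih]
    rw [hpow, hN, ogVal_one]
  · exact h

theorem ogVal_pow' (g : OG) (n : ℕ) : ogVal (g ^ n) = ogVal g ^ n := by
  induction n with
  | zero => rw [pow_zero, pow_zero, ogVal_one]
  | succ n ih => rw [pow_succ, pow_succ, ogVal_mul, ih]

theorem upper_og (hab : Aniso F a b) (g : OG) : ∃ N, L8 (Fintype.card F) N ∧ g ^ N = 1 :=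
  (og_main hab g).imp fun _ h => ⟨h.1, h.2.1⟩

section Embedding

/-- Symplectic coordinates for the polar form. -/
def symCoord (a : F) (ha : a ≠ 0) :
    (((Fin 3 ⊕ Fin 3) ⊕ Fin 2) → F) ≃ₗ[F] (Fin 4 ⊕ Fin 4 → F) where
  toFun v := Sum.elim (Fin.snoc (fun i => v (.inl (.inl i))) (a * v (.inr 0)))
    (Fin.snoc (fun i => v (.inl (.inr i))) (v (.inr 1)))
  invFun w := Sum.elim (Sum.elim (fun i => w (.inl i.castSucc)) fun i => w (.inr i.castSucc))
    ![a⁻¹ * w (.inl (Fin.last 3)), w (.inr (Fin.last 3))]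
  map_add' u v := by
    funext i; rcases i with i | i <;> induction i using Fin.lastCases <;> simp [mul_add, -Fin.reduceLast]
  map_smul' c v := by
    funext i; rcases i with i | i <;> induction i using Fin.lastCases <;> simp [mul_left_comm, -Fin.reduceLast]
  left_inv v := by
    funext i; rcases i with (i | i) | i
    · simp
    · simp
    · fin_cases i <;> simp [ha, -Fin.reduceLast]
  right_inv w := by
    funext i; rcases i with i | i <;> induction i using Fin.lastCases <;> simp [ha, -Fin.reduceLast]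

theorem symCoord_form (ha : a ≠ 0) (u v : ((Fin 3 ⊕ Fin 3) ⊕ Fin 2) → F) :
    symCoord a ha u ⬝ᵥ Matrix.J (Fin 4) F *ᵥ symCoord a ha v = QuadraticMap.polar Qm u v := by
  rw [Matrix.J, Matrix.fromBlocks_mulVec]
  simp only [dotProduct, Fintype.sum_sum_type, Sum.elim_inl, Sum.elim_inr, Matrix.zero_mulVec, Matrix.one_mulVec,
    Matrix.neg_mulVec, zero_add, add_zero, Function.comp_apply, Pi.neg_apply]
  simp only [Fin.sum_univ_castSucc (n := 3)]
  simp only [symCoord, LinearEquiv.coe_mk, LinearMap.coe_mk, AddHom.coe_mk, Sum.elim_inl, Sum.elim_inr,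
    Fin.snoc_castSucc, Fin.snoc_last, polar_qfMinus, CharTwo.neg_eq, Finset.sum_add_distrib]
  rw [Finset.sum_congr rfl fun i _ => mul_comm (u (Sum.inl (Sum.inr i))) (v (Sum.inl (Sum.inl i)))]
  linear_combination -(u (Sum.inr 0) * v (Sum.inr 0) + b * u (Sum.inr 1) * v (Sum.inr 1)) *
    CharTwo.two_eq_zero (R := F)

theorem exists_embedding (hab : Aniso F a b) : ∃ f : OG →* PSp 4 F, Function.Injective f := by
  have ha : a ≠ 0 := fun h => by
    have := binary_disc_ne_zero hab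
    exact this (by rw [h]; linear_combination (2 * b) * CharTwo.two_eq_zero (R := F))
  set e := symCoord a ha
  let L : OG → Matrix (Fin 4 ⊕ Fin 4) (Fin 4 ⊕ Fin 4) F := fun g =>
    LinearMap.toMatrix' ((e.toLinearMap ∘ₗ Matrix.toLin' (ogVal g)) ∘ₗ e.symm.toLinearMap)
  have happ : ∀ g v, L g *ᵥ e v = e (ogVal g *ᵥ v) := fun g v => by simp [L, LinearMap.toMatrix'_mulVec]
  have hmem : ∀ g, L g ∈ Matrix.symplecticGroup (Fin 4) F := fun g => SymplecticGroup.mem_iff'.2 (by
    refine Matrix.ext_iff_mulVec.2 fun y => ?_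
    refine dotProduct_eq _ _ fun x => ?_
    obtain ⟨u, rfl⟩ := e.surjective x
    obtain ⟨v, rfl⟩ := e.surjective y
    rw [dotProduct_comm, ← Matrix.mulVec_mulVec, ← Matrix.mulVec_mulVec, Matrix.dotProduct_mulVec,
      Matrix.vecMul_transpose, happ, happ, symCoord_form ha, dotProduct_comm (_ *ᵥ _) (e u), symCoord_form ha,
      QuadraticMap.polar, QuadraticMap.polar, ← Matrix.mulVec_add, ogVal_quad, ogVal_quad, ogVal_quad])
  have hmul : ∀ g h, L (g * h) = L g * L h := fun g h => Matrix.ext_iff_mulVec.2 fun y => by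
    obtain ⟨v, rfl⟩ := e.surjective y
    rw [← Matrix.mulVec_mulVec, happ, happ, happ, ogVal_mul, Matrix.mulVec_mulVec]
  let f : OG →* Matrix.symplecticGroup (Fin 4) F := MonoidHom.mk' (fun g => ⟨L g, hmem g⟩)
    fun g h => Subtype.ext (hmul g h)
  refine ⟨(QuotientGroup.mk' _).comp f, (injective_iff_map_eq_one _).2 fun g hg => ?_⟩
  have h1 : f g ∈ Subgroup.center (Matrix.symplecticGroup (Fin 4) F) := (QuotientGroup.eq_one_iff _).1 hg
  rw [center_bot, Subgroup.mem_bot] at h1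
  refine ogVal_ext (Matrix.ext_iff_mulVec.2 fun v => e.injective ?_)
  rw [← happ, show L g = 1 from congrArg Subtype.val h1, ogVal_one, Matrix.one_mulVec, Matrix.one_mulVec]

end Embedding

section Lower

variable (hab : Aniso F a b)
include hab

theorem refl_ne_one {v : ((Fin 3 ⊕ Fin 3) ⊕ Fin 2) → F} (hv : Qm v ≠ 0) : refl hv ≠ (1 : OG) := by
  intro h
  have hv0 : v ≠ 0 := fun h0 => hv (by rw [h0, QuadraticMap.map_zero])
  refine hv0 ((nondegenerate_qfMinus 3 hab).1 v fun x => ?_)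
  have h2 := refl_apply hv x
  rw [h, ogVal_one, Matrix.one_mulVec, eq_comm, sub_eq_self, smul_eq_zero] at h2
  exact (mul_eq_zero.1 (h2.resolve_right hv0)).resolve_left (inv_ne_zero hv)

theorem commute_refl {g : OG} {v : ((Fin 3 ⊕ Fin 3) ⊕ Fin 2) → F} (hv : Qm v ≠ 0) (hgv : ogVal g *ᵥ v = v) :
    Commute g (refl hv) := by
  have h := refl_conj g hv (by rw [hgv]; exact hv)
  have h2 : refl (show Qm (ogVal g *ᵥ v) ≠ 0 by rw [hgv]; exact hv) = refl hv :=
    refl_congr _ hv (c := 1) (by rw [one_smul, hgv])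
  rw [h2, mul_inv_eq_iff_eq_mul] at h
  exact h

/-- A witness for a member of the list. -/
theorem cases_L8 {N : ℕ} (hN : L8 (Fintype.card F) N) :
    ((∃ g : OG, orderOf g = N) ∧ Odd N) ∨ (∃ n, N = 2 * n ∧ Odd n ∧ A1 Qm n) ∨
    (∃ n, N = 4 * n ∧ Odd n ∧ A2 Qm n) ∨ (∃ n, N = 8 * n ∧ Odd n ∧ A3 Qm n ∧ A4 Qm n) := by
  have hev := even_card (F := F)
  have h2 : 2 ≤ Fintype.card F := Fintype.one_lt_card
  have hp : ∀ j, Even (Fintype.card F ^ (j + 1)) ∧ 1 ≤ Fintype.card F ^ (j + 1) := fun j =>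
    ⟨hev.pow_of_ne_zero (by omega), Nat.one_le_pow _ _ (by omega)⟩
  have hm : ∀ j, Odd (Fintype.card F ^ (j + 1) - 1) := fun j => Nat.Even.sub_odd (hp j).2 (hp j).1 odd_one
  have hP : ∀ j, Odd (Fintype.card F ^ (j + 1) + 1) := fun j => (hp j).1.add_one
  have o1 : Odd (Fintype.card F - 1) := by simpa using hm 0
  have o1' : Odd (Fintype.card F + 1) := hev.add_one
  simp only [L8, Set.mem_insert_iff, Set.mem_singleton_iff] at hN
  rcases hN with rfl | rfl | rfl | rfl | rfl | rfl | rfl | rfl | rfl | rfl | rfl | rfl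
  · exact Or.inl ⟨witness_odd hab _ (Or.inl rfl), hm 3⟩
  · exact Or.inl ⟨witness_odd hab _ (Or.inr (Or.inl rfl)), hP 3⟩
  · exact Or.inl ⟨witness_odd hab _ (Or.inr (Or.inr (Or.inl rfl))), (hm 2).mul o1'⟩
  · exact Or.inl ⟨witness_odd hab _ (Or.inr (Or.inr (Or.inr rfl))), (hP 2).mul o1⟩
  · exact Or.inr (Or.inl ⟨_, rfl, hm 2, witness_one hab _ (Or.inl rfl)⟩)
  · exact Or.inr (Or.inl ⟨_, rfl, hP 2, witness_one hab _ (Or.inr (Or.inl rfl))⟩)
  · exact Or.inr (Or.inl ⟨_, rfl, (hP 1).mul o1, witness_one hab _ (Or.inr (Or.inr (Or.inl rfl)))⟩)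
  · exact Or.inr (Or.inl ⟨_, rfl, (hP 1).mul o1', witness_one hab _ (Or.inr (Or.inr (Or.inr rfl)))⟩)
  · exact Or.inr (Or.inr (Or.inl ⟨_, rfl, hm 1, witness_two hab _ (Or.inl rfl)⟩))
  · exact Or.inr (Or.inr (Or.inl ⟨_, rfl, hP 1, witness_two hab _ (Or.inr rfl)⟩))
  · exact Or.inr (Or.inr (Or.inr ⟨_, rfl, o1, witness_three hab _ (Or.inl rfl)⟩))
  · exact Or.inr (Or.inr (Or.inr ⟨_, rfl, o1', witness_three hab _ (Or.inr rfl)⟩))

theorem lower_og (N : ℕ) (hN : L8 (Fintype.card F) N) : ∃ x : OG, N ∣ orderOf x := by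
  have key : ∀ (n e : ℕ) (g t : OG), orderOf g = n → Odd n → orderOf t = 2 ^ e → Commute g t →
      2 ^ e * n ∣ orderOf (g * t) := fun n e g t hg hn ht hc => by
    rw [hc.orderOf_mul_eq_mul_orderOf_of_coprime (by
      rw [hg, ht]; exact (Nat.coprime_two_right.2 hn).pow_right e), hg, ht, mul_comm]
  rcases cases_L8 hab hN with ⟨⟨g, hg⟩, -⟩ | ⟨n, rfl, hn, g, v, hg, hgv, hv⟩ |
      ⟨n, rfl, hn, g, T, v, hg, hT, hc, -, -⟩ | ⟨n, rfl, hn, ⟨g, R, hg, hR, hc⟩, -⟩
  · exact ⟨g, hg ▸ dvd_rfl⟩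
  · refine ⟨_, key n 1 g (refl hv) hg hn ?_ (commute_refl hab hv hgv)⟩
    rw [pow_one]
    exact orderOf_eq_prime ((pow_two _).trans (refl_mul_self hv)) (refl_ne_one hab hv)
  · exact ⟨_, key n 2 g T hg hn hT hc⟩
  · exact ⟨_, key n 3 g R hg hn hR hc⟩

theorem lower_sp (N : ℕ) (hN : L8 (Fintype.card F) N) : ∃ x : PSp 4 F, N ∣ orderOf x := by
  obtain ⟨x, hx⟩ := lower_og hab N hN
  obtain ⟨f, hf⟩ := exists_embedding hab
  exact ⟨f x, by rwa [orderOf_injective f hf]⟩

end Lower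

section Cover

/-- The natural module of `Ω`. -/
noncomputable def natRep (a b : F) :
    Omega F ⇑(qfMinus 3 F a b) →* (Module.End F (((Fin 3 ⊕ Fin 3) ⊕ Fin 2) → F))ˣ :=
  ((Units.map (Matrix.toLinAlgEquiv' (R := F) (n := (Fin 3 ⊕ Fin 3) ⊕ Fin 2)).toRingHom.toMonoidHom).comp
    (isometryGroup F ⇑(qfMinus 3 F a b)).subtype).comp (Omega F ⇑(qfMinus 3 F a b)).subtype

theorem natRep_val (g : Omega F ⇑Qm) :
    ((natRep a b g : (Module.End F _)ˣ) : Module.End F _) = Matrix.toLinAlgEquiv' (ogVal g.1) := rfl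

theorem natRep_pow (g : Omega F ⇑Qm) (i : ℕ) (v : ((Fin 3 ⊕ Fin 3) ⊕ Fin 2) → F) :
    ((natRep a b g : Module.End F _) ^ i) v = ogVal (g.1 ^ i) *ᵥ v := by
  rw [natRep_val, ← map_pow, ogVal_pow', Matrix.toLinAlgEquiv'_apply]

variable (hab : Aniso F a b)
include hab

theorem dick_hom_facts (g : OG) : g ∈ Omega F ⇑Qm ↔ dick g = 1 :=
  mem_omega_iff_dick (nondegenerate_qfMinus 3 hab) (tri_qfMinus le_rfl a b) CharTwo.two_eq_zero g

theorem odd_mem_omega {g : OG} (hg : Odd (orderOf g)) : g ∈ Omega F ⇑Qm := by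
  rw [dick_hom_facts hab]
  obtain ⟨k, hk⟩ := hg
  have h : dickHom (nondegenerate_qfMinus 3 hab) (tri_qfMinus le_rfl a b) (g ^ (2 * k + 1)) = 1 := by
    rw [← hk, pow_orderOf_eq_one, map_one]
  rw [map_pow, pow_succ, pow_mul, Int.units_sq, one_pow, one_mul] at h
  exact h

theorem upper_cover {m : ℕ} (h : ModCover.H (natRep a b) m) : ∃ N, L8 (Fintype.card F) N ∧ h ^ N = 1 := by
  obtain ⟨N, hL, hN, hsum⟩ := og_main hab h.right.1
  refine ⟨N, hL, ModCover.pow_eq_one_of_sum _ (Subtype.ext hN) ?_⟩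
  have hfix : Module.finrank F (fixSub h.right.1) ≠ 1 := by
    intro h1
    have hd := (dick_hom_facts hab h.right.1).1 h.right.2
    rw [dick, h1] at hd
    exact absurd hd (by simp only [Fintype.card_sum, Fintype.card_fin]; decide)
  rw [natRep_val, ← map_zero (Matrix.toLinAlgEquiv' (R := F) (n := (Fin 3 ⊕ Fin 3) ⊕ Fin 2)), ← hsum hfix, map_sum]
  simp only [map_pow]

theorem lower_cover {m : ℕ} (N : ℕ) (hN : L8 (Fintype.card F) N) :
    ∃ x : ModCover.H (natRep a b) m, N ∣ orderOf x := by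
  haveI : Fact (Nat.Prime 2) := ⟨Nat.prime_two⟩
  have hodd : ∀ {n : ℕ} {g : OG}, orderOf g = n → Odd n → g ∈ Omega F ⇑Qm := fun hg hn =>
    odd_mem_omega hab (hg ▸ hn)
  have key : ∀ (n e : ℕ) (g u : OG) (v : ((Fin 3 ⊕ Fin 3) ⊕ Fin 2) → F), orderOf g = n → Odd n →
      u ∈ Omega F ⇑Qm → orderOf u = 2 ^ e → Commute g u → ogVal g *ᵥ v = v →
      ∑ i ∈ Finset.range (2 ^ e), ogVal (u ^ i) *ᵥ v ≠ 0 →
      ∃ x : ModCover.H (natRep a b) m, 2 ^ (e + 1) * n ∣ orderOf x := by
    intro n e g u v hg hn hu hou hc hgv hs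
    let y : ModCover.H (natRep a b) m := SemidirectProduct.inr ⟨g, hodd hg hn⟩
    let z : ModCover.H (natRep a b) m := ⟨Multiplicative.ofAdd fun _ => v, ⟨u, hu⟩⟩
    have hy : orderOf y = n := by
      rw [orderOf_injective _ SemidirectProduct.inr_injective, ← Subgroup.orderOf_coe, hg]
    have hz : orderOf z = 2 ^ (e + 1) := by
      have hu1 : (⟨u, hu⟩ : Omega F ⇑Qm) ^ 2 ^ e = 1 := Subtype.ext (hou ▸ pow_orderOf_eq_one u)
      refine orderOf_eq_prime_pow (fun hh => hs ?_) ?_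
      · have := congrFun (congrArg (fun x : ModCover.H (natRep a b) m => x.left.toAdd) hh) 0
        rw [ModCover.pow_left, LinearMap.sum_apply] at this
        simp only [natRep_pow] at this
        exact this
      · rw [pow_succ]
        exact ModCover.pow_mul_eq_one (p := 2) _ hu1
    have hyz : Commute y z := by
      refine SemidirectProduct.ext ?_ (Subtype.ext hc.eq)
      apply Multiplicative.toAdd.injective
      funext i
      show (0 : ((Fin 3 ⊕ Fin 3) ⊕ Fin 2) → F) + (natRep a b ⟨g, hodd hg hn⟩ : Module.End F _) v =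
        v + (natRep a b ⟨u, hu⟩ : Module.End F _) 0
      rw [map_zero, add_zero, zero_add, natRep_val, Matrix.toLinAlgEquiv'_apply, hgv]
    exact ⟨y * z, by rw [hyz.orderOf_mul_eq_mul_orderOf_of_coprime (by
      rw [hy, hz]; exact (Nat.coprime_two_right.2 hn).pow_right _), hy, hz, mul_comm]⟩
  rcases cases_L8 hab hN with ⟨⟨g, hg⟩, ho⟩ | ⟨n, rfl, hn, g, v, hg, hgv, hv⟩ |
      ⟨n, rfl, hn, g, T, v, hg, hT, hc, hgv, hTv⟩ | ⟨n, rfl, hn, -, g, T, z, v, hg, hT, hc, hgv, hgz, hTz, hz, hB, hs⟩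
  · exact ⟨SemidirectProduct.inr ⟨g, hodd hg ho⟩, by
      rw [orderOf_injective _ SemidirectProduct.inr_injective, ← Subgroup.orderOf_coe, hg]⟩
  · refine key n 0 g 1 v hg hn (one_mem _) orderOf_one (Commute.one_right g) hgv ?_
    simp only [pow_zero, Finset.sum_range_one, ogVal_one, Matrix.one_mulVec]
    exact fun h0 => hv (by rw [h0, QuadraticMap.map_zero])
  · have hTT : T ^ 2 ∈ Omega F ⇑Qm := by
      rw [dick_hom_facts hab]
      show dickHom (nondegenerate_qfMinus 3 hab) (tri_qfMinus le_rfl a b) (T ^ 2) = 1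
      rw [map_pow, Int.units_sq]
    refine key n 1 g (T ^ 2) v hg hn hTT ?_ (hc.pow_right 2) hgv ?_
    · rw [orderOf_pow' T two_ne_zero, hT]; rfl
    · rw [pow_one, Finset.sum_range_succ, Finset.sum_range_one, pow_zero, ogVal_one, Matrix.one_mulVec, pow_one]
      exact fun h0 => hTv (CharTwo.add_eq_zero.1 (funext fun i => congrFun h0 i) |>.symm)
  · obtain ⟨u, hu, hou, hcu, hsu⟩ : ∃ u, u ∈ Omega F ⇑Qm ∧ orderOf u = 2 ^ 2 ∧ Commute g u ∧
        ∑ i ∈ Finset.range (2 ^ 2), ogVal (u ^ i) *ᵥ v ≠ 0 := by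
      rcases Int.units_eq_one_or (dick T) with h1 | h1
      · exact ⟨T, (dick_hom_facts hab T).2 h1, hT, hc, hs⟩
      · have hcT : Commute T (refl hz) := commute_refl hab hz hTz
        have hri : ∀ i, ogVal ((refl hz * T) ^ i) *ᵥ v = ogVal (T ^ i) *ᵥ v := by
          intro i
          induction i with
          | zero => simp
          | succ i ih =>
            rw [pow_succ', ogVal_mul, ← Matrix.mulVec_mulVec, ih, ogVal_mul, ← Matrix.mulVec_mulVec,
              show ogVal T *ᵥ (ogVal (T ^ i) *ᵥ v) = ogVal (T ^ (i + 1)) *ᵥ v by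
                rw [pow_succ', ogVal_mul, Matrix.mulVec_mulVec], refl_apply, QuadraticMap.polar_comm, hB, mul_zero,
              zero_smul, sub_zero]
        refine ⟨refl hz * T, (dick_hom_facts hab _).2 ?_, ?_,
          (commute_refl hab hz hgz).mul_right hc, by rw [show (2 : ℕ) ^ 2 = 4 from rfl]; simp only [hri]; exact hs⟩
        · rw [dick_refl_mul (nondegenerate_qfMinus 3 hab) T hz, h1, neg_neg]
        · refine orderOf_eq_prime_pow (fun h4 => hs ?_) ?_
          · rw [show (4 : ℕ) = 2 + 2 from rfl, Finset.sum_range_add]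
            have h2 : ∀ j, ogVal (T ^ (2 + j)) *ᵥ v = ogVal (T ^ j) *ᵥ v := fun j => by
              rw [← hri, ← hri, pow_add, show (OrthAut.refl hz * T) ^ 2 = 1 from h4, one_mul]
            simp only [h2]
            exact EightBlk.add_self2 (F := F) _
          · rw [hcT.symm.mul_pow, show (2 : ℕ) ^ (1 + 1) = 4 from rfl, ← hT, pow_orderOf_eq_one, mul_one, hT,
              show (4 : ℕ) = 2 * 2 from rfl, pow_mul, pow_two (OrthAut.refl hz), refl_mul_self, one_pow]
    exact key n 2 g u v hg hn hu hou hcu hgv hsu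

end Cover

/-- An anisotropic binary form exists. -/
theorem exists_aniso : ∃ a b : F, Aniso F a b := by
  obtain ⟨b, hb⟩ : ∃ b : F, ∀ t, t ^ 2 + t ≠ b := by
    by_contra h
    push Not at h
    have hsurj : Function.Surjective fun t : F => t ^ 2 + t := h
    have hinj := Finite.injective_iff_surjective.2 hsurj
    exact zero_ne_one (hinj (show (0 : F) ^ 2 + 0 = 1 ^ 2 + 1 by simp [CharTwo.add_self_eq_zero]))
  refine ⟨1, b, Lie.OrthSpectrumOdd.aniso_one fun t h => hb t ?_⟩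
  exact CharTwo.add_eq_zero.1 h

end Cfsg.Agent.Recog.EightOrd
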