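import Mathlib
import Cfsg.Agent.Lib.Classical.RootOrders
import Cfsg.Agent.Lib.Classical.UnitDichotomy

/-!
Orders of matrices of degree `8` in characteristic two whose eigenvalues are closed under inversion
(symplectic and orthogonal groups of dimension eight).
-/

set_option autoImplicit false

namespace Cfsg.Agent.Recog.EightOrd

open Polynomial Matrix Cfsg.Agent.Classical

/-- the maximal element orders of `Sp₈(q)`, `q` even -/
def L8 (q N : ℕ) : Prop :=
  N ∈ ({q ^ 4 - 1, q ^ 4 + 1, (q ^ 3 - 1) * (q + 1), (q ^ 3 + 1) * (q - 1), 2 * (q ^ 3 - 1), 2 * (q ^ 3 + 1),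
    2 * ((q ^ 2 + 1) * (q - 1)), 2 * ((q ^ 2 + 1) * (q + 1)), 4 * (q ^ 2 - 1), 4 * (q ^ 2 + 1),
    8 * (q - 1), 8 * (q + 1)} : Set ℕ)

/-- the possible types of a stable set of `2s` eigenvalues different from `1`: exponent and multiplicity -/
def Kind (q s n m : ℕ) : Prop :=
  (s = 0 ∧ n = 1) ∨ (s = 1 ∧ (n = q - 1 ∨ n = q + 1)) ∨
  (s = 2 ∧ ((n = q ^ 2 - 1 ∧ m ≤ 2) ∨ (n = q ^ 2 + 1 ∧ m ≤ 1))) ∨
  (s = 3 ∧ ((n = q ^ 2 - 1 ∧ m ≤ 3) ∨ (m ≤ 1 ∧ (n = q ^ 3 - 1 ∨ n = q ^ 3 + 1 ∨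
    n = (q ^ 2 + 1) * (q - 1) ∨ n = (q ^ 2 + 1) * (q + 1))))) ∨
  (s = 4 ∧ ((n = q ^ 2 - 1 ∧ m ≤ 4) ∨ (m ≤ 2 ∧ (n = (q ^ 2 + 1) * (q - 1) ∨ n = (q ^ 2 + 1) * (q + 1))) ∨
    (m ≤ 1 ∧ (n = q ^ 4 - 1 ∨ n = q ^ 4 + 1 ∨ n = (q ^ 3 - 1) * (q + 1) ∨ n = (q ^ 3 + 1) * (q - 1)))))

section Sets

variable {K : Type*} [Field K] [DecidableEq K] [CharP K 2]

/-- a multiset of eigenvalues different from `1` closed under Frobenius and inversion -/
def Stable (q : ℕ) (R : Multiset K) : Prop :=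
  ∀ x ∈ R, x ≠ 1 ∧ x ≠ 0 ∧ R.count x⁻¹ = R.count x ∧ R.count (x ^ q) = R.count x

variable {q k : ℕ}

omit [DecidableEq K] in
theorem inv_ne_self {x : K} (h0 : x ≠ 0) (h1 : x ≠ 1) : x ≠ x⁻¹ := by
  intro h
  have h2 : x ^ 2 = 1 := by rw [pow_two]; nth_rw 2 [h]; exact mul_inv_cancel₀ h0
  rcases sq_eq_one_iff.1 h2 with h' | h'
  · exact h1 h'
  · exact h1 (h'.trans (CharTwo.neg_eq 1))

theorem two_count_le {R : Multiset K} (hR : Stable q R) {x : K} (hx : x ∈ R) :
    2 * R.count x ≤ Multiset.card R := by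
  obtain ⟨h1, h0, hi, -⟩ := hR x hx
  have hsum := Multiset.toFinset_sum_count_eq R
  have hmi : x⁻¹ ∈ R := Multiset.one_le_count_iff_mem.1 (hi ▸ Multiset.one_le_count_iff_mem.2 hx)
  have hsub : ({x, x⁻¹} : Finset K) ⊆ R.toFinset := by
    intro y hy
    rcases Finset.mem_insert.1 hy with rfl | hy
    · exact Multiset.mem_toFinset.2 hx
    · rw [Finset.mem_singleton.1 hy]; exact Multiset.mem_toFinset.2 hmi
  have h := Finset.sum_le_sum_of_subset (f := R.count) hsub
  rw [Finset.sum_pair (inv_ne_self h0 h1), hi, hsum] at h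
  omega

theorem pow_iter_count {R : Multiset K} (hR : Stable q R) {x : K} (hx : x ∈ R) :
    ∀ i, x ^ q ^ i ∈ R ∧ R.count (x ^ q ^ i) = R.count x := by
  intro i
  induction i with
  | zero => simpa using hx
  | succ i ih =>
    have h := (hR _ ih.1).2.2.2
    rw [← pow_mul, ← pow_succ, ih.2] at h
    exact ⟨Multiset.one_le_count_iff_mem.1 (h ▸ Multiset.one_le_count_iff_mem.2 hx), h⟩

theorem pow_q_inj (hq : q = 2 ^ k) (i : ℕ) {x y : K} (h : x ^ q ^ i = y ^ q ^ i) : x = y := by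
  rw [hq, ← pow_mul] at h
  exact iterateFrobenius_inj K 2 (k * i) h

/-- the orbit of an eigenvalue -/
theorem orbit (hq : q = 2 ^ k) {R : Multiset K} (hR : Stable q R) {x : K} (hx : x ∈ R) :
    ∃ d n, 1 ≤ d ∧ (n = q ^ d - 1 ∨ n = q ^ d + 1) ∧ 2 * (d * R.count x) ≤ Multiset.card R ∧ x ^ n = 1 ∧
      Stable q (R.filter fun y => ¬ (y ^ n = 1 ∧ R.count y = R.count x ∧ ∃ i < d, y = x ^ q ^ i ∨ y = (x ^ q ^ i)⁻¹)) ∧
      Multiset.card (R.filter fun y => ¬ (y ^ n = 1 ∧ R.count y = R.count x ∧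
        ∃ i < d, y = x ^ q ^ i ∨ y = (x ^ q ^ i)⁻¹)) + 2 * (d * R.count x) = Multiset.card R := by
  classical
  obtain ⟨hx1, hx0, -, -⟩ := hR x hx
  have hq1 : 1 ≤ q := hq ▸ Nat.one_le_two_pow
  have hper : ∃ d, 0 < d ∧ (x ^ q ^ d = x ∨ x ^ q ^ d = x⁻¹) := by
    let f : ℕ → {y // y ∈ R.toFinset} := fun i => ⟨x ^ q ^ i, Multiset.mem_toFinset.2 (pow_iter_count hR hx i).1⟩
    obtain ⟨i, j, hij, he⟩ := Finite.exists_ne_map_eq_of_infinite f
    have he' : x ^ q ^ i = x ^ q ^ j := congrArg Subtype.val he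
    wlog hlt : i < j generalizing i j
    · exact this j i hij.symm he.symm he'.symm (by omega)
    refine ⟨j - i, by omega, Or.inl (pow_q_inj hq i ?_)⟩
    rw [← pow_mul, ← pow_add, Nat.sub_add_cancel hlt.le, he']
  let d := Nat.find hper
  obtain ⟨hd0, hd⟩ := Nat.find_spec hper
  have hmin : ∀ i, 0 < i → i < d → x ^ q ^ i ≠ x ∧ x ^ q ^ i ≠ x⁻¹ := fun i hi hlt =>
    ⟨fun h => Nat.find_min hper hlt ⟨hi, Or.inl h⟩, fun h => Nat.find_min hper hlt ⟨hi, Or.inr h⟩⟩
  have hqd : 1 ≤ q ^ d := Nat.one_le_pow _ _ hq1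
  obtain ⟨n, hn, hxn⟩ : ∃ n, (n = q ^ d - 1 ∨ n = q ^ d + 1) ∧ x ^ n = 1 := by
    rcases hd with h | h
    · exact ⟨_, Or.inl rfl, mul_right_cancel₀ hx0 (by rw [← pow_succ, Nat.sub_add_cancel hqd, h, one_mul])⟩
    · exact ⟨_, Or.inr rfl, by rw [pow_succ, h, inv_mul_cancel₀ hx0]⟩
  let O : Finset K := (Finset.range d).image (fun i => x ^ q ^ i) ∪ (Finset.range d).image (fun i => (x ^ q ^ i)⁻¹)
  have hmemO : ∀ y, y ∈ O ↔ ∃ i < d, y = x ^ q ^ i ∨ y = (x ^ q ^ i)⁻¹ := fun y => by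
    simp only [O, Finset.mem_union, Finset.mem_image, Finset.mem_range]
    constructor
    · rintro (⟨i, hi, rfl⟩ | ⟨i, hi, rfl⟩)
      exacts [⟨i, hi, Or.inl rfl⟩, ⟨i, hi, Or.inr rfl⟩]
    · rintro ⟨i, hi, rfl | rfl⟩
      exacts [Or.inl ⟨i, hi, rfl⟩, Or.inr ⟨i, hi, rfl⟩]
  have hOf : ∀ y ∈ O, y ∈ R ∧ R.count y = R.count x ∧ y ^ n = 1 := by
    intro y hy
    obtain ⟨i, -, rfl | rfl⟩ := (hmemO y).1 hy
    · exact ⟨(pow_iter_count hR hx i).1, (pow_iter_count hR hx i).2,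
        by rw [← pow_mul, mul_comm, pow_mul, hxn, one_pow]⟩
    · obtain ⟨h1, h2⟩ := pow_iter_count hR hx i
      have h3 := (hR _ h1).2.2.1
      rw [h2] at h3
      exact ⟨Multiset.one_le_count_iff_mem.1 (h3 ▸ Multiset.one_le_count_iff_mem.2 hx), h3,
        by rw [inv_pow, ← pow_mul, mul_comm, pow_mul, hxn, one_pow, inv_one]⟩
  have hOcard : O.card = 2 * d := by
    have key : ∀ i j, i ≤ j → j < d → (x ^ q ^ i = x ^ q ^ j → i = j) ∧ x ^ q ^ i ≠ (x ^ q ^ j)⁻¹ := by
      intro i j hij hj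
      have e : x ^ q ^ j = (x ^ q ^ (j - i)) ^ q ^ i := by rw [← pow_mul, ← pow_add, Nat.sub_add_cancel hij]
      constructor
      · intro h
        rw [e] at h
        by_contra hne
        exact (hmin (j - i) (by omega) (by omega)).1 (pow_q_inj hq i h).symm
      · intro h
        rw [e, ← inv_pow] at h
        have h' := pow_q_inj hq i h
        rcases Nat.eq_zero_or_pos (j - i) with h0 | h0
        · rw [h0, pow_zero, pow_one] at h'
          exact inv_ne_self hx0 hx1 h'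
        · exact (hmin _ h0 (by omega)).2 (inv_eq_iff_eq_inv.1 h'.symm)
    have hinj : ∀ i < d, ∀ j < d, x ^ q ^ i = x ^ q ^ j → i = j := by
      intro i hi j hj h
      rcases le_total i j with hij | hij
      · exact (key i j hij hj).1 h
      · exact ((key j i hij hi).1 h.symm).symm
    rw [Finset.card_union_of_disjoint, Finset.card_image_of_injOn, Finset.card_image_of_injOn, Finset.card_range,
      two_mul]
    · intro i hi j hj h
      exact hinj i (Finset.mem_range.1 hi) j (Finset.mem_range.1 hj) (inv_inj.1 h)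
    · intro i hi j hj h
      exact hinj i (Finset.mem_range.1 hi) j (Finset.mem_range.1 hj) h
    · rw [Finset.disjoint_left]
      simp only [Finset.mem_image, Finset.mem_range]
      rintro y ⟨i, hi, rfl⟩ ⟨j, hj, h⟩
      rcases le_total i j with hij | hij
      · exact (key i j hij hj).2 h.symm
      · exact (key j i hij hi).2 (inv_eq_iff_eq_inv.1 h)
  have hp : ∀ y, (y ^ n = 1 ∧ R.count y = R.count x ∧ ∃ i < d, y = x ^ q ^ i ∨ y = (x ^ q ^ i)⁻¹) ↔ y ∈ O :=
    fun y => ⟨fun h => (hmemO y).2 h.2.2, fun h => ⟨(hOf y h).2.2, (hOf y h).2.1, (hmemO y).1 h⟩⟩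
  have hO1 : ∀ y ∈ O, y ^ q ∈ O ∧ y⁻¹ ∈ O := by
    intro y hy
    obtain ⟨i, hi, h⟩ := (hmemO y).1 hy
    refine ⟨(hmemO _).2 ?_, (hmemO _).2 ⟨i, hi, ?_⟩⟩
    · rcases Nat.lt_or_ge (i + 1) d with h1 | h1
      · refine ⟨i + 1, h1, ?_⟩
        rcases h with rfl | rfl
        · exact Or.inl (by rw [← pow_mul, ← pow_succ])
        · exact Or.inr (by rw [inv_pow, ← pow_mul, ← pow_succ])
      · refine ⟨0, hd0, ?_⟩
        have hi' : i + 1 = d := by omega
        rcases h with rfl | rfl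
        · rw [← pow_mul, ← pow_succ, hi', pow_zero, pow_one]; exact hd
        · rw [inv_pow, ← pow_mul, ← pow_succ, hi', pow_zero, pow_one]
          rcases hd with h2 | h2
          · exact Or.inr (by rw [h2])
          · exact Or.inl (by rw [h2, inv_inv])
    · rcases h with rfl | rfl
      · exact Or.inr rfl
      · exact Or.inl (inv_inv _)
  have hOinj : ∀ y, y ^ q ∈ O → y ∈ O := by
    intro y hy
    have himg : O.image (fun z => z ^ q) = O := by
      refine Finset.eq_of_subset_of_card_le (Finset.image_subset_iff.2 fun z hz => (hO1 z hz).1) ?_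
      rw [Finset.card_image_of_injective]
      intro a b h
      exact pow_q_inj hq 1 (by simpa using h)
    rw [← himg, Finset.mem_image] at hy
    obtain ⟨z, hz, hzy⟩ := hy
    exact pow_q_inj hq 1 (x := z) (y := y) (by simpa using hzy) ▸ hz
  refine ⟨d, n, hd0, hn, ?_, hxn, ?_, ?_⟩
  rotate_right
  · have h := congrArg Multiset.card (Multiset.filter_add_not (fun y => y ∈ O) R)
    rw [Multiset.card_add] at h
    have h2 : Multiset.card (R.filter fun y => y ∈ O) = 2 * (d * R.count x) := by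
      rw [← Multiset.toFinset_sum_count_eq, show (R.filter fun y => y ∈ O).toFinset = O from ?_,
        Finset.sum_congr rfl (g := fun _ => R.count x) fun y hy => by
          rw [Multiset.count_filter, if_pos hy]; exact (hOf y hy).2.1,
        Finset.sum_const, hOcard, smul_eq_mul, mul_assoc]
      ext y
      simp only [Multiset.mem_toFinset, Multiset.mem_filter]
      exact ⟨fun h => h.2, fun h => ⟨(hOf y h).1, h⟩⟩
    simp only [hp]
    omega
  · have h2 : Multiset.card (R.filter fun y => y ∈ O) = 2 * (d * R.count x) := by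
      rw [← Multiset.toFinset_sum_count_eq, show (R.filter fun y => y ∈ O).toFinset = O from ?_,
        Finset.sum_congr rfl (g := fun _ => R.count x) fun y hy => by
          rw [Multiset.count_filter, if_pos hy]; exact (hOf y hy).2.1,
        Finset.sum_const, hOcard, smul_eq_mul, mul_assoc]
      ext y
      simp only [Multiset.mem_toFinset, Multiset.mem_filter]
      exact ⟨fun h => h.2, fun h => ⟨(hOf y h).1, h⟩⟩
    rw [← h2]
    exact Multiset.card_le_card (Multiset.filter_le _ _)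
  · intro y hy
    simp only [Multiset.mem_filter, hp] at hy
    obtain ⟨hy1, hy0, hyi, hyq⟩ := hR y hy.1
    refine ⟨hy1, hy0, ?_, ?_⟩
    · simp only [Multiset.count_filter, hp]
      rw [if_pos hy.2, if_pos, hyi]
      exact fun h => hy.2 (inv_inv y ▸ (hO1 _ h).2)
    · simp only [Multiset.count_filter, hp]
      rw [if_pos hy.2, if_pos, hyq]
      exact fun h => hy.2 (hOinj y h)

/-- every stable multiset of at most eight eigenvalues has one of the kinds -/
theorem kind (hq : q = 2 ^ k) : ∀ (s : ℕ), s ≤ 4 → ∀ R : Multiset K, Stable q R → Multiset.card R = 2 * s →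
    ∃ n m, Kind q s n m ∧ (∀ x ∈ R, x ^ n = 1 ∧ R.count x ≤ m) := by
  classical
  intro s
  induction s using Nat.strong_induction_on with
  | _ s ih =>
  intro hs R hR hcard
  rcases Nat.eq_zero_or_pos s with rfl | hs0
  · exact ⟨1, 0, Or.inl ⟨rfl, rfl⟩, fun x hx => by rw [Multiset.card_eq_zero.1 hcard] at hx; simp at hx⟩
  have hle : ∀ x ∈ R, R.count x ≤ s := fun x hx => by
    have := two_count_le hR hx
    omega
  have hdiv1 : q ^ 2 - 1 = (q - 1) * (q + 1) := by rw [← one_pow 2, Nat.sq_sub_sq, one_pow, mul_comm]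
  rcases Nat.lt_or_ge s 2 with hs1 | hs2
  · obtain rfl : s = 1 := by omega
    obtain ⟨x, hx⟩ := Multiset.card_pos_iff_exists_mem.1 (by omega : 0 < Multiset.card R)
    obtain ⟨d, n, hd, hn, hle2, hxn, -, hc⟩ := orbit hq hR hx
    have hc1 : 1 ≤ R.count x := Multiset.one_le_count_iff_mem.2 hx
    have hdc : d * R.count x = 1 := le_antisymm (by omega) (Nat.mul_pos hd hc1)
    obtain ⟨rfl, -⟩ := mul_eq_one.mp hdc
    rw [hdc] at hc
    refine ⟨n, 1, Or.inr (Or.inl ⟨rfl, by simpa using hn⟩), fun y hy => ⟨?_, hle y hy⟩⟩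
    by_contra hne
    have : 0 < Multiset.card (R.filter fun z => ¬ (z ^ n = 1 ∧ R.count z = R.count x ∧
        ∃ i < 1, z = x ^ q ^ i ∨ z = (x ^ q ^ i)⁻¹)) :=
      Multiset.card_pos_iff_exists_mem.2 ⟨y, Multiset.mem_filter.2 ⟨hy, fun h => hne h.1⟩⟩
    omega
  by_cases hall : ∀ x ∈ R, x ^ (q ^ 2 - 1) = 1
  · refine ⟨q ^ 2 - 1, s, ?_, fun x hx => ⟨hall x hx, hle x hx⟩⟩
    rcases (by omega : s = 2 ∨ s = 3 ∨ s = 4) with rfl | rfl | rfl
    exacts [Or.inr (Or.inr (Or.inl ⟨rfl, Or.inl ⟨rfl, le_rfl⟩⟩)),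
      Or.inr (Or.inr (Or.inr (Or.inl ⟨rfl, Or.inl ⟨rfl, le_rfl⟩⟩))),
      Or.inr (Or.inr (Or.inr (Or.inr ⟨rfl, Or.inl ⟨rfl, le_rfl⟩⟩)))]
  push Not at hall
  obtain ⟨x, hx, hxn2⟩ := hall
  obtain ⟨d, n₀, hd, hn₀, hle2, hxn, hR', hc⟩ := orbit hq hR hx
  set m₀ := R.count x with hm₀
  set R' := R.filter fun y => ¬ (y ^ n₀ = 1 ∧ R.count y = m₀ ∧ ∃ i < d, y = x ^ q ^ i ∨ y = (x ^ q ^ i)⁻¹) with hR'def
  have hm1 : 1 ≤ m₀ := Multiset.one_le_count_iff_mem.2 hx
  have hdne : ¬ (d = 1) ∧ ¬ (d = 2 ∧ n₀ = q ^ 2 - 1) := by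
    refine ⟨fun h => hxn2 ?_, fun h => hxn2 (h.2 ▸ hxn)⟩
    subst h
    rw [pow_one] at hn₀
    rw [hdiv1]
    rcases hn₀ with rfl | rfl
    · rw [pow_mul, hxn, one_pow]
    · rw [mul_comm, pow_mul, hxn, one_pow]
  have hdm : d * m₀ ≤ s := by omega
  have hd2 : 2 ≤ d := by omega
  obtain ⟨n₁, m₁, hk₁, h₁⟩ := ih (s - d * m₀) (by
    have : 0 < d * m₀ := Nat.mul_pos (by omega) hm1
    omega) (by omega) R' hR' (by omega)
  have comb : ∀ n m, n₀ ∣ n → n₁ ∣ n → m₀ ≤ m → (R' ≠ 0 → m₁ ≤ m) → ∀ y ∈ R, y ^ n = 1 ∧ R.count y ≤ m := by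
    intro n m hn0 hn1 hm0 hm y hy
    by_cases hy' : y ^ n₀ = 1 ∧ R.count y = m₀ ∧ ∃ i < d, y = x ^ q ^ i ∨ y = (x ^ q ^ i)⁻¹
    · obtain ⟨c, rfl⟩ := hn0
      exact ⟨by rw [pow_mul, hy'.1, one_pow], hy'.2.1 ▸ hm0⟩
    · have hmem : y ∈ R' := Multiset.mem_filter.2 ⟨hy, hy'⟩
      obtain ⟨c, rfl⟩ := hn1
      obtain ⟨e1, e2⟩ := h₁ y hmem
      rw [hR'def, Multiset.count_filter, if_pos hy'] at e2
      exact ⟨by rw [pow_mul, e1, one_pow], e2.trans (hm fun h => by rw [h] at hmem; simp at hmem)⟩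
  have hR'0 : d * m₀ = s → R' = 0 := fun h => Multiset.card_eq_zero.1 (by omega)
  have cases3 : (d = 4 ∧ m₀ = 1 ∧ s = 4) ∨ (d = 3 ∧ m₀ = 1) ∨ (d = 2 ∧ m₀ = 2 ∧ s = 4) ∨ (d = 2 ∧ m₀ = 1) := by
    have h1 : d ≤ d * m₀ := Nat.le_mul_of_pos_right _ hm1
    rcases (by omega : d = 2 ∨ d = 3 ∨ d = 4) with rfl | rfl | rfl <;> omega
  rcases cases3 with ⟨rfl, hm, rfl⟩ | ⟨rfl, hm⟩ | ⟨rfl, hm, rfl⟩ | ⟨rfl, hm⟩
  · refine ⟨n₀, 1, Or.inr (Or.inr (Or.inr (Or.inr ⟨rfl, Or.inr (Or.inr ⟨le_rfl, ?_⟩)⟩))), ?_⟩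
    · rcases hn₀ with h | h
      exacts [Or.inl h, Or.inr (Or.inl h)]
    · rw [Kind] at hk₁
      obtain rfl : n₁ = 1 := by
        rcases hk₁ with h | h | h | h | h
        · exact h.2
        all_goals (have := h.1; omega)
      exact comb n₀ 1 dvd_rfl (one_dvd _) (by omega) (fun h => absurd (hR'0 (by omega)) h)
  · rw [hm, mul_one] at hk₁ hR'0
    rcases (by omega : s = 3 ∨ s = 4) with rfl | rfl
    · refine ⟨n₀, 1, Or.inr (Or.inr (Or.inr (Or.inl ⟨rfl, Or.inr ⟨le_rfl, ?_⟩⟩))), ?_⟩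
      · rcases hn₀ with h | h
        exacts [Or.inl h, Or.inr (Or.inl h)]
      · rw [Kind] at hk₁
        obtain rfl : n₁ = 1 := by
          rcases hk₁ with h | h | h | h | h
          · exact h.2
          all_goals (have := h.1; omega)
        exact comb n₀ 1 dvd_rfl (one_dvd _) (by omega) (fun h => absurd (hR'0 rfl) h)
    · have hn₁ : n₁ = q - 1 ∨ n₁ = q + 1 := by
        rw [Kind] at hk₁
        rcases hk₁ with h | h | h | h | h
        all_goals first | exact h.2 | (have := h.1; omega)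
      have hcnt : ∀ y ∈ R', R'.count y ≤ 1 := fun y hy => by
        have := two_count_le hR' hy
        have h8 : Multiset.card R' = 2 := by rw [hm] at hc; omega
        omega
      have hq1 : 1 ≤ q := hq ▸ Nat.one_le_two_pow
      rcases hn₀ with h | h
      · refine ⟨(q ^ 3 - 1) * (q + 1), 1, Or.inr (Or.inr (Or.inr (Or.inr ⟨rfl, Or.inr (Or.inr ⟨le_rfl,
          Or.inr (Or.inr (Or.inl rfl))⟩)⟩))), fun y hy => ?_⟩
        have hd3 : q - 1 ∣ q ^ 3 - 1 := by simpa using Nat.pow_sub_one_dvd_pow_sub_one q (one_dvd 3)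
        by_cases hy' : y ^ n₀ = 1 ∧ R.count y = m₀ ∧ ∃ i < 3, y = x ^ q ^ i ∨ y = (x ^ q ^ i)⁻¹
        · exact ⟨by rw [pow_mul, ← h, hy'.1, one_pow], by omega⟩
        · have hmem : y ∈ R' := Multiset.mem_filter.2 ⟨hy, hy'⟩
          have e2 := hcnt y hmem
          rw [hR'def, Multiset.count_filter, if_pos hy'] at e2
          refine ⟨?_, e2⟩
          rcases hn₁ with h1 | h1
          · obtain ⟨c, hc'⟩ := hd3
            rw [hc', mul_assoc, pow_mul, ← h1, (h₁ y hmem).1, one_pow]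
          · rw [mul_comm, pow_mul, ← h1, (h₁ y hmem).1, one_pow]
      · refine ⟨(q ^ 3 + 1) * (q - 1), 1, Or.inr (Or.inr (Or.inr (Or.inr ⟨rfl, Or.inr (Or.inr ⟨le_rfl,
          Or.inr (Or.inr (Or.inr rfl))⟩)⟩))), fun y hy => ?_⟩
        have hd3 : q + 1 ∣ q ^ 3 + 1 := by
          simpa using (by decide : Odd 3).nat_add_dvd_pow_add_pow q 1
        by_cases hy' : y ^ n₀ = 1 ∧ R.count y = m₀ ∧ ∃ i < 3, y = x ^ q ^ i ∨ y = (x ^ q ^ i)⁻¹
        · exact ⟨by rw [pow_mul, ← h, hy'.1, one_pow], by omega⟩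
        · have hmem : y ∈ R' := Multiset.mem_filter.2 ⟨hy, hy'⟩
          have e2 := hcnt y hmem
          rw [hR'def, Multiset.count_filter, if_pos hy'] at e2
          refine ⟨?_, e2⟩
          rcases hn₁ with h1 | h1
          · rw [mul_comm, pow_mul, ← h1, (h₁ y hmem).1, one_pow]
          · obtain ⟨c, hc'⟩ := hd3
            rw [hc', mul_assoc, pow_mul, ← h1, (h₁ y hmem).1, one_pow]
  · refine ⟨(q ^ 2 + 1) * (q - 1), 2,
      Or.inr (Or.inr (Or.inr (Or.inr ⟨rfl, Or.inr (Or.inl ⟨le_rfl, Or.inl rfl⟩)⟩))), ?_⟩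
    rw [Kind] at hk₁
    obtain rfl : n₁ = 1 := by
      rcases hk₁ with h | h | h | h | h
      · exact h.2
      all_goals (have := h.1; omega)
    refine comb _ 2 ?_ (one_dvd _) (by omega) (fun h => absurd (hR'0 (by omega)) h)
    rcases hn₀ with h | h
    · exact absurd ⟨rfl, h⟩ hdne.2
    · exact ⟨_, by rw [h]⟩
  · obtain rfl : n₀ = q ^ 2 + 1 := hn₀.resolve_left fun h => hdne.2 ⟨rfl, h⟩
    rw [hm, mul_one] at hk₁ hR'0
    rcases (by omega : s = 2 ∨ s = 3 ∨ s = 4) with rfl | rfl | rfl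
    · refine ⟨q ^ 2 + 1, 1, Or.inr (Or.inr (Or.inl ⟨rfl, Or.inr ⟨rfl, le_rfl⟩⟩)), ?_⟩
      rw [Kind] at hk₁
      obtain rfl : n₁ = 1 := by
        rcases hk₁ with h | h | h | h | h
        · exact h.2
        all_goals (have := h.1; omega)
      exact comb _ 1 dvd_rfl (one_dvd _) (by omega) (fun h => absurd (hR'0 rfl) h)
    · have h8 : Multiset.card R' = 2 := by rw [hm] at hc; omega
      have hcnt : ∀ y ∈ R', R'.count y ≤ 1 := fun y hy => by
        have := two_count_le hR' hy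
        omega
      have hn₁ : n₁ = q - 1 ∨ n₁ = q + 1 := by
        rw [Kind] at hk₁
        rcases hk₁ with h | h | h | h | h
        all_goals first | exact h.2 | (have := h.1; omega)
      refine ⟨(q ^ 2 + 1) * n₁, 1, Or.inr (Or.inr (Or.inr (Or.inl ⟨rfl, Or.inr ⟨le_rfl, ?_⟩⟩))), fun y hy => ?_⟩
      · rcases hn₁ with rfl | rfl
        exacts [Or.inr (Or.inr (Or.inl rfl)), Or.inr (Or.inr (Or.inr rfl))]
      · by_cases hy' : y ^ (q ^ 2 + 1) = 1 ∧ R.count y = m₀ ∧ ∃ i < 2, y = x ^ q ^ i ∨ y = (x ^ q ^ i)⁻¹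
        · exact ⟨by rw [pow_mul, hy'.1, one_pow], by omega⟩
        · have hmem : y ∈ R' := Multiset.mem_filter.2 ⟨hy, hy'⟩
          have e2 := hcnt y hmem
          rw [hR'def, Multiset.count_filter, if_pos hy'] at e2
          exact ⟨by rw [mul_comm, pow_mul, (h₁ y hmem).1, one_pow], e2⟩
    · have h8 : Multiset.card R' = 4 := by rw [hm] at hc; omega
      rw [Kind] at hk₁
      have hk2 : (n₁ = q ^ 2 - 1 ∧ m₁ ≤ 2) ∨ (n₁ = q ^ 2 + 1 ∧ m₁ ≤ 1) := by
        rcases hk₁ with h | h | h | h | h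
        all_goals first | exact h.2 | (have := h.1; omega)
      rcases hk2 with ⟨rfl, hm2⟩ | ⟨rfl, hm2⟩
      · by_cases hbig : ∀ y ∈ R', R'.count y ≤ 1
        · refine ⟨q ^ 4 - 1, 1, Or.inr (Or.inr (Or.inr (Or.inr ⟨rfl, Or.inr (Or.inr ⟨le_rfl, Or.inl rfl⟩)⟩))),
            fun y hy => ?_⟩
          have h4 : q ^ 4 - 1 = (q ^ 2 + 1) * (q ^ 2 - 1) := by rw [← Nat.sq_sub_sq, one_pow, ← pow_mul]
          by_cases hy' : y ^ (q ^ 2 + 1) = 1 ∧ R.count y = m₀ ∧ ∃ i < 2, y = x ^ q ^ i ∨ y = (x ^ q ^ i)⁻¹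
          · exact ⟨by rw [h4, pow_mul, hy'.1, one_pow], by omega⟩
          · have hmem : y ∈ R' := Multiset.mem_filter.2 ⟨hy, hy'⟩
            have e2 := hbig y hmem
            rw [hR'def, Multiset.count_filter, if_pos hy'] at e2
            exact ⟨by rw [h4, mul_comm, pow_mul, (h₁ y hmem).1, one_pow], e2⟩
        · push Not at hbig
          obtain ⟨z, hz, hz2⟩ := hbig
          obtain ⟨e, n₂, he, hn₂, hle3, -, -, hc3⟩ := orbit hq hR' hz
          have he1 : e = 1 := by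
            have : e * R'.count z ≥ e * 2 := Nat.mul_le_mul_left e hz2
            omega
          subst he1
          rw [one_mul] at hc3 hle3
          rw [pow_one] at hn₂
          have hz2' : R'.count z = 2 := by omega
          refine ⟨(q ^ 2 + 1) * n₂, 2, Or.inr (Or.inr (Or.inr (Or.inr ⟨rfl, Or.inr (Or.inl ⟨le_rfl, ?_⟩)⟩))),
            fun y hy => ?_⟩
          · rcases hn₂ with rfl | rfl
            exacts [Or.inl rfl, Or.inr rfl]
          · by_cases hy' : y ^ (q ^ 2 + 1) = 1 ∧ R.count y = m₀ ∧ ∃ i < 2, y = x ^ q ^ i ∨ y = (x ^ q ^ i)⁻¹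
            · exact ⟨by rw [pow_mul, hy'.1, one_pow], by omega⟩
            · have hmem : y ∈ R' := Multiset.mem_filter.2 ⟨hy, hy'⟩
              have e2 := (h₁ y hmem).2
              rw [hR'def, Multiset.count_filter, if_pos hy'] at e2
              refine ⟨?_, e2.trans hm2⟩
              by_contra hne
              have hpos : 0 < Multiset.card (R'.filter fun w => ¬ (w ^ n₂ = 1 ∧ R'.count w = R'.count z ∧
                  ∃ i < 1, w = z ^ q ^ i ∨ w = (z ^ q ^ i)⁻¹)) :=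
                Multiset.card_pos_iff_exists_mem.2 ⟨y, Multiset.mem_filter.2 ⟨hmem, fun h =>
                  hne (by rw [mul_comm, pow_mul, h.1, one_pow])⟩⟩
              omega
      · exact ⟨(q ^ 2 + 1) * (q - 1), 2, Or.inr (Or.inr (Or.inr (Or.inr ⟨rfl, Or.inr (Or.inl ⟨le_rfl, Or.inl rfl⟩)⟩))),
          comb _ 2 ⟨_, rfl⟩ ⟨_, rfl⟩ (by omega) (fun _ => by omega)⟩

end Sets


section Kernels

variable {F : Type*} [Field F] {V : Type*} [AddCommGroup V] [Module F V] [FiniteDimensional F V]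

/-- with at least two independent fixed vectors, one step fewer reaches the generalised eigenspace -/
theorem ker_pow_le (E : Module.End F V) {M : ℕ} (hM : (LinearMap.charpoly E).rootMultiplicity 0 ≤ M)
    (hk : Module.finrank F (LinearMap.ker E) ≠ 1) : LinearMap.ker (E ^ M) ≤ LinearMap.ker (E ^ (M - 1)) := by
  have hmono : ∀ i, LinearMap.ker (E ^ i) ≤ LinearMap.ker (E ^ (i + 1)) := fun i v hv => by
    rw [LinearMap.mem_ker] at hv ⊢
    rw [pow_succ', Module.End.mul_apply, hv, map_zero]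
  have hbound : ∀ i, Module.finrank F (LinearMap.ker (E ^ i)) ≤ M := by
    intro i
    refine le_trans (Submodule.finrank_mono ?_) ((LinearMap.finrank_maxGenEigenspace_eq E (0 : F)).le.trans hM)
    intro v hv
    rw [Module.End.mem_maxGenEigenspace]
    exact ⟨i, by simpa using hv⟩
  have hstab : ∀ j, LinearMap.ker (E ^ (j + 1)) ≤ LinearMap.ker (E ^ j) →
      ∀ i, LinearMap.ker (E ^ (j + i + 1)) ≤ LinearMap.ker (E ^ (j + i)) := by
    intro j hj i v hv
    rw [LinearMap.mem_ker, show j + i + 1 = (j + 1) + i by omega, pow_add, Module.End.mul_apply] at hv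
    have h := hj (LinearMap.mem_ker.2 hv)
    rw [LinearMap.mem_ker] at h ⊢
    rw [pow_add, Module.End.mul_apply]
    exact h
  rcases Nat.eq_zero_or_pos M with rfl | hM0
  · simp
  by_cases h : ∃ j < M, LinearMap.ker (E ^ (j + 1)) ≤ LinearMap.ker (E ^ j)
  · obtain ⟨j, hj, hle⟩ := h
    have h' := hstab j hle (M - 1 - j)
    rwa [show j + (M - 1 - j) + 1 = M by omega, show j + (M - 1 - j) = M - 1 by omega] at h'
  · push Not at h
    exfalso
    have grow : ∀ j, 1 ≤ j → j ≤ M → Module.finrank F (LinearMap.ker E) + (j - 1) ≤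
        Module.finrank F (LinearMap.ker (E ^ j)) := by
      intro j h1
      induction j, h1 using Nat.le_induction with
      | base => intro; rw [pow_one]; simp
      | succ j hj1 ih =>
        intro hjM
        have hlt : LinearMap.ker (E ^ j) < LinearMap.ker (E ^ (j + 1)) :=
          lt_of_le_not_ge (hmono j) (h j (by omega))
        have := Submodule.finrank_lt_finrank_of_lt hlt
        have := ih (by omega)
        omega
    have h0 : Module.finrank F (LinearMap.ker E) ≠ 0 := by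
      intro h0
      refine h 0 hM0 ?_
      rw [zero_add, pow_one, Submodule.finrank_eq_zero.1 h0]
      exact bot_le
    have := (grow M hM0 le_rfl).trans (hbound M)
    omega

end Kernels

section Main

variable {F : Type*} [Field F] [Fintype F] [CharP F 2] {ι : Type*} [Fintype ι] [DecidableEq ι]

/-- orders and norm maps of matrices of degree eight with inverse-closed eigenvalues -/
theorem main (hι : Fintype.card ι = 8) (A : Matrix ι ι F) (hunit : IsUnit A)
    (hinv : (eigRoots (AlgebraicClosure F) A).map (fun x => x⁻¹) = eigRoots (AlgebraicClosure F) A) :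
    ∃ N, L8 (Fintype.card F) N ∧ A ^ N = 1 ∧
      (Module.finrank F (LinearMap.ker (Matrix.toLinAlgEquiv' A - 1)) ≠ 1 → ∑ i ∈ Finset.range N, A ^ i = 0) := by
  classical
  haveI : Fact (Nat.Prime 2) := ⟨Nat.prime_two⟩
  haveI : CharP (AlgebraicClosure F) 2 := inferInstance
  set K := AlgebraicClosure F
  set q := Fintype.card F with hqdef
  obtain ⟨k, hq, hk0⟩ : ∃ k, q = 2 ^ k ∧ k ≠ 0 := by
    obtain ⟨k, -, hk⟩ := FiniteField.card F 2
    exact ⟨k, hk, k.pos.ne'⟩
  set R := eigRoots K A with hR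
  have hcardR : Multiset.card R = 8 := by rw [hR, card_eigRoots, hι]
  have h0 : ∀ x ∈ R, x ≠ 0 := by
    intro x hx hx0
    have hu : IsUnit (A.map (algebraMap F K)) := hunit.map (algebraMap F K).mapMatrix
    have hdet := (Matrix.isUnit_iff_isUnit_det _).1 hu
    rw [Matrix.det_eq_prod_roots_charpoly] at hdet
    exact hdet.ne_zero (Multiset.prod_eq_zero (hx0 ▸ hx))
  have hci : ∀ x, R.count x⁻¹ = R.count x := fun x => by
    conv_lhs => rw [← hinv]
    exact Multiset.count_map_eq_count' _ _ inv_injective x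
  have hcq : ∀ x, R.count (x ^ q) = R.count x := by
    intro x
    have hmap : R.map (fun y => y ^ q) = R := by
      have hcoef : (A.map (algebraMap F K)).charpoly.map (FiniteField.frobeniusAlgHom F K).toRingHom =
          (A.map (algebraMap F K)).charpoly := by
        rw [Matrix.charpoly_map, Polynomial.map_map]
        congr 1
        ext c
        simp [FiniteField.coe_frobeniusAlgHom, ← map_pow, FiniteField.pow_card]
      conv_rhs => rw [hR, eigRoots, ← hcoef, (IsAlgClosed.splits _).roots_map]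
      rfl
    conv_lhs => rw [← hmap]
    refine Multiset.count_map_eq_count' _ _ (fun a b h => pow_q_inj hq 1 ?_) x
    rw [pow_one]
    exact h
  set a₂ := R.count 1 with ha₂
  set R₁ := R.filter fun x => x ≠ 1 with hR₁
  have hcount1 : ∀ x, x ≠ 1 → R₁.count x = R.count x := fun x hx => by rw [hR₁, Multiset.count_filter, if_pos hx]
  have hst : Stable q R₁ := by
    intro x hx
    rw [hR₁, Multiset.mem_filter] at hx
    refine ⟨hx.2, h0 x hx.1, ?_, ?_⟩
    · rw [hcount1 x hx.2, hcount1 _ (fun h => hx.2 (inv_eq_one.1 h)), hci]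
    · rw [hcount1 x hx.2, hcount1 _ (fun h => hx.2 (pow_q_inj hq 1 (by simpa using h))), hcq]
  have hc8 : Multiset.card R₁ + a₂ = 8 := by
    rw [ha₂, Multiset.count_eq_card_filter_eq, ← hcardR, ← Multiset.card_add]
    congr 1
    rw [hR₁, add_comm]
    convert Multiset.filter_add_not (fun x => (1 : K) = x) R using 3
    exact ne_comm
  obtain ⟨s, hs⟩ : Even (Multiset.card R₁) := by
    obtain ⟨T, hT⟩ : ∃ T : Finset K, T = R₁.toFinset := ⟨_, rfl⟩
    have hsum : ((Multiset.card R₁ : ℕ) : ZMod 2) = 0 := by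
      rw [← Multiset.toFinset_sum_count_eq, ← hT, Nat.cast_sum]
      refine Finset.sum_involution (fun x _ => x⁻¹) (fun x hx => ?_) (fun x hx _ => ?_) (fun x hx => ?_)
        fun x _ => inv_inv x
      · rw [hT, Multiset.mem_toFinset] at hx
        rw [(hst x hx).2.2.1]
        exact CharTwo.add_self_eq_zero _
      · rw [hT, Multiset.mem_toFinset] at hx
        exact (inv_ne_self (hst x hx).2.1 (hst x hx).1).symm
      · rw [hT, Multiset.mem_toFinset] at hx ⊢
        exact Multiset.one_le_count_iff_mem.1 ((hst x hx).2.2.1 ▸ Multiset.one_le_count_iff_mem.2 hx)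
    exact even_iff_two_dvd.2 ((ZMod.natCast_eq_zero_iff _ 2).1 hsum)
  obtain ⟨n, m, hk, hkR⟩ := kind hq s (by omega) R₁ hst (by omega)
  -- choose the exponent of the unipotent part
  obtain ⟨e, n', hL, hdvd, ha, hm⟩ : ∃ e n', L8 q (2 ^ e * n') ∧ n ∣ n' ∧ a₂ ≤ 2 ^ e ∧
      (m ≤ 2 ^ e ∨ s ≤ 2 ^ e) := by
    rw [Kind] at hk
    rcases hk with ⟨hs', rfl⟩ | ⟨hs', rfl | rfl⟩ | ⟨hs', ⟨rfl, h⟩ | ⟨rfl, h⟩⟩ |
        ⟨hs', ⟨rfl, h⟩ | ⟨h, rfl | rfl | rfl | rfl⟩⟩ |
        ⟨hs', ⟨rfl, h⟩ | ⟨h, rfl | rfl⟩ | ⟨h, rfl | rfl | rfl | rfl⟩⟩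
    · exact ⟨3, q - 1, by simp [L8], one_dvd _, by omega, by omega⟩
    · exact ⟨3, _, by simp [L8], dvd_rfl, by omega, by omega⟩
    · exact ⟨3, _, by simp [L8], dvd_rfl, by omega, by omega⟩
    · exact ⟨2, _, by simp [L8], dvd_rfl, by omega, by omega⟩
    · exact ⟨2, _, by simp [L8], dvd_rfl, by omega, by omega⟩
    · exact ⟨2, _, by simp [L8], dvd_rfl, by omega, by omega⟩
    · exact ⟨1, _, by simp [L8], dvd_rfl, by omega, by omega⟩
    · exact ⟨1, _, by simp [L8], dvd_rfl, by omega, by omega⟩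
    · exact ⟨1, _, by simp [L8], dvd_rfl, by omega, by omega⟩
    · exact ⟨1, _, by simp [L8], dvd_rfl, by omega, by omega⟩
    · exact ⟨2, _, by simp [L8], dvd_rfl, by omega, by omega⟩
    · exact ⟨1, _, by simp [L8], dvd_rfl, by omega, by omega⟩
    · exact ⟨1, _, by simp [L8], dvd_rfl, by omega, by omega⟩
    · exact ⟨0, _, by simp [L8], dvd_rfl, by omega, by omega⟩
    · exact ⟨0, _, by simp [L8], dvd_rfl, by omega, by omega⟩
    · exact ⟨0, _, by simp [L8], dvd_rfl, by omega, by omega⟩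
    · exact ⟨0, _, by simp [L8], dvd_rfl, by omega, by omega⟩
  have hq2 : 2 ≤ q := hq ▸ Nat.le_self_pow hk0 2
  have hn'0 : n' ≠ 0 := by
    rintro rfl
    have h1 : 1 < q ^ 3 := one_lt_pow₀ (by omega) (by omega)
    have h2 : 1 < q ^ 4 := one_lt_pow₀ (by omega) (by omega)
    have h3 : 1 < q ^ 2 := one_lt_pow₀ (by omega) (by omega)
    simp only [L8, mul_zero, Set.mem_insert_iff, Set.mem_singleton_iff] at hL
    rcases hL with h | h | h | h | h | h | h | h | h | h | h | h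
    all_goals
      have h' := h.symm
      first | omega | (simp only [mul_eq_zero] at h'; omega)
  have hAN : A ^ (2 ^ e * n') = 1 := by
    refine pow_eq_one_of_eigRoots (K := K) 2 A hn'0 (fun x hx => ?_) (fun x hx => ?_)
    · by_cases h1 : x = 1
      · rw [h1, one_pow]
      · obtain ⟨c, rfl⟩ := hdvd
        rw [pow_mul, (hkR x (Multiset.mem_filter.2 ⟨hx, h1⟩)).1, one_pow]
    · by_cases h1 : x = 1
      · rw [h1]; exact ha
      · have hx1 : x ∈ R₁ := Multiset.mem_filter.2 ⟨hx, h1⟩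
        have h2 := (hkR x hx1).2
        have h3 := two_count_le hst hx1
        rw [hcount1 x h1] at h2 h3
        change R.count x ≤ _
        omega
  refine ⟨_, hL, hAN, fun hfix => ?_⟩
  have hmult : (LinearMap.charpoly (Matrix.toLinAlgEquiv' A - 1)).rootMultiplicity 0 ≤ 2 ^ e := by
    refine le_trans (le_of_eq ?_) ((Polynomial.le_rootMultiplicity_map (f := algebraMap F K)
      ((Polynomial.map_ne_zero_iff (algebraMap F K).injective).2 (Matrix.charpoly_monic A).ne_zero) (1 : F)).trans ?_)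
    · rw [show Matrix.toLinAlgEquiv' A - 1 = Matrix.toLinAlgEquiv' (A - Matrix.scalar ι (1 : F)) by
          rw [map_sub]; simp,
        show Matrix.toLinAlgEquiv' (A - Matrix.scalar ι (1 : F)) = Matrix.toLin' (A - Matrix.scalar ι (1 : F)) from rfl,
        Matrix.charpoly_toLin', Matrix.charpoly_sub_scalar,
        ← Polynomial.rootMultiplicity_eq_rootMultiplicity]
    · rw [map_one, ← Matrix.charpoly_map, ← Polynomial.count_roots]
      exact ha
  set E := Matrix.toLinAlgEquiv' A - 1 with hE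
  set P : F[X] := ∑ i ∈ Finset.range (2 ^ e * n'), X ^ i with hP
  set S : F[X] := ∑ i ∈ Finset.range n', X ^ i with hS
  have hPS : P = (X - 1) ^ (2 ^ e - 1) * S ^ 2 ^ e := by
    apply mul_right_cancel₀ (Polynomial.X_sub_C_ne_zero (1 : F))
    rw [Polynomial.C_1, hP, geom_sum_mul, mul_comm (_ * _) (X - 1), ← mul_assoc, ← pow_succ',
      Nat.sub_add_cancel Nat.one_le_two_pow, ← mul_pow, mul_comm (X - 1) S, hS, geom_sum_mul, sub_pow_char_pow,
      one_pow, ← pow_mul, mul_comm n']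
  have hXA : aeval (Matrix.toLinAlgEquiv' A) (X - 1 : F[X]) = E := by rw [map_sub, aeval_X, map_one]
  apply Matrix.toLinAlgEquiv'.injective
  rw [map_zero, map_sum]
  simp only [map_pow]
  have hPE : aeval (Matrix.toLinAlgEquiv' A) P = ∑ i ∈ Finset.range (2 ^ e * n'), Matrix.toLinAlgEquiv' A ^ i := by
    rw [hP, map_sum]; simp
  rw [← hPE, hPS, map_mul, map_pow, hXA]
  refine LinearMap.ext fun v => LinearMap.mem_ker.1 (ker_pow_le E hmult hfix (LinearMap.mem_ker.2 ?_))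
  rw [← Module.End.mul_apply, ← hXA, ← map_pow, ← map_mul, ← mul_pow, mul_comm (X - 1) S, hS, geom_sum_mul,
    sub_pow_char_pow, one_pow, ← pow_mul, mul_comm n', map_sub, map_pow, aeval_X, map_one, ← map_pow, hAN, map_one,
    sub_self, LinearMap.zero_apply]

end Main

end Cfsg.Agent.Recog.EightOrd
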