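import Cfsg.Agent.Lib.Recog.EightBlocks
import Cfsg.Agent.Lib.Lie.OrthSpectrumOdd
import Cfsg.Agent.Lib.Classical.OrthPlusForms

/-!
Cyclic tori of order `q ^ d ± 1` in the orthogonal groups of dimension `2 * d` in characteristic two,
and the gluing of the standard forms.
-/

set_option autoImplicit false
set_option linter.unusedSectionVars false

namespace Cfsg.Agent.Recog.EightBlk

open Matrix Cfsg Cfsg.Agent.Classical Cfsg.Agent.Classical.OrthAut

variable {F : Type*} [Field F] [Fintype F] [CharP F 2]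

/-- A linear functional taking the value one at one. -/
theorem exists_functional (K : Type*) [Field K] [Algebra F K] : ∃ τ : K →ₗ[F] F, τ 1 = 1 := by
  obtain ⟨τ, hτ⟩ := LinearMap.exists_leftInverse_of_injective (Algebra.linearMap F K)
    (LinearMap.ker_eq_bot.2 (algebraMap F K).injective)
  exact ⟨τ, by simpa using DFunLike.congr_fun hτ 1⟩

/-- A unit of prescribed order. -/
theorem exists_unit (K : Type*) [Field K] [Finite K] {a b : ℕ} (ha : a ≠ 0) (hK : Nat.card K = a * b + 1) :
    ∃ x : Kˣ, orderOf x = b := by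
  obtain ⟨g, hg⟩ := IsCyclic.exists_ofOrder_eq_natCard (α := Kˣ)
  rw [Nat.card_units, hK, Nat.add_sub_cancel] at hg
  exact ⟨g ^ a, by rw [orderOf_pow_of_dvd ha (hg ▸ dvd_mul_right a b), hg, Nat.mul_div_cancel_left _ (Nat.pos_of_ne_zero ha)]⟩

/-- Multiplication by a unit. -/
def mulL {K : Type*} [Field K] [Algebra F K] (x : Kˣ) : K ≃ₗ[F] K where
  toFun y := (x : K) * y
  invFun y := ((x⁻¹ : Kˣ) : K) * y
  map_add' y z := mul_add _ y z
  map_smul' c y := mul_smul_comm c _ y
  left_inv y := x.inv_mul_cancel_left y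
  right_inv y := x.mul_inv_cancel_left y

/-- Multiplication by units preserving a form. -/
theorem exists_mul_aut {K : Type*} [Field K] [Algebra F K] (Q : K → F) (x : Kˣ) (hx : ∀ y, Q (x * y) = Q y) :
    ∃ g : aut (F := F) Q, orderOf g = orderOf x := by
  refine ⟨⟨mulL x, hx⟩, orderOf_eq_orderOf_iff.2 fun n => ?_⟩
  have h : ∀ (n : ℕ) (y : K), ((⟨mulL x, hx⟩ : aut (F := F) Q) ^ n).1 y = (x : K) ^ n * y := by
    intro n
    induction n with
    | zero => intro y; rw [pow_zero, pow_zero, one_mul]; rfl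
    | succ n ih => intro y; rw [pow_succ, coe_mul_apply, ih, pow_succ, mul_assoc]; rfl
  constructor
  · intro hn
    refine Units.ext ?_
    have := h n 1
    rw [hn, mul_one] at this
    rw [Units.val_pow_eq_pow_val, ← this]
    rfl
  · intro hn
    refine Subtype.ext (LinearEquiv.ext fun y => ?_)
    rw [h, ← Units.val_pow_eq_pow_val, hn, Units.val_one, one_mul]
    rfl

/-- The elliptic torus. -/
theorem torus_minus (m : ℕ) {a b : F} (hab : Aniso F a b) :
    ∃ g : aut ⇑(qfMinus m F a b), orderOf g = Fintype.card F ^ (m + 1) + 1 := by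
  classical
  haveI : Fact (Nat.Prime 2) := ⟨Nat.prime_two⟩
  set d := m + 1 with hd
  set q := Fintype.card F with hq
  let K := FiniteField.Extension F 2 (2 * d)
  haveI : Fintype K := Fintype.ofFinite _
  have hK : Nat.card K = q ^ (2 * d) := by
    rw [FiniteField.natCard_extension, Nat.card_eq_fintype_card]
  haveI : CharP K 2 := charP_of_injective_algebraMap (algebraMap F K).injective 2
  set φ : K →ₐ[F] K := FiniteField.frobeniusAlgHom F K ^ d with hφd
  have hφ : ∀ x, φ x = x ^ q ^ d := fun x => by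
    rw [hφd, AlgHom.coe_pow, FiniteField.coe_frobeniusAlgHom, pow_iterate]
  have hq1 : 1 ≤ q ^ d := Nat.one_le_pow _ _ Fintype.card_pos
  have hq2 : 1 < q ^ d := Nat.one_lt_pow (by omega) Fintype.one_lt_card
  have hφφ : ∀ x, φ (φ x) = x := fun x => by
    rw [hφ, hφ, ← pow_mul, ← pow_add, ← two_mul, ← hK, Nat.card_eq_fintype_card, FiniteField.pow_card]
  obtain ⟨ζ, hζ⟩ := exists_unit K (a := q ^ d - 1) (b := q ^ d + 1) (by omega) (by
    rw [hK, mul_comm (q ^ d - 1), ← Nat.sq_sub_sq, one_pow, ← pow_mul, mul_comm d, Nat.sub_add_cancel]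
    exact Nat.one_le_pow _ _ Fintype.card_pos)
  obtain ⟨τ, hτ⟩ := exists_functional (F := F) K
  obtain ⟨z, hz⟩ : ∃ z, z + φ z = 1 := by
    obtain ⟨g, hg⟩ := IsCyclic.exists_ofOrder_eq_natCard (α := Kˣ)
    have hne : (g : K) + φ g ≠ 0 := by
      rw [ne_eq, CharTwo.add_eq_zero, hφ, ← Units.val_pow_eq_pow_val, Units.val_inj]
      intro h
      have h1 : g ^ (q ^ d - 1) = 1 := by
        apply mul_right_cancel (b := g)
        rw [← pow_succ, Nat.sub_add_cancel hq1, ← h, one_mul]
      have h2 := Nat.le_of_dvd (by omega) (orderOf_dvd_of_pow_eq_one h1)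
      rw [hg, Nat.card_units, hK, two_mul, pow_add] at h2
      have h4 : 2 * q ^ d ≤ q ^ d * q ^ d := Nat.mul_le_mul_right _ hq2
      omega
    refine ⟨(g : K) * ((g : K) + φ g)⁻¹, ?_⟩
    rw [map_mul, map_inv₀, map_add, hφφ, add_comm (φ (g : K)) (g : K), ← add_mul, mul_inv_cancel₀ hne]
  set Bq : K →ₗ[F] K →ₗ[F] F := ((LinearMap.mul F K).compl₂ φ.toLinearMap).compr₂ τ with hBq
  set Q : QuadraticForm F K := LinearMap.BilinMap.toQuadraticMap Bq with hQ
  have hQx : ∀ x, Q x = τ (x * φ x) := fun x => rfl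
  have hn : (QuadraticMap.polarBilin Q).Nondegenerate := by
    refine nondegenerate_of_separatingLeft Q fun u hu => ?_
    by_contra hu0
    have hφu : φ u ≠ 0 := fun h => hu0 (by rw [← hφφ u, h, map_zero])
    have h := hu (z * (φ u)⁻¹)
    rw [QuadraticMap.polarBilin_apply_apply, LinearMap.BilinMap.polar_toQuadraticMap] at h
    change τ (u * φ (z * (φ u)⁻¹)) + τ (z * (φ u)⁻¹ * φ u) = 0 at h
    rw [map_mul φ, map_inv₀ φ, hφφ, mul_left_comm, mul_inv_cancel₀ hu0, mul_one, mul_assoc, inv_mul_cancel₀ hφu,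
      mul_one, ← map_add, add_comm, hz, hτ] at h
    exact one_ne_zero h
  have hfix : ∀ y : Kˣ, y ^ (q ^ d + 1) = 1 → ∀ x, Q ((y : K) * x) = Q x := fun y hy x => by
    rw [hQx, hQx, map_mul φ, mul_mul_mul_comm, hφ (y : K), ← pow_succ', ← Units.val_pow_eq_pow_val, hy,
      Units.val_one, one_mul]
  obtain ⟨g, hg⟩ := exists_mul_aut (F := F) ⇑Q ζ (hfix ζ (hζ ▸ pow_orderOf_eq_one ζ))
  have hV : Module.finrank F K = 2 * (m + 1) := FiniteField.finrank_extension F 2 (2 * d)
  rcases Lie.OrthSpectrumOdd.exists_std hn hV with ⟨e, he⟩ | ⟨ξ, e, hξ, he⟩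
  · exfalso
    set S : Set Kˣ := {x | Q x = 0}
    set H := Subgroup.zpowers ζ
    have hS : S = QuotientGroup.mk ⁻¹' (QuotientGroup.mk '' S : Set (Kˣ ⧸ H)) := by
      refine Set.Subset.antisymm (Set.subset_preimage_image _ _) ?_
      rintro y ⟨x, hx, hxy⟩
      obtain ⟨i, hi⟩ := Subgroup.mem_zpowers_iff.1 (QuotientGroup.eq.1 hxy)
      have hζ1 : ζ ^ (q ^ d + 1) = 1 := orderOf_dvd_iff_pow_eq_one.1 (dvd_of_eq hζ)
      have hh : (ζ ^ i) ^ (q ^ d + 1) = 1 := by
        rw [← zpow_natCast, ← _root_.zpow_mul, mul_comm i, _root_.zpow_mul, zpow_natCast, hζ1, _root_.one_zpow]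
      rw [show y = ζ ^ i * x by rw [hi]; simp [mul_comm]]
      show Q _ = 0
      rw [Units.val_mul, hfix _ hh, hx]
    have hcard : Nat.card S = (q ^ d + 1) * Nat.card (QuotientGroup.mk '' S : Set (Kˣ ⧸ H)) := by
      conv_lhs => rw [hS]
      rw [Nat.card_congr (QuotientGroup.preimageMkEquivSubgroupProdSet _ _), Nat.card_prod, Nat.card_zpowers, hζ]
    have hZ : Nat.card {x : K // Q x = 0} = Nat.card S + 1 := by
      have e1 : {x : K | Q x = 0} = insert 0 (Units.val '' S) := by
        ext x
        constructor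
        · intro hx
          by_cases h0 : x = 0
          · exact Or.inl h0
          · exact Or.inr ⟨Units.mk0 x h0, hx, rfl⟩
        · rintro (rfl | ⟨y, hy, rfl⟩)
          exacts [QuadraticMap.map_zero Q, hy]
      rw [show Nat.card {x : K // Q x = 0} = {x : K | Q x = 0}.ncard from (Nat.card_coe_set_eq _), e1,
        Set.ncard_insert_of_notMem (by rintro ⟨y, -, hy⟩; exact y.ne_zero hy) (Set.toFinite _),
        Set.ncard_image_of_injective _ Units.val_injective, ← Nat.card_coe_set_eq]
    have hplus := zeros_qfPlus (F := F) (m + 1)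
    rw [show Nat.card {v // qfPlus (m + 1) F v = 0} = Nat.card {x : K // Q x = 0} from
      Nat.card_congr (e.toEquiv.subtypeEquiv fun v => by rw [LinearEquiv.coe_toEquiv, he]), hZ, hcard] at hplus
    set c := Nat.card (QuotientGroup.mk '' S : Set (Kˣ ⧸ H))
    have hqd : (q ^ d : ℕ) = q * q ^ m := by rw [hd, pow_succ']
    have hev : 2 ∣ q := by
      obtain ⟨k, -, hk⟩ := FiniteField.card F 2
      exact hq.trans hk ▸ dvd_pow_self 2 k.pos.ne'
    have hint : ((c : ℤ) * (q * q ^ m + 1) + 1) * q = q * (q * (q ^ m) ^ 2 + q * q ^ m - q ^ m) := by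
      rw [hqd] at hplus
      push_cast at hplus
      linear_combination hplus
    have h2 := mul_right_cancel₀ (b := (q : ℤ)) (by exact_mod_cast Fintype.card_ne_zero)
      (hint.trans (mul_comm _ _))
    obtain ⟨r, hr⟩ := hev
    have hr1 : (1 : ℤ) ≤ r := by
      have : 2 ≤ q := Fintype.one_lt_card
      omega
    have hP : (1 : ℤ) ≤ (q : ℤ) ^ m := one_le_pow₀ (by exact_mod_cast Fintype.card_pos)
    generalize (q : ℤ) ^ m = P at h2 hP
    rw [hr] at h2
    push_cast at h2
    have h3 : (P + 1 - c) * (2 * r * P + 1) = 2 * (P + 1) := by linear_combination -h2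
    have h4 : 0 < P + 1 - (c : ℤ) := by
      by_contra hle
      have : (P + 1 - c) * (2 * r * P + 1) ≤ 0 := mul_nonpos_of_nonpos_of_nonneg (not_lt.1 hle) (by positivity)
      omega
    have h5 : P + 1 - (c : ℤ) < 2 := by
      by_contra hle
      have h6 : 2 * (2 * r * P + 1) ≤ (P + 1 - c) * (2 * r * P + 1) :=
        mul_le_mul_of_nonneg_right (not_lt.1 hle) (by positivity)
      have h7 : 1 * P ≤ r * P := mul_le_mul_of_nonneg_right hr1 (by omega)
      nlinarith
    rw [show P + 1 - (c : ℤ) = 1 by omega, one_mul, mul_assoc] at h3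
    omega
  · obtain ⟨e', he'⟩ := iso_of_not_half (k := m) (by simp; omega) (qfMinus m F 1 ξ) (qfMinus m F a b)
      (nondegenerate_qfMinus m (Lie.OrthSpectrumOdd.aniso_one hξ)) (nondegenerate_qfMinus m hab)
      (not_half_qfMinus (Lie.OrthSpectrumOdd.aniso_one hξ)) (not_half_qfMinus hab)
    have h2 : Eqv (F := F) ⇑(qfMinus m F 1 ξ) ⇑(qfMinus m F a b) :=
      ⟨Matrix.GeneralLinearGroup.toLin e' |> LinearMap.GeneralLinearGroup.toLinearEquiv, fun v => he' v⟩
    obtain ⟨g', hg'⟩ := exists_map_aut (Eqv.trans (Eqv.symm ⟨e, he⟩) h2) g hg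
    exact ⟨g', hg'.trans hζ⟩

/-- The hyperbolic torus. -/
theorem torus_plus (m : ℕ) : ∃ g : aut ⇑(qfPlus (m + 1) F), orderOf g = Fintype.card F ^ (m + 1) - 1 := by
  classical
  haveI : Fact (Nat.Prime 2) := ⟨Nat.prime_two⟩
  set q := Fintype.card F with hq
  let K := FiniteField.Extension F 2 (m + 1)
  have hq2 : 1 < q ^ (m + 1) := Nat.one_lt_pow (by omega) Fintype.one_lt_card
  obtain ⟨ζ, hζ⟩ := exists_unit K (a := 1) (b := q ^ (m + 1) - 1) one_ne_zero (by
    rw [FiniteField.natCard_extension, Nat.card_eq_fintype_card, one_mul, Nat.sub_add_cancel hq2.le])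
  obtain ⟨τ, hτ⟩ := exists_functional (F := F) K
  set Bq : (K × K) →ₗ[F] (K × K) →ₗ[F] F :=
    ((LinearMap.mul F K).compl₁₂ (LinearMap.fst F K K) (LinearMap.snd F K K)).compr₂ τ with hBq
  set Q : QuadraticForm F (K × K) := LinearMap.BilinMap.toQuadraticMap Bq with hQ
  have hQx : ∀ x, Q x = τ (x.1 * x.2) := fun x => rfl
  have hn : (QuadraticMap.polarBilin Q).Nondegenerate := by
    refine nondegenerate_of_separatingLeft Q fun u hu => ?_
    have key : ∀ v : K × K, τ (u.1 * v.2) + τ (v.1 * u.2) = 0 := fun v => by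
      have h := hu v
      rw [QuadraticMap.polarBilin_apply_apply, LinearMap.BilinMap.polar_toQuadraticMap] at h
      exact h
    refine Prod.ext ?_ ?_
    · by_contra h0
      have h := key (0, u.1⁻¹)
      rw [mul_inv_cancel₀ h0, hτ, zero_mul, map_zero, add_zero] at h
      exact one_ne_zero h
    · by_contra h0
      have h := key (u.2⁻¹, 0)
      rw [inv_mul_cancel₀ h0, hτ, mul_zero, map_zero, zero_add] at h
      exact one_ne_zero h
  have hV : Module.finrank F (K × K) = 2 * (m + 1) := by
    rw [Module.finrank_prod, FiniteField.finrank_extension, two_mul]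
  rcases Lie.OrthSpectrumOdd.exists_std hn hV with ⟨e, he⟩ | ⟨ξ, e, hξ, he⟩
  · let f : (K × K) ≃ₗ[F] (K × K) := (mulL (F := F) ζ).prodCongr (mulL (F := F) ζ⁻¹)
    have hf : ∀ x, Q (f x) = Q x := fun x => by
      rw [hQx, hQx]
      show τ ((ζ : K) * x.1 * ((ζ⁻¹ : Kˣ) * x.2)) = _
      rw [mul_mul_mul_comm, ← Units.val_mul, mul_inv_cancel, Units.val_one, one_mul]
    have ho : orderOf (⟨f, hf⟩ : aut (F := F) ⇑Q) = orderOf ζ := by
      have h : ∀ (n : ℕ) (y : K × K), ((⟨f, hf⟩ : aut (F := F) ⇑Q) ^ n).1 y =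
          ((ζ : K) ^ n * y.1, ((ζ⁻¹ : Kˣ) : K) ^ n * y.2) := by
        intro n
        induction n with
        | zero => intro y; simp [coe_one_apply]
        | succ n ih => intro y; rw [pow_succ, coe_mul_apply, ih, pow_succ, pow_succ, mul_assoc, mul_assoc]; rfl
      refine orderOf_eq_orderOf_iff.2 fun n => ⟨fun hn => Units.ext ?_, fun hn => ?_⟩
      · have := congrArg Prod.fst (h n (1, 0))
        simp only [hn, mul_one] at this
        rw [Units.val_pow_eq_pow_val, ← this]
        rfl
      · refine Subtype.ext (LinearEquiv.ext fun y => ?_)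
        rw [h, ← Units.val_pow_eq_pow_val, ← Units.val_pow_eq_pow_val, inv_pow, hn]
        simp [coe_one_apply]
    obtain ⟨g', hg'⟩ := exists_map_aut (Eqv.symm ⟨e, he⟩ : Eqv (F := F) ⇑Q ⇑(qfPlus (m + 1) F)) _ ho
    exact ⟨g', hg'.trans hζ⟩
  · exfalso
    have h1 := singular_finrank_le_minus m (Lie.OrthSpectrumOdd.aniso_one hξ)
      ((LinearMap.range (LinearMap.inl F K K)).map (e.symm : K × K →ₗ[F] _)) (by
      rintro _ ⟨_, ⟨x, rfl⟩, rfl⟩
      rw [LinearEquiv.coe_coe, ← he, e.apply_symm_apply, hQx]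
      simp)
    rw [LinearEquiv.finrank_map_eq, LinearMap.finrank_range_of_inj LinearMap.inl_injective,
      FiniteField.finrank_extension] at h1
    omega

section Models

variable {m : ℕ} {a b : F}

/-- Two hyperbolic forms glue to one. -/
theorem eqv_plus_plus (k l : ℕ) : Eqv (dsum ⇑(qfPlus k F) ⇑(qfPlus l F)) ⇑(qfPlus (k + l) F) := by
  refine ⟨{ toFun := fun x => Sum.elim (Fin.append (x.1 ∘ Sum.inl) (x.2 ∘ Sum.inl))
              (Fin.append (x.1 ∘ Sum.inr) (x.2 ∘ Sum.inr))
            invFun := fun v => (Sum.elim (fun i => v (.inl (Fin.castAdd l i))) fun i => v (.inr (Fin.castAdd l i)),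
              Sum.elim (fun i => v (.inl (Fin.natAdd k i))) fun i => v (.inr (Fin.natAdd k i)))
            map_add' := fun x y => by
              funext i; rcases i with i | i <;> induction i using Fin.addCases <;> simp
            map_smul' := fun c x => by
              funext i; rcases i with i | i <;> induction i using Fin.addCases <;> simp
            left_inv := fun x => by
              refine Prod.ext ?_ ?_ <;> funext i <;> rcases i with i | i <;> simp
            right_inv := fun v => by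
              funext i; rcases i with i | i <;> induction i using Fin.addCases <;> simp }, fun x => ?_⟩
  simp [qfPlus_apply, quadFormPlus, dsum, Fin.sum_univ_add]

/-- A hyperbolic and an elliptic form glue to an elliptic one. -/
theorem eqv_plus_minus (k l : ℕ) :
    Eqv (dsum ⇑(qfPlus k F) ⇑(qfMinus l F a b)) ⇑(qfMinus (k + l) F a b) := by
  refine ⟨{ toFun := fun x => Sum.elim (Sum.elim (Fin.append (x.1 ∘ Sum.inl) (x.2 ∘ Sum.inl ∘ Sum.inl))
              (Fin.append (x.1 ∘ Sum.inr) (x.2 ∘ Sum.inl ∘ Sum.inr))) (x.2 ∘ Sum.inr)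
            invFun := fun v => (Sum.elim (fun i => v (.inl (.inl (Fin.castAdd l i))))
                fun i => v (.inl (.inr (Fin.castAdd l i))),
              Sum.elim (Sum.elim (fun i => v (.inl (.inl (Fin.natAdd k i))))
                fun i => v (.inl (.inr (Fin.natAdd k i)))) fun j => v (.inr j))
            map_add' := fun x y => by
              funext i; rcases i with (i | i) | i <;> [induction i using Fin.addCases; induction i using Fin.addCases; skip] <;>
                simp
            map_smul' := fun c x => by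
              funext i; rcases i with (i | i) | i <;> [induction i using Fin.addCases; induction i using Fin.addCases; skip] <;>
                simp
            left_inv := fun x => by
              refine Prod.ext ?_ ?_
              · funext i; rcases i with i | i <;> simp
              · funext i; rcases i with (i | i) | i <;> simp
            right_inv := fun v => by
              funext i; rcases i with (i | i) | i <;> [induction i using Fin.addCases; induction i using Fin.addCases; skip] <;>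
                simp }, fun x => ?_⟩
  simp [qfMinus_apply, qfPlus_apply, quadFormMinus, quadFormPlus, dsum, Fin.sum_univ_add]
  ring

/-- Two elliptic planes glue to a hyperbolic space. -/
theorem eqv_minus_minus (hab : Aniso F a b) :
    Eqv (dsum ⇑(qfMinus 0 F a b) ⇑(qfMinus 0 F a b)) ⇑(qfPlus 2 F) := by
  have ha : a ≠ 0 := fun h => by
    have := binary_disc_ne_zero hab
    exact this (by rw [h]; linear_combination (2 * b) * CharTwo.two_eq_zero (R := F))
  have h2 := CharTwo.two_eq_zero (R := F)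
  let L : ((((Fin 0 ⊕ Fin 0) ⊕ Fin 2) → F) × (((Fin 0 ⊕ Fin 0) ⊕ Fin 2) → F)) →ₗ[F] (Fin 2 ⊕ Fin 2 → F) :=
    { toFun := fun x => Sum.elim ![x.1 (.inr 0) + x.2 (.inr 0), x.1 (.inr 1) + x.2 (.inr 1)]
        ![x.1 (.inr 0) + x.2 (.inr 0) + a * x.1 (.inr 1), b * (x.1 (.inr 1) + x.2 (.inr 1)) + a * x.2 (.inr 0)]
      map_add' := fun x y => by
        funext i; rcases i with i | i <;> fin_cases i <;> simp <;> ring
      map_smul' := fun c x => by
        funext i; rcases i with i | i <;> fin_cases i <;> simp <;> ring }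
  have hinj : Function.Injective L := by
    rw [← LinearMap.ker_eq_bot, LinearMap.ker_eq_bot']
    intro x hx
    have e0 := congrFun hx (.inl 0)
    have e1 := congrFun hx (.inl 1)
    have e2 := congrFun hx (.inr 0)
    have e3 := congrFun hx (.inr 1)
    simp [L] at e0 e1 e2 e3
    have u1 : x.1 (.inr 1) = 0 := (mul_eq_zero.1 (by linear_combination e2 - e0)).resolve_left ha
    have w0 : x.2 (.inr 0) = 0 := (mul_eq_zero.1 (by linear_combination e3 - b * e1)).resolve_left ha
    have w1 : x.2 (.inr 1) = 0 := by linear_combination e1 - u1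
    have u0 : x.1 (.inr 0) = 0 := by linear_combination e0 - w0
    refine Prod.ext ?_ ?_ <;> funext i <;> rcases i with (i | i) | i <;>
      first | exact i.elim0 | (fin_cases i <;> simpa)
  refine ⟨LinearMap.linearEquivOfInjective L hinj ?_, fun x => ?_⟩
  · rw [Module.finrank_prod, Module.finrank_pi, Module.finrank_pi]
    simp
  · simp [qfMinus_apply, qfPlus_apply, quadFormMinus, quadFormPlus, dsum, L, Fin.sum_univ_two]
    linear_combination (x.1 (.inr 0) * x.2 (.inr 0) + b * x.1 (.inr 1) * x.2 (.inr 1) +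
      a * x.1 (.inr 1) * x.2 (.inr 0)) * h2

theorem eqv_hyp : Eqv ⇑(hyp : QuadraticForm F (F × F)) ⇑(qfPlus 1 F) :=
  ⟨{ toFun := fun p => Sum.elim (fun _ => p.1) fun _ => p.2
     invFun := fun v => (v (.inl 0), v (.inr 0))
     map_add' := fun x y => by funext i; rcases i with i | i <;> simp
     map_smul' := fun c x => by funext i; rcases i with i | i <;> simp
     left_inv := fun p => rfl
     right_inv := fun v => by
      funext i; rcases i with i | i <;> rw [Subsingleton.elim i 0] <;> rfl },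
    fun p => by
      rw [qfPlus_apply, quadFormPlus, Fin.sum_univ_one]
      rfl⟩

theorem eqv_ext2_plus (k : ℕ) : Eqv ⇑(ext2 (qfPlus k F)) ⇑(qfPlus (1 + k) F) := by
  rw [coe_ext2]
  exact (eqv_hyp.dsum_congr (eqv_refl _)).trans (eqv_plus_plus 1 k)

theorem eqv_ext2_minus (k : ℕ) : Eqv ⇑(ext2 (qfMinus k F a b)) ⇑(qfMinus (1 + k) F a b) := by
  rw [coe_ext2]
  exact (eqv_hyp.dsum_congr (eqv_refl _)).trans (eqv_plus_minus 1 k)

/-- An elliptic plane has a pair suited to reflections. -/
theorem planeM (hab : Aniso F a b) :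
    ∃ z w, qfMinus 0 F a b z ≠ 0 ∧ QuadraticMap.polar (qfMinus 0 F a b) w z ≠ 0 := by
  have ha : a ≠ 0 := fun h => by
    have := binary_disc_ne_zero hab
    exact this (by rw [h]; linear_combination (2 * b) * CharTwo.two_eq_zero (R := F))
  refine ⟨Pi.single (.inr 0) 1, Pi.single (.inr 1) 1, by simp [qfMinus_apply, quadFormMinus], ?_⟩
  simp [polar_qfMinus, ha]

/-- A hyperbolic plane has a pair suited to reflections. -/
theorem planeP : ∃ z w, qfPlus 1 F z ≠ 0 ∧ QuadraticMap.polar (qfPlus 1 F) w z ≠ 0 := by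
  refine ⟨Sum.elim 1 1, Sum.elim 1 0, by simp [qfPlus_apply, quadFormPlus], ?_⟩
  simp [polar_qfPlus]

end Models

end Cfsg.Agent.Recog.EightBlk
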