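import Cfsg.Agent.Lib.Recog.FpfSymFree

/-!
An irreducible faithful configuration is abelian.
-/

set_option autoImplicit false

namespace Cfsg.Agent.FpfSym

universe u v

open scoped commutatorElement

variable {K : Type u} [Group K] [Finite K] {V : Type v} [AddCommGroup V] [Finite V] [Nontrivial V] {M : Mod K V}
  {A : Subgroup K} (F : Free M A)
include F

theorem Free.class_two (B : Subgroup K) (P : Pair A B) (hBr : ∀ x ∈ B, M.r x ∈ B) (hBt : ∀ x ∈ B, M.t x ∈ B)
    (g h : K) (hg : g ∈ B) (hh : h ∈ B) : g * h = h * g := by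
  classical
  letI : CommGroup A :=
    { (inferInstance : Group A) with mul_comm := fun a b => Subtype.ext (F.comm a a.2 b b.2) }
  haveI := F.normal
  set U := Fix M (invPart M A) with hU
  let N : Subgroup K := Kill M (U : Set V)
  let N' : Subgroup A := N.subgroupOf A
  let q : A →* A ⧸ N' := QuotientGroup.mk' N'
  have hq : ∀ a : A, q a = 1 ↔ (a : K) ∈ N := fun a => QuotientGroup.eq_one_iff a
  let c : B → B → A ⧸ N' := fun x y => q ⟨⁅(x : K), (y : K)⁆, P.com x x.2 y y.2⟩
  have caddl : ∀ x y k : B, c (x * y) k = c x k * c y k := fun x y k => by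
    rw [← map_mul q]; exact congrArg q (Subtype.ext (P.comm_mul_left x.2 y.2 k.2))
  have anti : ∀ x y : B, c x y = (c y x)⁻¹ := fun x y => by
    rw [← map_inv q]; exact congrArg q (Subtype.ext (commutatorElement_inv (y : K) (x : K)).symm)
  have hstab : ∀ y : B, ∀ u ∈ U, M.ρ (y : K) u ∈ U := fun y u hu s hs => by
    rw [← ρ_mul, P.cen s hs.1 y y.2, ρ_mul, hu s hs]
  have hA : ∀ (e : B) (k : B), (e : K) ∈ A → c e k = 1 := fun e k he => by
    rw [hq]; show ⁅(e : K), (k : K)⁆ ∈ N
    rw [commutatorElement_eq_one_iff_mul_comm.mpr (P.cen _ he _ k.2)]; exact N.one_mem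
  have hN : ∀ (z : B) (k : B), (z : K) ∈ N → c z k = 1 := fun z k hz => by
    rw [hq]; show ⁅(z : K), (k : K)⁆ ∈ N
    intro u hu
    have h1 := hstab ⟨_, B.inv_mem k.2⟩ u hu
    rw [commutatorElement_def, ρ_mul, ρ_mul, ρ_mul, (N.inv_mem hz) _ h1, ← ρ_mul M (k : K), mul_inv_cancel, ρ_one, hz u hu]
  have hcomm : ∀ x ∈ B, ∀ a ∈ A, x * a = a * x := fun x hx a ha => (P.cen a ha x hx).symm
  let rB : B → B := fun x => ⟨M.r x, hBr _ x.2⟩
  let tB : B → B := fun x => ⟨M.t x, hBt _ x.2⟩
  have ht : ∀ x k : B, c (tB x) k = c x k := fun x k => by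
    have hz : (x : K)⁻¹ * M.t x ∈ N := by
      intro u hu
      rw [ρ_mul, F.t_eq (hcomm x x.2) hu, ← ρ_mul, inv_mul_cancel, ρ_one]
    have e : tB x = x * (x⁻¹ * tB x) := by rw [mul_inv_cancel_left]
    rw [e, caddl, hN (x⁻¹ * tB x) k (by simpa [tB] using hz), mul_one]
  -- for `t`-fixed elements the pairing is multiplied by `-2` under rotation
  have hfix : ∀ a : B, M.t (a : K) = a → ∀ k : B, c a k = (c (rB a) k)⁻¹ * (c (rB a) k)⁻¹ := by
    intro a ha k
    set G := (a : K) * M.r a * M.r (M.r a)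
    have hg' : G⁻¹ * M.r G ∈ A := by
      have : G⁻¹ * M.r G = ⁅G⁻¹, (a : K)⁻¹⁆ := by
        simp only [G, map_mul, M.r3, commutatorElement_def]; group
      rw [this]
      exact P.com _ (B.inv_mem (B.mul_mem (B.mul_mem a.2 (hBr _ a.2)) (hBr _ (hBr _ a.2)))) _ (B.inv_mem a.2)
    obtain ⟨e, he, hfe⟩ := exists_r_fixed M.toAct A F.hr G hg'
    have hFB : G * e ∈ B := B.mul_mem (B.mul_mem (B.mul_mem a.2 (hBr _ a.2)) (hBr _ (hBr _ a.2))) (P.le he)
    have hFN : G * e ∈ N := by
      intro u hu
      refine fix_pow_mem M (n := 2) (Nat.Coprime.coprime_dvd_right (by norm_num) (orderOf_coprime_six M.toAct _)) ?_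
      have h1 := F.t_eq (hcomm _ hFB) hu
      rw [inverted M.toAct _ hfe] at h1
      rw [pow_two, ρ_mul, ← h1, ← ρ_mul, mul_inv_cancel, ρ_one]
    have e2 : (⟨G * e, hFB⟩ : B) = a * rB a * rB (rB a) * ⟨e, P.le he⟩ := Subtype.ext rfl
    have h1 := hN ⟨G * e, hFB⟩ k hFN
    rw [e2, caddl, caddl, caddl, hA ⟨e, P.le he⟩ k he, mul_one] at h1
    have e3 : rB (rB a) = tB (rB a) := Subtype.ext (by
      show M.r (M.r (a : K)) = M.t (M.r (a : K)); rw [M.tr, ha])
    rw [e3, ht] at h1
    calc c a k = c a k * c (rB a) k * c (rB a) k * ((c (rB a) k)⁻¹ * (c (rB a) k)⁻¹) := by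
          rw [mul_assoc (c a k), mul_assoc (c a k), mul_assoc (c (rB a) k) (c (rB a) k), ← mul_assoc (c (rB a) k) (c (rB a) k)⁻¹,
            mul_inv_cancel, one_mul, mul_inv_cancel, mul_one]
      _ = _ := by rw [h1, one_mul]
  have hcop : ∀ (z : A ⧸ N') (n : ℕ), n ∣ 6 ^ 2 → z ^ n = 1 → z = 1 := by
    intro z n hn hz
    obtain ⟨x, rfl⟩ := QuotientGroup.mk'_surjective N' z
    rw [← map_pow, QuotientGroup.mk'_apply, QuotientGroup.eq_one_iff] at hz
    rw [QuotientGroup.mk'_apply, QuotientGroup.eq_one_iff]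
    exact mem_of_pow M.toAct N hn (by simpa [N', Subgroup.mem_subgroupOf] using hz)
  have hzero : ∀ g h : B, c g h = 1 := by
    intro g h
    have hrep : ∀ g : B, ∃ a : B, M.t (a : K) = a ∧ ∀ k, c a k = c g k * c g k := by
      intro g
      have hg' : ((g : K) * M.t g)⁻¹ * M.t ((g : K) * M.t g) ∈ A := by
        rw [map_mul, M.t2]
        have : ((g : K) * M.t g)⁻¹ * (M.t g * g) = ⁅(M.t (g : K))⁻¹, (g : K)⁻¹⁆ := by
          simp only [commutatorElement_def]; group
        rw [this]; exact P.com _ (B.inv_mem (hBt _ g.2)) _ (B.inv_mem g.2)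
      obtain ⟨e, he, hfe⟩ := exists_t_fixed M.toAct A F.ht _ hg'
      refine ⟨g * tB g * ⟨e, P.le he⟩, hfe, fun k => ?_⟩
      rw [caddl, caddl, hA ⟨e, P.le he⟩ k he, mul_one, ht]
    obtain ⟨a, ha, haa⟩ := hrep g
    obtain ⟨b, hb, hbb⟩ := hrep h
    have e1 : c a b = c (rB a) (rB b) ^ 4 := by
      rw [hfix a ha b, anti (rB a) b, hfix b hb (rB a), anti (rB b) (rB a)]
      simp only [inv_inv, mul_inv_rev, pow_succ, pow_zero, one_mul, mul_assoc]
    set x : A := ⟨⁅(a : K), (b : K)⁆, P.com _ a.2 _ b.2⟩ with hx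
    let rA : A → A := fun z => ⟨M.r z, F.hr _ z.2⟩
    have e2 : c (rB a) (rB b) = q (rA x) := congrArg q (Subtype.ext (map_commutatorElement M.r (a : K) (b : K)).symm)
    have htx : M.t (x : K) = x := by rw [hx, map_commutatorElement, ha, hb]
    have e3 : q (rA (rA x)) = q (rA x) := by
      have hz : (M.r (x : K))⁻¹ * M.t (M.r (x : K)) ∈ N := fun u hu => hu _ (F.rel_mem (F.hr _ x.2))
      rw [M.tr, htx] at hz
      have : q ((rA x)⁻¹ * rA (rA x)) = 1 := (hq _).mpr (by simpa [rA] using hz)
      rw [map_mul, map_inv, inv_mul_eq_one] at this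
      exact this.symm
    have e4 : q x * q (rA x) * q (rA x) = 1 := by
      nth_rw 2 [← e3]
      rw [← map_mul, ← map_mul]
      exact (hq _).mpr (by
        show (x : K) * M.r (x : K) * M.r (M.r (x : K)) ∈ N
        rw [F.norm x.2]; exact N.one_mem)
    have e5 : q x = q (rA x) ^ 4 := by rw [← e2, ← e1]
    have e6 : q (rA x) = 1 := hcop _ 6 (by norm_num) (by
      rw [e5] at e4; rw [← e4]; simp only [pow_succ, pow_zero, one_mul])
    have e7 : c a b = 1 := by rw [e1, e2, e6, one_pow]
    rw [haa b, anti g b, hbb g, anti h g] at e7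
    refine hcop _ 4 (by norm_num) ?_
    rw [← e7]
    simp only [inv_inv, mul_inv_rev, pow_succ, pow_zero, one_mul, mul_assoc]
  have hc0 : ∀ x ∈ B, ∀ y ∈ B, ∀ u ∈ U, M.ρ ⁅x, y⁆ u = u := fun x hx y hy u hu =>
    (hq _).mp (hzero ⟨x, hx⟩ ⟨y, hy⟩) u hu
  refine commutatorElement_eq_one_iff_mul_comm.mp (F.eq_one (hc0 g hg h hh) ?_ ?_)
  · intro x hx
    have hu : M.R (M.R x) ∈ U := by
      intro s hs
      have e : s = M.r (M.r (M.r s)) := (M.r3 s).symm
      rw [e, ← R_ρ, ← R_ρ, hx _ ⟨s, hs, rfl⟩]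
    have h' := hc0 _ (hBr _ (hBr _ hg)) _ (hBr _ (hBr _ hh)) _ hu
    have := congrArg M.R h'
    rw [R_ρ, map_commutatorElement, M.r3, M.r3, show M.R (M.R (M.R x)) = x from DFunLike.congr_fun M.R3 x] at this
    exact this
  · intro x hx
    have hu : M.R x ∈ U := by
      intro s hs
      rw [← M.r3 s, ← R_ρ, hx _ ⟨s, hs, rfl⟩]
    have h' := hc0 _ (hBr _ hg) _ (hBr _ hh) _ hu
    have := congrArg (fun z => M.R (M.R z)) h'
    beta_reduce at this
    rw [R_ρ, R_ρ, map_commutatorElement, map_commutatorElement, M.r3, M.r3,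
      show M.R (M.R (M.R x)) = x from DFunLike.congr_fun M.R3 x] at this
    exact this

/-- If `A` is self-centralizing then it absorbs every invariant subgroup that is abelian over it. -/
theorem Free.absorb (hcent : ∀ g, (∀ a ∈ A, g * a = a * g) → g ∈ A) (B : Subgroup K)
    (hBr : ∀ x ∈ B, M.r x ∈ B) (hBt : ∀ x ∈ B, M.t x ∈ B) (hAB : A ≤ B)
    (hcom : ∀ g ∈ B, ∀ h ∈ B, ⁅g, h⁆ ∈ A) : B ≤ A := by
  classical
  letI : CommGroup A :=
    { (inferInstance : Group A) with mul_comm := fun a b => Subtype.ext (F.comm a a.2 b b.2) }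
  haveI := F.normal
  let W := Additive A
  let val : W → K := fun x => ((Additive.toMul x : A) : K)
  have vext : ∀ {x y : W}, val x = val y → x = y := fun h => Additive.toMul.injective (Subtype.ext h)
  have vadd : ∀ x y, val (x + y) = val x * val y := fun x y => rfl
  have vneg : ∀ x, val (-x) = (val x)⁻¹ := fun x => rfl
  let φ : W →+ W := MonoidHom.toAdditive ((M.r.toMonoidHom.comp A.subtype).codRestrict A fun z => F.hr _ z.2)
  let τ : W →+ W := MonoidHom.toAdditive ((M.t.toMonoidHom.comp A.subtype).codRestrict A fun z => F.ht _ z.2)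
  let δ : K → W →+ W := fun g => MonoidHom.toAdditive (MulAut.conjNormal g : MulAut A).toMonoidHom
  have vφ : ∀ x, val (φ x) = M.r (val x) := fun x => rfl
  have vτ : ∀ x, val (τ x) = M.t (val x) := fun x => rfl
  have vδ : ∀ g x, val (δ g x) = g * val x * g⁻¹ := fun g x => MulAut.conjNormal_apply g _
  have φ3 : ∀ x, φ (φ (φ x)) = x := fun x => vext (M.r3 _)
  have τ2 : ∀ x, τ (τ x) = x := fun x => vext (M.t2 _)
  have τφ : ∀ x, τ (φ x) = φ (φ (τ x)) := fun x => vext (M.tr _)
  have hn : ∀ x, φ (φ x) = -x - φ x := fun x => by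
    have h : x + φ x + φ (φ x) = 0 := vext (F.norm (Additive.toMul x).2)
    calc φ (φ x) = (x + φ x + φ (φ x)) - x - φ x := by abel
      _ = _ := by rw [h]; abel
  have δmul : ∀ g g' x, δ (g * g') x = δ g (δ g' x) := fun g g' x => vext (by simp only [vδ]; group)
  have δone : ∀ x, δ 1 x = x := fun x => vext (by simp [vδ])
  have δinj : ∀ g, Function.Injective (δ g) := fun g x y h => by
    have := congrArg (δ g⁻¹) h
    rwa [← δmul, ← δmul, inv_mul_cancel, δone, δone] at this
  have δr : ∀ g x, φ (δ g x) = δ (M.r g) (φ x) := fun g x => vext (by simp only [vφ, vδ, map_mul, map_inv])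
  have δt : ∀ g x, τ (δ g x) = δ (M.t g) (τ x) := fun g x => vext (by simp only [vτ, vδ, map_mul, map_inv])
  have δcom : ∀ g ∈ B, ∀ g' ∈ B, ∀ x, δ g (δ g' x) = δ g' (δ g x) := fun g hg g' hg' x => vext (by
    simp only [vδ]
    have hca := hcom g hg g' hg'
    have hc := F.comm _ hca _ (δ (g' * g) x).toMul.2
    change ⁅g, g'⁆ * val (δ (g' * g) x) = val (δ (g' * g) x) * ⁅g, g'⁆ at hc
    rw [vδ] at hc
    calc g * (g' * val x * g'⁻¹) * g⁻¹ = ⁅g, g'⁆ * (g' * g * val x * (g' * g)⁻¹) * ⁅g, g'⁆⁻¹ := by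
          simp only [commutatorElement_def]; group
      _ = g' * (g * val x * g⁻¹) * g'⁻¹ := by rw [hc]; group)
  -- coordinates over the reflection's fixed points
  obtain ⟨m, hm⟩ : ∃ m : ℕ, ∀ x : W, (3 * m) • x = x := by
    by_cases h1 : Nat.card A = 1
    · exact absurd (Subgroup.card_eq_one.mp h1) F.ne
    have hc : (3 : ℕ).Coprime (Nat.card A) := (Nat.Coprime.coprime_dvd_left A.card_subgroup_dvd_card
      (Nat.Coprime.coprime_dvd_right (show 3 ∣ 6 by norm_num) M.hcop)).symm
    obtain ⟨m, -, hm⟩ := Nat.exists_mul_mod_eq_one_of_coprime hc (by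
      have := Nat.card_pos (α := A); omega)
    refine ⟨m, fun x => ?_⟩
    have hx : Nat.card A • x = 0 := congrArg Additive.ofMul (pow_card_eq_one' (x := Additive.toMul x))
    rw [← Nat.mod_add_div (3 * m) (Nat.card A), hm, add_nsmul, one_nsmul, mul_comm (Nat.card A), mul_nsmul', hx,
      nsmul_zero, add_zero]
  let Z : AddSubgroup W :=
    { carrier := {x | τ x = x}
      add_mem' := fun {a b} ha hb => by show τ (a + b) = a + b; rw [map_add, ha, hb]
      zero_mem' := map_zero τ
      neg_mem' := fun {a} ha => by show τ (-a) = -a; rw [map_neg, ha] }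
  have hZ : ∀ {x}, x ∈ Z ↔ τ x = x := fun {x} => Iff.rfl
  have uniq : ∀ x y x' y' : Z, (x : W) + φ y = x' + φ y' → x = x' ∧ y = y' := by
    intro x y x' y' h
    set s : W := (x : W) - x'
    set w : W := (y' : W) - y
    have h1 : s = φ w := by
      rw [map_sub]; show (x : W) - x' = φ y' - φ y
      calc (x : W) - x' = ((x : W) + φ y) - x' - φ y := by abel
        _ = _ := by rw [h]; abel
    have hs : τ s = s := by rw [map_sub, hZ.mp x.2, hZ.mp x'.2]
    have hw : τ w = w := by rw [map_sub, hZ.mp y'.2, hZ.mp y.2]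
    have h2 : φ w = φ (φ w) := by conv_lhs => rw [← h1, ← hs, h1, τφ, hw]
    have h3 : φ w = w := by
      have := congrArg (fun z => φ (φ z)) h2
      simp only [φ3] at this
      exact this.symm
    have hw0 : w = 0 := vext (F.fpf _ (Additive.toMul w).2 (congrArg val h3))
    have hs0 : s = 0 := by rw [h1, hw0, map_zero]
    exact ⟨Subtype.ext (sub_eq_zero.mp hs0), (Subtype.ext (sub_eq_zero.mp hw0)).symm⟩
  have decomp : ∀ x : W, ∃ a b : Z, x = (a : W) + φ b := by
    intro x
    set u := x - τ x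
    set y : W := -(m • (u + φ u + φ u))
    have hu : τ u = -u := by rw [map_sub, τ2]; show τ x - x = -(x - τ x); abel
    have hy : τ y = y := by
      rw [map_neg, map_nsmul, map_add, map_add, τφ, hu, map_neg, map_neg, hn]
      show -(m • (-u + -(-u - φ u) + -(-u - φ u))) = -(m • (u + φ u + φ u))
      congr 2; abel
    have hfixd : τ (x - φ y) = x - φ y := by
      have h3 : y + φ y + φ y = u := by
        show -(m • (u + φ u + φ u)) + φ (-(m • (u + φ u + φ u))) + φ (-(m • (u + φ u + φ u))) = u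
        simp only [map_neg φ, map_nsmul φ, map_add φ, hn]
        calc _ = (3 * m) • u := by rw [mul_nsmul']; simp only [smul_add, smul_neg, smul_sub]; abel
          _ = u := hm u
      rw [map_sub τ, τφ, hy, hn]
      calc τ x - (-y - φ y) = τ x + (y + φ y + φ y) - φ y := by abel
        _ = x - φ y := by rw [h3]; show τ x + (x - τ x) - φ y = _; abel
    exact ⟨⟨x - φ y, hfixd⟩, ⟨y, hy⟩, by show x = x - φ y + φ y; abel⟩
  choose px py hxy using decomp
  have pxy : ∀ (a b : Z) (x : W), x = (a : W) + φ b → px x = a ∧ py x = b := fun a b x h =>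
    uniq _ _ _ _ ((hxy x).symm.trans h)
  -- the inverted part and its two rotates
  have hY : ∀ z : Z, val ((z : W) + φ z + φ z) ∈ invPart M A := fun z => by
    refine ⟨(Additive.toMul ((z : W) + φ z + φ z)).2, ?_⟩
    show val (τ ((z : W) + φ z + φ z)) = val (-((z : W) + φ z + φ z))
    congr 1
    rw [map_add, map_add, τφ, hZ.mp z.2, hn]; abel
  have hY1 : ∀ z : Z, val (-(z : W) - z - φ z) ∈ M.r '' invPart M A := fun z =>
    ⟨_, hY z, by rw [← vφ]; congr 1; rw [map_add, map_add, hn]; abel⟩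
  have hY2 : ∀ z : Z, val ((z : W) - φ z) ∈ (fun y => M.r (M.r y)) '' invPart M A := fun z =>
    ⟨_, hY z, by
      show M.r (M.r (val _)) = _
      rw [← vφ, ← vφ]; congr 1
      simp only [map_add, hn, map_sub, map_neg]; abel⟩
  have hinvZ : ∀ y ∈ invPart M A, ∃ z : Z, y = val ((z : W) + φ z + φ z) := by
    intro y hy
    let x : W := Additive.ofMul ⟨y, hy.1⟩
    refine ⟨px x, ?_⟩
    show val x = _
    congr 1
    have h2 : τ x = -x := vext hy.2
    have e := hxy x
    have e2 : py x = px x + px x := by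
      rw [e, map_add, τφ, hZ.mp (px x).2, hZ.mp (py x).2, hn] at h2
      have : ((px x + px x - py x : Z) : W) + φ ((0 : Z) : W) = ((0 : Z) : W) + φ ((0 : Z) : W) := by
        push_cast
        simp only [map_zero, add_zero]
        calc (px x : W) + (px x : W) - (py x : W)
            = ((px x : W) + (-(py x : W) - φ (py x : W))) - (-((px x : W) + φ (py x : W))) := by abel
          _ = 0 := by rw [h2, sub_self]
      exact (sub_eq_zero.mp (uniq _ _ _ _ this).1).symm
    conv_lhs => rw [e, e2]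
    rw [AddSubgroup.coe_add, map_add]; abel
  -- translating closures
  have mem3 : ∀ (S : Subgroup K) (x : W), val (x + x + x) ∈ S → val x ∈ S := fun S x h =>
    mem_of_pow M.toAct S (n := 3) (by norm_num) (by rw [pow_succ, pow_two]; exact h)
  have memadd : ∀ (S : Subgroup K) (x y : W), val x ∈ S → val y ∈ S → val (x + y) ∈ S := fun S x y => S.mul_mem
  have memneg : ∀ (S : Subgroup K) (x : W), val x ∈ S → val (-x) ∈ S := fun S x => S.inv_mem
  have memsub : ∀ (S : Subgroup K) (x y : W), val x ∈ S → val y ∈ S → val (x - y) ∈ S := fun S x y hx hy => by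
    rw [sub_eq_add_neg]; exact memadd S _ _ hx (memneg S _ hy)
  -- an element of `B` fixed by the reflection commutes with the rotation on `A`
  have hd0 : ∀ d ∈ B, M.t d = d → ∀ x, δ d (φ x) = φ (δ d x) := by
    intro d hd htd
    have hdτ : ∀ x, τ (δ d x) = δ d (τ x) := fun x => by rw [δt, htd]
    let a : Z →+ Z := AddMonoidHom.mk' (fun z => ⟨δ d z, by rw [hZ, hdτ, hZ.mp z.2]⟩) fun u w => Subtype.ext (map_add _ _ _)
    let b : Z →+ Z := AddMonoidHom.mk' (fun z => px (δ d (φ (z : W)))) fun u w =>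
      (pxy _ (py (δ d (φ (u : W))) + py (δ d (φ (w : W)))) _ (by
        push_cast
        rw [map_add, map_add, map_add]
        conv_lhs => rw [hxy (δ d (φ (u : W))), hxy (δ d (φ (w : W)))]
        abel)).1
    have hbc : ∀ z : Z, δ d (φ (z : W)) = (b z : W) + φ (py (δ d (φ (z : W)))) := fun z => hxy _
    have ha : ∀ z : Z, δ d (z : W) = (a z : W) := fun z => rfl
    have hc : ∀ z : Z, py (δ d (φ (z : W))) = a z + b z + b z := by
      intro z
      generalize hcdef : py (δ d (φ (z : W))) = c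
      have hbz : δ d (φ (z : W)) = (b z : W) + φ (c : W) := hcdef ▸ hbc z
      have h := congrArg τ hbz
      rw [hdτ, τφ, hZ.mp z.2, hn, map_sub, map_neg, ha, hbz, map_add, τφ, hZ.mp (b z).2,
        hZ.mp c.2, hn] at h
      have : ((c - (a z + b z + b z) : Z) : W) + φ ((0 : Z) : W) = ((0 : Z) : W) + φ ((0 : Z) : W) := by
        push_cast
        simp only [map_zero, add_zero]
        calc (c : W) - ((a z : W) + (b z : W) + (b z : W))
            = (-(a z : W) - ((b z : W) + φ (c : W))) - ((b z : W) + (-(c : W) - φ (c : W))) := by abel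
          _ = 0 := by rw [h, sub_self]
      exact sub_eq_zero.mp (uniq _ _ _ _ this).1
    have hb' : ∀ z : Z, δ d (φ (z : W)) = (b z : W) + φ ((a z + b z + b z : Z) : W) := fun z => by
      rw [← hc z]; exact hbc z
    have hrd : ∀ z : Z, δ (M.r d) (z : W) = ((a z + b z + b z : Z) : W) + φ (b z : W) := fun z => by
      conv_lhs => rw [← φ3 (z : W), ← δr, hn, map_sub, map_neg, ha, hb']
      simp only [map_sub, map_neg, map_add, AddSubgroup.coe_add, hn]
      abel
    have hee : ∀ z : Z, a (a z + b z + b z) + b (b z) = (a (a z) + b (a z) + b (a z)) ∧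
        a (b z) + b (b z) + b (b z) = b (a z) := by
      intro z
      have h := δcom d hd (M.r d) (hBr d hd) (z : W)
      rw [hrd, map_add, ha, hb', ha, hrd] at h
      refine uniq _ _ _ _ ?_
      rw [AddSubgroup.coe_add, ← h]; abel
    -- `b` is nilpotent and commutes with `a`
    have key : ∀ z : Z, b (b z) = 0 ∧ b (a z) = a (b z) := by
      intro z
      obtain ⟨h1, h2⟩ := hee z
      simp only [map_add] at h1
      rw [← h2] at h1 ⊢
      have h4 : b (b z) + b (b z) + b (b z) = 0 := by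
        calc b (b z) + b (b z) + b (b z)
            = (a (a z) + (a (b z) + b (b z) + b (b z)) + (a (b z) + b (b z) + b (b z)))
              - (a (a z) + a (b z) + a (b z) + b (b z)) := by abel
          _ = 0 := by rw [h1, sub_self]
      have h5 : b (b z) = 0 := Subtype.ext (vext (eq_one_of_pow_six M.toAct (n := 3) (by norm_num) (by
        rw [pow_succ, pow_two]
        exact congrArg (fun w : Z => val (w : W)) h4)))
      exact ⟨h5, by rw [h5, add_zero, add_zero]⟩
    have ainj : Function.Injective a := fun u w h => Subtype.ext (δinj d (congrArg Subtype.val h))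
    have asur : Function.Surjective a := Finite.surjective_of_injective ainj
    have abinj : Function.Injective (a + b) := by
      rw [injective_iff_map_eq_zero]
      intro z hz
      change a z + b z = 0 at hz
      have h1 := congrArg b hz
      rw [map_add, (key z).1, (key z).2, add_zero, map_zero] at h1
      have hb0 : b z = 0 := ainj (h1.trans (map_zero a).symm)
      rw [hb0, add_zero] at hz
      exact ainj (hz.trans (map_zero a).symm)
    have absur : Function.Surjective (a + b) := Finite.surjective_of_injective abinj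
    let S : Set K := (fun y => d * y * d⁻¹) '' (M.r '' invPart M A)
    have hS : S ⊆ A := by
      rintro _ ⟨_, ⟨y, hy, rfl⟩, rfl⟩
      exact F.normal.conj_mem _ (F.hr _ hy.1) d
    have hSz : ∀ z : Z, val (-((a z + a z + b z : Z) : W) - φ ((a z + b z + b z : Z) : W)) ∈ S := fun z =>
      ⟨_, hY1 z, by
        show d * val _ * d⁻¹ = _
        rw [← vδ]; congr 1
        simp only [map_sub, map_neg, ha, hb', AddSubgroup.coe_add]; abel⟩
    have top0 : ∀ x : W, val x ∈ Subgroup.closure (S ∪ invPart M A) := by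
      intro x
      set T := Subgroup.closure (S ∪ invPart M A)
      have t1 : ∀ w : Z, val (φ (w : W)) ∈ T := by
        intro w
        obtain ⟨z, rfl⟩ := asur w
        refine mem3 T _ ?_
        have := memadd T _ _ (Subgroup.subset_closure (Or.inl (hSz z))) (Subgroup.subset_closure (Or.inr (hY (a z + a z + b z))) :
          val (((a z + a z + b z : Z) : W) + φ ((a z + a z + b z : Z) : W) + φ ((a z + a z + b z : Z) : W)) ∈ T)
        convert this using 2
        simp only [AddSubgroup.coe_add, map_add]; abel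
      rw [hxy x]
      refine memadd T _ _ ?_ (t1 _)
      have := memsub T _ _ (memsub T _ _ (Subgroup.subset_closure (Or.inr (hY (px x))) :
        val ((px x : W) + φ (px x : W) + φ (px x : W)) ∈ T) (t1 (px x))) (t1 (px x))
      convert this using 2
      abel
    have top2 : ∀ x : W, val x ∈ Subgroup.closure (S ∪ (fun y => M.r (M.r y)) '' invPart M A) := by
      intro x
      set T := Subgroup.closure (S ∪ (fun y => M.r (M.r y)) '' invPart M A)
      have t1 : ∀ w : Z, val (φ (w : W)) ∈ T := by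
        intro w
        obtain ⟨z, rfl⟩ := absur w
        refine mem3 T _ ?_
        have := memneg T _ (memadd T _ _ (Subgroup.subset_closure (Or.inl (hSz z))) (Subgroup.subset_closure (Or.inr (hY2 (a z + a z + b z))) :
          val (((a z + a z + b z : Z) : W) - φ ((a z + a z + b z : Z) : W)) ∈ T))
        convert this using 2
        simp only [AddMonoidHom.add_apply, AddSubgroup.coe_add, map_add]; abel
      rw [hxy x]
      refine memadd T _ _ ?_ (t1 _)
      have := memadd T _ _ (Subgroup.subset_closure (Or.inr (hY2 (px x))) :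
        val ((px x : W) - φ (px x : W)) ∈ T) (t1 (px x))
      convert this using 2
      abel
    have hU1 : ∀ v ∈ Fix M S, v ∈ Fix M (M.r '' invPart M A) := by
      rintro v hv _ ⟨y, hy, rfl⟩
      have hyA : M.r y ∈ A := F.hr _ hy.1
      exact F.split_mem hS (top0 (Additive.ofMul ⟨_, hyA⟩)) (Subgroup.subset_closure (Or.inr ⟨y, hy, rfl⟩))
        (top2 (Additive.ofMul ⟨_, hyA⟩)) hv
    have hdS : ∀ v ∈ Fix M (M.r '' invPart M A), M.ρ d v ∈ Fix M (M.r '' invPart M A) := fun v hv => hU1 _ (by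
      rintro _ ⟨y, hy, rfl⟩
      rw [← ρ_mul, inv_mul_cancel_right, ρ_mul, hv y hy])
    have hdinv : ∀ v ∈ Fix M (M.r '' invPart M A), M.ρ d⁻¹ v ∈ Fix M (M.r '' invPart M A) := by
      intro v hv
      have hpow : ∀ n : ℕ, M.ρ (d ^ n) v ∈ Fix M (M.r '' invPart M A) := by
        intro n
        induction n with
        | zero => rwa [pow_zero, ρ_one]
        | succ n ih => rw [pow_succ', ρ_mul]; exact hdS _ ih
      have e : d⁻¹ = d ^ (orderOf d - 1) := by
        refine inv_eq_of_mul_eq_one_right ?_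
        rw [← pow_succ', Nat.sub_add_cancel (orderOf_pos d), pow_orderOf_eq_one]
      rw [e]; exact hpow _
    have hSK : ∀ s ∈ S ∪ M.r '' invPart M A, ∀ v ∈ Fix M (M.r '' invPart M A), M.ρ s v = v := by
      rintro s (⟨y, hy, rfl⟩ | hs) v hv
      · rw [ρ_mul, ρ_mul, hdinv v hv y hy, ← ρ_mul, mul_inv_cancel, ρ_one]
      · exact hv s hs
    have hb0 : ∀ z : Z, b z = 0 := by
      intro z
      set e : W := (b z : W) + φ (b z : W) + φ (b z : W)
      have he : ∀ v ∈ Fix M (M.r '' invPart M A), M.ρ (val e) v = v := by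
        intro v hv
        have hm' : ∀ x : W, val x ∈ S ∪ M.r '' invPart M A → val x ∈ Kill M {v} := fun x hx u hu => by
          rw [Set.mem_singleton_iff.mp hu]; exact hSK _ hx v hv
        have := memsub (Kill M {v}) _ _ (hm' _ (Or.inr (hY1 (a z)))) (hm' _ (Or.inl (hSz z)))
        have e' : e = -(a z : W) - (a z : W) - φ (a z : W) - (-((a z + a z + b z : Z) : W) - φ ((a z + b z + b z : Z) : W)) := by
          simp only [e, AddSubgroup.coe_add, map_add]; abel
        rw [e']
        exact this v rfl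
      have h1 : val e = 1 := F.eq_one (fun v hv => hv _ (hY (b z))) he (by
        intro v hv
        have hTv : M.T v ∈ Fix M (M.r '' invPart M A) := by
          rintro _ ⟨y, hy, rfl⟩
          have e2 : M.r y = M.t (M.r (M.r y⁻¹)) := by
            rw [M.tr, M.tr, M.r3, map_inv, hy.2, inv_inv]
          rw [e2, ← T_ρ, hv _ ⟨_, F.inv_mem hy, rfl⟩]
        have h' := he _ hTv
        have h'' : M.ρ (val e)⁻¹ (M.T v) = M.T v :=
          (Kill M {M.T v}).inv_mem (show val e ∈ Kill M {M.T v} from fun u hu => by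
            rw [Set.mem_singleton_iff.mp hu]; exact h') _ rfl
        have e3 : (val e)⁻¹ = M.t (val e) := ((hY (b z)).2).symm
        rw [e3, ← T_ρ] at h''
        have := congrArg M.T h''
        rwa [show ∀ w, M.T (M.T w) = w from fun w => DFunLike.congr_fun M.T2 w,
          show ∀ w, M.T (M.T w) = w from fun w => DFunLike.congr_fun M.T2 w] at this)
      have h2 : e = 0 := vext h1
      have : ((b z : Z) : W) + φ ((b z + b z : Z) : W) = ((0 : Z) : W) + φ ((0 : Z) : W) := by
        rw [AddSubgroup.coe_add, map_add, ← add_assoc]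
        simp only [AddSubgroup.coe_zero, map_zero, add_zero]
        exact h2
      exact (uniq _ _ _ _ this).1
    intro x
    rw [hxy x, map_add φ, map_add (δ d), map_add (δ d), map_add φ, hn, map_sub, map_neg, ha, ha, hb', hb', hb0, hb0]
    simp only [add_zero, AddSubgroup.coe_zero, zero_add, hn]
  have hone : ∀ g, (∀ x : W, δ g x = x) → g ∈ A := fun g h => hcent g fun a ha => by
    have := congrArg val (h (Additive.ofMul ⟨a, ha⟩))
    rw [vδ] at this
    change g * a * g⁻¹ = a at this
    exact mul_inv_eq_iff_eq_mul.mp this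
  have hdA : ∀ d ∈ B, M.t d = d → d ∈ A := by
    intro d hd htd
    have hr : d⁻¹ * M.r d ∈ A := hone _ fun x => by
      rw [δmul]
      have e : δ (M.r d) x = δ d x := by
        conv_lhs => rw [← φ3 x, ← δr, ← hd0 d hd htd, φ3]
      rw [e, ← δmul, inv_mul_cancel, δone]
    exact exists_both_fixed M.toAct A F.hr F.ht d hr (by rw [htd, inv_mul_cancel]; exact A.one_mem)
  have hinv : ∀ g ∈ B, g * M.t g ∈ A := by
    intro g hg
    have hg' : (g * M.t g)⁻¹ * M.t (g * M.t g) ∈ A := by
      rw [map_mul, M.t2]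
      have : (g * M.t g)⁻¹ * (M.t g * g) = ⁅(M.t g)⁻¹, g⁻¹⁆ := by
        simp only [commutatorElement_def]; group
      rw [this]; exact hcom _ (B.inv_mem (hBt _ hg)) _ (B.inv_mem hg)
    obtain ⟨x, hx, hfx⟩ := exists_t_fixed M.toAct A F.ht _ hg'
    exact (A.mul_mem_cancel_right hx).mp (hdA _ (B.mul_mem (B.mul_mem hg (hBt _ hg)) (hAB hx)) hfx)
  intro g hg
  have hrg : g⁻¹ * M.r g ∈ A := by
    have h1 := hinv g hg
    have h2 := F.hr _ (hinv (M.r g) (hBr _ hg))
    rw [M.tr, map_mul, M.r3] at h2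
    -- `h2` puts `r² g * t g` in `A`
    have h3 : M.r (M.r g) * g⁻¹ ∈ A := by
      have : M.r (M.r g) * g⁻¹ = M.r (M.r g) * M.t g * (g * M.t g)⁻¹ := by group
      rw [this]; exact A.mul_mem h2 (A.inv_mem h1)
    have h4 := F.hr _ h3
    rw [map_mul, map_inv, M.r3] at h4
    have h5 := F.normal.conj_mem _ (A.inv_mem h4) g⁻¹
    have e : g⁻¹ * M.r g = g⁻¹ * (g * (M.r g)⁻¹)⁻¹ * g⁻¹⁻¹ := by group
    rw [e]; exact h5
  obtain ⟨x, hx, hkr⟩ := exists_r_fixed M.toAct A F.hr g hrg
  suffices hk : g * x = 1 by rw [eq_inv_of_mul_eq_one_left hk]; exact A.inv_mem hx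
  set k := g * x
  have hkt : M.t k = k⁻¹ := inverted M.toAct k hkr
  have hκφ : ∀ y, δ k (φ y) = φ (δ k y) := fun y => by rw [δr, hkr]
  let α : Z →+ Z := AddMonoidHom.mk' (fun z => px (δ k (z : W))) fun u w =>
    (pxy _ (py (δ k (u : W)) + py (δ k (w : W))) _ (by
      push_cast
      rw [map_add, map_add]
      conv_lhs => rw [hxy (δ k (u : W)), hxy (δ k (w : W))]
      abel)).1
  let β : Z →+ Z := AddMonoidHom.mk' (fun z => py (δ k (z : W))) fun u w =>
    (pxy (px (δ k (u : W)) + px (δ k (w : W))) _ _ (by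
      push_cast
      rw [map_add, map_add]
      conv_lhs => rw [hxy (δ k (u : W)), hxy (δ k (w : W))]
      abel)).2
  have hk0 : ∀ z : Z, δ k (z : W) = (α z : W) + φ (β z : W) := fun z => hxy _
  have hk1 : ∀ z : Z, δ k (φ (z : W)) = -(β z : W) + φ (α z : W) - φ (β z : W) := fun z => by
    rw [hκφ, hk0, map_add, hn]; abel
  have hkk : ∀ z : Z, α (β z) = β (α z) := by
    intro z
    have h : δ k (τ (δ k (z : W))) = z := by
      rw [δt, hkt, hZ.mp z.2, ← δmul, mul_inv_cancel, δone]
    rw [hk0, map_add, τφ, hZ.mp (α z).2, hZ.mp (β z).2, hn, map_add, map_sub, map_neg, hk0, hk0, hk1] at h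
    have : ((α (α z) - α (β z) + β (β z) : Z) : W) + φ ((β (α z) - α (β z) : Z) : W) = (z : W) + φ ((0 : Z) : W) := by
      simp only [AddSubgroup.coe_add, AddSubgroup.coe_sub, map_sub, AddSubgroup.coe_zero, map_zero, add_zero]
      rw [← h]; abel
    exact (sub_eq_zero.mp (uniq _ _ _ _ this).2).symm
  -- the product of the three factors vanishes
  let γ : Z → Z := fun z => α (β (α z - β z))
  let S : Set K := (fun y => k * y * k⁻¹) '' invPart M A
  have hS : S ⊆ A := by
    rintro _ ⟨y, hy, rfl⟩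
    exact F.normal.conj_mem _ hy.1 k
  have hSz : ∀ z : Z, val (((α z - β z - β z : Z) : W) + φ ((α z + α z - β z : Z) : W)) ∈ S := fun z =>
    ⟨_, hY z, by
      show k * val _ * k⁻¹ = _
      rw [← vδ]; congr 1
      simp only [map_add, hk0, hk1, AddSubgroup.coe_add, AddSubgroup.coe_sub, map_sub]; abel⟩
  have pair : ∀ T : Subgroup K, ∀ (u v : Z), val (u : W) ∈ T → val (φ (v : W)) ∈ T → val ((u : W) + φ (v : W)) ∈ T :=
    fun T u v => memadd T _ _
  have hj0 : ∀ z, val (φ (β z : W)) ∈ Subgroup.closure (S ∪ invPart M A) ∧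
      val (β z : W) ∈ Subgroup.closure (S ∪ invPart M A) := by
    intro z
    set T := Subgroup.closure (S ∪ invPart M A)
    have h1 : val (φ (β z : W)) ∈ T := by
      refine mem3 T _ ?_
      have := memsub T _ _ (Subgroup.subset_closure (Or.inl (hSz z))) (Subgroup.subset_closure (Or.inr (hY (α z - β z - β z))) :
        val (((α z - β z - β z : Z) : W) + φ ((α z - β z - β z : Z) : W) + φ ((α z - β z - β z : Z) : W)) ∈ T)
      convert this using 2
      simp only [AddSubgroup.coe_add, AddSubgroup.coe_sub, map_add, map_sub]; abel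
    refine ⟨h1, ?_⟩
    have := memsub T _ _ (memsub T _ _ (Subgroup.subset_closure (Or.inr (hY (β z))) :
      val ((β z : W) + φ (β z : W) + φ (β z : W)) ∈ T) h1) h1
    convert this using 2
    abel
  have hj1 : ∀ z, val (φ (α z : W)) ∈ Subgroup.closure (S ∪ M.r '' invPart M A) ∧
      val (α z : W) ∈ Subgroup.closure (S ∪ M.r '' invPart M A) := by
    intro z
    set T := Subgroup.closure (S ∪ M.r '' invPart M A)
    have h1 : val (α z : W) ∈ T := by
      refine mem3 T _ ?_
      have := memneg T _ (memadd T _ _ (Subgroup.subset_closure (Or.inl (hSz z))) (Subgroup.subset_closure (Or.inr (hY1 (α z + α z - β z))) :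
        val (-((α z + α z - β z : Z) : W) - ((α z + α z - β z : Z) : W) - φ ((α z + α z - β z : Z) : W)) ∈ T))
      convert this using 2
      simp only [AddSubgroup.coe_add, AddSubgroup.coe_sub, map_add, map_sub]; abel
    refine ⟨?_, h1⟩
    have := memsub T _ _ (memsub T _ _ (memneg T _ (Subgroup.subset_closure (Or.inr (hY1 (α z))) :
      val (-(α z : W) - (α z : W) - φ (α z : W)) ∈ T)) h1) h1
    convert this using 2
    abel
  have hj2 : ∀ z, val (φ ((α z - β z : Z) : W)) ∈ Subgroup.closure (S ∪ (fun y => M.r (M.r y)) '' invPart M A) ∧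
      val ((α z - β z : Z) : W) ∈ Subgroup.closure (S ∪ (fun y => M.r (M.r y)) '' invPart M A) := by
    intro z
    set T := Subgroup.closure (S ∪ (fun y => M.r (M.r y)) '' invPart M A)
    have h1 : val ((α z - β z : Z) : W) ∈ T := by
      refine mem3 T _ ?_
      have := memadd T _ _ (Subgroup.subset_closure (Or.inl (hSz z))) (Subgroup.subset_closure (Or.inr (hY2 (α z + α z - β z))) :
        val (((α z + α z - β z : Z) : W) - φ ((α z + α z - β z : Z) : W)) ∈ T)
      convert this using 2
      simp only [AddSubgroup.coe_add, AddSubgroup.coe_sub, map_add, map_sub]; abel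
    refine ⟨?_, h1⟩
    have := memneg T _ (memsub T _ _ (Subgroup.subset_closure (Or.inr (hY2 (α z - β z))) :
      val (((α z - β z : Z) : W) - φ ((α z - β z : Z) : W)) ∈ T) h1)
    convert this using 2
    abel
  have hγβ : ∀ z, γ z = β (α (α z - β z)) := fun z => hkk _
  have hγαβ : ∀ z, γ z = α (α (β z)) - β (α (β z)) := fun z => by
    show α (β (α z - β z)) = _
    simp only [map_sub, ← hkk]
  have hγfix : ∀ (u w : Z), ∀ v ∈ Fix M S, M.ρ (val ((γ u : W) + φ (γ w : W))) v = v := by
    intro u w v hv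
    refine F.split_mem hS (pair _ _ _ ?_ ?_) (pair _ _ _ ?_ ?_) (pair _ _ _ ?_ ?_) hv
    · rw [hγβ]; exact (hj0 _).2
    · rw [hγβ]; exact (hj0 _).1
    · exact (hj1 _).2
    · exact (hj1 _).1
    · rw [hγαβ]; exact (hj2 _).2
    · rw [hγαβ]; exact (hj2 _).1
  have hcomm : ∀ z, α (γ z) = γ (α z) ∧ β (γ z) = γ (β z) := fun z => by
    constructor
    · show α (α (β (α z - β z))) = α (β (α (α z) - β (α z))); simp only [map_sub, hkk]
    · show β (α (β (α z - β z))) = α (β (α (β z) - β (β z))); simp only [map_sub, hkk]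
  have hγ0 : ∀ z : Z, γ z = 0 := by
    intro z
    have hfix0 : ∀ v ∈ Fix M (invPart M A), M.ρ (val (γ z : W)) v = v := by
      intro v hv
      have hkv : M.ρ k v ∈ Fix M S := by
        rintro _ ⟨y, hy, rfl⟩
        rw [← ρ_mul, inv_mul_cancel_right, ρ_mul, hv y hy]
      have h := hγfix (α z) (β z) _ hkv
      rw [← (hcomm z).1, ← (hcomm z).2, ← hk0, vδ, ← ρ_mul, inv_mul_cancel_right, ρ_mul] at h
      have := congrArg (M.ρ k⁻¹) h
      rwa [← ρ_mul, ← ρ_mul M k⁻¹ k v, inv_mul_cancel, ρ_one, ρ_one] at this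
    -- such an element fixes everything
    let T := Kill M ((Fix M (invPart M A) : AddSubgroup V) : Set V)
    set w := γ z
    have f0 : val (w : W) ∈ T := hfix0
    have f1 : val (φ (w : W)) ∈ T := by
      refine mem_of_pow M.toAct T (n := 2) (by norm_num) ?_
      rw [pow_two, ← vadd]
      have := memsub T _ _ (show val ((w : W) + φ (w : W) + φ (w : W)) ∈ T from fun v hv => hv _ (hY w)) f0
      convert this using 2
      abel
    have f2 : val (φ (φ (w : W))) ∈ T := by rw [hn]; exact memsub T _ _ (memneg T _ f0) f1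
    have h1 : val (w : W) = 1 := F.eq_one f0 (by
      intro v hv
      have hu : M.R (M.R v) ∈ Fix M (invPart M A) := fun s hs => by
        rw [← M.r3 s, ← R_ρ, ← R_ρ, hv _ ⟨s, hs, rfl⟩]
      have := congrArg M.R (f2 _ hu)
      rw [R_ρ, ← vφ, φ3, show M.R (M.R (M.R v)) = v from DFunLike.congr_fun M.R3 v] at this
      exact this) (by
      intro v hv
      have hu : M.R v ∈ Fix M (invPart M A) := fun s hs => by
        rw [← M.r3 s, ← R_ρ, hv _ ⟨s, hs, rfl⟩]
      have := congrArg (fun z => M.R (M.R z)) (f1 _ hu)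
      beta_reduce at this
      rw [R_ρ, R_ρ, ← vφ, ← vφ, φ3, show M.R (M.R (M.R v)) = v from DFunLike.congr_fun M.R3 v] at this
      exact this)
    exact Subtype.ext (vext h1)
  -- so the cube of the operator preserves the fixed part
  have h3 : ∀ z : Z, τ (δ k (δ k (δ k (z : W)))) = δ k (δ k (δ k (z : W))) := by
    intro z
    have e : δ k (δ k (δ k (z : W))) = ((α (α (α z)) - β (β (α z)) - α (β (β z)) - β (α (β z)) + β (β (β z)) : Z) : W)
        + φ ((γ z + γ z + γ z : Z) : W) := by
      simp only [hk0, hk1, map_add (δ k), map_sub (δ k), map_neg (δ k), map_add φ, map_sub φ, map_neg φ, map_add α, map_sub α, map_add β, map_sub β, γ, AddSubgroup.coe_add, AddSubgroup.coe_sub, ← hkk]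
      abel
    rw [e, hγ0, add_zero, add_zero, AddSubgroup.coe_zero, map_zero, add_zero]
    exact Subtype.prop (α (α (α z)) - β (β (α z)) - α (β (β z)) - β (α (β z)) + β (β (β z)))
  have h6 : ∀ x : W, δ (k ^ 6) x = x := by
    have hτk : ∀ x, τ (δ (k ^ 3) x) = δ (k ^ 3) (τ x) := by
      intro x
      have e3 : ∀ y, δ (k ^ 3) y = δ k (δ k (δ k y)) := fun y => by
        rw [pow_succ, pow_two, δmul, δmul]
      conv_lhs => rw [hxy x, map_add, e3, e3, map_add, h3, hκφ, hκφ, hκφ, τφ, h3]
      rw [e3]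
      conv_rhs => rw [hxy x, map_add, hZ.mp (px x).2, τφ, hZ.mp (py x).2, map_add, map_add, map_add, hκφ, hκφ, hκφ, hκφ, hκφ, hκφ]
    intro x
    obtain ⟨x, rfl⟩ : ∃ x', τ x' = x := ⟨τ x, τ2 x⟩
    have h := hτk x
    rw [δt, map_pow, hkt] at h
    have h' := congrArg (δ (k ^ 3)) h
    rw [← δmul, ← δmul, inv_pow, mul_inv_cancel, δone, ← pow_add, show (3 + 3 : ℕ) = 6 from rfl] at h'
    exact h'.symm
  have hk6 : k ^ 6 ∈ A := hone _ h6
  exact eq_one_of_pow_six M.toAct (n := 6) (by norm_num) (F.fpf _ hk6 (by rw [map_pow, hkr]))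

end Cfsg.Agent.FpfSym
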