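import Mathlib

/-!
Fixed-point-free actions of `Sym 3` on finite groups of order prime to six: the group-theoretic basics.
-/

set_option autoImplicit false

namespace Cfsg.Agent.FpfSym

universe u v

/-- An action of `Sym 3` by two generating automorphisms, with no common fixed point. -/
structure Act (K : Type u) [Group K] where
  r : MulAut K
  t : MulAut K
  r3 : ∀ g, r (r (r g)) = g
  t2 : ∀ g, t (t g) = g
  tr : ∀ g, t (r g) = r (r (t g))
  fpf : ∀ g, r g = g → t g = g → g = 1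
  hcop : (Nat.card K).Coprime 6

variable {K : Type u} [Group K]

theorem not_dvd_card (A : Act K) : ¬ 2 ∣ Nat.card K ∧ ¬ 3 ∣ Nat.card K :=
  ⟨fun h => by have := Nat.eq_one_of_dvd_coprimes A.hcop h (by norm_num); norm_num at this,
   fun h => by have := Nat.eq_one_of_dvd_coprimes A.hcop h (by norm_num); norm_num at this⟩

theorem Act.rt (A : Act K) (g : K) : A.r (A.t g) = A.t (A.r (A.r g)) := by
  rw [A.tr, A.tr, A.r3]

theorem Act.r_symm (A : Act K) (g : K) : A.r.symm g = A.r (A.r g) :=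
  A.r.injective (by rw [MulEquiv.apply_symm_apply, A.r3])

variable [Finite K]

theorem orderOf_coprime_six (A : Act K) (g : K) : (orderOf g).Coprime 6 :=
  Nat.Coprime.coprime_dvd_left (orderOf_dvd_natCard g) A.hcop

/-- An element killed by a power prime to its order is trivial. -/
theorem eq_one_of_pow {g : K} {n : ℕ} (hn : (orderOf g).Coprime n) (h : g ^ n = 1) : g = 1 :=
  orderOf_eq_one_iff.mp (Nat.eq_one_of_dvd_coprimes hn dvd_rfl (orderOf_dvd_of_pow_eq_one h))

theorem eq_one_of_pow_six (A : Act K) {g : K} {n : ℕ} (hn : n ∣ 6 ^ 2) (h : g ^ n = 1) : g = 1 :=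
  eq_one_of_pow (Nat.Coprime.coprime_dvd_right hn ((orderOf_coprime_six A g).pow_right 2)) h

/-- A fixed coset of an invariant subgroup contains a fixed point, for coprime prime order. -/
theorem exists_fixed {q : ℕ} (hq : q.Prime) (σ : MulAut K) (hσ : ∀ g, (⇑σ)^[q] g = g)
    (hcard : ¬ q ∣ Nat.card K) (N : Subgroup K) (hN : ∀ x ∈ N, σ x ∈ N) (g : K) (hg : g⁻¹ * σ g ∈ N) :
    ∃ x ∈ N, σ (g * x) = g * x := by
  classical
  haveI := Fact.mk hq
  haveI := Fintype.ofFinite N
  let f : N → N := fun x => ⟨g⁻¹ * σ g * σ x, N.mul_mem hg (hN x x.2)⟩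
  have hf : ∀ (n : ℕ) (x : N), ((f^[n] x : N) : K) = g⁻¹ * (⇑σ)^[n] (g * x) := by
    intro n
    induction n with
    | zero => intro x; simp
    | succ n ih =>
      intro x
      rw [Function.iterate_succ_apply', Function.iterate_succ_apply']
      show g⁻¹ * σ g * σ ((f^[n] x : N) : K) = _
      rw [ih, map_mul, map_inv]
      group
  have hfq : ∀ x : N, f^[q] x = x := fun x => Subtype.ext (by rw [hf, hσ]; group)
  have hfb : Function.Bijective f := Finite.injective_iff_bijective.mp (fun a b h => by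
    have h' : g⁻¹ * σ g * σ a = g⁻¹ * σ g * σ b := congrArg Subtype.val h
    exact Subtype.ext (σ.injective (mul_left_cancel h')))
  have hpow : (Equiv.ofBijective f hfb) ^ q ^ 1 = 1 := by
    rw [pow_one]
    ext x
    rw [Equiv.Perm.coe_pow]
    exact congrArg Subtype.val (hfq x)
  obtain ⟨x, hx⟩ := Equiv.Perm.exists_fixed_point_of_prime (p := q) (n := 1)
    (by rw [← Nat.card_eq_fintype_card]; exact fun h => hcard (h.trans N.card_subgroup_dvd_card)) hpow
  refine ⟨x, x.2, ?_⟩
  have h' : g⁻¹ * σ g * σ (x : K) = x := congrArg Subtype.val hx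
  rw [map_mul]
  calc σ g * σ (x : K) = g * (g⁻¹ * σ g * σ (x : K)) := by group
    _ = g * x := by rw [h']

theorem exists_r_fixed (A : Act K) (N : Subgroup K) (hN : ∀ x ∈ N, A.r x ∈ N) (g : K)
    (hg : g⁻¹ * A.r g ∈ N) : ∃ x ∈ N, A.r (g * x) = g * x :=
  exists_fixed Nat.prime_three A.r (fun g => A.r3 g) (not_dvd_card A).2 N hN g hg

theorem exists_t_fixed (A : Act K) (N : Subgroup K) (hN : ∀ x ∈ N, A.t x ∈ N) (g : K)
    (hg : g⁻¹ * A.t g ∈ N) : ∃ x ∈ N, A.t (g * x) = g * x :=
  exists_fixed Nat.prime_two A.t (fun g => A.t2 g) (not_dvd_card A).1 N hN g hg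

theorem exists_both_fixed (A : Act K) (N : Subgroup K) (hNr : ∀ x ∈ N, A.r x ∈ N) (hNt : ∀ x ∈ N, A.t x ∈ N)
    (g : K) (hgr : g⁻¹ * A.r g ∈ N) (hgt : g⁻¹ * A.t g ∈ N) : g ∈ N := by
  obtain ⟨x, hx, hrx⟩ := exists_r_fixed A N hNr g hgr
  let N' : Subgroup K := N ⊓ (A.r.toMonoidHom.eqLocus (MonoidHom.id K))
  have hN' : ∀ y, y ∈ N' ↔ y ∈ N ∧ A.r y = y := fun y => Iff.rfl
  have hN't : ∀ y ∈ N', A.t y ∈ N' := by
    intro y hy
    rw [hN'] at hy ⊢
    exact ⟨hNt y hy.1, by rw [A.rt, hy.2, hy.2]⟩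
  have hg' : (g * x)⁻¹ * A.t (g * x) ∈ N' := by
    rw [hN']
    refine ⟨?_, ?_⟩
    · rw [map_mul]
      have : (g * x)⁻¹ * (A.t g * A.t x) = x⁻¹ * (g⁻¹ * A.t g) * A.t x := by group
      rw [this]
      exact N.mul_mem (N.mul_mem (N.inv_mem hx) hgt) (hNt x hx)
    · rw [map_mul A.r, map_inv A.r, hrx, A.rt, hrx, hrx]
  obtain ⟨y, hy, hty⟩ := exists_t_fixed A N' hN't (g * x) hg'
  rw [hN'] at hy
  have hone := A.fpf (g * x * y) (by rw [map_mul A.r, hrx, hy.2]) hty
  have : g = y⁻¹ * x⁻¹ := by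
    rw [← mul_inv_rev, eq_inv_iff_mul_eq_one, ← mul_assoc, hone]
  rw [this]
  exact N.mul_mem (N.inv_mem hy.1) (N.inv_mem hx)

/-- The centralizer of the rotation is inverted by the reflection. -/
theorem inverted (A : Act K) (g : K) (hg : A.r g = g) : A.t g = g⁻¹ := by
  let C := {y : K // A.r y = y}
  let f : C → C := fun y => ⟨(y.1)⁻¹ * A.t y.1, by rw [map_mul, map_inv, A.rt, y.2, y.2]⟩
  have finj : Function.Injective f := by
    intro a b h
    have h' : (a.1)⁻¹ * A.t a.1 = (b.1)⁻¹ * A.t b.1 := congrArg Subtype.val h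
    apply Subtype.ext
    have : A.t (b.1 * a.1⁻¹) = b.1 * a.1⁻¹ := by
      rw [map_mul, map_inv]
      have h2 : A.t a.1 = a.1 * b.1⁻¹ * A.t b.1 := by rw [mul_assoc, ← h']; group
      rw [h2]; group
    exact (mul_inv_eq_one.mp (A.fpf _ (by rw [map_mul, map_inv, b.2, a.2]) this)).symm
  obtain ⟨y, hy⟩ := Finite.surjective_of_injective finj ⟨g, hg⟩
  have hy' : (y.1)⁻¹ * A.t y.1 = g := congrArg Subtype.val hy
  rw [← hy', map_mul, map_inv, A.t2, mul_inv_rev, inv_inv]

theorem fixed_comm (A : Act K) (a b : K) (ha : A.r a = a) (hb : A.r b = b) : a * b = b * a := by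
  have h := inverted A (a * b) (by rw [map_mul, ha, hb])
  rw [map_mul, inverted A a ha, inverted A b hb, ← mul_inv_rev, inv_inj] at h
  exact h.symm

theorem eq_one_of_both (A : Act K) {a : K} (hr : A.r a = a) (ht : A.t a = a) : a = 1 := A.fpf a hr ht

/-- The induced action on an invariant quotient. -/
theorem exists_quot (A : Act K) (N : Subgroup K) [N.Normal] (hNr : ∀ x ∈ N, A.r x ∈ N) (hNt : ∀ x ∈ N, A.t x ∈ N) :
    ∃ B : Act (K ⧸ N), (∀ g : K, B.r (g : K ⧸ N) = (A.r g : K ⧸ N)) ∧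
      ∀ g : K, B.t (g : K ⧸ N) = (A.t g : K ⧸ N) := by
  have hmap : ∀ σ : MulAut K, (∀ x ∈ N, σ x ∈ N) → N.map σ.toMonoidHom = N := by
    intro σ hσ
    refine Subgroup.eq_of_le_of_card_ge ?_ ?_
    · rintro _ ⟨x, hx, rfl⟩; exact hσ x hx
    · exact le_of_eq (Nat.card_congr (N.equivMapOfInjective σ.toMonoidHom σ.injective).toEquiv)
  refine ⟨{ r := QuotientGroup.congr N N A.r (hmap _ hNr)
            t := QuotientGroup.congr N N A.t (hmap _ hNt)
            r3 := ?_, t2 := ?_, tr := ?_, fpf := ?_, hcop := ?_ }, fun g => rfl, fun g => rfl⟩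
  · intro x
    induction x using QuotientGroup.induction_on with
    | H g => exact congrArg (QuotientGroup.mk (s := N)) (A.r3 g)
  · intro x
    induction x using QuotientGroup.induction_on with
    | H g => exact congrArg (QuotientGroup.mk (s := N)) (A.t2 g)
  · intro x
    induction x using QuotientGroup.induction_on with
    | H g => exact congrArg (QuotientGroup.mk (s := N)) (A.tr g)
  · intro x
    induction x using QuotientGroup.induction_on with
    | H g =>
      intro h1 h2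
      exact (QuotientGroup.eq_one_iff g).mpr (exists_both_fixed A N hNr hNt g
        (QuotientGroup.eq.mp h1.symm) (QuotientGroup.eq.mp h2.symm))
  · exact Nat.Coprime.coprime_dvd_left (Subgroup.card_quotient_dvd_card N) A.hcop

/-- The subgroup generated by the rotation's fixed points and the reflection's, with its rotate. -/
def gens (A : Act K) : Set K :=
  {g | A.r g = g} ∪ {g | A.t g = g} ∪ A.r '' {g | A.t g = g}

omit [Finite K] in
theorem mem_closure_of_norm (A : Act K) (S : Subgroup K) (hS : gens A ⊆ S) (y : K) (hy : A.t y = y⁻¹)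
    (hc1 : y * A.r y = A.r y * y) (hn : y * A.r y * A.r (A.r y) = 1) : y ^ 6 ∈ S := by
  -- `a = ry·(r²y)⁻¹` is fixed by the reflection
  have hr2 : A.r (A.r y) = (y * A.r y)⁻¹ := eq_inv_of_mul_eq_one_right hn
  let a := A.r y * (A.r (A.r y))⁻¹
  have ha : A.t a = a := by
    have h1 : A.t (A.r y) = (A.r (A.r y))⁻¹ := by rw [A.tr, hy, map_inv, map_inv]
    have h2 : A.t (A.r (A.r y)) = (A.r y)⁻¹ := by rw [A.tr, h1, map_inv, map_inv, A.r3]
    simp only [a, map_mul, map_inv, h1, h2, inv_inv]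
    rw [hr2, inv_inv, hc1, mul_assoc, hc1]
  have haS : a ∈ S := hS (Or.inl (Or.inr ha))
  have hraS : A.r a ∈ S := hS (Or.inr ⟨a, ha, rfl⟩)
  have c : Commute y (A.r y) := hc1
  let w : ℤ → ℤ → K := fun i j => y ^ i * A.r y ^ j
  have wm : ∀ i j k l, w i j * w k l = w (i + k) (j + l) := by
    intro i j k l
    show y ^ i * A.r y ^ j * (y ^ k * A.r y ^ l) = y ^ (i + k) * A.r y ^ (j + l)
    rw [zpow_add, zpow_add]
    have := (c.symm.zpow_zpow j k).eq
    calc y ^ i * A.r y ^ j * (y ^ k * A.r y ^ l) = y ^ i * (A.r y ^ j * y ^ k) * A.r y ^ l := by group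
      _ = y ^ i * (y ^ k * A.r y ^ j) * A.r y ^ l := by rw [this]
      _ = _ := by group
  have w0 : w 0 0 = 1 := by simp [w]
  have wi : ∀ i j, (w i j)⁻¹ = w (-i) (-j) := fun i j => inv_eq_of_mul_eq_one_right (by
    rw [wm, add_neg_cancel, add_neg_cancel, w0])
  have wy : y = w 1 0 := by simp [w]
  have wr : A.r y = w 0 1 := by simp [w]
  have wr2 : A.r (A.r y) = w (-1) (-1) := by rw [hr2, ← wi]; simp [w]
  have e1 : a = w 1 2 := by
    show A.r y * (A.r (A.r y))⁻¹ = _
    rw [wr2, wi, wr, wm]; norm_num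
  have e2 : A.r a = w (-2) (-1) := by
    show A.r (A.r y * (A.r (A.r y))⁻¹) = _
    rw [map_mul, map_inv, A.r3, wr2]
    conv_lhs => arg 2; rw [wy, wi]
    rw [wm]; norm_num
  have h6 : a * (A.r a)⁻¹ * ((a * A.r a) * (a * A.r a) * (a * A.r a))⁻¹ ∈ S :=
    S.mul_mem (S.mul_mem haS (S.inv_mem hraS))
      (S.inv_mem (S.mul_mem (S.mul_mem (S.mul_mem haS hraS) (S.mul_mem haS hraS)) (S.mul_mem haS hraS)))
  rw [e2, e1, wi, wm, wm, wm, wm, wi, wm] at h6
  norm_num [w] at h6
  exact_mod_cast h6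

theorem mem_of_pow (A : Act K) (S : Subgroup K) {g : K} {n : ℕ} (hn : n ∣ 6 ^ 2) (h : g ^ n ∈ S) : g ∈ S := by
  have hc : (orderOf g).Coprime n :=
    Nat.Coprime.coprime_dvd_right hn ((orderOf_coprime_six A g).pow_right 2)
  obtain ⟨m, hm⟩ := exists_pow_eq_self_of_coprime hc.symm
  rw [← hm]
  exact S.pow_mem h m

/-- Fixed points of rotation, reflection and the rotated reflection generate a solvable group. -/
theorem closure_gens : ∀ (n : ℕ) {K : Type u} [Group K] [Finite K] [Group.IsSolvable K] (A : Act K),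
    Nat.card K = n → Subgroup.closure (gens A) = ⊤ := by
  intro n
  induction n using Nat.strong_induction_on with
  | _ n ih =>
  intro K _ _ _ A hn
  classical
  set S := Subgroup.closure (gens A)
  rcases subsingleton_or_nontrivial K with hs | hs
  · exact Subsingleton.elim _ _
  obtain ⟨N, ⟨hNn, hNr, hNt, hNb⟩, hNmin⟩ :=
    wellFounded_lt.has_min
      {N : Subgroup K | N.Normal ∧ (∀ x ∈ N, A.r x ∈ N) ∧ (∀ x ∈ N, A.t x ∈ N) ∧ N ≠ ⊥}
      ⟨⊤, inferInstance, fun _ _ => Subgroup.mem_top _, fun _ _ => Subgroup.mem_top _, top_ne_bot⟩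
  haveI := hNn
  have hNab : ⁅N, N⁆ = ⊥ := by
    by_contra h
    refine hNmin ⁅N, N⁆ ⟨inferInstance, ?_, ?_, h⟩ (Group.IsSolvable.commutator_lt_of_ne_bot hNb)
    · have : (⁅N, N⁆).map A.r.toMonoidHom ≤ ⁅N, N⁆ := by
        rw [Subgroup.map_commutator]
        exact Subgroup.commutator_mono (Subgroup.map_le_iff_le_comap.mpr hNr) (Subgroup.map_le_iff_le_comap.mpr hNr)
      exact fun x hx => this (Subgroup.mem_map_of_mem _ hx)
    · have : (⁅N, N⁆).map A.t.toMonoidHom ≤ ⁅N, N⁆ := by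
        rw [Subgroup.map_commutator]
        exact Subgroup.commutator_mono (Subgroup.map_le_iff_le_comap.mpr hNt) (Subgroup.map_le_iff_le_comap.mpr hNt)
      exact fun x hx => this (Subgroup.mem_map_of_mem _ hx)
  have hNc : ∀ x ∈ N, ∀ y ∈ N, x * y = y * x := fun x hx y hy =>
    Subgroup.mem_centralizer_iff.mp (Subgroup.commutator_eq_bot_iff_le_centralizer.mp hNab hy) x hx
  letI : CommGroup N :=
    { (inferInstance : Group N) with mul_comm := fun x y => Subtype.ext (hNc x x.2 y y.2) }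
  have hsub : gens A ⊆ (S : Set K) := Subgroup.subset_closure
  have hNS : N ≤ S := by
    intro x hx
    let ρ : N →* N := (A.r.toMonoidHom.comp N.subtype).codRestrict N fun z => hNr z z.2
    let τ : N →* N := (A.t.toMonoidHom.comp N.subtype).codRestrict N fun z => hNt z z.2
    have hρ3 : ∀ z, ρ (ρ (ρ z)) = z := fun z => Subtype.ext (A.r3 z)
    have hτρ : ∀ z, τ (ρ z) = ρ (ρ (τ z)) := fun z => Subtype.ext (A.tr z)
    have hτ2 : ∀ z, τ (τ z) = z := fun z => Subtype.ext (A.t2 z)
    let X : N := ⟨x, hx⟩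
    let F : N := X * ρ X * ρ (ρ X)
    have hF : (F : K) ∈ S := hsub (Or.inl (Or.inl (show A.r (F : K) = F from
      congrArg Subtype.val (show ρ F = F by simp only [F, map_mul, hρ3]; rw [mul_comm (ρ X) _, mul_comm _ X, mul_assoc]; ac_rfl))))
    let m : N := (X * (ρ X)⁻¹) * (X * (ρ (ρ X))⁻¹)
    have hm1 : m * ρ m * ρ (ρ m) = 1 := by
      simp only [m, map_mul, map_inv, hρ3]
      apply Additive.ofMul.injective
      simp only [ofMul_mul, ofMul_inv, ofMul_one]
      abel
    let y : N := m * (τ m)⁻¹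
    have hty : τ y = y⁻¹ := by simp only [y, map_mul, map_inv, hτ2, mul_inv_rev, inv_inv, mul_comm]
    have hy1 : y * ρ y * ρ (ρ y) = 1 := by
      have h2 : τ m * ρ (τ m) * ρ (ρ (τ m)) = 1 := by
        have := congrArg τ hm1
        rw [map_mul, map_mul, map_one, hτρ, hτρ, hτρ, hρ3] at this
        rw [← this]; ac_rfl
      simp only [y, map_mul, map_inv]
      have : m * (τ m)⁻¹ * (ρ m * (ρ (τ m))⁻¹) * (ρ (ρ m) * (ρ (ρ (τ m)))⁻¹) =
          (m * ρ m * ρ (ρ m)) * (τ m * ρ (τ m) * ρ (ρ (τ m)))⁻¹ := by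
        simp only [mul_inv_rev]; ac_rfl
      rw [this, hm1, h2, inv_one, mul_one]
    have hy6 : (y : K) ^ 6 ∈ S := mem_closure_of_norm A S hsub y (congrArg Subtype.val hty)
      (hNc _ y.2 _ (hNr _ y.2)) (congrArg Subtype.val hy1)
    have hyS : (y : K) ∈ S := mem_of_pow A S (by norm_num) hy6
    have hmt : ((m * τ m : N) : K) ∈ S := hsub (Or.inl (Or.inr (show A.t ((m * τ m : N) : K) = _ from
      congrArg Subtype.val (show τ (m * τ m) = m * τ m by rw [map_mul, hτ2, mul_comm]))))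
    have hm : (m : K) ∈ S := by
      refine mem_of_pow A S (n := 2) (by norm_num) ?_
      have e : (y * (m * τ m) : N) = m ^ 2 := by
        simp only [y, pow_two]; rw [mul_assoc, mul_comm m (τ m), inv_mul_cancel_left]
      have := congrArg Subtype.val e
      push_cast at this
      rw [← this]
      exact S.mul_mem hyS hmt
    refine mem_of_pow A S (n := 3) (by norm_num) ?_
    have e : (F * m : N) = X ^ 3 := by
      simp only [F, m, pow_succ, pow_zero, one_mul]
      apply Additive.ofMul.injective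
      simp only [ofMul_mul, ofMul_inv]
      abel
    have := congrArg Subtype.val e
    push_cast at this
    rw [show x ^ 3 = (X : K) ^ 3 from rfl, ← this]
    exact S.mul_mem hF hm
  obtain ⟨B, hBr, hBt⟩ := exists_quot A N hNr hNt
  have hlt : Nat.card (K ⧸ N) < n := by
    subst hn
    rw [Subgroup.card_eq_card_quotient_mul_card_subgroup N]
    exact lt_mul_of_one_lt_right Nat.card_pos ((Subgroup.one_lt_card_iff_ne_bot N).mpr hNb)
  have htop := ih _ hlt B rfl
  have hle : gens B ⊆ (S.map (QuotientGroup.mk' N) : Set (K ⧸ N)) := by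
    rintro z ((hz | hz) | ⟨w, hw, rfl⟩)
    · induction z using QuotientGroup.induction_on with
      | H g =>
        change B.r (g : K ⧸ N) = g at hz
        rw [hBr] at hz
        obtain ⟨x, hx, hfix⟩ := exists_r_fixed A N hNr g (QuotientGroup.eq.mp hz.symm)
        exact ⟨g * x, hsub (Or.inl (Or.inl hfix)), QuotientGroup.eq.mpr (by simpa using N.inv_mem hx)⟩
    · induction z using QuotientGroup.induction_on with
      | H g =>
        change B.t (g : K ⧸ N) = g at hz
        rw [hBt] at hz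
        obtain ⟨x, hx, hfix⟩ := exists_t_fixed A N hNt g (QuotientGroup.eq.mp hz.symm)
        exact ⟨g * x, hsub (Or.inl (Or.inr hfix)), QuotientGroup.eq.mpr (by simpa using N.inv_mem hx)⟩
    · induction w using QuotientGroup.induction_on with
      | H g =>
        change B.t (g : K ⧸ N) = g at hw
        rw [hBt] at hw
        obtain ⟨x, hx, hfix⟩ := exists_t_fixed A N hNt g (QuotientGroup.eq.mp hw.symm)
        refine ⟨A.r (g * x), hsub (Or.inr ⟨g * x, hfix, rfl⟩), ?_⟩
        rw [QuotientGroup.mk'_apply, map_mul, hBr]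
        exact QuotientGroup.eq.mpr (by simpa using N.inv_mem (hNr x hx))
  rw [eq_top_iff]
  intro g _
  have hg : (g : K ⧸ N) ∈ S.map (QuotientGroup.mk' N) :=
    (Subgroup.closure_le _).mpr hle (htop ▸ Subgroup.mem_top _)
  obtain ⟨s, hs', hsg⟩ := hg
  have := QuotientGroup.eq.mp hsg
  have h2 : s * (s⁻¹ * g) ∈ S := S.mul_mem hs' (hNS this)
  rwa [mul_inv_cancel_left] at h2

end Cfsg.Agent.FpfSym
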