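import Cfsg.Agent.Lib.Recog.FpfSymTools

/-!
Class two invariant subgroups over a fixed abelian subgroup are abelian.
-/

set_option autoImplicit false

namespace Cfsg.Agent.FpfSym

universe u v

open scoped commutatorElement

/-- Averaging: if all `∑ (Z^j T)^i` kill `Z - 1` then so does the prime. -/
theorem prime_kill {E : Type v} [Ring E] {q : ℕ} (hq : q.Prime) {T Z : E} (hc : Commute Z T)
    (hZ : Z ^ q = 1) (h : ∀ j : ℕ, (∑ i ∈ Finset.range q, (Z ^ j * T) ^ i) * (Z - 1) = 0) :
    (q : E) * (Z - 1) = 0 := by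
  have h1 : (∑ j ∈ Finset.range q, ∑ i ∈ Finset.range q, Z ^ (j * i) * T ^ i) * (Z - 1) = 0 := by
    rw [Finset.sum_mul]
    refine Finset.sum_eq_zero fun j _ => ?_
    rw [← h j]
    congr 1
    refine Finset.sum_congr rfl fun i _ => ?_
    rw [(hc.pow_left j).mul_pow, ← pow_mul]
  rw [Finset.sum_comm, Finset.sum_mul] at h1
  rw [Finset.sum_eq_single_of_mem 0 (Finset.mem_range.mpr hq.pos) ?_] at h1
  · simpa using h1
  intro i hi hi0
  have hcop : i.Coprime q :=
    ((hq.coprime_iff_not_dvd).mpr fun hd => hi0 (Nat.eq_zero_of_dvd_of_lt hd (Finset.mem_range.mp hi))).symm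
  have hgeom : (∑ j ∈ Finset.range q, Z ^ (j * i)) * (Z - 1) = 0 := by
    obtain ⟨m, hm⟩ := Nat.exists_mul_mod_eq_one_of_coprime hcop hq.one_lt
    have hi' : (Z ^ i) ^ m = Z := by rw [← pow_mul, pow_eq_pow_mod _ hZ, hm.2, pow_one]
    have h2 : (∑ j ∈ Finset.range q, (Z ^ i) ^ j) * (Z ^ i - 1) = 0 := by
      rw [geom_sum_mul, ← pow_mul, mul_comm i q, pow_mul, hZ, one_pow, sub_self]
    have h3 : Z - 1 = (Z ^ i - 1) * ∑ l ∈ Finset.range m, (Z ^ i) ^ l := by
      rw [mul_geom_sum, hi']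
    rw [h3, ← mul_assoc]
    simp only [mul_comm _ i, pow_mul]
    rw [h2, zero_mul]
  have hcomm : Commute (T ^ i) (Z - 1) := (Commute.pow_left hc.symm i).sub_right (Commute.one_right _)
  calc (∑ j ∈ Finset.range q, Z ^ (j * i) * T ^ i) * (Z - 1)
      = (∑ j ∈ Finset.range q, Z ^ (j * i)) * ((T ^ i) * (Z - 1)) := by rw [← Finset.sum_mul, mul_assoc]
    _ = 0 := by rw [hcomm.eq, ← mul_assoc, hgeom, zero_mul]

theorem mul_pow_central {G : Type u} [Group G] {a b z : G} (hz : b * a = z * (a * b)) (hza : Commute z a)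
    (hzb : Commute z b) (n : ℕ) : (a * b) ^ n = z ^ n.choose 2 * (a ^ n * b ^ n) := by
  have hba : ∀ n : ℕ, b ^ n * a = z ^ n * (a * b ^ n) := by
    intro n
    induction n with
    | zero => simp
    | succ n ih =>
      calc b ^ (n + 1) * a = b * (b ^ n * a) := by rw [pow_succ', mul_assoc]
        _ = b * (z ^ n * (a * b ^ n)) := by rw [ih]
        _ = z ^ n * (b * a) * b ^ n := by
          rw [← mul_assoc b, ← (hzb.pow_left n).eq]; group
        _ = z ^ n * (z * (a * b)) * b ^ n := by rw [hz]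
        _ = z ^ (n + 1) * (a * b ^ (n + 1)) := by rw [pow_succ z n, pow_succ' b n]; group
  induction n with
  | zero => simp
  | succ n ih =>
    calc (a * b) ^ (n + 1) = z ^ n.choose 2 * (a ^ n * (b ^ n * a) * b) := by rw [pow_succ, ih]; group
      _ = z ^ n.choose 2 * (a ^ n * (z ^ n * (a * b ^ n)) * b) := by rw [hba]
      _ = z ^ n.choose 2 * (z ^ n * (a ^ n * (a * b ^ n))) * b := by
        rw [← mul_assoc (a ^ n), ← (hza.pow_pow n n).eq]; group
      _ = z ^ (n + 1).choose 2 * (a ^ (n + 1) * b ^ (n + 1)) := by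
        rw [Nat.choose_succ_succ, Nat.choose_one_right, add_comm, pow_add, pow_succ a n, pow_succ b n]; group

variable {K : Type u} [Group K]

/-- The commutator pairing of a class-two piece. -/
structure Pair (A B : Subgroup K) : Prop where
  le : A ≤ B
  cen : ∀ a ∈ A, ∀ b ∈ B, a * b = b * a
  com : ∀ g ∈ B, ∀ h ∈ B, ⁅g, h⁆ ∈ A

theorem Pair.comm_mul_left {A B : Subgroup K} (h : Pair A B) {g g' k : K} (hg : g ∈ B) (hg' : g' ∈ B) (hk : k ∈ B) :
    ⁅g * g', k⁆ = ⁅g, k⁆ * ⁅g', k⁆ := by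
  rw [h.cen _ (h.com g hg k hk) _ (h.le (h.com g' hg' k hk))]
  have e : ⁅g * g', k⁆ = g * ⁅g', k⁆ * g⁻¹ * ⁅g, k⁆ := by simp only [commutatorElement_def]; group
  rw [e, ← h.cen _ (h.com g' hg' k hk) _ hg, mul_inv_cancel_right]

theorem Pair.comm_mul_right {A B : Subgroup K} (h : Pair A B) {g g' k : K} (hg : g ∈ B) (hg' : g' ∈ B) (hk : k ∈ B) :
    ⁅k, g * g'⁆ = ⁅k, g⁆ * ⁅k, g'⁆ := by
  have e : ⁅k, g * g'⁆ = ⁅k, g⁆ * (g * ⁅k, g'⁆ * g⁻¹) := by simp only [commutatorElement_def]; group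
  rw [e, ← h.cen _ (h.com k hk g' hg') _ hg, mul_inv_cancel_right]

open Classical in
/-- The pairing with values in the abelian subgroup. -/
noncomputable def cc (A : Subgroup K) (g h : K) : Additive A :=
  if hm : ⁅g, h⁆ ∈ A then Additive.ofMul ⟨⁅g, h⁆, hm⟩ else Additive.ofMul 1

theorem cc_val {A B : Subgroup K} (P : Pair A B) {g h : K} (hg : g ∈ B) (hh : h ∈ B) :
    ((Additive.toMul (cc A g h) : A) : K) = ⁅g, h⁆ := by
  rw [cc, dif_pos (P.com g hg h hh)]; rfl

variable [Finite K] {V : Type v} [AddCommGroup V] (M : Mod K V)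

theorem abelian_of_fixed [Finite V] (hirr : Irred M) (A B : Subgroup K) [A.Normal]
    (hAc : ∀ x ∈ A, ∀ y ∈ A, x * y = y * x)
    (hAt : ∀ x ∈ A, M.t x ∈ A) (hAr : ∀ x ∈ A, M.r x = x) (hAb : A ≠ ⊥) (P : Pair A B)
    (hBr : ∀ x ∈ B, M.r x ∈ B) {q : ℕ} (hq : q.Prime) (hqp : q ≠ M.p) (hq3 : Odd q)
    (hexp : ∀ g ∈ B, g ^ q ∈ A) (g h : K) (hg : g ∈ B) (hh : h ∈ B) : g * h = h * g := by
  classical
  haveI : IsMulCommutative A := ⟨⟨fun x y => Subtype.ext (hAc x x.2 y y.2)⟩⟩
  open scoped IsMulCommutative in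
  -- no vector is fixed by the rotation
  have hR : ∀ v, M.R v = v → v = 0 := by
    intro v hv
    have hfix : ∀ w, M.R w = w → M.T w = -w := by
      intro w hw
      have e : M.R (M.T w) = M.T w := by
        have := DFunLike.congr_fun M.TR (M.R (M.R w))
        simp only [AddMonoid.End.coe_mul, Function.comp_apply] at this
        rw [hw, hw, hw] at this
        calc M.R (M.T w) = M.R (M.R (M.R (M.T w))) := by
              rw [← this]
          _ = M.T w := DFunLike.congr_fun M.R3 (M.T w)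
      have := M.vfpf (w + M.T w) (by rw [map_add, hw, e]) (by
        rw [map_add, show M.T (M.T w) = w from DFunLike.congr_fun M.T2 w, add_comm])
      exact eq_neg_of_add_eq_zero_right this
    have : v ∈ Fix M (A : Set K) := by
      intro a ha
      have h1 : M.R (M.ρ a v) = M.ρ a v := by rw [R_ρ, hAr a ha, hv]
      have h2 := hfix _ h1
      rw [T_ρ, inverted M.toAct a (hAr a ha), hfix v hv, map_neg, neg_inj] at h2
      refine fix_pow_mem M (n := 2) (Nat.Coprime.coprime_dvd_right (by norm_num) (orderOf_coprime_six M.toAct a)) ?_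
      rw [pow_two, ρ_mul, ← h2, ← ρ_mul, mul_inv_cancel, ρ_one]
    rw [Fix_eq_bot M hirr A (fun x hx => by rw [hAr x hx]; exact hx) hAt hAb] at this
    exact AddSubgroup.mem_bot.mp this
  have hS : (1 : AddMonoid.End V) + M.R + M.R * M.R = 0 := by
    refine DFunLike.ext _ _ fun v => hR _ ?_
    show M.R ((1 + M.R + M.R * M.R : AddMonoid.End V) v) = _
    show M.R (v + M.R v + M.R (M.R v)) = v + M.R v + M.R (M.R v)
    rw [map_add, map_add, show M.R (M.R (M.R v)) = v from DFunLike.congr_fun M.R3 v]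
    abel
  have hrel : ∀ g, (M.ρ ((M.r (M.r g))⁻¹ * g) - 1) + (M.ρ ((M.r (M.r g))⁻¹ * M.r g) - 1) * M.R = 0 := by
    intro g
    have h1 : M.ρ g + M.ρ (M.r g) * M.R + M.ρ (M.r (M.r g)) * (M.R * M.R) = 0 := by
      have h := congrArg (fun z => z * M.ρ g) hS
      simp only [add_mul, one_mul, zero_mul] at h
      rwa [M.Rρ, mul_assoc M.R, M.Rρ, ← mul_assoc M.R, M.Rρ, mul_assoc] at h
    have h2 := congrArg (fun z => M.ρ ((M.r (M.r g))⁻¹) * z) h1
    simp only [mul_add, ← mul_assoc, ← map_mul, mul_zero, inv_mul_cancel, map_one, one_mul] at h2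
    linear_combination (norm := noncomm_ring) h2 - hS
  have hr2 : ∀ {x}, x ∈ B → M.r (M.r x) ∈ B := fun hx => hBr _ (hBr _ hx)
  have hcq : ∀ x ∈ B, ∀ y ∈ B, ⁅x, y⁆ ^ q = 1 := by
    intro x hx y hy
    have h1 : ∀ n : ℕ, ⁅x ^ n, y⁆ = ⁅x, y⁆ ^ n := by
      intro n
      induction n with
      | zero => simp
      | succ n ih => rw [pow_succ, P.comm_mul_left (B.pow_mem hx n) hx hy, ih, ← pow_succ]
    rw [← h1, commutatorElement_eq_one_iff_mul_comm]
    exact P.cen _ (hexp x hx) y hy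
  -- the two twisted quotients commute
  have hvv : ∀ g ∈ B, ⁅(M.r (M.r g))⁻¹ * g, (M.r (M.r g))⁻¹ * M.r g⁆ = 1 := by
    intro g hg
    set a := (M.r (M.r g))⁻¹
    have ha : a ∈ B := B.inv_mem (hr2 hg)
    have hvB : a * M.r g ∈ B := B.mul_mem ha (hBr g hg)
    have hwB : a * g ∈ B := B.mul_mem ha hg
    set z := ⁅M.r g, a⁆ with hz
    have hzA : z ∈ A := P.com _ (hBr g hg) _ ha
    have hvq : (a * M.r g) ^ q = 1 := by
      have e : M.r g * a = z * (a * M.r g) := by rw [hz, commutatorElement_def]; group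
      rw [mul_pow_central e (P.cen z hzA a ha) (P.cen z hzA _ (hBr g hg))]
      obtain ⟨k, hk⟩ := hq3
      have hdvd : q ∣ q.choose 2 := Nat.Prime.dvd_choose_self hq (by norm_num) (by
        have := hq.two_le; omega)
      obtain ⟨l, hl⟩ := hdvd
      have hzq : z ^ q = 1 := hcq _ (hBr g hg) _ ha
      have hgr : M.r (g ^ q) = g ^ q := hAr _ (hexp g hg)
      rw [hl, pow_mul, hzq, one_pow, one_mul, ← map_pow M.r g q, hgr]
      simp only [a, inv_pow, ← map_pow, hgr, inv_mul_cancel]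
    set c := ⁅a * g, a * M.r g⁆ with hc
    have hcA : c ∈ A := P.com _ hwB _ hvB
    have hconj : (a * g) * (a * M.r g) * (a * g)⁻¹ = c * (a * M.r g) := by
      rw [hc, commutatorElement_def]; group
    set T := M.ρ (a * M.r g)
    set Z := M.ρ c
    set W := M.ρ (a * g)
    have hZT : Commute Z T := by
      show M.ρ c * M.ρ _ = M.ρ _ * M.ρ c
      rw [← map_mul, ← map_mul, P.cen c hcA _ hvB]
    have hTq : T ^ q = 1 := by rw [← map_pow, hvq, map_one]
    have hZq : Z ^ q = 1 := by rw [← map_pow, hcq _ hwB _ hvB, map_one]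
    set S := ∑ i ∈ Finset.range q, T ^ i
    have hST : S * (T - 1) = 0 := by rw [geom_sum_mul, hTq, sub_self]
    have hSW : S * W = S := by
      have h1 : S * ((W - 1) + (T - 1) * M.R) = 0 := by rw [hrel g, mul_zero]
      rw [mul_add, ← mul_assoc, hST, zero_mul, add_zero, mul_sub, mul_one, sub_eq_zero] at h1
      exact h1
    let Wi := M.ρ (a * g)⁻¹
    have hWWi : W * Wi = 1 := by rw [← map_mul, mul_inv_cancel, map_one]
    have hWiW : Wi * W = 1 := by rw [← map_mul, inv_mul_cancel, map_one]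
    have hcj : ∀ j : ℕ, W ^ j * T * Wi ^ j = Z ^ j * T := by
      intro j
      induction j with
      | zero => simp
      | succ j ih =>
        have hWZ : Commute W Z := by
          show M.ρ _ * M.ρ c = M.ρ c * M.ρ _
          rw [← map_mul, ← map_mul, P.cen c hcA _ hwB]
        calc W ^ (j + 1) * T * Wi ^ (j + 1) = W * (W ^ j * T * Wi ^ j) * Wi := by
              rw [pow_succ' W j, pow_succ Wi j]; simp only [mul_assoc]
          _ = Z ^ j * (W * T * Wi) := by rw [ih, ← mul_assoc W, (hWZ.pow_right j).eq]; simp only [mul_assoc]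
          _ = Z ^ j * (Z * T) := by rw [← map_mul, ← map_mul, hconj, map_mul]
          _ = Z ^ (j + 1) * T := by rw [pow_succ, mul_assoc]
    have hsum : ∀ j : ℕ, ∑ i ∈ Finset.range q, (Z ^ j * T) ^ i = W ^ j * S * Wi ^ j := by
      intro j
      rw [Finset.mul_sum, Finset.sum_mul]
      refine Finset.sum_congr rfl fun i hi => ?_
      clear hi
      rw [← hcj]
      have hinv : Wi ^ j * W ^ j = 1 := by
        rw [← (Commute.mul_pow (show Commute Wi W from hWiW.trans hWWi.symm)), hWiW, one_pow]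
      have hinv' : W ^ j * Wi ^ j = 1 := by
        rw [← (Commute.mul_pow (show Commute W Wi from hWWi.trans hWiW.symm)), hWWi, one_pow]
      induction i with
      | zero => simp [hinv']
      | succ i ih =>
        rw [pow_succ, ih, pow_succ T i]
        calc W ^ j * T ^ i * Wi ^ j * (W ^ j * T * Wi ^ j) = W ^ j * T ^ i * (Wi ^ j * W ^ j) * T * Wi ^ j := by
              simp only [mul_assoc]
          _ = _ := by rw [hinv, mul_one]; simp only [mul_assoc]
    -- the conjugate sum kills `Z - 1`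
    have h1 : (∑ i ∈ Finset.range q, (Z * T) ^ i) = W * S := by
      have := hsum 1
      simp only [pow_one] at this
      rw [this]
      have : S * Wi = S := by
        calc S * Wi = S * W * Wi := by rw [hSW]
          _ = S := by rw [mul_assoc, hWWi, mul_one]
      rw [mul_assoc, this]
    have hkill : S * (Z - 1) = 0 := by
      have e1 : (∑ i ∈ Finset.range q, (Z * T) ^ i) * (Z * T - 1) = 0 := by
        rw [geom_sum_mul, hZT.mul_pow, hZq, hTq, one_mul, sub_self]
      rw [h1, mul_assoc] at e1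
      have e2 : S * (Z * T - 1) = 0 := by
        have := congrArg (fun x => Wi * x) e1
        rwa [← mul_assoc, hWiW, one_mul, mul_zero] at this
      have e3 : S * (Z - 1) * T = 0 := by
        linear_combination (norm := noncomm_ring) e2 - hST
      have := congrArg (fun x => x * M.ρ (a * M.r g)⁻¹) e3
      rwa [mul_assoc, ← map_mul, mul_inv_cancel, map_one, mul_one, zero_mul] at this
    have hq0 := prime_kill hq hZT hZq (fun j => by
      rw [hsum, mul_assoc]
      have hc' : Commute (Wi ^ j) (Z - 1) := by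
        refine (Commute.pow_left ?_ j).sub_right (Commute.one_right _)
        show M.ρ _ * M.ρ c = M.ρ c * M.ρ _
        rw [← map_mul, ← map_mul, P.cen c hcA _ (B.inv_mem hwB)]
      rw [hc'.eq, mul_assoc, ← mul_assoc S, hkill, zero_mul, mul_zero])
    refine eq_one_of_fix M fun v => ?_
    have h2 : q • (M.ρ c v - v) = 0 := by
      have := DFunLike.congr_fun hq0 v
      rwa [AddMonoid.End.coe_mul, Function.comp_apply, AddMonoid.End.natCast_apply] at this
    have h3 := M.pV (M.ρ c v - v)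
    have h4 : addOrderOf (M.ρ c v - v) = 1 := Nat.eq_one_of_dvd_coprimes ((Nat.coprime_primes hq M.hp).mpr hqp)
      (addOrderOf_dvd_of_nsmul_eq_zero h2) (addOrderOf_dvd_of_nsmul_eq_zero h3)
    exact sub_eq_zero.mp (AddMonoid.addOrderOf_eq_one_iff.mp h4)
  -- pass to the pairing
  let _ : AddCommGroup (Additive A) := { (inferInstance : AddGroup (Additive A)) with add_comm := fun x y => Additive.toMul.injective (Subtype.ext (hAc _ (Additive.toMul x).2 _ (Additive.toMul y).2)) }
  have ext' : ∀ {x y : Additive A}, ((Additive.toMul x : A) : K) = ((Additive.toMul y : A) : K) → x = y :=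
    fun h => Additive.toMul.injective (Subtype.ext h)
  have addl : ∀ x ∈ B, ∀ y ∈ B, ∀ k ∈ B, cc A (x * y) k = cc A x k + cc A y k := fun x hx y hy k hk => ext' (by
    rw [cc_val P (B.mul_mem hx hy) hk, toMul_add, Subgroup.coe_mul, cc_val P hx hk, cc_val P hy hk, P.comm_mul_left hx hy hk])
  have addr : ∀ x ∈ B, ∀ y ∈ B, ∀ k ∈ B, cc A k (x * y) = cc A k x + cc A k y := fun x hx y hy k hk => ext' (by
    rw [cc_val P hk (B.mul_mem hx hy), toMul_add, Subgroup.coe_mul, cc_val P hk hx, cc_val P hk hy, P.comm_mul_right hx hy hk])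
  have anti : ∀ x ∈ B, ∀ y ∈ B, cc A x y = -cc A y x := fun x hx y hy => ext' (by
    rw [cc_val P hx hy, toMul_neg, Subgroup.coe_inv, cc_val P hy hx, commutatorElement_inv])
  have self : ∀ x ∈ B, cc A x x = 0 := fun x hx => ext' (by rw [cc_val P hx hx, commutatorElement_self]; rfl)
  have invl : ∀ x ∈ B, ∀ k ∈ B, cc A x⁻¹ k = -cc A x k := fun x hx k hk => by
    have h1 := addl x hx x⁻¹ (B.inv_mem hx) k hk
    have h0 : cc A (1 : K) k = 0 := ext' (by rw [cc_val P B.one_mem hk, commutatorElement_one_left]; rfl)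
    rw [mul_inv_cancel, h0] at h1
    exact eq_neg_of_add_eq_zero_right h1.symm
  have invr : ∀ x ∈ B, ∀ k ∈ B, cc A k x⁻¹ = -cc A k x := fun x hx k hk => by
    rw [anti k hk x⁻¹ (B.inv_mem hx), invl x hx k hk, anti x hx k hk, neg_neg]
  have rinv : ∀ x ∈ B, ∀ y ∈ B, cc A (M.r x) (M.r y) = cc A x y := fun x hx y hy => ext' (by
    rw [cc_val P (hBr x hx) (hBr y hy), cc_val P hx hy, ← map_commutatorElement, hAr _ (P.com x hx y hy)])
  have three : ∀ {x : Additive A}, x + x + x = 0 → x = 0 := by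
    intro x hx
    refine ext' ?_
    refine eq_one_of_pow_six M.toAct (n := 3) (by norm_num) ?_
    have := congrArg (fun z : Additive A => ((Additive.toMul z : A) : K)) hx
    simp only [toMul_add, Subgroup.coe_mul, toMul_zero, Subgroup.coe_one] at this
    rw [pow_succ, pow_two]; exact this
  have h0 : ∀ x ∈ B, cc A x (M.r x) = 0 := by
    intro x hx
    have h1 := hr2 hx
    have h2 := hBr x hx
    have e := hvv x hx
    have hz : cc A ((M.r (M.r x))⁻¹ * x) ((M.r (M.r x))⁻¹ * M.r x) = 0 := ext' (by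
      rw [cc_val P (B.mul_mem (B.inv_mem h1) hx) (B.mul_mem (B.inv_mem h1) h2), e]; rfl)
    rw [addl _ (B.inv_mem h1) _ hx _ (B.mul_mem (B.inv_mem h1) h2), addr _ (B.inv_mem h1) _ h2 _ (B.inv_mem h1),
      addr _ (B.inv_mem h1) _ h2 _ hx, invl _ h1 _ (B.inv_mem h1), invl _ h1 _ h2, invr _ h1 _ h1,
      invr _ h1 _ hx, self _ h1] at hz
    have r1 := rinv _ h1 _ h2
    rw [M.r3] at r1
    have r2 := rinv x hx (M.r x) h2
    have r3 := rinv _ h2 _ h1
    rw [M.r3] at r3
    refine three ?_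
    have a1 := anti x hx _ h1
    have a2 := anti _ h1 _ h2
    rw [a2, a1] at hz
    rw [r3, r2] at hz
    simp only [neg_neg, neg_zero] at hz
    rw [← hz]; abel
  have pol : ∀ x ∈ B, ∀ y ∈ B, cc A x (M.r y) = cc A x y := by
    intro x hx y hy
    have hz := hr2 hy
    have e := h0 (x * M.r (M.r y)) (B.mul_mem hx hz)
    rw [map_mul, M.r3, addl _ hx _ hz _ (B.mul_mem (hBr x hx) hy), addr _ (hBr x hx) _ hy _ hx,
      addr _ (hBr x hx) _ hy _ hz, h0 x hx] at e
    have e2 := h0 _ hz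
    rw [M.r3] at e2
    rw [e2, zero_add, add_zero] at e
    have r := rinv _ (hBr y hy) _ hx
    rw [r, anti _ (hBr y hy) x hx] at e
    exact (add_neg_eq_zero.mp e).symm
  have norm3 : ∀ x ∈ B, ∀ y ∈ B, cc A x (y * M.r y * M.r (M.r y)) = cc A x y + cc A x y + cc A x y := by
    intro x hx y hy
    rw [addr _ (B.mul_mem hy (hBr y hy)) _ (hr2 hy) _ hx, addr _ hy _ (hBr y hy) _ hx, pol x hx _ (hBr y hy),
      pol x hx y hy]
  have hA0 : ∀ x ∈ B, ∀ e ∈ A, cc A x e = 0 := fun x hx e he => ext' (by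
    rw [cc_val P hx (P.le he), commutatorElement_eq_one_iff_mul_comm.mpr (P.cen e he x hx).symm]; rfl)
  have hrep : ∀ y ∈ B, ∃ f ∈ B, M.r f = f ∧ ∀ x ∈ B, cc A x f = cc A x y + cc A x y + cc A x y := by
    intro y hy
    set F := y * M.r y * M.r (M.r y)
    have hF : F ∈ B := B.mul_mem (B.mul_mem hy (hBr y hy)) (hr2 hy)
    have hg : F⁻¹ * M.r F ∈ A := by
      have : F⁻¹ * M.r F = ⁅F⁻¹, y⁻¹⁆ := by
        simp only [F, map_mul, M.r3, commutatorElement_def]; group
      rw [this]; exact P.com _ (B.inv_mem hF) _ (B.inv_mem hy)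
    obtain ⟨e, he, hfix⟩ := exists_r_fixed M.toAct A (fun x hx => by rw [hAr x hx]; exact hx) F hg
    exact ⟨F * e, B.mul_mem hF (P.le he), hfix, fun x hx => by
      rw [addr _ hF _ (P.le he) _ hx, hA0 x hx e he, add_zero, norm3 x hx y hy]⟩
  have hzero : cc A g h = 0 := by
    obtain ⟨f, hf, hrf, hff⟩ := hrep h hh
    obtain ⟨f', hf', hrf', hff'⟩ := hrep g hg
    refine three (three ?_)
    have e1 := hff g hg
    have e2 := hff' f hf
    rw [anti f hf g hg] at e2
    have e3 : cc A f f' = 0 := ext' (by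
      rw [cc_val P hf hf', commutatorElement_eq_one_iff_mul_comm.mpr (fixed_comm M.toAct f f' hrf hrf')]; rfl)
    rw [e3, e1] at e2
    rw [← neg_eq_zero, neg_add, neg_add]
    exact e2.symm
  have := cc_val P hg hh
  rw [hzero] at this
  exact commutatorElement_eq_one_iff_mul_comm.mp this.symm

end Cfsg.Agent.FpfSym
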