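import Cfsg.Agent.Lib.Recog.FpfSymAbelian
import Cfsg.Agent.Lib.Recog.FpfFour

/-!
An irreducibly and faithfully acting configuration is abelian.
-/

set_option autoImplicit false

namespace Cfsg.Agent.FpfSym

universe u v

open scoped commutatorElement

variable {K : Type u} [Group K] [Finite K]

/-- Normal and invariant under both generators. -/
structure Inv (A : Act K) (N : Subgroup K) : Prop where
  normal : N.Normal
  r : ∀ x ∈ N, A.r x ∈ N
  t : ∀ x ∈ N, A.t x ∈ N

theorem exists_above [Group.IsSolvable K] (A : Act K) (N C : Subgroup K) (hN : Inv A N) (hC : Inv A C) (hlt : N < C) :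
    ∃ B, Inv A B ∧ N < B ∧ B ≤ C ∧ (∀ g ∈ B, ∀ h ∈ B, ⁅g, h⁆ ∈ N) ∧
      ∀ B', Inv A B' → N < B' → B' ≤ B → B' = B := by
  obtain ⟨B, ⟨hB, hNB, hBC⟩, hmin⟩ :=
    wellFounded_lt.has_min {B | Inv A B ∧ N < B ∧ B ≤ C} ⟨C, hC, hlt, le_rfl⟩
  have hmin' : ∀ B', Inv A B' → N < B' → B' ≤ B → B' = B := fun B' h1 h2 h3 => by
    by_contra h
    exact hmin B' ⟨h1, h2, h3.trans hBC⟩ (lt_of_le_of_ne h3 h)
  refine ⟨B, hB, hNB, hBC, ?_, hmin'⟩
  haveI := hN.normal
  haveI := hB.normal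
  suffices h : ⁅B, B⁆ ≤ N from fun g hg g' hg' => h (Subgroup.commutator_mem_commutator hg hg')
  by_contra hc
  have hi : ∀ σ : MulAut K, (∀ x ∈ B, σ x ∈ B) → (∀ x ∈ N, σ x ∈ N) → ∀ x ∈ ⁅B, B⁆ ⊔ N, σ x ∈ ⁅B, B⁆ ⊔ N := by
    intro σ h1 h2 x hx
    have : (⁅B, B⁆ ⊔ N).map σ.toMonoidHom = ⁅B, B⁆ ⊔ N := by
      rw [Subgroup.map_sup, Subgroup.map_commutator, map_eq_of_mem h1, map_eq_of_mem h2]
    exact this ▸ Subgroup.mem_map_of_mem σ.toMonoidHom hx
  have hlt' : N < ⁅B, B⁆ ⊔ N := lt_of_le_of_ne le_sup_right fun h => hc (h ▸ le_sup_left)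
  have heq := hmin' _ ⟨inferInstance, hi _ hB.r hN.r, hi _ hB.t hN.t⟩ hlt'
    (sup_le (Subgroup.commutator_le_right B B) hNB.le)
  have hq : ⁅B.map (QuotientGroup.mk' N), B.map (QuotientGroup.mk' N)⁆ = B.map (QuotientGroup.mk' N) := by
    conv_rhs => rw [← heq]
    rw [Subgroup.map_sup, Subgroup.map_commutator, (Subgroup.map_eq_bot_iff N).mpr (by simp), sup_bot_eq]
  have hne : B.map (QuotientGroup.mk' N) ≠ ⊥ := fun h => by
    rw [Subgroup.map_eq_bot_iff, QuotientGroup.ker_mk'] at h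
    exact hNB.not_ge h
  exact (Group.IsSolvable.commutator_lt_of_ne_bot hne).ne hq

/-- The elements whose `q`-th power falls into `N`, when `B` is abelian over `N`. -/
theorem exists_exponent (A : Act K) (N B : Subgroup K) (hN : Inv A N) (hB : Inv A B) (hNB : N < B)
    (hcom : ∀ g ∈ B, ∀ h ∈ B, ⁅g, h⁆ ∈ N) (hmin : ∀ B', Inv A B' → N < B' → B' ≤ B → B' = B) :
    ∃ q : ℕ, q.Prime ∧ Odd q ∧ (∀ g ∈ B, g ^ q ∈ N) ∧ ∃ g ∈ B, q ∣ orderOf g := by
  haveI := hN.normal
  haveI := hB.normal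
  let π := QuotientGroup.mk' N
  have hπ : ∀ g, π g = 1 ↔ g ∈ N := fun g => QuotientGroup.eq_one_iff g
  obtain ⟨x, hxB, hxN⟩ := SetLike.exists_of_lt hNB
  obtain ⟨q, hq, hqd⟩ := Nat.exists_prime_and_dvd (n := orderOf (π x))
    (fun h => hxN ((hπ x).mp (orderOf_eq_one_iff.mp h)))
  set y := x ^ (orderOf (π x) / q)
  have hy : orderOf (π y) = q := by
    rw [map_pow]; exact orderOf_pow_orderOf_div (orderOf_pos _).ne' hqd
  have hyq : q ∣ orderOf y := hy ▸ orderOf_map_dvd π y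
  have hcomm : ∀ g ∈ B, ∀ h ∈ B, Commute (π g) (π h) := fun g hg h hh => by
    have := (hπ _).mpr (hcom g hg h hh)
    rwa [map_commutatorElement, commutatorElement_eq_one_iff_mul_comm] at this
  let E : Subgroup K :=
    { carrier := {g | g ∈ B ∧ g ^ q ∈ N}
      one_mem' := ⟨B.one_mem, by rw [one_pow]; exact N.one_mem⟩
      mul_mem' := fun {a b} ha hb => ⟨B.mul_mem ha.1 hb.1, by
        rw [← hπ, map_pow, map_mul, (hcomm a ha.1 b hb.1).mul_pow, ← map_pow, ← map_pow,
          (hπ _).mpr ha.2, (hπ _).mpr hb.2, one_mul]⟩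
      inv_mem' := fun {a} ha => ⟨B.inv_mem ha.1, by rw [inv_pow]; exact N.inv_mem ha.2⟩ }
  have hE : Inv A E := by
    refine ⟨⟨fun g hg k => ⟨hB.normal.conj_mem g hg.1 k, ?_⟩⟩, fun g hg => ⟨hB.r g hg.1, ?_⟩,
      fun g hg => ⟨hB.t g hg.1, ?_⟩⟩
    · rw [conj_pow]; exact hN.normal.conj_mem _ hg.2 k
    · rw [← map_pow]; exact hN.r _ hg.2
    · rw [← map_pow]; exact hN.t _ hg.2
  have hNE : N < E := by
    refine lt_of_le_of_ne (fun g hg => ⟨hNB.le hg, N.pow_mem hg q⟩) fun h => ?_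
    have hyE : y ∈ E := ⟨B.pow_mem hxB _, (hπ _).mp (by rw [map_pow, ← hy, pow_orderOf_eq_one])⟩
    rw [← h, ← hπ, ← orderOf_eq_one_iff, hy] at hyE
    exact hq.one_lt.ne' hyE
  have hEB := hmin E hE hNE (fun g hg => hg.1)
  refine ⟨q, hq, ?_, fun g hg => (hEB.symm ▸ hg : g ∈ E).2, y, B.pow_mem hxB _, hyq⟩
  refine hq.odd_of_ne_two fun h2 => (not_dvd_card A).1 ?_
  exact h2 ▸ hyq.trans (orderOf_dvd_natCard y)

variable {V : Type v} [AddCommGroup V] [Finite V] [Nontrivial V]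

theorem comm_of_irreducible [Group.IsSolvable K] (M : Mod K V) (hirr : Irred M) : ∀ a b : K, a * b = b * a := by
  classical
  obtain ⟨A, ⟨hA, hAc⟩, hAmax⟩ :=
    wellFounded_gt.has_min {N : Subgroup K | Inv M.toAct N ∧ ∀ x ∈ N, ∀ y ∈ N, x * y = y * x}
      ⟨⊥, ⟨inferInstance, by simp, by simp⟩, by simp⟩
  haveI := hA.normal
  have hAp := not_dvd_of_nilpotent M hirr A hA.normal hA.r hA.t
    (FpfFour.nilpotent_of_comm fun x y => Subtype.ext (hAc x x.2 y y.2))
  let C := Subgroup.centralizer (A : Set K)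
  have hC : Inv M.toAct C := by
    have hσ : ∀ σ : MulAut K, (∀ x ∈ A, σ x ∈ A) → ∀ c ∈ C, σ c ∈ C := by
      intro σ hσ c hc
      rw [Subgroup.mem_centralizer_iff] at hc ⊢
      intro z hz
      obtain ⟨z', hz', rfl⟩ : z ∈ A.map σ.toMonoidHom := by rw [map_eq_of_mem hσ]; exact hz
      show σ z' * σ c = σ c * σ z'
      rw [← map_mul, ← map_mul, hc z' hz']
    exact ⟨inferInstance, hσ _ hA.r, hσ _ hA.t⟩
  have hAC : A ≤ C := fun z hz => Subgroup.mem_centralizer_iff.mpr fun y hy => hAc y hy z hz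
  have free : A ≠ ⊥ → (∀ a ∈ A, M.r a = a → a = 1) → Free M A := fun h1 h2 =>
    ⟨hirr, hA.normal, hAc, hA.r, hA.t, h2, h1, hAp⟩
  have hCA : C = A := by
    by_contra hne
    obtain ⟨B, hB, hAB, hBC, hcom, hmin⟩ :=
      exists_above M.toAct A C hA hC (lt_of_le_of_ne hAC (Ne.symm hne))
    haveI := hB.normal
    have P : Pair A B := ⟨hAB.le, fun a ha b hb => Subgroup.mem_centralizer_iff.mp (hBC hb) a ha, hcom⟩
    suffices hab : ∀ g ∈ B, ∀ h ∈ B, g * h = h * g from hAmax B ⟨hB, hab⟩ hAB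
    intro g hg h hh
    by_cases hAb : A = ⊥
    · exact commutatorElement_eq_one_iff_mul_comm.mp (by simpa [hAb] using hcom g hg h hh)
    rcases dichotomy M hirr A hA.r hA.t hAc hAp with hfix | hfree
    · obtain ⟨q, hq, hodd, hexp, y, hy, hqy⟩ := exists_exponent M.toAct A B hA hB hAB hcom hmin
      have hBn : Group.IsNilpotent B := by
        haveI : Group.IsNilpotent ((QuotientGroup.mk' A).comp B.subtype).range := by
          apply FpfFour.nilpotent_of_comm
          rintro ⟨_, a, rfl⟩ ⟨_, b, rfl⟩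
          apply Subtype.ext
          show QuotientGroup.mk' A a * QuotientGroup.mk' A b = QuotientGroup.mk' A b * QuotientGroup.mk' A a
          rw [← commutatorElement_eq_one_iff_mul_comm, ← map_commutatorElement]
          exact (QuotientGroup.eq_one_iff _).mpr (hcom a a.2 b b.2)
        refine Subgroup.isNilpotent_of_ker_le_center ((QuotientGroup.mk' A).comp B.subtype).rangeRestrict ?_
        intro z hz
        rw [MonoidHom.ker_rangeRestrict, MonoidHom.mem_ker, MonoidHom.comp_apply, QuotientGroup.mk'_apply,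
          QuotientGroup.eq_one_iff] at hz
        rw [Subgroup.mem_center_iff]
        exact fun g => Subtype.ext (P.cen z hz g g.2).symm
      have hqp : q ≠ M.p := fun h' =>
        not_dvd_of_nilpotent M hirr B hB.normal hB.r hB.t hBn y hy (h' ▸ hqy)
      exact abelian_of_fixed M hirr A B hAc hA.t hfix hAb P hB.r hq hqp hodd hexp g h hg hh
    · exact (free hAb hfree).class_two B P hB.r hB.t g h hg hh
  have hcent : ∀ g, (∀ a ∈ A, g * a = a * g) → g ∈ A := fun g hg =>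
    hCA ▸ (Subgroup.mem_centralizer_iff.mpr fun a ha => (hg a ha).symm)
  intro a b
  by_cases hAb : A = ⊥
  · have hall : ∀ g : K, g = 1 := fun g => Subgroup.mem_bot.mp (hAb ▸ hcent g fun x hx => by
      rw [hAb, Subgroup.mem_bot] at hx
      rw [hx, one_mul, mul_one])
    rw [hall a, hall b]
  rcases dichotomy M hirr A hA.r hA.t hAc hAp with hfix | hfree
  · have hr : ∀ g : K, M.r g = g := by
      intro g
      have hz : g⁻¹ * M.r g ∈ A := hcent _ fun x hx => by
        have h := hfix _ (hA.normal.conj_mem x hx g)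
        rw [map_mul, map_mul, map_inv, hfix x hx] at h
        calc g⁻¹ * M.r g * x = g⁻¹ * (M.r g * x * (M.r g)⁻¹) * M.r g := by group
          _ = g⁻¹ * (g * x * g⁻¹) * M.r g := by rw [h]
          _ = x * (g⁻¹ * M.r g) := by group
      set z := g⁻¹ * M.r g with hzdef
      have h1 : M.r g = g * z := by rw [hzdef, mul_inv_cancel_left]
      have h3 : g * (z * z * z) = g := by
        conv_rhs => rw [← M.r3 g, h1, map_mul, h1, hfix z hz, map_mul, map_mul, h1, hfix z hz]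
        group
      have : z = 1 := eq_one_of_pow_six M.toAct (n := 3) (by norm_num) (by
        rw [pow_succ, pow_two]; exact mul_eq_left.mp h3)
      rw [h1, this, mul_one]
    exact fixed_comm M.toAct a b (hr a) (hr b)
  · by_cases htop : A = ⊤
    · exact hAc a (htop ▸ Subgroup.mem_top a) b (htop ▸ Subgroup.mem_top b)
    exfalso
    obtain ⟨B, hB, hAB, -, hcom, -⟩ := exists_above M.toAct A ⊤ hA
      ⟨inferInstance, fun _ _ => Subgroup.mem_top _, fun _ _ => Subgroup.mem_top _⟩ (lt_top_iff_ne_top.mpr htop)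
    exact hAB.not_ge ((free hAb hfree).absorb hcent B hB.r hB.t hAB.le hcom)

end Cfsg.Agent.FpfSym
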