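import Cfsg.Agent.Lib.Recog.FpfSymClass2

/-!
An abelian invariant normal subgroup on which the rotation is fixed-point-free.
-/

set_option autoImplicit false

namespace Cfsg.Agent.FpfSym

universe u v

open scoped commutatorElement

variable {K : Type u} [Group K] {V : Type v} [AddCommGroup V] (M : Mod K V)

/-- Elimination keeping the identity and the reflection. -/
theorem Mod.four (X : Subgroup K) (hX : ∀ a ∈ X, ∀ b ∈ X, a * b = b * a) (hXr : ∀ a ∈ X, M.r a ∈ X)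
    (hXt : ∀ a ∈ X, M.t a ∈ X) (x1 x2 x4 x5 : K) (h1 : x1 ∈ X) (h2 : x2 ∈ X) (h4 : x4 ∈ X)
    (h5 : x5 ∈ X) :
    (M.ρ x1 - M.ρ (M.r x1)) * (M.ρ x2 - M.ρ (M.r (M.r x2))) * (M.ρ x4 - M.ρ (M.r (M.t x4)))
        * (M.ρ x5 - M.ρ (M.r (M.r (M.t x5))))
      + (M.ρ (M.t x1) - M.ρ (M.r x1)) * (M.ρ (M.t x2) - M.ρ (M.r (M.r x2))) * (M.ρ (M.t x4) - M.ρ (M.r (M.t x4)))
        * (M.ρ (M.t x5) - M.ρ (M.r (M.r (M.t x5)))) * M.T = 0 := by
  have cm : ∀ a ∈ X, ∀ b ∈ X, Commute (M.ρ a) (M.ρ b) := fun a ha b hb => by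
    show M.ρ a * M.ρ b = M.ρ b * M.ρ a
    rw [← map_mul, hX a ha b hb, map_mul]
  have r0 : ∀ g, (1 : AddMonoid.End V) * M.ρ g + 1 * M.ρ (M.r g) * M.R + 1 * M.ρ (M.r (M.r g)) * (M.R * M.R)
      + 1 * M.ρ (M.t g) * M.T + 1 * M.ρ (M.r (M.t g)) * (M.R * M.T)
      + 1 * M.ρ (M.r (M.r (M.t g))) * (M.R * M.R * M.T) = 0 := fun g => by simp only [one_mul]; exact M.rel g
  have mr := fun {a} => hXr a
  have mt := fun {a} => hXt a
  have s1 := M.step x1 M.r r0 rfl (by simp)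
  have s2 := M.step x2 (M.r * M.r) s1 rfl (by
    simp only [List.mem_cons, List.not_mem_nil, or_false, forall_eq_or_imp, forall_eq, MulAut.mul_apply]
    refine ⟨?_, ?_, ?_, ?_, ?_, ?_⟩ <;>
      exact (Commute.one_right _).mul_right ((cm _ (mr (mr h2)) _ (by repeat (first | assumption | apply mr | apply mt))).sub_right
        (cm _ (mr (mr h2)) _ (mr h1))))
  have s4 := M.step x4 (M.r * M.t) s2 rfl (by
    simp only [List.mem_cons, List.not_mem_nil, or_false, forall_eq_or_imp, forall_eq, MulAut.mul_apply]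
    refine ⟨?_, ?_, ?_, ?_, ?_, ?_⟩ <;>
      exact ((Commute.one_right _).mul_right ((cm _ (mr (mt h4)) _ (by repeat (first | assumption | apply mr | apply mt))).sub_right
        (cm _ (mr (mt h4)) _ (mr h1)))).mul_right ((cm _ (mr (mt h4)) _ (by repeat (first | assumption | apply mr | apply mt))).sub_right
        (cm _ (mr (mt h4)) _ (mr (mr h2)))))
  have s5 := M.step x5 (M.r * (M.r * M.t)) s4 rfl (by
    simp only [List.mem_cons, List.not_mem_nil, or_false, forall_eq_or_imp, forall_eq, MulAut.mul_apply]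
    refine ⟨?_, ?_, ?_, ?_, ?_, ?_⟩ <;>
      exact (((Commute.one_right _).mul_right ((cm _ (mr (mr (mt h5))) _ (by repeat (first | assumption | apply mr | apply mt))).sub_right
        (cm _ (mr (mr (mt h5))) _ (mr h1)))).mul_right ((cm _ (mr (mr (mt h5))) _ (by repeat (first | assumption | apply mr | apply mt))).sub_right
        (cm _ (mr (mr (mt h5))) _ (mr (mr h2))))).mul_right ((cm _ (mr (mr (mt h5))) _ (by repeat (first | assumption | apply mr | apply mt))).sub_right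
        (cm _ (mr (mr (mt h5))) _ (mr (mt h4)))))
  have hfin := s5 1
  simpa only [MulAut.mul_apply, sub_self, mul_zero, zero_mul, add_zero, map_one, mul_one, one_mul] using hfin

variable [Finite K] [Finite V] [Nontrivial V]

/-- The standing data: an invariant abelian normal subgroup with fixed-point-free rotation. -/
structure Free (A : Subgroup K) : Prop where
  irr : Irred M
  normal : A.Normal
  comm : ∀ x ∈ A, ∀ y ∈ A, x * y = y * x
  hr : ∀ x ∈ A, M.r x ∈ A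
  ht : ∀ x ∈ A, M.t x ∈ A
  fpf : ∀ x ∈ A, M.r x = x → x = 1
  ne : A ≠ ⊥
  hp : ∀ x ∈ A, ¬ M.p ∣ orderOf x

/-- The part inverted by the reflection. -/
def invPart (A : Subgroup K) : Set K := {y | y ∈ A ∧ M.t y = y⁻¹}

variable {M} {A : Subgroup K} (F : Free M A)
include F

omit [Finite V] [Nontrivial V] [Finite K] in
theorem Free.norm {x : K} (hx : x ∈ A) : x * M.r x * M.r (M.r x) = 1 :=
  F.fpf _ (A.mul_mem (A.mul_mem hx (F.hr _ hx)) (F.hr _ (F.hr _ hx))) (norm_fixed M A F.comm F.hr hx)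

omit [Finite V] [Nontrivial V] in
theorem Free.exists_pre {a : K} (ha : a ∈ A) : ∃ x ∈ A, a = x⁻¹ * M.r x := by
  let f : A → A := fun x => ⟨(x : K)⁻¹ * M.r x, A.mul_mem (A.inv_mem x.2) (F.hr _ x.2)⟩
  have finj : Function.Injective f := by
    intro x y h
    have h' : (x : K)⁻¹ * M.r x = (y : K)⁻¹ * M.r y := congrArg Subtype.val h
    apply Subtype.ext
    have : M.r ((y : K) * (x : K)⁻¹) = (y : K) * (x : K)⁻¹ := by
      rw [map_mul, map_inv]
      have h2 : M.r x = (x : K) * (y : K)⁻¹ * M.r y := by rw [mul_assoc, ← h']; group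
      rw [h2]; group
    exact (mul_inv_eq_one.mp (F.fpf _ (A.mul_mem y.2 (A.inv_mem x.2)) this)).symm
  obtain ⟨x, hx⟩ := Finite.surjective_of_injective finj ⟨a, ha⟩
  exact ⟨x, x.2, (congrArg Subtype.val hx).symm⟩

omit [Finite V] [Nontrivial V] in
theorem Free.exists_pre' {a : K} (ha : a ∈ A) : ∃ x ∈ A, a = x⁻¹ * M.r (M.r x) := by
  obtain ⟨x, hx, rfl⟩ := F.exists_pre ha
  refine ⟨(M.r x)⁻¹, A.inv_mem (F.hr _ hx), ?_⟩
  rw [inv_inv, map_inv, map_inv, M.r3, F.comm _ (A.inv_mem hx) _ (F.hr _ hx)]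

omit [Finite V] [Nontrivial V] in
theorem Free.fix_eq_zero {v : V} (h : ∀ a ∈ A, M.ρ a v = v) : v = 0 := by
  haveI := F.normal
  have : v ∈ Fix M (A : Set K) := h
  rw [Fix_eq_bot M F.irr A F.hr F.ht F.ne] at this
  exact AddSubgroup.mem_bot.mp this

omit [Finite V] [Nontrivial V] in
theorem Free.inv_mem {y : K} (h : y ∈ invPart M A) : y⁻¹ ∈ invPart M A :=
  ⟨A.inv_mem h.1, by rw [map_inv, h.2]⟩

omit [Finite V] [Nontrivial V] in
theorem Free.gen (S : Subgroup K) (h0 : ∀ y ∈ invPart M A, y ∈ S) (h1 : ∀ y ∈ invPart M A, M.r y ∈ S) : A ≤ S := by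
  have hfix : ∀ a ∈ A, M.t a = a → a ∈ S := by
    intro a ha hta
    refine mem_of_pow M.toAct S (n := 3) (by norm_num) ?_
    set y := M.r a * (M.r (M.r a))⁻¹
    have hy : y ∈ invPart M A := by
      refine ⟨A.mul_mem (F.hr _ ha) (A.inv_mem (F.hr _ (F.hr _ ha))), ?_⟩
      simp only [y, map_mul, map_inv, M.tr, M.r3, hta, mul_inv_rev, inv_inv]
    have hr2 : M.r (M.r a) = (a * M.r a)⁻¹ := eq_inv_of_mul_eq_one_right (F.norm ha)
    have e : a ^ 3 = (y * (M.r y * M.r y))⁻¹ := by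
      have ey : y = M.r a * (a * M.r a) := by simp only [y, hr2, inv_inv]
      have ery : M.r y = (a * M.r a)⁻¹ * a⁻¹ := by simp only [y, map_mul, map_inv, M.r3]; rw [hr2]
      letI : CommGroup A :=
        { (inferInstance : Group A) with mul_comm := fun a b => Subtype.ext (F.comm a a.2 b b.2) }
      have key : ∀ a p : A, a ^ 3 = (p * (a * p) * (((a * p)⁻¹ * (a)⁻¹) * ((a * p)⁻¹ * (a)⁻¹)))⁻¹ := by
        intro a p; simp only [pow_succ, pow_zero, one_mul, mul_inv_rev, inv_inv]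
        apply Additive.ofMul.injective; simp only [ofMul_mul, ofMul_inv]; abel
      rw [ery, ey]
      exact congrArg Subtype.val (key ⟨a, ha⟩ ⟨_, F.hr _ ha⟩)
    rw [e]
    exact S.inv_mem (S.mul_mem (h0 _ hy) (S.mul_mem (h1 _ hy) (h1 _ hy)))
  intro a ha
  refine mem_of_pow M.toAct S (n := 2) (by norm_num) ?_
  have e : a ^ 2 = (a * M.t a) * (a * (M.t a)⁻¹) := by
    rw [pow_two, mul_assoc, ← mul_assoc (M.t a), F.comm _ (F.ht _ ha) a ha, mul_assoc a (M.t a), mul_inv_cancel, mul_one]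
  rw [e]
  refine S.mul_mem (hfix _ (A.mul_mem ha (F.ht _ ha)) ?_) (h0 _ ⟨A.mul_mem ha (A.inv_mem (F.ht _ ha)), ?_⟩)
  · rw [map_mul, M.t2, F.comm _ (F.ht _ ha) a ha]
  · rw [map_mul, map_inv, M.t2, mul_inv_rev, inv_inv]

omit [Finite V] [Nontrivial V] in
theorem Free.cm {a b : K} (ha : a ∈ A) (hb : b ∈ A) : Commute (M.ρ a) (M.ρ b) := by
  show M.ρ a * M.ρ b = M.ρ b * M.ρ a
  rw [← map_mul, ← map_mul, F.comm a ha b hb]

omit [Finite V] [Nontrivial V] in
theorem Free.cd {a b : K} (ha : a ∈ A) (hb : b ∈ A) : Commute (D M a) (D M b) :=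
  ((F.cm ha hb).sub_right (Commute.one_right _)).sub_left (Commute.one_left _)

omit [Finite V] [Nontrivial V] in
theorem Free.zero_of_sq {w : V} (h : ∀ a ∈ A, (D M a * D M a) w = 0) : w = 0 :=
  F.fix_eq_zero fun a ha => fix_of_nilp M (F.hp a ha) (n := 2) (by norm_num) (by rw [pow_two]; exact h a ha)

omit [Finite V] [Nontrivial V] in
theorem Free.half {y : K} (hy : y ∈ invPart M A) : ∃ z ∈ invPart M A, y = z⁻¹ * z⁻¹ := by
  obtain ⟨m, hm⟩ := exists_pow_eq_self_of_coprime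
    (Nat.Coprime.coprime_dvd_right (show 2 ∣ 6 by norm_num) (orderOf_coprime_six M.toAct y)).symm
  refine ⟨(y ^ m)⁻¹, F.inv_mem ⟨A.pow_mem hy.1 m, by rw [map_pow, hy.2, inv_pow]⟩, ?_⟩
  rw [inv_inv, ← pow_add]
  conv_lhs => rw [← hm, ← pow_mul, two_mul]

omit [Finite V] [Nontrivial V] in
theorem Free.rot {z : K} (hz : z ∈ invPart M A) :
    z⁻¹ * M.r (M.t z) = M.r (M.r z) ∧ z⁻¹ * M.r (M.r (M.t z)) = M.r z := by
  have hr2 : M.r (M.r z) = (z * M.r z)⁻¹ := eq_inv_of_mul_eq_one_right (F.norm hz.1)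
  simp only [hz.2, map_inv, hr2, mul_inv_rev, inv_inv, inv_mul_cancel_left]
  exact ⟨F.comm _ (A.inv_mem hz.1) _ (A.inv_mem (F.hr _ hz.1)), trivial⟩

omit [Finite V] [Nontrivial V] in
theorem Free.three {y y1 y2 : K} (hy : y ∈ invPart M A) (hy1 : y1 ∈ invPart M A) (hy2 : y2 ∈ invPart M A) (v : V) :
    (D M y * D M (M.r (M.r y1)) * D M (M.r y2)) v = 0 := by
  obtain ⟨z, hz, rfl⟩ := F.half hy
  refine F.zero_of_sq fun a ha => ?_
  obtain ⟨x1, hx1, e1⟩ := F.exists_pre ha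
  obtain ⟨x2, hx2, e2⟩ := F.exists_pre' ha
  have h5 := M.five A F.comm F.hr F.ht x1 x2 z y1 y2 hx1 hx2 hz.1 hy1.1 hy2.1
  rw [← e1, ← e2, hz.2, (F.rot hy1).1, (F.rot hy2).2] at h5
  show (D M a * D M a * (D M (z⁻¹ * z⁻¹) * D M (M.r (M.r y1)) * D M (M.r y2))) v = 0
  rw [← mul_assoc, ← mul_assoc, h5]
  rfl

omit [Finite V] [Nontrivial V] in
theorem Free.rel_mem {x : K} (hx : x ∈ A) : x⁻¹ * M.t x ∈ invPart M A :=
  ⟨A.mul_mem (A.inv_mem hx) (F.ht _ hx), by rw [map_mul, map_inv, M.t2, mul_inv_rev, inv_inv]⟩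

omit [Finite V] [Nontrivial V] in
theorem Free.U_stable {a : K} (ha : a ∈ A) {u : V} (hu : u ∈ Fix M (invPart M A)) : M.ρ a u ∈ Fix M (invPart M A) := by
  intro s hs
  rw [← ρ_mul, F.comm s hs.1 a ha, ρ_mul, hu s hs]

omit [Finite V] [Nontrivial V] in
/-- The reflection is minus one on the vectors fixed by its inverted part. -/
theorem Free.T_neg {u : V} (hu : u ∈ Fix M (invPart M A)) : M.T u = -u := by
  have hTu : M.T u ∈ Fix M (invPart M A) := by
    intro s hs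
    have e : s = M.t s⁻¹ := by rw [map_inv, hs.2, inv_inv]
    rw [e, ← T_ρ, hu _ (F.inv_mem hs)]
  suffices u + M.T u = 0 from eq_neg_of_add_eq_zero_right this
  have heq : ∀ x ∈ A, ∀ w ∈ Fix M (invPart M A), M.ρ (M.t x) w = M.ρ x w := by
    intro x hx w hw
    rw [show M.t x = x * (x⁻¹ * M.t x) by group, ρ_mul, hw _ (F.rel_mem hx)]
  set w := u + M.T u
  have hw : w ∈ Fix M (invPart M A) := (Fix M (invPart M A)).add_mem hu hTu
  have hmain : ∀ y1 ∈ invPart M A, ∀ y2 ∈ invPart M A, (D M (M.r (M.r y1)) * D M (M.r y2)) w = 0 := by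
    intro y1 hy1 y2 hy2
    refine F.zero_of_sq fun a ha => ?_
    obtain ⟨x1, hx1, e1⟩ := F.exists_pre ha
    obtain ⟨x2, hx2, e2⟩ := F.exists_pre' ha
    have h4 := DFunLike.congr_fun (M.four A F.comm F.hr F.ht x1 x2 y1 y2 hx1 hx2 hy1.1 hy2.1) u
    set a1 := M.r x1
    set a2 := M.r (M.r x2)
    set a4 := M.r (M.t y1)
    set a5 := M.r (M.r (M.t y2))
    have m1 : a1 ∈ A := F.hr _ hx1
    have m2 : a2 ∈ A := F.hr _ (F.hr _ hx2)
    have m4 : a4 ∈ A := F.hr _ (F.ht _ hy1.1)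
    have m5 : a5 ∈ A := F.hr _ (F.hr _ (F.ht _ hy2.1))
    -- on `U` the twisted factors agree with the plain ones
    have hsub : ∀ x ∈ A, ∀ b ∈ A, ∀ z ∈ Fix M (invPart M A),
        (M.ρ (M.t x) - M.ρ b) z = (M.ρ x - M.ρ b) z ∧ (M.ρ x - M.ρ b) z ∈ Fix M (invPart M A) := by
      intro x hx b hb z hz
      refine ⟨?_, (Fix M (invPart M A)).sub_mem (F.U_stable hx hz) (F.U_stable hb hz)⟩
      show M.ρ (M.t x) z - M.ρ b z = M.ρ x z - M.ρ b z
      rw [heq x hx z hz]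
    obtain ⟨q5, k5⟩ := hsub y2 hy2.1 a5 m5 _ hTu
    obtain ⟨q4, k4⟩ := hsub y1 hy1.1 a4 m4 _ k5
    obtain ⟨q2, k2⟩ := hsub x2 hx2 a2 m2 _ k4
    obtain ⟨q1, -⟩ := hsub x1 hx1 a1 m1 _ k2
    change ((M.ρ x1 - M.ρ a1) * (M.ρ x2 - M.ρ a2) * (M.ρ y1 - M.ρ a4) * (M.ρ y2 - M.ρ a5)) u
      + (M.ρ (M.t x1) - M.ρ a1) ((M.ρ (M.t x2) - M.ρ a2) ((M.ρ (M.t y1) - M.ρ a4)
        ((M.ρ (M.t y2) - M.ρ a5) (M.T u)))) = 0 at h4
    rw [q5, q4, q2, q1] at h4
    have h4' : ((M.ρ x1 - M.ρ a1) * (M.ρ x2 - M.ρ a2) * (M.ρ y1 - M.ρ a4) * (M.ρ y2 - M.ρ a5)) w = 0 := by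
      rw [map_add]; exact h4
    have conv : ∀ x b : K, M.ρ x - M.ρ b = -(M.ρ x * D M (x⁻¹ * b)) := by
      intro x y
      simp only [D, mul_sub, mul_one, ← map_mul, mul_inv_cancel_left, neg_sub]
    have r1 : x1⁻¹ * a1 = a := e1.symm
    have r2 : x2⁻¹ * a2 = a := e2.symm
    rw [conv, conv, conv, conv, r1, r2, show y1⁻¹ * a4 = M.r (M.r y1) from (F.rot hy1).1,
      show y2⁻¹ * a5 = M.r y2 from (F.rot hy2).2] at h4'
    set d4 := D M (M.r (M.r y1))
    set d5 := D M (M.r y2)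
    have cd' : ∀ x ∈ A, ∀ b ∈ A, Commute (M.ρ x) (D M b) := fun x hx b hb => (F.cm hx hb).sub_right (Commute.one_right _)
    have c21 : Commute (M.ρ x2) (D M a) := cd' _ hx2 _ ha
    have c41 : Commute (M.ρ y1) (D M a * D M a) := (cd' _ hy1.1 _ ha).mul_right (cd' _ hy1.1 _ ha)
    have c51 : Commute (M.ρ y2) (D M a * D M a * d4) :=
      ((cd' _ hy2.1 _ ha).mul_right (cd' _ hy2.1 _ ha)).mul_right (cd' _ hy2.1 _ (F.hr _ (F.hr _ hy1.1)))
    have e : M.ρ (x1 * x2 * y1 * y2) * (D M a * D M a * d4 * d5) =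
        -(M.ρ x1 * D M a) * -(M.ρ x2 * D M a) * -(M.ρ y1 * d4) * -(M.ρ y2 * d5) := by
      rw [map_mul, map_mul, map_mul]
      calc M.ρ x1 * M.ρ x2 * M.ρ y1 * M.ρ y2 * (D M a * D M a * d4 * d5)
          = M.ρ x1 * M.ρ x2 * M.ρ y1 * (M.ρ y2 * (D M a * D M a * d4)) * d5 := by noncomm_ring
        _ = M.ρ x1 * M.ρ x2 * (M.ρ y1 * (D M a * D M a)) * d4 * (M.ρ y2 * d5) := by rw [c51.eq]; noncomm_ring
        _ = M.ρ x1 * (M.ρ x2 * D M a) * D M a * (M.ρ y1 * d4) * (M.ρ y2 * d5) := by rw [c41.eq]; noncomm_ring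
        _ = _ := by linear_combination (norm := noncomm_ring) congrArg (fun z => M.ρ x1 * z * D M a * (M.ρ y1 * d4) * (M.ρ y2 * d5)) c21.eq
    rw [← e] at h4'
    have := congrArg (M.ρ (x1 * x2 * y1 * y2)⁻¹) h4'
    rw [map_zero, ← Function.comp_apply (f := M.ρ (x1 * x2 * y1 * y2)⁻¹), ← AddMonoid.End.coe_mul, ← mul_assoc,
      ← map_mul, inv_mul_cancel, map_one, one_mul, mul_assoc] at this
    exact this
  refine F.fix_eq_zero fun a ha => F.gen (Kill M {w}) ?_ ?_ ha w rfl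
  · intro y hy z hz; rw [Set.mem_singleton_iff.mp hz]; exact hw y hy
  · intro y hy z hz
    rw [Set.mem_singleton_iff.mp hz]
    have hd : ∀ z ∈ Fix M (invPart M A), M.ρ (M.r (M.r y)) z = M.ρ ((M.r y)⁻¹) z := by
      intro z hz
      rw [eq_inv_of_mul_eq_one_right (F.norm hy.1), mul_inv_rev, ρ_mul, hz _ (F.inv_mem hy)]
    have h := hmain y hy y hy
    have hk : D M (M.r y) w ∈ Fix M (invPart M A) := (Fix M (invPart M A)).sub_mem (F.U_stable (F.hr _ hy.1) hw) hw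
    change D M (M.r (M.r y)) (D M (M.r y) w) = 0 at h
    rw [D_apply, hd _ hk, sub_eq_zero] at h
    have h' : M.ρ (M.r y) (D M (M.r y) w) = D M (M.r y) w := by
      conv_lhs => rw [← h, ← ρ_mul, mul_inv_cancel, ρ_one]
    refine fix_of_nilp M (F.hp _ (F.hr _ hy.1)) (n := 2) (by norm_num) ?_
    rw [pow_two]
    show D M (M.r y) (D M (M.r y) w) = 0
    rw [D_apply M (M.r y) (D M (M.r y) w), h', sub_self]

omit [Finite V] [Nontrivial V] in
/-- On `U` the centralizer of `A` commutes with the reflection. -/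
theorem Free.t_eq {g : K} (hg : ∀ a ∈ A, g * a = a * g) {u : V} (hu : u ∈ Fix M (invPart M A)) :
    M.ρ (M.t g) u = M.ρ g u := by
  have hgu : M.ρ g u ∈ Fix M (invPart M A) := by
    intro s hs
    rw [← ρ_mul, ← hg s hs.1, ρ_mul, hu s hs]
  have h := T_ρ M g u
  rw [F.T_neg hgu, F.T_neg hu, map_neg, neg_inj] at h
  exact h.symm

open Classical in
omit [Nontrivial V] in
/-- An element lying in each join with the inverted parts fixes what the set fixes. -/
theorem Free.split {S : Set K} (hS : S ⊆ A) {w : K}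
    (h0 : ∀ x ∈ Fix M S, x ∈ Fix M (invPart M A) → M.ρ w x = x)
    (h1 : ∀ x ∈ Fix M S, x ∈ Fix M (M.r '' invPart M A) → M.ρ w x = x)
    (h2 : ∀ x ∈ Fix M S, x ∈ Fix M ((fun y => M.r (M.r y)) '' invPart M A) → M.ρ w x = x)
    {v : V} (hv : v ∈ Fix M S) : M.ρ w v = v := by
  haveI : Fintype K := Fintype.ofFinite K
  let s := Finset.univ.filter (fun y => y ∈ invPart M A)
  have hs : ∀ {y}, y ∈ s ↔ y ∈ invPart M A := fun {y} => by simp [s]
  let n : AddMonoid.End V := (s.card : AddMonoid.End V)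
  let f : ℕ → K → K := fun i => (⇑M.r)^[i]
  have fA : ∀ i, ∀ y ∈ invPart M A, f i y ∈ A := by
    intro i y hy
    induction i with
    | zero => exact hy.1
    | succ i ih => show (⇑M.r)^[i + 1] y ∈ A; rw [Function.iterate_succ_apply']; exact F.hr _ ih
  let Sm : ℕ → AddMonoid.End V := fun i => ∑ y ∈ s, M.ρ (f i y)
  have hmul : ∀ a ∈ invPart M A, ∀ b ∈ invPart M A, a * b ∈ invPart M A := fun a ha b hb =>
    ⟨A.mul_mem ha.1 hb.1, by rw [map_mul, ha.2, hb.2, ← mul_inv_rev, F.comm b hb.1 a ha.1]⟩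
  -- sums are fixed by their part
  have hfixS : ∀ i, ∀ y ∈ invPart M A, M.ρ (f i y) * Sm i = Sm i := by
    intro i y hy
    rw [Finset.mul_sum]
    refine Finset.sum_nbij' (fun x => y * x) (fun x => y⁻¹ * x)
      (fun x hx => hs.mpr (hmul _ hy _ (hs.mp hx))) (fun x hx => hs.mpr (hmul _ (F.inv_mem hy) _ (hs.mp hx)))
      (fun x _ => by simp) (fun x _ => by simp) (fun x hx => ?_)
    rw [← map_mul]
    congr 1
    induction i with
    | zero => rfl
    | succ i ih =>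
      show (⇑M.r)^[i + 1] y * (⇑M.r)^[i + 1] x = (⇑M.r)^[i + 1] (y * x)
      rw [Function.iterate_succ_apply', Function.iterate_succ_apply', Function.iterate_succ_apply', ← map_mul]
      exact congrArg M.r ih
  have hdiff : ∀ i, Sm i - n = ∑ y ∈ s, D M (f i y) := by
    intro i
    simp only [Sm, n, D, Finset.sum_sub_distrib, Finset.sum_const, nsmul_one]
  have hprod : ∀ v, ((Sm 0 - n) * (Sm 2 - n) * (Sm 1 - n)) v = 0 := by
    intro v
    rw [hdiff, hdiff, hdiff, Finset.sum_mul, Finset.sum_mul]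
    let ev : AddMonoid.End V →+ V :=
      { toFun := fun g => g v, map_zero' := rfl, map_add' := fun _ _ => rfl }
    show ev (∑ y ∈ s, _) = 0
    rw [map_sum]
    refine Finset.sum_eq_zero fun y hy => ?_
    rw [Finset.mul_sum, map_sum]
    refine Finset.sum_eq_zero fun y2 hy2 => ?_
    rw [Finset.mul_sum, Finset.sum_mul, map_sum]
    refine Finset.sum_eq_zero fun y1 hy1 => ?_
    exact F.three (hs.mp hy) (hs.mp hy1) (hs.mp hy2) v
  have hn : s.card ≠ 0 := Finset.card_ne_zero.mpr ⟨1, hs.mpr ⟨A.one_mem, by simp⟩⟩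
  have hcop : ¬ M.p ∣ s.card := by
    let Ysub : Subgroup K :=
      { carrier := invPart M A
        one_mem' := ⟨A.one_mem, by simp⟩
        mul_mem' := fun {a b} ha hb => hmul a ha b hb
        inv_mem' := fun {a} ha => F.inv_mem ha }
    intro hd
    have hc : s.card = Nat.card Ysub := (Nat.subtype_card s (fun x => hs)).symm
    rw [hc] at hd
    haveI := Fact.mk M.hp
    obtain ⟨y, hy⟩ := exists_prime_orderOf_dvd_card' M.p hd
    exact F.hp _ (show (y : K) ∈ invPart M A from y.2).1 (by rw [Subgroup.orderOf_coe, hy])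
  -- commutation
  have hcA : ∀ i, ∀ a ∈ A, Commute (M.ρ a) (Sm i) := fun i a ha =>
    Commute.sum_right _ _ _ fun y hy => F.cm ha (fA i y (hs.mp hy))
  have hSS : ∀ i j, Commute (Sm i) (Sm j) := fun i j =>
    Commute.sum_left _ _ _ fun y hy => hcA j _ (fA i y (hs.mp hy))
  have hfS : ∀ i, ∀ x ∈ Fix M S, Sm i x ∈ Fix M S := by
    intro i x hx z hz
    have := DFunLike.congr_fun (hcA i z (hS hz)).eq x
    simp only [AddMonoid.End.coe_mul, Function.comp_apply] at this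
    rw [this, hx z hz]
  have key : ∀ i, (∀ x ∈ Fix M S, x ∈ Fix M (f i '' invPart M A) → M.ρ w x = x) →
      ∀ x ∈ Fix M S, M.ρ w (Sm i x) = Sm i x := by
    intro i hwi x hx
    refine hwi _ (hfS i x hx) ?_
    rintro z ⟨y, hy, rfl⟩
    exact DFunLike.congr_fun (hfixS i y hy) x
  have k0 := key 0 (by simpa [f] using h0)
  have k1 := key 1 (by simpa [f] using h1)
  have k2 := key 2 (by simpa [f] using h2)
  have hnS : ∀ x ∈ Fix M S, n x ∈ Fix M S := by
    intro x hx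
    show (s.card : AddMonoid.End V) x ∈ _
    rw [AddMonoid.End.natCast_apply]
    exact (Fix M S).nsmul_mem hx _
  have hexp : n * n * n = Sm 0 * ((Sm 2 - n) * (Sm 1 - n)) - n * (Sm 2 * (Sm 1 - n)) + n * n * Sm 1
      - (Sm 0 - n) * (Sm 2 - n) * (Sm 1 - n) := by noncomm_ring
  have hn3 : M.ρ w ((n * n * n) v) = (n * n * n) v := by
    have hp0 : ((Sm 0 - n) * (Sm 2 - n) * (Sm 1 - n)) v = 0 := hprod v
    rw [hexp]
    change M.ρ w (Sm 0 (((Sm 2 - n) * (Sm 1 - n)) v) - n ((Sm 2 * (Sm 1 - n)) v) + (n * n) (Sm 1 v)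
      - ((Sm 0 - n) * (Sm 2 - n) * (Sm 1 - n)) v) = Sm 0 (((Sm 2 - n) * (Sm 1 - n)) v) - n ((Sm 2 * (Sm 1 - n)) v)
      + (n * n) (Sm 1 v) - ((Sm 0 - n) * (Sm 2 - n) * (Sm 1 - n)) v
    rw [hp0, sub_zero, map_add, map_sub]
    have hf1 : (Sm 1 - n) v ∈ Fix M S := (Fix M S).sub_mem (hfS 1 v hv) (hnS v hv)
    have e0 : M.ρ w (Sm 0 (((Sm 2 - n) * (Sm 1 - n)) v)) = Sm 0 (((Sm 2 - n) * (Sm 1 - n)) v) :=
      k0 _ ((Fix M S).sub_mem (hfS 2 _ hf1) (hnS _ hf1))
    have e2 : M.ρ w (n ((Sm 2 * (Sm 1 - n)) v)) = n ((Sm 2 * (Sm 1 - n)) v) := by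
      show M.ρ w ((s.card : AddMonoid.End V) _) = (s.card : AddMonoid.End V) _
      rw [AddMonoid.End.natCast_apply, map_nsmul]
      congr 1
      exact k2 _ hf1
    have e1 : M.ρ w ((n * n) (Sm 1 v)) = (n * n) (Sm 1 v) := by
      show M.ρ w ((s.card : AddMonoid.End V) ((s.card : AddMonoid.End V) _)) = (s.card : AddMonoid.End V) ((s.card : AddMonoid.End V) _)
      rw [AddMonoid.End.natCast_apply, AddMonoid.End.natCast_apply, map_nsmul, map_nsmul, k1 v hv]
    rw [e0, e2, e1]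
  -- divide
  have h3 : (s.card * s.card * s.card) • (M.ρ w v - v) = 0 := by
    have : (n * n * n) v = (s.card * s.card * s.card) • v := by
      show ((s.card : AddMonoid.End V) * (s.card : AddMonoid.End V) * (s.card : AddMonoid.End V)) v = _
      rw [← Nat.cast_mul, ← Nat.cast_mul, AddMonoid.End.natCast_apply]
    rw [this, map_nsmul] at hn3
    rw [nsmul_sub, hn3, sub_self]
  have h4 : addOrderOf (M.ρ w v - v) = 1 := by
    refine Nat.eq_one_of_dvd_coprimes ?_ (addOrderOf_dvd_of_nsmul_eq_zero h3) (addOrderOf_dvd_of_nsmul_eq_zero (M.pV _))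
    have := (M.hp.coprime_iff_not_dvd.mpr hcop).symm
    exact (this.mul_left this).mul_left this
  exact sub_eq_zero.mp (AddMonoid.addOrderOf_eq_one_iff.mp h4)

omit [Nontrivial V] in
/-- The closure form of splitting. -/
theorem Free.split_mem {S : Set K} (hS : S ⊆ A) {w : K}
    (h0 : w ∈ Subgroup.closure (S ∪ invPart M A))
    (h1 : w ∈ Subgroup.closure (S ∪ M.r '' invPart M A))
    (h2 : w ∈ Subgroup.closure (S ∪ (fun y => M.r (M.r y)) '' invPart M A))
    {v : V} (hv : v ∈ Fix M S) : M.ρ w v = v := by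
  have key : ∀ P : Set K, w ∈ Subgroup.closure (S ∪ P) → ∀ x ∈ Fix M S, x ∈ Fix M P → M.ρ w x = x := by
    intro P hw x hx hxP
    have hle : Subgroup.closure (S ∪ P) ≤ Kill M {x} := by
      rw [Subgroup.closure_le]
      rintro z (hz | hz) u hu <;> rw [Set.mem_singleton_iff.mp hu]
      exacts [hx z hz, hxP z hz]
    exact hle hw x rfl
  exact F.split hS (key _ h0) (key _ h1) (key _ h2) hv

omit [Nontrivial V] in
/-- An element fixing the vectors fixed by each rotate of the inverted part is trivial. -/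
theorem Free.eq_one {w : K} (h0 : ∀ x ∈ Fix M (invPart M A), M.ρ w x = x)
    (h1 : ∀ x ∈ Fix M (M.r '' invPart M A), M.ρ w x = x)
    (h2 : ∀ x ∈ Fix M ((fun y => M.r (M.r y)) '' invPart M A), M.ρ w x = x) : w = 1 :=
  eq_one_of_fix M fun v => F.split (S := ∅) (Set.empty_subset _) (fun x _ hx => h0 x hx) (fun x _ hx => h1 x hx)
    (fun x _ hx => h2 x hx) (v := v) (fun s hs => hs.elim)

end Cfsg.Agent.FpfSym
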