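import Cfsg.Agent.Lib.Recog.FpfSymBase

/-!
Modules for groups with a fixed-point-free `Sym 3`.
-/

set_option autoImplicit false

namespace Cfsg.Agent.FpfSym

universe u v

/-- A faithful module over a group with a fixed-point-free action of `Sym 3`, compatibly acted on. -/
structure Mod (K : Type u) [Group K] (V : Type v) [AddCommGroup V] extends Act K where
  p : ℕ
  hp : p.Prime
  hp5 : 5 ≤ p
  pV : ∀ v : V, p • v = 0
  ρ : K →* AddMonoid.End V
  inj : Function.Injective ρ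
  R : AddMonoid.End V
  T : AddMonoid.End V
  R3 : R * R * R = 1
  T2 : T * T = 1
  TR : T * R = R * R * T
  Rρ : ∀ g, R * ρ g = ρ (r g) * R
  Tρ : ∀ g, T * ρ g = ρ (t g) * T
  vfpf : ∀ v, R v = v → T v = v → v = 0

variable {K : Type u} [Group K] {V : Type v} [AddCommGroup V] (M : Mod K V)

theorem Mod.sum_all : 1 + M.R + M.R * M.R + M.T + M.R * M.T + M.R * M.R * M.T = 0 := by
  refine DFunLike.ext _ _ fun v => ?_
  set S := 1 + M.R + M.R * M.R + M.T + M.R * M.T + M.R * M.R * M.T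
  have h3 : M.R * M.R * M.R = 1 := M.R3
  have hRS : M.R * S = S := by
    simp only [S, mul_add, mul_one, ← mul_assoc, h3, one_mul]
    abel
  have hTR2 : M.T * (M.R * M.R) = M.R * M.T := by
    rw [← mul_assoc, M.TR, mul_assoc _ M.T M.R, M.TR, ← mul_assoc, ← mul_assoc, h3, one_mul]
  have hTS : M.T * S = S := by
    simp only [S, mul_add, mul_one]
    rw [M.T2, hTR2, ← mul_assoc M.T M.R, M.TR, mul_assoc _ M.T M.T, M.T2, mul_one, ← mul_assoc M.T (M.R * M.R), hTR2,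
      mul_assoc _ M.T M.T, M.T2, mul_one]
    abel
  exact M.vfpf _ (DFunLike.congr_fun hRS v) (DFunLike.congr_fun hTS v)

/-- The six translated relations. -/
theorem Mod.rel (g : K) : M.ρ g + M.ρ (M.r g) * M.R + M.ρ (M.r (M.r g)) * (M.R * M.R) + M.ρ (M.t g) * M.T
    + M.ρ (M.r (M.t g)) * (M.R * M.T) + M.ρ (M.r (M.r (M.t g))) * (M.R * M.R * M.T) = 0 := by
  have h := congrArg (fun z => z * M.ρ g) M.sum_all
  have e1 : M.R * M.ρ g = M.ρ (M.r g) * M.R := M.Rρ g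
  have e2 : ∀ g, M.R * M.R * M.ρ g = M.ρ (M.r (M.r g)) * (M.R * M.R) := fun g => by
    rw [mul_assoc, M.Rρ, ← mul_assoc, M.Rρ, mul_assoc]
  have e4 : M.R * M.T * M.ρ g = M.ρ (M.r (M.t g)) * (M.R * M.T) := by
    rw [mul_assoc, M.Tρ, ← mul_assoc, M.Rρ, mul_assoc]
  have e5 : M.R * M.R * M.T * M.ρ g = M.ρ (M.r (M.r (M.t g))) * (M.R * M.R * M.T) := by
    rw [mul_assoc, M.Tρ, ← mul_assoc, e2, mul_assoc]
  simpa only [add_mul, one_mul, zero_mul, e1, e2, M.Tρ, e4, e5] using h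

/-- One elimination step on a five-term tail. -/
theorem Mod.step {P0 P1 P2 P3 P4 P5 : AddMonoid.End V} {W : AddMonoid.End V} (x : K) (f : MulAut K)
    (h : ∀ g, P0 * M.ρ g + P1 * M.ρ (M.r g) * M.R + P2 * M.ρ (M.r (M.r g)) * (M.R * M.R) + P3 * M.ρ (M.t g) * M.T
      + P4 * M.ρ (M.r (M.t g)) * (M.R * M.T) + P5 * M.ρ (M.r (M.r (M.t g))) * (M.R * M.R * M.T) = W)
    (hW : W = 0) (hc : ∀ P ∈ [P0, P1, P2, P3, P4, P5], Commute (M.ρ (f x)) P) :
    ∀ g, P0 * (M.ρ x - M.ρ (f x)) * M.ρ g + P1 * (M.ρ (M.r x) - M.ρ (f x)) * M.ρ (M.r g) * M.R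
      + P2 * (M.ρ (M.r (M.r x)) - M.ρ (f x)) * M.ρ (M.r (M.r g)) * (M.R * M.R)
      + P3 * (M.ρ (M.t x) - M.ρ (f x)) * M.ρ (M.t g) * M.T
      + P4 * (M.ρ (M.r (M.t x)) - M.ρ (f x)) * M.ρ (M.r (M.t g)) * (M.R * M.T)
      + P5 * (M.ρ (M.r (M.r (M.t x))) - M.ρ (f x)) * M.ρ (M.r (M.r (M.t g))) * (M.R * M.R * M.T) = 0 := by
  intro g
  have h1 := h (x * g)
  have h2 := congrArg (fun z => M.ρ (f x) * z) (h g)
  simp only [List.mem_cons, List.not_mem_nil, or_false, forall_eq_or_imp, forall_eq] at hc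
  obtain ⟨c0, c1, c2, c3, c4, c5⟩ := hc
  simp only [hW, mul_zero, mul_add, ← mul_assoc, c0.eq, c1.eq, c2.eq, c3.eq, c4.eq, c5.eq, map_mul] at h1 h2
  simp only [mul_sub, sub_mul, ← mul_assoc]
  linear_combination (norm := noncomm_ring) h1 - h2

/-- The rotation's relation. -/
def D (x : K) : AddMonoid.End V := M.ρ x - 1

/-- Elimination: for commuting invariant elements the product of five differences kills the module. -/
theorem Mod.five (X : Subgroup K) (hX : ∀ a ∈ X, ∀ b ∈ X, a * b = b * a) (hXr : ∀ a ∈ X, M.r a ∈ X)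
    (hXt : ∀ a ∈ X, M.t a ∈ X) (x1 x2 x3 x4 x5 : K) (h1 : x1 ∈ X) (h2 : x2 ∈ X) (h3 : x3 ∈ X) (h4 : x4 ∈ X)
    (h5 : x5 ∈ X) :
    D M (x1⁻¹ * M.r x1) * D M (x2⁻¹ * M.r (M.r x2)) * D M (x3⁻¹ * M.t x3) * D M (x4⁻¹ * M.r (M.t x4))
      * D M (x5⁻¹ * M.r (M.r (M.t x5))) = 0 := by
  have cm : ∀ a ∈ X, ∀ b ∈ X, Commute (M.ρ a) (M.ρ b) := fun a ha b hb => by
    show M.ρ a * M.ρ b = M.ρ b * M.ρ a
    rw [← map_mul, hX a ha b hb, map_mul]
  have r0 : ∀ g, (1 : AddMonoid.End V) * M.ρ g + 1 * M.ρ (M.r g) * M.R + 1 * M.ρ (M.r (M.r g)) * (M.R * M.R)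
      + 1 * M.ρ (M.t g) * M.T + 1 * M.ρ (M.r (M.t g)) * (M.R * M.T)
      + 1 * M.ρ (M.r (M.r (M.t g))) * (M.R * M.R * M.T) = 0 := fun g => by simp only [one_mul]; exact M.rel g
  have mr := fun {a} => hXr a
  have mt := fun {a} => hXt a
  have s1 := M.step x1 M.r r0 rfl (by simp)
  have s2 := M.step x2 (M.r * M.r) s1 rfl (by
    simp only [List.mem_cons, List.not_mem_nil, or_false, forall_eq_or_imp, forall_eq, MulAut.mul_apply]
    refine ⟨?_, ?_, ?_, ?_, ?_, ?_⟩ <;>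
      exact (Commute.one_right _).mul_right ((cm _ (mr (mr h2)) _ (by repeat (first | assumption | apply mr | apply mt))).sub_right
        (cm _ (mr (mr h2)) _ (mr h1))))
  have s3 := M.step x3 M.t s2 rfl (by
    simp only [List.mem_cons, List.not_mem_nil, or_false, forall_eq_or_imp, forall_eq, MulAut.mul_apply]
    refine ⟨?_, ?_, ?_, ?_, ?_, ?_⟩ <;>
      exact ((Commute.one_right _).mul_right ((cm _ (mt h3) _ (by repeat (first | assumption | apply mr | apply mt))).sub_right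
        (cm _ (mt h3) _ (mr h1)))).mul_right ((cm _ (mt h3) _ (by repeat (first | assumption | apply mr | apply mt))).sub_right
        (cm _ (mt h3) _ (mr (mr h2)))))
  have s4 := M.step x4 (M.r * M.t) s3 rfl (by
    simp only [List.mem_cons, List.not_mem_nil, or_false, forall_eq_or_imp, forall_eq, MulAut.mul_apply]
    refine ⟨?_, ?_, ?_, ?_, ?_, ?_⟩ <;>
      exact (((Commute.one_right _).mul_right ((cm _ (mr (mt h4)) _ (by repeat (first | assumption | apply mr | apply mt))).sub_right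
        (cm _ (mr (mt h4)) _ (mr h1)))).mul_right ((cm _ (mr (mt h4)) _ (by repeat (first | assumption | apply mr | apply mt))).sub_right
        (cm _ (mr (mt h4)) _ (mr (mr h2))))).mul_right ((cm _ (mr (mt h4)) _ (by repeat (first | assumption | apply mr | apply mt))).sub_right
        (cm _ (mr (mt h4)) _ (mt h3))))
  have s5 := M.step x5 (M.r * (M.r * M.t)) s4 rfl (by
    simp only [List.mem_cons, List.not_mem_nil, or_false, forall_eq_or_imp, forall_eq, MulAut.mul_apply]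
    refine ⟨?_, ?_, ?_, ?_, ?_, ?_⟩ <;>
      exact ((((Commute.one_right _).mul_right ((cm _ (mr (mr (mt h5))) _ (by repeat (first | assumption | apply mr | apply mt))).sub_right
        (cm _ (mr (mr (mt h5))) _ (mr h1)))).mul_right ((cm _ (mr (mr (mt h5))) _ (by repeat (first | assumption | apply mr | apply mt))).sub_right
        (cm _ (mr (mr (mt h5))) _ (mr (mr h2))))).mul_right ((cm _ (mr (mr (mt h5))) _ (by repeat (first | assumption | apply mr | apply mt))).sub_right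
        (cm _ (mr (mr (mt h5))) _ (mt h3)))).mul_right ((cm _ (mr (mr (mt h5))) _ (by repeat (first | assumption | apply mr | apply mt))).sub_right
        (cm _ (mr (mr (mt h5))) _ (mr (mt h4)))))
  have hfin := s5 1
  simp only [MulAut.mul_apply, sub_self, mul_zero, zero_mul, add_zero, map_one, mul_one, one_mul] at hfin
  -- pull out units
  have conv : ∀ x y : K, M.ρ x - M.ρ y = -(M.ρ x * D M (x⁻¹ * y)) := by
    intro x y
    simp only [D, mul_sub, mul_one, ← map_mul, mul_inv_cancel_left, neg_sub]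
  rw [conv, conv, conv, conv, conv] at hfin
  have cd : ∀ a ∈ X, ∀ b ∈ X, Commute (M.ρ a) (D M b) := fun a ha b hb => (cm a ha b hb).sub_right (Commute.one_right _)
  have m1 : x1⁻¹ * M.r x1 ∈ X := X.mul_mem (X.inv_mem h1) (mr h1)
  have m2 : x2⁻¹ * M.r (M.r x2) ∈ X := X.mul_mem (X.inv_mem h2) (mr (mr h2))
  have m3 : x3⁻¹ * M.t x3 ∈ X := X.mul_mem (X.inv_mem h3) (mt h3)
  have m4 : x4⁻¹ * M.r (M.t x4) ∈ X := X.mul_mem (X.inv_mem h4) (mr (mt h4))
  set d1 := D M (x1⁻¹ * M.r x1)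
  set d2 := D M (x2⁻¹ * M.r (M.r x2))
  set d3 := D M (x3⁻¹ * M.t x3)
  set d4 := D M (x4⁻¹ * M.r (M.t x4))
  set d5 := D M (x5⁻¹ * M.r (M.r (M.t x5)))
  have e : M.ρ (x1 * x2 * x3 * x4 * x5) * (d1 * d2 * d3 * d4 * d5) = 0 := by
    rw [map_mul, map_mul, map_mul, map_mul]
    have c21 : Commute (M.ρ x2) d1 := cd _ h2 _ m1
    have c31 : Commute (M.ρ x3) (d1 * d2) := (cd _ h3 _ m1).mul_right (cd _ h3 _ m2)
    have c41 : Commute (M.ρ x4) (d1 * d2 * d3) := ((cd _ h4 _ m1).mul_right (cd _ h4 _ m2)).mul_right (cd _ h4 _ m3)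
    have c51 : Commute (M.ρ x5) (d1 * d2 * d3 * d4) :=
      (((cd _ h5 _ m1).mul_right (cd _ h5 _ m2)).mul_right (cd _ h5 _ m3)).mul_right (cd _ h5 _ m4)
    calc M.ρ x1 * M.ρ x2 * M.ρ x3 * M.ρ x4 * M.ρ x5 * (d1 * d2 * d3 * d4 * d5)
        = M.ρ x1 * M.ρ x2 * M.ρ x3 * M.ρ x4 * (M.ρ x5 * (d1 * d2 * d3 * d4)) * d5 := by noncomm_ring
      _ = M.ρ x1 * M.ρ x2 * M.ρ x3 * (M.ρ x4 * (d1 * d2 * d3)) * d4 * (M.ρ x5 * d5) := by rw [c51.eq]; noncomm_ring
      _ = M.ρ x1 * M.ρ x2 * (M.ρ x3 * (d1 * d2)) * d3 * (M.ρ x4 * d4) * (M.ρ x5 * d5) := by rw [c41.eq]; noncomm_ring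
      _ = M.ρ x1 * (M.ρ x2 * d1) * d2 * (M.ρ x3 * d3) * (M.ρ x4 * d4) * (M.ρ x5 * d5) := by rw [c31.eq]; noncomm_ring
      _ = (M.ρ x1 * d1) * (M.ρ x2 * d2) * (M.ρ x3 * d3) * (M.ρ x4 * d4) * (M.ρ x5 * d5) := by rw [c21.eq]; noncomm_ring
      _ = 0 := by linear_combination (norm := noncomm_ring) -hfin
  calc d1 * d2 * d3 * d4 * d5 = M.ρ (x1 * x2 * x3 * x4 * x5)⁻¹ * (M.ρ (x1 * x2 * x3 * x4 * x5) * (d1 * d2 * d3 * d4 * d5)) := by
        rw [← mul_assoc, ← map_mul, inv_mul_cancel, map_one, one_mul]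
    _ = 0 := by rw [e, mul_zero]

end Cfsg.Agent.FpfSym
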