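import Cfsg.Agent.Lib.Recog.FpfSymModule

/-!
Fixed vectors and the dichotomy for abelian invariant normal subgroups.
-/

set_option autoImplicit false

namespace Cfsg.Agent.FpfSym

universe u v

variable {K : Type u} [Group K] [Finite K] {V : Type v} [AddCommGroup V] (M : Mod K V)

theorem D_apply (x : K) (v : V) : D M x v = M.ρ x v - v := rfl

omit [Finite K] in
/-- The vectors fixed by a set of elements. -/
def Fix (S : Set K) : AddSubgroup V where
  carrier := {v | ∀ s ∈ S, M.ρ s v = v}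
  add_mem' := fun {a b} ha hb s hs => by rw [map_add, ha s hs, hb s hs]
  zero_mem' := fun s _ => map_zero (M.ρ s)
  neg_mem' := fun {a} ha s hs => by rw [map_neg, ha s hs]

theorem mem_Fix {S : Set K} {v : V} : v ∈ Fix M S ↔ ∀ s ∈ S, M.ρ s v = v := Iff.rfl

/-- The elements fixing every vector of a set. -/
def Kill (W : Set V) : Subgroup K where
  carrier := {g | ∀ v ∈ W, M.ρ g v = v}
  one_mem' := fun v _ => by rw [map_one]; rfl
  mul_mem' := fun {a b} ha hb v hv => by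
    rw [map_mul, AddMonoid.End.coe_mul, Function.comp_apply, hb v hv, ha v hv]
  inv_mem' := fun {a} ha v hv => by
    conv_lhs => rw [← ha v hv]
    rw [← Function.comp_apply (f := M.ρ a⁻¹), ← AddMonoid.End.coe_mul, ← map_mul, inv_mul_cancel, map_one]
    rfl

theorem mem_Kill {W : Set V} {g : K} : g ∈ Kill M W ↔ ∀ v ∈ W, M.ρ g v = v := Iff.rfl

theorem fix_pow_mem {u : K} {n : ℕ} (hu : (orderOf u).Coprime n) {v : V} (h : M.ρ (u ^ n) v = v) : M.ρ u v = v := by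
  obtain ⟨m, hm⟩ := exists_pow_eq_self_of_coprime hu.symm
  have h1 : u ^ n ∈ Kill M {v} := fun w hw => by rw [Set.mem_singleton_iff.mp hw]; exact h
  have := (Kill M {v}).pow_mem h1 m
  rw [hm] at this
  exact this v rfl

/-- A unipotent element of order prime to the characteristic fixes the vector. -/
theorem fix_of_nilp {u : K} (hu : ¬ M.p ∣ orderOf u) {n : ℕ} (hn : n ≤ 25) {v : V} (h : ((D M u) ^ n) v = 0) :
    M.ρ u v = v := by
  haveI : Fact M.p.Prime := ⟨M.hp⟩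
  by_cases hv : v = 0
  · rw [hv, map_zero]
  haveI : Nontrivial (AddMonoid.End V) := ⟨⟨1, 0, fun h => hv (DFunLike.congr_fun h v)⟩⟩
  have hp0 : ((M.p : ℕ) : AddMonoid.End V) = 0 := by
    ext w; rw [AddMonoid.End.natCast_apply]; exact M.pV w
  haveI : CharP (AddMonoid.End V) M.p := (CharP.charP_iff_prime_eq_zero M.hp).mpr hp0
  have hle : n ≤ M.p ^ 2 := by nlinarith [M.hp5]
  obtain ⟨k, hk⟩ := Nat.exists_eq_add_of_le hle
  have h2 : ((D M u) ^ (M.p ^ 2)) v = 0 := by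
    rw [hk, add_comm, pow_add, AddMonoid.End.coe_mul, Function.comp_apply, h, map_zero]
  rw [D, sub_pow_char_pow_of_commute (p := M.p) (n := 2) (h := Commute.one_right _), one_pow, ← map_pow] at h2
  refine fix_pow_mem M (n := M.p ^ 2) ?_ (sub_eq_zero.mp h2)
  exact ((M.hp.coprime_iff_not_dvd.mpr hu).symm).pow_right 2

theorem eq_one_of_fix {u : K} (h : ∀ v, M.ρ u v = v) : u = 1 :=
  M.inj (by rw [map_one]; exact DFunLike.ext _ _ h)

theorem map_eq_of_mem {σ : MulAut K} {N : Subgroup K} (hN : ∀ x ∈ N, σ x ∈ N) : N.map σ.toMonoidHom = N := by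
  refine Subgroup.eq_of_le_of_card_ge ?_ ?_
  · rintro _ ⟨x, hx, rfl⟩; exact hN x hx
  · exact le_of_eq (Nat.card_congr (N.equivMapOfInjective σ.toMonoidHom σ.injective).toEquiv)

/-- Irreducibility. -/
def Irred : Prop :=
  ∀ W : AddSubgroup V, (∀ g : K, ∀ v ∈ W, M.ρ g v ∈ W) → (∀ v ∈ W, M.R v ∈ W) → (∀ v ∈ W, M.T v ∈ W) →
    W = ⊥ ∨ W = ⊤

theorem R_ρ (g : K) (v : V) : M.R (M.ρ g v) = M.ρ (M.r g) (M.R v) := DFunLike.congr_fun (M.Rρ g) v
theorem T_ρ (g : K) (v : V) : M.T (M.ρ g v) = M.ρ (M.t g) (M.T v) := DFunLike.congr_fun (M.Tρ g) v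
theorem ρ_mul (g h : K) (v : V) : M.ρ (g * h) v = M.ρ g (M.ρ h v) := by rw [map_mul]; rfl
theorem ρ_one (v : V) : M.ρ 1 v = v := by rw [map_one]; rfl

theorem R_Fix {S : Subgroup K} {v : V} (hS : ∀ x ∈ S, M.r x ∈ S) (hv : v ∈ Fix M S) : M.R v ∈ Fix M S := by
  intro s hs
  have hs' : s ∈ S.map M.r.toMonoidHom := by rw [map_eq_of_mem hS]; exact hs
  obtain ⟨s', hs'', rfl⟩ := hs'
  show M.ρ (M.r s') (M.R v) = M.R v
  rw [← R_ρ, hv s' hs'']

theorem T_Fix {S : Subgroup K} {v : V} (hS : ∀ x ∈ S, M.t x ∈ S) (hv : v ∈ Fix M S) : M.T v ∈ Fix M S := by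
  intro s hs
  have hs' : s ∈ S.map M.t.toMonoidHom := by rw [map_eq_of_mem hS]; exact hs
  obtain ⟨s', hs'', rfl⟩ := hs'
  show M.ρ (M.t s') (M.T v) = M.T v
  rw [← T_ρ, hv s' hs'']

/-- An invariant normal subgroup other than 1 has no fixed vectors. -/
theorem Fix_eq_bot (hirr : Irred M) (N : Subgroup K) [hN : N.Normal] (hr : ∀ x ∈ N, M.r x ∈ N)
    (ht : ∀ x ∈ N, M.t x ∈ N) (hNb : N ≠ ⊥) : Fix M (N : Set K) = ⊥ := by
  refine (hirr _ ?_ (fun v hv => R_Fix M hr hv) (fun v hv => T_Fix M ht hv)).resolve_right ?_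
  · intro g v hv s hs
    have := hv (g⁻¹ * s * g) (by simpa using hN.conj_mem s hs g⁻¹)
    rw [← ρ_mul]
    conv_rhs => rw [← this, ← ρ_mul]
    congr 2
    group
  · intro h
    apply hNb
    rw [Subgroup.eq_bot_iff_forall]
    intro x hx
    exact eq_one_of_fix M fun v => (h ▸ AddSubgroup.mem_top v : v ∈ Fix M (N : Set K)) x hx

/-- Nilpotent invariant normal subgroups have order prime to the characteristic. -/
theorem not_dvd_of_nilpotent [Finite V] (hirr : Irred M) [Nontrivial V] (B : Subgroup K) (hBn : B.Normal)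
    (hBr : ∀ x ∈ B, M.r x ∈ B) (hBt : ∀ x ∈ B, M.t x ∈ B) (hnil : Group.IsNilpotent B) :
    ∀ x ∈ B, ¬ M.p ∣ orderOf x := by
  intro x hx hdiv
  haveI : Fact M.p.Prime := ⟨M.hp⟩
  obtain ⟨P⟩ : Nonempty (Sylow M.p B) := inferInstance
  haveI hPn : (P : Subgroup B).Normal :=
    Sylow.normal_of_normalizerCondition normalizerCondition_of_isNilpotent P
  haveI := Sylow.characteristic_of_normal P hPn
  haveI := hBn
  set Q := (P : Subgroup B).map B.subtype
  haveI hQn : Q.Normal := inferInstance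
  have hinv : ∀ σ : MulAut K, (∀ y ∈ B, σ y ∈ B) → ∀ y ∈ Q, σ y ∈ Q := by
    intro σ hσ y hy
    obtain ⟨y, hyP, rfl⟩ := hy
    let σB : MulAut B := MulEquiv.ofBijective ((σ.toMonoidHom.comp B.subtype).codRestrict B fun z => hσ z z.2)
      (Finite.injective_iff_bijective.mp fun a b h => Subtype.ext (σ.injective (congrArg Subtype.val h)))
    have h := Subgroup.characteristic_iff_comap_eq.mp (inferInstance : (P : Subgroup B).Characteristic) σB
    exact ⟨σB y, (by rw [← h] at hyP; exact hyP), rfl⟩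
  have hQb : Q ≠ ⊥ := by
    rw [ne_eq, Subgroup.map_eq_bot_iff_of_injective _ B.subtype_injective]
    refine P.ne_bot_of_dvd_card (hdiv.trans ?_)
    exact Subgroup.orderOf_mk x hx ▸ orderOf_dvd_natCard (⟨x, hx⟩ : B)
  have hbot := Fix_eq_bot M hirr Q (hinv M.r hBr) (hinv M.t hBt) hQb
  letI : MulAction Q V :=
    { smul := fun q v => M.ρ (q : K) v
      one_smul := fun v => ρ_one M v
      mul_smul := fun q r v => ρ_mul M _ _ v }
  have hd : M.p ∣ Nat.card V := by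
    obtain ⟨v, hv⟩ := exists_ne (0 : V)
    exact (addOrderOf_eq_prime (M.pV v) hv) ▸ addOrderOf_dvd_natCard v
  obtain ⟨w, hw, hw0⟩ := (P.2.map B.subtype : IsPGroup M.p Q).exists_fixed_point_of_prime_dvd_card_of_fixed_point V hd
    (show (0 : V) ∈ MulAction.fixedPoints Q V from fun q => map_zero (M.ρ (q : K)))
  have : w ∈ Fix M (Q : Set K) := fun s hs => hw ⟨s, hs⟩
  rw [hbot, AddSubgroup.mem_bot] at this
  exact hw0 this.symm

omit [Finite K] in
theorem norm_fixed (X : Subgroup K) (hX : ∀ a ∈ X, ∀ b ∈ X, a * b = b * a) (hr : ∀ a ∈ X, M.r a ∈ X) {x : K}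
    (hx : x ∈ X) : M.r (x * M.r x * M.r (M.r x)) = x * M.r x * M.r (M.r x) := by
  rw [map_mul, map_mul, M.r3, hX _ (X.mul_mem (hr _ hx) (hr _ (hr _ hx))) x hx, mul_assoc]

/-- In an abelian invariant normal subgroup the rotation is trivial or fixed-point-free. -/
theorem dichotomy [Finite V] [Group.IsSolvable K] (hirr : Irred M) (X : Subgroup K) [hXn : X.Normal]
    (hXr : ∀ a ∈ X, M.r a ∈ X) (hXt : ∀ a ∈ X, M.t a ∈ X) (hX : ∀ a ∈ X, ∀ b ∈ X, a * b = b * a)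
    (hXp : ∀ a ∈ X, ¬ M.p ∣ orderOf a) :
    (∀ a ∈ X, M.r a = a) ∨ (∀ a ∈ X, M.r a = a → a = 1) := by
  classical
  have hcp : ∀ g : K, ∀ n : ℕ, n ∣ 6 ^ 2 → (orderOf g).Coprime n := fun g n hn =>
    Nat.Coprime.coprime_dvd_right hn ((orderOf_coprime_six M.toAct g).pow_right 2)
  -- the image of `x ↦ x⁻¹ r x`
  let X2 : Set K := {y | ∃ x ∈ X, y = x⁻¹ * M.r x}
  have hX2 : ∀ y ∈ X2, y ∈ X := by rintro y ⟨x, hx, rfl⟩; exact X.mul_mem (X.inv_mem hx) (hXr x hx)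
  have hX2norm : ∀ y ∈ X2, y * M.r y * M.r (M.r y) = 1 := by
    rintro y ⟨x, hx, rfl⟩
    simp only [map_mul, map_inv, M.r3]
    group
  have hy2 : ∀ y ∈ X2, ∃ x ∈ X, y = x⁻¹ * M.r (M.r x) := by
    rintro y ⟨x, hx, rfl⟩
    refine ⟨(M.r x)⁻¹, X.inv_mem (hXr x hx), ?_⟩
    rw [inv_inv, map_inv, map_inv, M.r3, hX _ (X.inv_mem hx) _ (hXr x hx)]
  -- fixed elements against the image
  have hkill : ∀ y ∈ X2, ∀ u ∈ X, M.r u = u → ∀ v, M.ρ y (M.ρ u v - v) = M.ρ u v - v := by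
    intro y hy u hu hru v
    obtain ⟨x1, hx1, e1⟩ := hy
    obtain ⟨x2, hx2, e2⟩ := hy2 y ⟨x1, hx1, e1⟩
    have htu := inverted M.toAct u hru
    have h5 := M.five X hX hXr hXt x1 x2 u u u hx1 hx2 hu hu hu
    rw [← e1, ← e2, htu, map_inv, hru, map_inv, hru, ← mul_inv_rev] at h5
    set w := (u * u)⁻¹ with hw
    have hwX : w ∈ X := X.inv_mem (X.mul_mem hu hu)
    have cm : Commute (D M y) (D M w) := by
      have h0 : Commute (M.ρ y) (M.ρ w) := by
        show M.ρ y * M.ρ w = M.ρ w * M.ρ y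
        rw [← map_mul, ← map_mul, hX _ (hX2 y ⟨x1, hx1, e1⟩) _ hwX]
      exact (h0.sub_right (Commute.one_right _)).sub_left (Commute.one_left _)
    have hz : ∀ v, (D M y ^ 2) ((D M w ^ 3) v) = 0 := fun v => by
      have := DFunLike.congr_fun h5 v
      show (D M y ^ 2 * D M w ^ 3) v = 0
      rw [show D M y ^ 2 * D M w ^ 3 = D M y * D M y * D M w * D M w * D M w by noncomm_ring]
      exact this
    have h1 : ∀ v, D M y ((D M w ^ 3) v) = 0 := fun v =>
      sub_eq_zero.mpr (fix_of_nilp M (hXp _ (hX2 y ⟨x1, hx1, e1⟩)) (by norm_num) (hz v))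
    have h2 : ∀ v, (D M w ^ 3) (D M y v) = 0 := fun v => by
      have := DFunLike.congr_fun (cm.pow_right 3).eq v
      exact this.symm.trans (h1 v)
    have h3 : ∀ v, M.ρ w (D M y v) = D M y v := fun v => fix_of_nilp M (hXp _ hwX) (by norm_num) (h2 v)
    have h4 : M.ρ u (D M y v) = D M y v := by
      refine fix_pow_mem M (n := 2) (hcp u 2 (by norm_num)) ?_
      have := (Kill M {D M y v}).inv_mem (show w ∈ Kill M {D M y v} from fun x hx => by
        rw [Set.mem_singleton_iff.mp hx]; exact h3 v)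
      rw [hw, inv_inv] at this
      rw [pow_two]; exact this _ rfl
    have e : D M u (D M y v) = D M y (D M u v) := by
      have h0 : M.ρ u (M.ρ y v) = M.ρ y (M.ρ u v) := by rw [← ρ_mul, ← ρ_mul, hX u hu y (hX2 y ⟨x1, hx1, e1⟩)]
      simp only [D_apply, map_sub, h0]
      abel
    rw [D_apply M u, h4, sub_self, D_apply M y, D_apply M u] at e
    exact (sub_eq_zero.mp e.symm)
  -- the reflection's fixed part cuts out the same fixed vectors
  letI : CommGroup X :=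
    { (inferInstance : Group X) with mul_comm := fun a b => Subtype.ext (hX a a.2 b b.2) }
  let φ : X →* X := (M.r.toMonoidHom.comp X.subtype).codRestrict X fun z => hXr z z.2
  let τ : X →* X := (M.t.toMonoidHom.comp X.subtype).codRestrict X fun z => hXt z z.2
  have φ3 : ∀ z, φ (φ (φ z)) = z := fun z => Subtype.ext (M.r3 z)
  have τ2 : ∀ z, τ (τ z) = z := fun z => Subtype.ext (M.t2 z)
  have τφ : ∀ z, τ (φ z) = φ (φ (τ z)) := fun z => Subtype.ext (M.tr z)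
  have ab : ∀ {a b : X}, Additive.ofMul a = Additive.ofMul b → a = b := fun h => Additive.ofMul.injective h
  let Xt : Set K := {a | a ∈ X ∧ M.t a = a}
  -- cubes of the reflection's fixed points lie in the image
  have hXt2 : ∀ a ∈ Xt, a ^ 3 ∈ X2 := by
    rintro a ⟨ha, hta⟩
    let A : X := ⟨a, ha⟩
    have hτA : τ A = A := Subtype.ext hta
    let F : X := A * φ A * φ (φ A)
    have hφF : φ F = F := by
      simp only [F, map_mul, φ3]; apply ab; simp only [ofMul_mul]; abel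
    have hτF : τ F = F := by
      simp only [F, map_mul, τφ, hτA, φ3]; apply ab; simp only [ofMul_mul]; abel
    have hF1 : F = 1 := Subtype.ext (M.fpf _ (congrArg Subtype.val hφF) (congrArg Subtype.val hτF))
    refine ⟨((A⁻¹ * (φ A)⁻¹ * A⁻¹ : X) : K), (A⁻¹ * (φ A)⁻¹ * A⁻¹).2, ?_⟩
    have e : A ^ 3 = (A⁻¹ * (φ A)⁻¹ * A⁻¹)⁻¹ * φ (A⁻¹ * (φ A)⁻¹ * A⁻¹) * F := by
      simp only [F, map_mul, map_inv, pow_succ, pow_zero, one_mul]; apply ab; simp only [ofMul_mul, ofMul_inv]; abel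
    rw [hF1, mul_one] at e
    exact congrArg Subtype.val e
  let V2 := Fix M X2
  have hVt : ∀ v, v ∈ Fix M Xt → v ∈ V2 := by
    intro v hv y hy
    let Y : X := ⟨y, hX2 y hy⟩
    have hYn : Y * φ Y * φ (φ Y) = 1 := Subtype.ext (hX2norm y hy)
    let W : X := Y * (τ Y)⁻¹
    have hτW : τ W = W⁻¹ := by simp only [W, map_mul, map_inv, τ2, mul_inv_rev, inv_inv]
    have hWn : W * φ W * φ (φ W) = 1 := by
      have h := congrArg τ hYn
      simp only [map_mul, map_one, τφ, φ3] at h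
      have e : W * φ W * φ (φ W) = (Y * φ Y * φ (φ Y)) * (τ Y * φ (φ (τ Y)) * φ (τ Y))⁻¹ := by
        simp only [W, map_mul, map_inv]; apply ab; simp only [ofMul_mul, ofMul_inv]; abel
      rw [e, hYn, h, inv_one, mul_one]
    -- elements of `Xt` may be dropped
    have hdrop : ∀ a b : X, (a * b⁻¹ : X) = (a * b⁻¹ : X) → τ (a * b⁻¹) = a * b⁻¹ → M.ρ (a : K) v = M.ρ (b : K) v := by
      intro a b _ hab
      have h := hv ((a * b⁻¹ : X) : K) ⟨(a * b⁻¹ : X).2, congrArg Subtype.val hab⟩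
      conv_lhs => rw [show (a : K) = (b : K) * ((a * b⁻¹ : X) : K) from congrArg Subtype.val
        (show a = b * (a * b⁻¹) by apply ab; simp only [ofMul_mul, ofMul_inv]; abel)]
      rw [ρ_mul, h]
    have hφ2W : φ (φ W) = (W * φ W)⁻¹ := eq_inv_of_mul_eq_one_right hWn
    have hA : τ (W * ((φ W)⁻¹ * (φ W)⁻¹)⁻¹) = W * ((φ W)⁻¹ * (φ W)⁻¹)⁻¹ := by
      simp only [map_mul, map_inv, τφ, hτW, hφ2W]; apply ab; simp only [ofMul_mul, ofMul_inv]; abel
    have hB : τ (W * ((φ (φ W))⁻¹ * (φ (φ W))⁻¹)⁻¹) = W * ((φ (φ W))⁻¹ * (φ (φ W))⁻¹)⁻¹ := by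
      simp only [map_mul, map_inv, τφ, hτW, hφ2W, φ3]; apply ab; simp only [ofMul_mul, ofMul_inv]; abel
    -- the five-fold relation
    have h5 := fun (x1 : X) (x2 : X) =>
      M.five X hX hXr hXt x1 x2 W W W x1.2 x2.2 W.2 W.2 W.2
    obtain ⟨x1, hx1, e1⟩ := id hy
    obtain ⟨x2, hx2, e2⟩ := hy2 y hy
    obtain ⟨z1, hz1, d1⟩ : ((W : K)) ∈ X2 := by
      refine ⟨((⟨x1, hx1⟩ * φ (φ (τ ⟨x1, hx1⟩)) : X) : K), (⟨x1, hx1⟩ * φ (φ (τ ⟨x1, hx1⟩)) : X).2, ?_⟩
      have eY : Y = (⟨x1, hx1⟩ : X)⁻¹ * φ ⟨x1, hx1⟩ := Subtype.ext e1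
      exact congrArg Subtype.val (show W = (⟨x1, hx1⟩ * φ (φ (τ ⟨x1, hx1⟩)))⁻¹ * φ (⟨x1, hx1⟩ * φ (φ (τ ⟨x1, hx1⟩))) by
        simp only [W, eY, map_mul, map_inv, τφ, φ3]; apply ab; simp only [ofMul_mul, ofMul_inv]; abel)
    obtain ⟨z2, hz2, d2⟩ := hy2 (W : K) ⟨z1, hz1, d1⟩
    have h := h5 ⟨z1, hz1⟩ ⟨z2, hz2⟩
    change D M (z1⁻¹ * M.r z1) * D M (z2⁻¹ * M.r (M.r z2)) * D M ((W : K)⁻¹ * (τ W : K))
      * D M ((W : K)⁻¹ * (φ (τ W) : K)) * D M ((W : K)⁻¹ * (φ (φ (τ W)) : K)) = 0 at h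
    rw [← d1, ← d2, ← Subgroup.coe_inv, ← Subgroup.coe_mul, ← Subgroup.coe_mul, ← Subgroup.coe_mul, hτW,
      show W⁻¹ * φ W⁻¹ = φ (φ W) from by rw [hφ2W, map_inv]; apply ab; simp only [ofMul_mul, ofMul_inv]; abel,
      show W⁻¹ * φ (φ W⁻¹) = φ W from by
        rw [map_inv, map_inv, hφ2W]; apply ab; simp only [ofMul_mul, ofMul_inv]; abel] at h
    set B : X := W⁻¹ * W⁻¹ with hBdef
    -- transfer everything to `B`
    have cm : ∀ a b : X, Commute (M.ρ (a : K)) (M.ρ (b : K)) := fun a b => by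
      show M.ρ (a : K) * M.ρ (b : K) = M.ρ (b : K) * M.ρ (a : K)
      rw [← map_mul, ← map_mul, hX _ a.2 _ b.2]
    have cd : ∀ a b : X, Commute (D M (a : K)) (D M (b : K)) := fun a b =>
      ((cm a b).sub_right (Commute.one_right _)).sub_left (Commute.one_left _)
    -- `D (c * c) = (ρ c + 1) * D c`
    have hsq : ∀ c : X, D M ((c * c : X) : K) = (M.ρ (c : K) + 1) * D M (c : K) := fun c => by
      simp only [D, Subgroup.coe_mul, map_mul]; noncomm_ring
    have hpres : ∀ (a : X) {v' : V}, v' ∈ Fix M Xt → D M (a : K) v' ∈ Fix M Xt := by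
      intro a v' hv' s hs
      rw [D_apply, map_sub, hv' s hs, ← ρ_mul, hX s hs.1 _ a.2, ρ_mul, hv' s hs]
    -- on vectors fixed by `Xt` the difference at `W` factors through both rotates
    have hfac : ∀ (c : X), τ (W * (c⁻¹ * c⁻¹)⁻¹) = W * (c⁻¹ * c⁻¹)⁻¹ → ∀ v' ∈ Fix M Xt,
        D M (W : K) v' = ((M.ρ ((c⁻¹ : X) : K) + 1) * -M.ρ ((c⁻¹ : X) : K) * D M (c : K)) v' := by
      intro c hc v' hv'
      have h1 : M.ρ (W : K) v' = M.ρ ((c⁻¹ * c⁻¹ : X) : K) v' := by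
        have h' := hv' ((W * (c⁻¹ * c⁻¹)⁻¹ : X) : K) ⟨(W * (c⁻¹ * c⁻¹)⁻¹ : X).2, congrArg Subtype.val hc⟩
        conv_lhs => rw [show (W : K) = ((c⁻¹ * c⁻¹ : X) : K) * ((W * (c⁻¹ * c⁻¹)⁻¹ : X) : K) from congrArg Subtype.val
          (show W = (c⁻¹ * c⁻¹) * (W * (c⁻¹ * c⁻¹)⁻¹) by apply ab; simp only [ofMul_mul, ofMul_inv]; abel)]
        rw [ρ_mul, h']
      rw [D_apply, h1, ← D_apply, hsq c⁻¹, mul_assoc]
      have : D M ((c⁻¹ : X) : K) = -M.ρ ((c⁻¹ : X) : K) * D M (c : K) := by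
        simp only [D, mul_sub, mul_one, neg_mul, ← map_mul, ← Subgroup.coe_mul, inv_mul_cancel, Subgroup.coe_one, map_one]
        abel
      rw [this]
    set Q1 := (M.ρ (((φ W)⁻¹ : X) : K) + 1) * -M.ρ (((φ W)⁻¹ : X) : K) with hQ1
    set Q2 := (M.ρ (((φ (φ W))⁻¹ : X) : K) + 1) * -M.ρ (((φ (φ W))⁻¹ : X) : K) with hQ2
    set P := D M (W : K) * D M (W : K) * D M ((W⁻¹ * W⁻¹ : X) : K)
    have cQ : ∀ (c : X) (T : AddMonoid.End V), Commute (M.ρ (c : K)) T → Commute ((M.ρ (c : K) + 1) * -M.ρ (c : K)) T :=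
      fun c T hT => (hT.add_left (Commute.one_left _)).mul_left hT.neg_left
    have hW5 : ((D M ((W⁻¹ * W⁻¹ : X) : K)) ^ 5) v = 0 := by
      -- express the difference at `W⁻²` through the one at `W`
      set S := (M.ρ ((W⁻¹ : X) : K) + 1) * -M.ρ ((W⁻¹ : X) : K)
      have hB' : D M ((W⁻¹ * W⁻¹ : X) : K) = S * D M (W : K) := by
        rw [hsq, mul_assoc]
        congr 1
        simp only [D, mul_sub, mul_one, neg_mul, ← map_mul, ← Subgroup.coe_mul, inv_mul_cancel, Subgroup.coe_one, map_one]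
        abel
      have hw1 : ∀ v' ∈ Fix M Xt, D M (W : K) v' = (Q1 * D M (φ W : K)) v' := fun v' hv' => hfac (φ W) hA v' hv'
      have hw2 : ∀ v' ∈ Fix M Xt, D M (W : K) v' = (Q2 * D M (φ (φ W) : K)) v' := fun v' hv' => hfac (φ (φ W)) hB v' hv'
      have hQ1W : Commute Q1 (D M (φ (φ W) : K)) := cQ _ _ ((cm _ _).sub_right (Commute.one_right _))
      have hcW : ∀ c : X, Commute ((M.ρ (c : K) + 1) * -M.ρ (c : K)) (D M (W : K)) := fun c =>
        cQ c _ ((cm _ _).sub_right (Commute.one_right _))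
      have hcB : ∀ c : X, Commute ((M.ρ (c : K) + 1) * -M.ρ (c : K)) (D M ((W⁻¹ * W⁻¹ : X) : K)) := fun c =>
        cQ c _ ((cm _ _).sub_right (Commute.one_right _))
      have hstep : (D M (W : K) * D M (W : K) * D M ((W⁻¹ * W⁻¹ : X) : K) * D M (W : K) * D M (W : K)) v = 0 := by
        have e1' : (D M (W : K) * D M (W : K)) v = (Q2 * Q1 * (D M (φ (φ W) : K) * D M (φ W : K))) v := by
          show D M (W : K) (D M (W : K) v) = _
          rw [hw1 v hv]
          have : (Q1 * D M (φ W : K)) v ∈ Fix M Xt := by rw [← hw1 v hv]; exact hpres W hv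
          rw [hw2 _ this]
          show (Q2 * D M (φ (φ W) : K) * (Q1 * D M (φ W : K))) v = _
          rw [mul_assoc Q2, ← mul_assoc (D M (φ (φ W) : K)), ← hQ1W.eq, mul_assoc Q1, ← mul_assoc Q2]
        show (D M (W : K) * D M (W : K) * D M ((W⁻¹ * W⁻¹ : X) : K)) (D M (W : K) (D M (W : K) v)) = 0
        rw [show D M (W : K) (D M (W : K) v) = (Q2 * Q1 * (D M (φ (φ W) : K) * D M (φ W : K))) v from e1']
        have c2 : Commute (Q2 * Q1) (D M (W : K) * D M (W : K) * D M ((W⁻¹ * W⁻¹ : X) : K)) :=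
          (((hcW _).mul_left (hcW _)).mul_right ((hcW _).mul_left (hcW _))).mul_right ((hcB _).mul_left (hcB _))
        show ((D M (W : K) * D M (W : K) * D M ((W⁻¹ * W⁻¹ : X) : K)) * (Q2 * Q1 * (D M (φ (φ W) : K) * D M (φ W : K)))) v = 0
        rw [← mul_assoc, ← c2.eq, mul_assoc,
          show D M (W : K) * D M (W : K) * D M ((W⁻¹ * W⁻¹ : X) : K) * (D M (φ (φ W) : K) * D M (φ W : K)) = 0 by
            rw [← mul_assoc]; exact h, mul_zero]
        rfl
      rw [hB']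
      have cS : Commute S (D M (W : K)) := hcW _
      rw [hB'] at hstep
      rw [cS.mul_pow]
      have e : S ^ 5 * D M (W : K) ^ 5 = S ^ 4 * (D M (W : K) * D M (W : K) * (S * D M (W : K)) * D M (W : K) * D M (W : K)) := by
        rw [← mul_assoc (D M (W : K) * D M (W : K)) S, (cS.symm.mul_left cS.symm).eq]
        noncomm_ring
      rw [e]
      show (S ^ 4) ((D M (W : K) * D M (W : K) * (S * D M (W : K)) * D M (W : K) * D M (W : K)) v) = 0
      rw [hstep, map_zero]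
    have hWv : M.ρ (W : K) v = v := by
      have h1 := fix_of_nilp M (hXp _ (W⁻¹ * W⁻¹ : X).2) (by norm_num) hW5
      have h2 := (Kill M {v}).inv_mem (show ((W⁻¹ * W⁻¹ : X) : K) ∈ Kill M {v} from fun x hx => by
        rw [Set.mem_singleton_iff.mp hx]; exact h1)
      refine fix_pow_mem M (n := 2) (hcp _ 2 (by norm_num)) ?_
      have e : ((W⁻¹ * W⁻¹ : X) : K)⁻¹ = (W : K) ^ 2 := by push_cast; rw [pow_two, mul_inv_rev, inv_inv]
      rw [e] at h2
      exact h2 v rfl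
    refine fix_pow_mem M (n := 2) (hcp y 2 (by norm_num)) ?_
    have h' := hv ((Y * τ Y : X) : K) ⟨(Y * τ Y : X).2, congrArg Subtype.val (show τ (Y * τ Y) = Y * τ Y by rw [map_mul, τ2, mul_comm])⟩
    rw [show y ^ 2 = ((W * (Y * τ Y) : X) : K) from congrArg Subtype.val (show Y ^ 2 = W * (Y * τ Y) by
      simp only [W, pow_two]; apply ab; simp only [ofMul_mul, ofMul_inv]; abel), Subgroup.coe_mul, ρ_mul, h', hWv]
  -- the fixed vectors of the image form a submodule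
  let S : Subgroup K :=
    { carrier := {g | (∀ v ∈ V2, M.ρ g v ∈ V2) ∧ ∀ v ∈ V2, M.ρ g⁻¹ v ∈ V2}
      one_mem' := ⟨fun v hv => by rwa [ρ_one], fun v hv => by rwa [inv_one, ρ_one]⟩
      mul_mem' := fun {a b} ha hb => ⟨fun v hv => by rw [ρ_mul]; exact ha.1 _ (hb.1 _ hv),
        fun v hv => by rw [mul_inv_rev, ρ_mul]; exact hb.2 _ (ha.2 _ hv)⟩
      inv_mem' := fun {a} ha => ⟨ha.2, by rw [inv_inv]; exact ha.1⟩ }
  have hconj : ∀ (g : K) (v : V) (s : K), M.ρ s (M.ρ g v) = M.ρ g (M.ρ (g⁻¹ * s * g) v) := fun g v s => by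
    rw [← ρ_mul, ← ρ_mul]; congr 2; group
  have hR2 : ∀ v ∈ V2, M.R v ∈ V2 := by
    intro v hv y hy
    obtain ⟨x, hx, rfl⟩ := hy
    have e : x⁻¹ * M.r x = M.r ((M.r (M.r x))⁻¹ * M.r (M.r (M.r x))) := by rw [M.r3, map_mul, map_inv, M.r3]
    rw [e, ← R_ρ, hv _ ⟨_, hXr _ (hXr _ hx), rfl⟩]
  have hT2 : ∀ v ∈ V2, M.T v ∈ V2 := by
    intro v hv y hy
    obtain ⟨x, hx, rfl⟩ := hy
    let z := M.r (M.r (M.t x))
    have e : x⁻¹ * M.r x = M.t ((M.r z)⁻¹ * z)⁻¹⁻¹ := by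
      simp only [z, map_mul, map_inv, inv_inv, M.tr, M.r3, M.t2]
    have hz : z ∈ X := hXr _ (hXr _ (hXt _ hx))
    rw [e, inv_inv, ← T_ρ]
    have : (M.r z)⁻¹ * z = ((z⁻¹ * M.r z))⁻¹ := by group
    rw [this, (Kill M {v}).inv_mem (show z⁻¹ * M.r z ∈ Kill M {v} from fun u hu => by
      rw [Set.mem_singleton_iff.mp hu]; exact hv _ ⟨z, hz, rfl⟩) v rfl]
  have hC : ∀ g, M.r g = g → ∀ v ∈ V2, M.ρ g v ∈ V2 := by
    intro g hg v hv y hy
    obtain ⟨x, hx, rfl⟩ := hy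
    rw [hconj, hv]
    refine ⟨g⁻¹ * x * g, by simpa using hXn.conj_mem x hx g⁻¹, ?_⟩
    rw [map_mul, map_mul, map_inv, hg]
    group
  have hDd : ∀ g, M.t g = g → ∀ v ∈ V2, M.ρ g v ∈ V2 := by
    intro g hg v hv
    refine hVt _ fun a ha => ?_
    rw [hconj]
    congr 1
    have hmem : g⁻¹ * a * g ∈ X := by simpa using hXn.conj_mem a ha.1 g⁻¹
    exact fix_pow_mem M (n := 3) (hcp _ 3 (by norm_num))
      (hv _ (hXt2 _ ⟨hmem, by rw [map_mul, map_mul, map_inv, hg, ha.2]⟩))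
  have hall : ∀ g : K, g ∈ S := by
    have hle : Subgroup.closure (gens M.toAct) ≤ S := by
      rw [Subgroup.closure_le]
      rintro g ((hg | hg) | ⟨d, hd, rfl⟩)
      · exact ⟨hC g hg, hC g⁻¹ (by rw [map_inv, show M.r g = g from hg])⟩
      · exact ⟨hDd g hg, hDd g⁻¹ (by rw [map_inv, show M.t g = g from hg])⟩
      · have key : ∀ d, M.t d = d → ∀ v ∈ V2, M.ρ (M.r d) v ∈ V2 := by
          intro d hd v hv
          have e : v = M.R (M.R (M.R v)) := (DFunLike.congr_fun M.R3 v).symm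
          rw [e, ← R_ρ]
          exact hR2 _ (hDd d hd _ (hR2 _ (hR2 _ hv)))
        exact ⟨key d hd, by rw [← map_inv]; exact key d⁻¹ (by rw [map_inv, show M.t d = d from hd])⟩
    exact fun g => hle (closure_gens _ M.toAct rfl ▸ Subgroup.mem_top g)
  rcases hirr V2 (fun g v hv => (hall g).1 v hv) hR2 hT2 with h | h
  · refine Or.inr fun a ha hra => eq_one_of_fix M fun v => ?_
    have : M.ρ a v - v ∈ V2 := fun y hy => hkill y hy a ha hra v
    rw [h, AddSubgroup.mem_bot, sub_eq_zero] at this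
    exact this
  · refine Or.inl fun a ha => ?_
    have := eq_one_of_fix M (u := a⁻¹ * M.r a) fun v => (h ▸ AddSubgroup.mem_top v : v ∈ V2) _ ⟨a, ha, rfl⟩
    exact (inv_mul_eq_one.mp this).symm

end Cfsg.Agent.FpfSym
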