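import Mathlib

/-!
Solvable Frobenius groups `(ZMod p)⁴ ⋊ H` with `H` given by lists of matrices, and their spectra.
-/

set_option autoImplicit false
set_option linter.unusedSectionVars false

open Matrix

namespace Cfsg.Agent.FrobSpec

variable (p : ℕ) [Fact p.Prime]

/-- matrix of a code -/
def toMat (l : List ℕ) : Matrix (Fin 4) (Fin 4) (ZMod p) :=
  fun i j => ((l.getD (4 * i.val + j.val) 0 : ℕ) : ZMod p)

/-- product of codes -/
def lmul (a b : List ℕ) : List ℕ :=
  (List.range 16).map fun k =>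
    (a.getD (4 * (k / 4)) 0 * b.getD (k % 4) 0 + a.getD (4 * (k / 4) + 1) 0 * b.getD (4 + k % 4) 0 +
      a.getD (4 * (k / 4) + 2) 0 * b.getD (8 + k % 4) 0 + a.getD (4 * (k / 4) + 3) 0 * b.getD (12 + k % 4) 0) % p

/-- sum of codes -/
def ladd (a b : List ℕ) : List ℕ := (List.range 16).map fun k => (a.getD k 0 + b.getD k 0) % p

/-- identity code -/
def lone : List ℕ := [1, 0, 0, 0, 0, 1, 0, 0, 0, 0, 1, 0, 0, 0, 0, 1]

/-- zero code -/
def lzero : List ℕ := [0, 0, 0, 0, 0, 0, 0, 0, 0, 0, 0, 0, 0, 0, 0, 0]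

/-- power of a code -/
def lpow (a : List ℕ) : ℕ → List ℕ
  | 0 => lone
  | n + 1 => lmul p (lpow a n) a

/-- geometric sum of a code -/
def lgeom (a : List ℕ) : ℕ → List ℕ
  | 0 => lzero
  | n + 1 => ladd p lone (lmul p a (lgeom a n))

theorem toMat_lmul (a b : List ℕ) : toMat p (lmul p a b) = toMat p a * toMat p b := by
  ext i j
  rw [Matrix.mul_apply, Fin.sum_univ_four]
  fin_cases i <;> fin_cases j <;> simp [toMat, lmul]

theorem toMat_ladd (a b : List ℕ) : toMat p (ladd p a b) = toMat p a + toMat p b := by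
  ext i j
  fin_cases i <;> fin_cases j <;> simp [toMat, ladd]

theorem toMat_lone : toMat p lone = 1 := by
  ext i j
  fin_cases i <;> fin_cases j <;> simp [toMat, lone]

theorem toMat_lzero : toMat p lzero = 0 := by
  ext i j
  fin_cases i <;> fin_cases j <;> simp [toMat, lzero]

theorem toMat_lpow (a : List ℕ) (n : ℕ) : toMat p (lpow p a n) = toMat p a ^ n := by
  induction n with
  | zero => rw [lpow, pow_zero, toMat_lone]
  | succ n ih => rw [lpow, toMat_lmul, ih, pow_succ]

theorem toMat_lgeom (a : List ℕ) (n : ℕ) :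
    toMat p (lgeom p a n) = ∑ i ∈ Finset.range n, toMat p a ^ i := by
  induction n with
  | zero => simp [lgeom, toMat_lzero]
  | succ n ih =>
    rw [lgeom, toMat_ladd, toMat_lmul, ih, toMat_lone, Finset.mul_sum, Finset.sum_range_succ', pow_zero, add_comm]
    simp [pow_succ']

/-- lists of units closed under multiplication, given with inverses -/
def Closed (L : List (List ℕ × List ℕ)) : Prop :=
  (∀ x ∈ L, ∀ y ∈ L, ∃ z ∈ L, z.1 = lmul p x.1 y.1) ∧ (∃ z ∈ L, z.1 = lone) ∧
    ∀ x ∈ L, lmul p x.1 x.2 = lone ∧ ∃ z ∈ L, z.1 = x.2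

variable {p}

/-- the subgroup of a closed list -/
def grp (L : List (List ℕ × List ℕ)) (h : Closed p L) : Subgroup (GL (Fin 4) (ZMod p)) where
  carrier := {g | ∃ x ∈ L, toMat p x.1 = (g : Matrix (Fin 4) (Fin 4) (ZMod p))}
  one_mem' := by
    obtain ⟨z, hz, he⟩ := h.2.1
    exact ⟨z, hz, by rw [he, toMat_lone, Units.val_one]⟩
  mul_mem' := by
    rintro a b ⟨x, hx, hax⟩ ⟨y, hy, hby⟩
    obtain ⟨z, hz, he⟩ := h.1 x hx y hy
    exact ⟨z, hz, by rw [he, toMat_lmul, hax, hby, Units.val_mul]⟩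
  inv_mem' := by
    rintro a ⟨x, hx, hax⟩
    obtain ⟨hinv, z, hz, he⟩ := h.2.2 x hx
    refine ⟨z, hz, ?_⟩
    rw [he]
    exact (Units.inv_eq_of_mul_eq_one_right (by rw [← hax, ← toMat_lmul, hinv, toMat_lone])).symm

/-- all commutators of `L` lie in `M` -/
def CommInto (p : ℕ) (L M : List (List ℕ × List ℕ)) : Prop :=
  ∀ x ∈ L, ∀ y ∈ L, ∃ z ∈ M, z.1 = lmul p (lmul p (lmul p x.1 y.1) x.2) y.2

theorem commutator_le_grp {L M : List (List ℕ × List ℕ)} (hL : Closed p L) (hM : Closed p M)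
    (h : CommInto p L M) : ⁅grp L hL, grp L hL⁆ ≤ grp M hM := by
  rw [Subgroup.commutator_le]
  rintro a ⟨x, hx, hax⟩ b ⟨y, hy, hby⟩
  obtain ⟨z, hz, he⟩ := h x hx y hy
  have hia : toMat p x.2 = ((a⁻¹ : GL (Fin 4) (ZMod p)) : Matrix (Fin 4) (Fin 4) (ZMod p)) :=
    (Units.inv_eq_of_mul_eq_one_right (by rw [← hax, ← toMat_lmul, (hL.2.2 x hx).1, toMat_lone])).symm
  have hib : toMat p y.2 = ((b⁻¹ : GL (Fin 4) (ZMod p)) : Matrix (Fin 4) (Fin 4) (ZMod p)) :=
    (Units.inv_eq_of_mul_eq_one_right (by rw [← hby, ← toMat_lmul, (hL.2.2 y hy).1, toMat_lone])).symm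
  refine ⟨z, hz, ?_⟩
  rw [he, toMat_lmul, toMat_lmul, toMat_lmul, hax, hby, hia, hib, commutatorElement_def]
  simp

/-- the action on vectors -/
def act (p : ℕ) [Fact p.Prime] :
    GL (Fin 4) (ZMod p) →* MulAut (Multiplicative (Fin 4 → ZMod p)) where
  toFun g :=
    { toFun := fun v => Multiplicative.ofAdd ((g : Matrix (Fin 4) (Fin 4) (ZMod p)) *ᵥ v.toAdd)
      invFun := fun v => Multiplicative.ofAdd (((g⁻¹ : GL (Fin 4) (ZMod p)) : Matrix (Fin 4) (Fin 4) (ZMod p)) *ᵥ v.toAdd)
      left_inv := fun v => by simp [Matrix.mulVec_mulVec]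
      right_inv := fun v => by simp [Matrix.mulVec_mulVec]
      map_mul' := fun v w => by simp [Matrix.mulVec_add] }
  map_one' := by ext v : 1; simp
  map_mul' g h := by ext v : 1; simp [Matrix.mulVec_mulVec]

/-- the semidirect product -/
abbrev Aff (H : Subgroup (GL (Fin 4) (ZMod p))) :=
  SemidirectProduct (Multiplicative (Fin 4 → ZMod p)) H ((act p).comp H.subtype)

theorem left_pow {H : Subgroup (GL (Fin 4) (ZMod p))} (x : Aff H) (n : ℕ) :
    (x ^ n).right = x.right ^ n ∧ (x ^ n).left.toAdd =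
      (∑ i ∈ Finset.range n, ((x.right : GL (Fin 4) (ZMod p)) : Matrix (Fin 4) (Fin 4) (ZMod p)) ^ i) *ᵥ x.left.toAdd := by
  induction n with
  | zero => simp
  | succ n ih =>
    constructor
    · rw [pow_succ, pow_succ, SemidirectProduct.mul_right, ih.1]
    · rw [pow_succ', SemidirectProduct.mul_left, toAdd_mul]
      simp only [MonoidHom.comp_apply, act, MonoidHom.coe_mk, OneHom.coe_mk, MulEquiv.coe_mk, Equiv.coe_fn_mk,
        toAdd_ofAdd, Subgroup.coe_subtype, ih.2, Matrix.mulVec_mulVec]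
      rw [Finset.sum_range_succ', Finset.mul_sum, Matrix.add_mulVec, pow_zero, Matrix.one_mulVec, add_comm]
      simp [pow_succ']

/-- every element has order in `S`, and the geometric sum of a nontrivial one vanishes -/
def OrderData (p : ℕ) (L : List (List ℕ × List ℕ)) (S : List ℕ) : Prop :=
  ∀ x ∈ L, x.1 = lone ∨ ∃ m ∈ S, 0 < m ∧ lpow p x.1 m = lone ∧ lgeom p x.1 m = lzero ∧
    ∀ k < m, 0 < k → lpow p x.1 k ≠ lone

/-- entries reduced -/
def Reduced (p : ℕ) (L : List (List ℕ × List ℕ)) : Prop :=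
  ∀ x ∈ L, ∀ m ∈ List.range 25, ∀ i ∈ List.range 16, (lpow p x.1 m).getD i 0 < p

theorem length_lpow (a : List ℕ) (n : ℕ) : (lpow p a n).length = 16 := by
  cases n <;> simp [lpow, lone, lmul]

theorem reduced_all (L : List (List ℕ × List ℕ)) : Reduced p L := by
  intro x _ m _ i hi
  rw [List.mem_range] at hi
  have := (Fact.out : p.Prime).two_le
  cases m with
  | zero => interval_cases i <;> simp [lpow, lone] <;> omega
  | succ m =>
    simp only [lpow, lmul]
    rw [List.getD_eq_getElem _ _ (by simp; omega), List.getElem_map]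
    exact Nat.mod_lt _ (by omega)

theorem lpow_ne_one {L : List (List ℕ × List ℕ)} {S : List ℕ} {x : List ℕ × List ℕ} (hx : x ∈ L)
    (hR : Reduced p L) {k : ℕ} (hk : k < 25) (h : toMat p x.1 ^ k = 1) :
    ∀ i < 16, (lpow p x.1 k).getD i 0 = lone.getD i 0 := by
  intro i hi
  have h' : toMat p (lpow p x.1 k) = toMat p lone := by rw [toMat_lpow, h, toMat_lone]
  have e := congrFun (congrFun h' ⟨i / 4, by omega⟩) ⟨i % 4, by omega⟩
  simp only [toMat, show 4 * (i / 4) + i % 4 = i by omega] at e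
  rw [ZMod.natCast_eq_natCast_iff', Nat.mod_eq_of_lt (hR x hx k (List.mem_range.mpr hk) i (List.mem_range.mpr hi)),
    Nat.mod_eq_of_lt] at e
  · exact e
  · have := (Fact.out : p.Prime).two_le
    interval_cases i <;> simp [lone] <;> omega

theorem order_cases {L : List (List ℕ × List ℕ)} (hL : Closed p L) {S : List ℕ} (hS : OrderData p L S)
    (hR : Reduced p L) (hlen : ∀ x ∈ L, ∀ k ∈ List.range 25, (lpow p x.1 k).length = 16) (hS25 : ∀ m ∈ S, m ≤ 25)
    (x : Aff (grp L hL)) : orderOf x = 1 ∨ orderOf x = p ∨ orderOf x ∈ S := by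
  obtain ⟨y, hy, hyx⟩ := x.right.2
  rcases hS y hy with he | ⟨m, hm, hm0, hpm, hgm, hmin⟩
  · have hr : x.right = 1 := Subtype.ext (Units.ext (by rw [← hyx, he, toMat_lone]; rfl))
    have : x ^ p = 1 := by
      obtain ⟨h1, h2⟩ := left_pow x p
      refine SemidirectProduct.ext ?_ (by rw [h1, hr, one_pow]; rfl)
      apply Multiplicative.toAdd.injective
      rw [h2, hr]
      ext i
      simp [Matrix.add_mulVec, Matrix.natCast_mulVec]
    rcases (Nat.dvd_prime Fact.out).mp (orderOf_dvd_of_pow_eq_one this) with h | h <;> simp [h]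
  · refine Or.inr (Or.inr ?_)
    have : orderOf x = m := by
      rw [orderOf_eq_iff hm0]
      constructor
      · obtain ⟨h1, h2⟩ := left_pow x m
        refine SemidirectProduct.ext ?_ ?_
        · apply Multiplicative.toAdd.injective
          rw [h2, ← hyx, ← toMat_lgeom, hgm, toMat_lzero]
          simp
        · rw [h1]
          exact Subtype.ext (Units.ext (by simp [← hyx, ← toMat_lpow, hpm, toMat_lone]))
      · intro k hk hk0 he
        obtain ⟨h1, -⟩ := left_pow x k
        rw [he] at h1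
        have h3 : toMat p y.1 ^ k = 1 := by
          rw [hyx]
          simpa using (congrArg (fun g : grp L hL => ((g : GL (Fin 4) (ZMod p)) : Matrix (Fin 4) (Fin 4) (ZMod p))) h1).symm
        have hk25 : k < 25 := lt_of_lt_of_le hk (hS25 m hm)
        refine hmin k hk hk0 (List.ext_getElem ?_ ?_)
        · rw [hlen y hy k (List.mem_range.mpr hk25)]; rfl
        · intro i hi1 hi2
          have := lpow_ne_one (S := S) hy hR hk25 h3 i (by simpa [lone] using hi2)
          rwa [List.getD_eq_getElem _ _ hi1, List.getD_eq_getElem _ _ hi2] at this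
    exact this ▸ hm

theorem order_of_elt {L : List (List ℕ × List ℕ)} (hL : Closed p L) (x : Aff (grp L hL)) :
    orderOf x.right ∣ orderOf x :=
  orderOf_map_dvd SemidirectProduct.rightHom x

theorem isSolvable_aff {L : List (List ℕ × List ℕ)} (hL : Closed p L) (h : Group.IsSolvable (grp L hL)) :
    Group.IsSolvable (Aff (grp L hL)) :=
  solvable_of_ker_le_range SemidirectProduct.inl SemidirectProduct.rightHom
    (by rw [SemidirectProduct.range_inl_eq_ker_rightHom])

end Cfsg.Agent.FrobSpec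

namespace Cfsg.Agent.FrobSpec

theorem derived_le {p : ℕ} [Fact p.Prime] {L A B : List (List ℕ × List ℕ)} (hL : Closed p L) (hA : Closed p A)
    (hB : Closed p B) (h : CommInto p A B) {k : ℕ}
    (hk : derivedSeries (grp L hL) k ≤ (grp A hA).subgroupOf (grp L hL)) :
    derivedSeries (grp L hL) (k + 1) ≤ (grp B hB).subgroupOf (grp L hL) := by
  rw [derivedSeries_succ]
  refine (Subgroup.commutator_mono hk hk).trans ?_
  rw [Subgroup.commutator_le]
  intro a ha b hb
  exact commutator_le_grp hA hB h (Subgroup.commutator_mem_commutator ha hb)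

theorem isSolvable_of_derived {p : ℕ} [Fact p.Prime] {L A : List (List ℕ × List ℕ)} (hL : Closed p L) (hA : Closed p A)
    (h1 : ∀ x ∈ A, x.1 = lone) {k : ℕ} (hk : derivedSeries (grp L hL) k ≤ (grp A hA).subgroupOf (grp L hL)) :
    Group.IsSolvable (grp L hL) := by
  refine ⟨k, le_bot_iff.mp (hk.trans fun g hg => ?_)⟩
  obtain ⟨x, hx, he⟩ := hg
  refine Subgroup.mem_bot.mpr (Subtype.ext (Units.ext ?_))
  rw [h1 x hx, toMat_lone] at he
  exact he.symm

theorem mem_range_orderOf {p : ℕ} [Fact p.Prime] {L : List (List ℕ × List ℕ)} (hL : Closed p L)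
    {x : List ℕ × List ℕ} (hx : x ∈ L) {m : ℕ} (hm : 0 < m) (hpm : lpow p x.1 m = lone)
    (hR : ∀ k < m, 0 < k → ∃ i < 16, ((lpow p x.1 k).getD i 0 : ZMod p) ≠ (lone.getD i 0 : ZMod p)) :
    m ∈ Set.range (orderOf : Aff (grp L hL) → ℕ) := by
  have hu : IsUnit (toMat p x.1) := IsUnit.of_mul_eq_one (toMat p x.2) (by rw [← toMat_lmul, (hL.2.2 x hx).1, toMat_lone])
  let h : grp L hL := ⟨hu.unit, x, hx, hu.unit_spec.symm⟩
  refine ⟨SemidirectProduct.inr h, ?_⟩
  rw [orderOf_injective _ SemidirectProduct.inr_injective, ← Subgroup.orderOf_coe, ← orderOf_units, orderOf_eq_iff hm]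
  show (hu.unit : Matrix (Fin 4) (Fin 4) (ZMod p)) ^ m = 1 ∧ _
  rw [hu.unit_spec, ← toMat_lpow, hpm, toMat_lone]
  refine ⟨rfl, fun k hk hk0 he => ?_⟩
  change (hu.unit : Matrix (Fin 4) (Fin 4) (ZMod p)) ^ k = 1 at he
  rw [hu.unit_spec, ← toMat_lpow, ← toMat_lone (p := p)] at he
  obtain ⟨i, hi, hne⟩ := hR k hk hk0
  have e := congrFun (congrFun he ⟨i / 4, by omega⟩) ⟨i % 4, by omega⟩
  simp only [toMat, show 4 * (i / 4) + i % 4 = i by omega] at e
  exact hne e

theorem p_mem_range_orderOf {p : ℕ} [Fact p.Prime] (H : Subgroup (GL (Fin 4) (ZMod p))) :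
    p ∈ Set.range (orderOf : Aff H → ℕ) := by
  refine ⟨SemidirectProduct.inl (Multiplicative.ofAdd fun _ => 1), ?_⟩
  rw [orderOf_injective _ SemidirectProduct.inl_injective, orderOf_ofAdd_eq_addOrderOf]
  refine addOrderOf_eq_prime ?_ ?_
  · ext i; simp
  · intro h; exact one_ne_zero (congrFun h 0)

/-- finiteness of the semidirect products -/
noncomputable instance instFintypeAff {p : ℕ} [Fact p.Prime] (H : Subgroup (GL (Fin 4) (ZMod p))) : Fintype (Aff H) :=
  haveI : Finite (Aff H) := Finite.of_equiv _ SemidirectProduct.equivProd.symm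
  Fintype.ofFinite _

end Cfsg.Agent.FrobSpec
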