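import Mathlib
import Cfsg.Agent.Lib.Recog.FrobeniusSpectrum

/-! A fixed-point-free complement over ZMod 13. -/

set_option autoImplicit false
set_option maxRecDepth 20000

namespace Cfsg.Agent.FrobSpec

/-- chain 0 of the complement over `ZMod 13` -/
def chain13_0 : List (List ℕ × List ℕ) := [
  ([1, 0, 0, 0, 0, 1, 0, 0, 0, 0, 1, 0, 0, 0, 0, 1], [1, 0, 0, 0, 0, 1, 0, 0, 0, 0, 1, 0, 0, 0, 0, 1]),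
  ([0, 6, 0, 0, 3, 0, 0, 0, 0, 0, 0, 9, 0, 0, 11, 0], [0, 9, 0, 0, 11, 0, 0, 0, 0, 0, 0, 6, 0, 0, 3, 0]),
  ([2, 0, 3, 0, 0, 2, 0, 3, 2, 0, 10, 0, 0, 2, 0, 10], [10, 0, 10, 0, 0, 10, 0, 10, 11, 0, 2, 0, 0, 11, 0, 2]),
  ([5, 0, 0, 0, 0, 5, 0, 0, 0, 0, 8, 0, 0, 0, 0, 8], [8, 0, 0, 0, 0, 8, 0, 0, 0, 0, 5, 0, 0, 0, 0, 5]),
  ([0, 12, 0, 5, 6, 0, 9, 0, 0, 5, 0, 12, 9, 0, 6, 0], [0, 12, 0, 8, 6, 0, 4, 0, 0, 8, 0, 12, 4, 0, 6, 0]),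
  ([0, 12, 0, 1, 6, 0, 7, 0, 0, 12, 0, 12, 6, 0, 6, 0], [0, 12, 0, 12, 6, 0, 6, 0, 0, 1, 0, 12, 7, 0, 6, 0]),
  ([10, 0, 10, 0, 0, 10, 0, 10, 11, 0, 2, 0, 0, 11, 0, 2], [2, 0, 3, 0, 0, 2, 0, 3, 2, 0, 10, 0, 0, 2, 0, 10]),
  ([0, 4, 0, 0, 2, 0, 0, 0, 0, 0, 0, 7, 0, 0, 10, 0], [0, 7, 0, 0, 10, 0, 0, 0, 0, 0, 0, 4, 0, 0, 2, 0]),
  ([10, 0, 2, 0, 0, 10, 0, 2, 3, 0, 2, 0, 0, 3, 0, 2], [2, 0, 11, 0, 0, 2, 0, 11, 10, 0, 10, 0, 0, 10, 0, 10]),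
  ([10, 0, 3, 0, 0, 10, 0, 3, 2, 0, 2, 0, 0, 2, 0, 2], [2, 0, 10, 0, 0, 2, 0, 10, 11, 0, 10, 0, 0, 11, 0, 10]),
  ([0, 8, 0, 8, 4, 0, 4, 0, 0, 8, 0, 5, 4, 0, 9, 0], [0, 5, 0, 5, 9, 0, 9, 0, 0, 5, 0, 8, 9, 0, 4, 0]),
  ([10, 0, 11, 0, 0, 10, 0, 11, 10, 0, 2, 0, 0, 10, 0, 2], [2, 0, 2, 0, 0, 2, 0, 2, 3, 0, 10, 0, 0, 3, 0, 10]),
  ([0, 0, 0, 7, 0, 0, 10, 0, 0, 9, 0, 0, 11, 0, 0, 0], [0, 0, 0, 6, 0, 0, 3, 0, 0, 4, 0, 0, 2, 0, 0, 0]),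
  ([0, 8, 0, 12, 4, 0, 6, 0, 0, 1, 0, 5, 7, 0, 9, 0], [0, 5, 0, 1, 9, 0, 7, 0, 0, 12, 0, 8, 6, 0, 4, 0]),
  ([12, 0, 0, 0, 0, 12, 0, 0, 0, 0, 12, 0, 0, 0, 0, 12], [12, 0, 0, 0, 0, 12, 0, 0, 0, 0, 12, 0, 0, 0, 0, 12]),
  ([0, 8, 0, 5, 4, 0, 9, 0, 0, 5, 0, 5, 9, 0, 9, 0], [0, 5, 0, 8, 9, 0, 4, 0, 0, 8, 0, 8, 4, 0, 4, 0]),
  ([11, 0, 11, 0, 0, 11, 0, 11, 10, 0, 3, 0, 0, 10, 0, 3], [3, 0, 2, 0, 0, 3, 0, 2, 3, 0, 11, 0, 0, 3, 0, 11]),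
  ([0, 8, 0, 1, 4, 0, 7, 0, 0, 12, 0, 5, 6, 0, 9, 0], [0, 5, 0, 12, 9, 0, 6, 0, 0, 1, 0, 8, 7, 0, 4, 0]),
  ([0, 0, 8, 0, 0, 0, 0, 8, 8, 0, 0, 0, 0, 8, 0, 0], [0, 0, 5, 0, 0, 0, 0, 5, 5, 0, 0, 0, 0, 5, 0, 0]),
  ([11, 0, 10, 0, 0, 11, 0, 10, 11, 0, 3, 0, 0, 11, 0, 3], [3, 0, 3, 0, 0, 3, 0, 3, 2, 0, 11, 0, 0, 2, 0, 11]),
  ([3, 0, 10, 0, 0, 3, 0, 10, 11, 0, 11, 0, 0, 11, 0, 11], [11, 0, 3, 0, 0, 11, 0, 3, 2, 0, 3, 0, 0, 2, 0, 3]),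
  ([0, 0, 12, 0, 0, 0, 0, 12, 1, 0, 0, 0, 0, 1, 0, 0], [0, 0, 1, 0, 0, 0, 0, 1, 12, 0, 0, 0, 0, 12, 0, 0]),
  ([0, 1, 0, 5, 7, 0, 9, 0, 0, 5, 0, 1, 9, 0, 7, 0], [0, 1, 0, 8, 7, 0, 4, 0, 0, 8, 0, 1, 4, 0, 7, 0]),
  ([11, 0, 2, 0, 0, 11, 0, 2, 3, 0, 3, 0, 0, 3, 0, 3], [3, 0, 11, 0, 0, 3, 0, 11, 10, 0, 11, 0, 0, 10, 0, 11]),
  ([0, 1, 0, 1, 7, 0, 7, 0, 0, 12, 0, 1, 6, 0, 7, 0], [0, 1, 0, 12, 7, 0, 6, 0, 0, 1, 0, 1, 7, 0, 7, 0]),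
  ([0, 7, 0, 0, 10, 0, 0, 0, 0, 0, 0, 4, 0, 0, 2, 0], [0, 4, 0, 0, 2, 0, 0, 0, 0, 0, 0, 7, 0, 0, 10, 0]),
  ([11, 0, 3, 0, 0, 11, 0, 3, 2, 0, 3, 0, 0, 2, 0, 3], [3, 0, 10, 0, 0, 3, 0, 10, 11, 0, 11, 0, 0, 11, 0, 11]),
  ([0, 0, 0, 9, 0, 0, 11, 0, 0, 7, 0, 0, 10, 0, 0, 0], [0, 0, 0, 4, 0, 0, 2, 0, 0, 6, 0, 0, 3, 0, 0, 0]),
  ([0, 1, 0, 8, 7, 0, 4, 0, 0, 8, 0, 1, 4, 0, 7, 0], [0, 1, 0, 5, 7, 0, 9, 0, 0, 5, 0, 1, 9, 0, 7, 0]),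
  ([0, 5, 0, 8, 9, 0, 4, 0, 0, 8, 0, 8, 4, 0, 4, 0], [0, 8, 0, 5, 4, 0, 9, 0, 0, 5, 0, 5, 9, 0, 9, 0]),
  ([3, 0, 2, 0, 0, 3, 0, 2, 3, 0, 11, 0, 0, 3, 0, 11], [11, 0, 11, 0, 0, 11, 0, 11, 10, 0, 3, 0, 0, 10, 0, 3]),
  ([0, 1, 0, 12, 7, 0, 6, 0, 0, 1, 0, 1, 7, 0, 7, 0], [0, 1, 0, 1, 7, 0, 7, 0, 0, 12, 0, 1, 6, 0, 7, 0]),
  ([3, 0, 3, 0, 0, 3, 0, 3, 2, 0, 11, 0, 0, 2, 0, 11], [11, 0, 10, 0, 0, 11, 0, 10, 11, 0, 3, 0, 0, 11, 0, 3]),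
  ([0, 5, 0, 12, 9, 0, 6, 0, 0, 1, 0, 8, 7, 0, 4, 0], [0, 8, 0, 1, 4, 0, 7, 0, 0, 12, 0, 5, 6, 0, 9, 0]),
  ([0, 0, 5, 0, 0, 0, 0, 5, 5, 0, 0, 0, 0, 5, 0, 0], [0, 0, 8, 0, 0, 0, 0, 8, 8, 0, 0, 0, 0, 8, 0, 0]),
  ([0, 0, 0, 4, 0, 0, 2, 0, 0, 6, 0, 0, 3, 0, 0, 0], [0, 0, 0, 9, 0, 0, 11, 0, 0, 7, 0, 0, 10, 0, 0, 0]),
  ([0, 0, 1, 0, 0, 0, 0, 1, 12, 0, 0, 0, 0, 12, 0, 0], [0, 0, 12, 0, 0, 0, 0, 12, 1, 0, 0, 0, 0, 1, 0, 0]),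
  ([3, 0, 11, 0, 0, 3, 0, 11, 10, 0, 11, 0, 0, 10, 0, 11], [11, 0, 2, 0, 0, 11, 0, 2, 3, 0, 3, 0, 0, 3, 0, 3]),
  ([8, 0, 0, 0, 0, 8, 0, 0, 0, 0, 5, 0, 0, 0, 0, 5], [5, 0, 0, 0, 0, 5, 0, 0, 0, 0, 8, 0, 0, 0, 0, 8]),
  ([2, 0, 11, 0, 0, 2, 0, 11, 10, 0, 10, 0, 0, 10, 0, 10], [10, 0, 2, 0, 0, 10, 0, 2, 3, 0, 2, 0, 0, 3, 0, 2]),
  ([0, 5, 0, 5, 9, 0, 9, 0, 0, 5, 0, 8, 9, 0, 4, 0], [0, 8, 0, 8, 4, 0, 4, 0, 0, 8, 0, 5, 4, 0, 9, 0]),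
  ([2, 0, 10, 0, 0, 2, 0, 10, 11, 0, 10, 0, 0, 11, 0, 10], [10, 0, 3, 0, 0, 10, 0, 3, 2, 0, 2, 0, 0, 2, 0, 2]),
  ([0, 0, 0, 6, 0, 0, 3, 0, 0, 4, 0, 0, 2, 0, 0, 0], [0, 0, 0, 7, 0, 0, 10, 0, 0, 9, 0, 0, 11, 0, 0, 0]),
  ([0, 5, 0, 1, 9, 0, 7, 0, 0, 12, 0, 8, 6, 0, 4, 0], [0, 8, 0, 12, 4, 0, 6, 0, 0, 1, 0, 5, 7, 0, 9, 0]),
  ([2, 0, 2, 0, 0, 2, 0, 2, 3, 0, 10, 0, 0, 3, 0, 10], [10, 0, 11, 0, 0, 10, 0, 11, 10, 0, 2, 0, 0, 10, 0, 2]),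
  ([0, 9, 0, 0, 11, 0, 0, 0, 0, 0, 0, 6, 0, 0, 3, 0], [0, 6, 0, 0, 3, 0, 0, 0, 0, 0, 0, 9, 0, 0, 11, 0]),
  ([0, 12, 0, 8, 6, 0, 4, 0, 0, 8, 0, 12, 4, 0, 6, 0], [0, 12, 0, 5, 6, 0, 9, 0, 0, 5, 0, 12, 9, 0, 6, 0]),
  ([0, 12, 0, 12, 6, 0, 6, 0, 0, 1, 0, 12, 7, 0, 6, 0], [0, 12, 0, 1, 6, 0, 7, 0, 0, 12, 0, 12, 6, 0, 6, 0])]

/-- chain 1 of the complement over `ZMod 13` -/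
def chain13_1 : List (List ℕ × List ℕ) := [
  ([1, 0, 0, 0, 0, 1, 0, 0, 0, 0, 1, 0, 0, 0, 0, 1], [1, 0, 0, 0, 0, 1, 0, 0, 0, 0, 1, 0, 0, 0, 0, 1]),
  ([5, 0, 0, 0, 0, 5, 0, 0, 0, 0, 8, 0, 0, 0, 0, 8], [8, 0, 0, 0, 0, 8, 0, 0, 0, 0, 5, 0, 0, 0, 0, 5]),
  ([2, 0, 3, 0, 0, 2, 0, 3, 2, 0, 10, 0, 0, 2, 0, 10], [10, 0, 10, 0, 0, 10, 0, 10, 11, 0, 2, 0, 0, 11, 0, 2]),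
  ([12, 0, 0, 0, 0, 12, 0, 0, 0, 0, 12, 0, 0, 0, 0, 12], [12, 0, 0, 0, 0, 12, 0, 0, 0, 0, 12, 0, 0, 0, 0, 12]),
  ([10, 0, 2, 0, 0, 10, 0, 2, 3, 0, 2, 0, 0, 3, 0, 2], [2, 0, 11, 0, 0, 2, 0, 11, 10, 0, 10, 0, 0, 10, 0, 10]),
  ([10, 0, 11, 0, 0, 10, 0, 11, 10, 0, 2, 0, 0, 10, 0, 2], [2, 0, 2, 0, 0, 2, 0, 2, 3, 0, 10, 0, 0, 3, 0, 10]),
  ([10, 0, 10, 0, 0, 10, 0, 10, 11, 0, 2, 0, 0, 11, 0, 2], [2, 0, 3, 0, 0, 2, 0, 3, 2, 0, 10, 0, 0, 2, 0, 10]),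
  ([8, 0, 0, 0, 0, 8, 0, 0, 0, 0, 5, 0, 0, 0, 0, 5], [5, 0, 0, 0, 0, 5, 0, 0, 0, 0, 8, 0, 0, 0, 0, 8]),
  ([11, 0, 10, 0, 0, 11, 0, 10, 11, 0, 3, 0, 0, 11, 0, 3], [3, 0, 3, 0, 0, 3, 0, 3, 2, 0, 11, 0, 0, 2, 0, 11]),
  ([11, 0, 3, 0, 0, 11, 0, 3, 2, 0, 3, 0, 0, 2, 0, 3], [3, 0, 10, 0, 0, 3, 0, 10, 11, 0, 11, 0, 0, 11, 0, 11]),
  ([11, 0, 11, 0, 0, 11, 0, 11, 10, 0, 3, 0, 0, 10, 0, 3], [3, 0, 2, 0, 0, 3, 0, 2, 3, 0, 11, 0, 0, 3, 0, 11]),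
  ([3, 0, 10, 0, 0, 3, 0, 10, 11, 0, 11, 0, 0, 11, 0, 11], [11, 0, 3, 0, 0, 11, 0, 3, 2, 0, 3, 0, 0, 2, 0, 3]),
  ([11, 0, 2, 0, 0, 11, 0, 2, 3, 0, 3, 0, 0, 3, 0, 3], [3, 0, 11, 0, 0, 3, 0, 11, 10, 0, 11, 0, 0, 10, 0, 11]),
  ([3, 0, 11, 0, 0, 3, 0, 11, 10, 0, 11, 0, 0, 10, 0, 11], [11, 0, 2, 0, 0, 11, 0, 2, 3, 0, 3, 0, 0, 3, 0, 3]),
  ([3, 0, 2, 0, 0, 3, 0, 2, 3, 0, 11, 0, 0, 3, 0, 11], [11, 0, 11, 0, 0, 11, 0, 11, 10, 0, 3, 0, 0, 10, 0, 3]),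
  ([3, 0, 3, 0, 0, 3, 0, 3, 2, 0, 11, 0, 0, 2, 0, 11], [11, 0, 10, 0, 0, 11, 0, 10, 11, 0, 3, 0, 0, 11, 0, 3]),
  ([2, 0, 11, 0, 0, 2, 0, 11, 10, 0, 10, 0, 0, 10, 0, 10], [10, 0, 2, 0, 0, 10, 0, 2, 3, 0, 2, 0, 0, 3, 0, 2]),
  ([2, 0, 2, 0, 0, 2, 0, 2, 3, 0, 10, 0, 0, 3, 0, 10], [10, 0, 11, 0, 0, 10, 0, 11, 10, 0, 2, 0, 0, 10, 0, 2]),
  ([0, 0, 5, 0, 0, 0, 0, 5, 5, 0, 0, 0, 0, 5, 0, 0], [0, 0, 8, 0, 0, 0, 0, 8, 8, 0, 0, 0, 0, 8, 0, 0]),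
  ([0, 0, 1, 0, 0, 0, 0, 1, 12, 0, 0, 0, 0, 12, 0, 0], [0, 0, 12, 0, 0, 0, 0, 12, 1, 0, 0, 0, 0, 1, 0, 0]),
  ([2, 0, 10, 0, 0, 2, 0, 10, 11, 0, 10, 0, 0, 11, 0, 10], [10, 0, 3, 0, 0, 10, 0, 3, 2, 0, 2, 0, 0, 2, 0, 2]),
  ([10, 0, 3, 0, 0, 10, 0, 3, 2, 0, 2, 0, 0, 2, 0, 2], [2, 0, 10, 0, 0, 2, 0, 10, 11, 0, 10, 0, 0, 11, 0, 10]),
  ([0, 0, 12, 0, 0, 0, 0, 12, 1, 0, 0, 0, 0, 1, 0, 0], [0, 0, 1, 0, 0, 0, 0, 1, 12, 0, 0, 0, 0, 12, 0, 0]),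
  ([0, 0, 8, 0, 0, 0, 0, 8, 8, 0, 0, 0, 0, 8, 0, 0], [0, 0, 5, 0, 0, 0, 0, 5, 5, 0, 0, 0, 0, 5, 0, 0])]

/-- chain 2 of the complement over `ZMod 13` -/
def chain13_2 : List (List ℕ × List ℕ) := [
  ([1, 0, 0, 0, 0, 1, 0, 0, 0, 0, 1, 0, 0, 0, 0, 1], [1, 0, 0, 0, 0, 1, 0, 0, 0, 0, 1, 0, 0, 0, 0, 1]),
  ([5, 0, 0, 0, 0, 5, 0, 0, 0, 0, 8, 0, 0, 0, 0, 8], [8, 0, 0, 0, 0, 8, 0, 0, 0, 0, 5, 0, 0, 0, 0, 5]),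
  ([0, 0, 1, 0, 0, 0, 0, 1, 12, 0, 0, 0, 0, 12, 0, 0], [0, 0, 12, 0, 0, 0, 0, 12, 1, 0, 0, 0, 0, 1, 0, 0]),
  ([12, 0, 0, 0, 0, 12, 0, 0, 0, 0, 12, 0, 0, 0, 0, 12], [12, 0, 0, 0, 0, 12, 0, 0, 0, 0, 12, 0, 0, 0, 0, 12]),
  ([0, 0, 5, 0, 0, 0, 0, 5, 5, 0, 0, 0, 0, 5, 0, 0], [0, 0, 8, 0, 0, 0, 0, 8, 8, 0, 0, 0, 0, 8, 0, 0]),
  ([0, 0, 8, 0, 0, 0, 0, 8, 8, 0, 0, 0, 0, 8, 0, 0], [0, 0, 5, 0, 0, 0, 0, 5, 5, 0, 0, 0, 0, 5, 0, 0]),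
  ([8, 0, 0, 0, 0, 8, 0, 0, 0, 0, 5, 0, 0, 0, 0, 5], [5, 0, 0, 0, 0, 5, 0, 0, 0, 0, 8, 0, 0, 0, 0, 8]),
  ([0, 0, 12, 0, 0, 0, 0, 12, 1, 0, 0, 0, 0, 1, 0, 0], [0, 0, 1, 0, 0, 0, 0, 1, 12, 0, 0, 0, 0, 12, 0, 0])]

/-- chain 3 of the complement over `ZMod 13` -/
def chain13_3 : List (List ℕ × List ℕ) := [
  ([1, 0, 0, 0, 0, 1, 0, 0, 0, 0, 1, 0, 0, 0, 0, 1], [1, 0, 0, 0, 0, 1, 0, 0, 0, 0, 1, 0, 0, 0, 0, 1]),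
  ([12, 0, 0, 0, 0, 12, 0, 0, 0, 0, 12, 0, 0, 0, 0, 12], [12, 0, 0, 0, 0, 12, 0, 0, 0, 0, 12, 0, 0, 0, 0, 12])]

/-- chain 4 of the complement over `ZMod 13` -/
def chain13_4 : List (List ℕ × List ℕ) := [
  ([1, 0, 0, 0, 0, 1, 0, 0, 0, 0, 1, 0, 0, 0, 0, 1], [1, 0, 0, 0, 0, 1, 0, 0, 0, 0, 1, 0, 0, 0, 0, 1])]

instance fact_prime_13 : Fact (Nat.Prime 13) := ⟨by norm_num⟩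

theorem closed13_0 : Closed 13 chain13_0 := by
  unfold Closed
  decide +kernel

theorem closed13_1 : Closed 13 chain13_1 := by
  unfold Closed
  decide +kernel

theorem closed13_2 : Closed 13 chain13_2 := by
  unfold Closed
  decide +kernel

theorem closed13_3 : Closed 13 chain13_3 := by
  unfold Closed
  decide +kernel

theorem closed13_4 : Closed 13 chain13_4 := by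
  unfold Closed
  decide +kernel

theorem comm13_0 : CommInto 13 chain13_0 chain13_1 := by
  unfold CommInto
  decide +kernel

theorem comm13_1 : CommInto 13 chain13_1 chain13_2 := by
  unfold CommInto
  decide +kernel

theorem comm13_2 : CommInto 13 chain13_2 chain13_3 := by
  unfold CommInto
  decide +kernel

theorem comm13_3 : CommInto 13 chain13_3 chain13_4 := by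
  unfold CommInto
  decide +kernel

theorem data13 : OrderData 13 chain13_0 [2, 3, 4, 6, 8] := by
  unfold OrderData
  decide +kernel

end Cfsg.Agent.FrobSpec
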