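import Mathlib
import Cfsg.Agent.Lib.Recog.FrobeniusSpectrum

/-! A fixed-point-free complement over ZMod 7. -/

set_option autoImplicit false
set_option maxRecDepth 20000

namespace Cfsg.Agent.FrobSpec

/-- chain 0 of the complement over `ZMod 7` -/
def chain7_0 : List (List ℕ × List ℕ) := [
  ([1, 0, 0, 0, 0, 1, 0, 0, 0, 0, 1, 0, 0, 0, 0, 1], [1, 0, 0, 0, 0, 1, 0, 0, 0, 0, 1, 0, 0, 0, 0, 1]),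
  ([2, 0, 0, 0, 0, 2, 0, 0, 0, 0, 4, 0, 0, 0, 0, 4], [4, 0, 0, 0, 0, 4, 0, 0, 0, 0, 2, 0, 0, 0, 0, 2]),
  ([0, 0, 1, 0, 0, 0, 0, 1, 0, 6, 0, 0, 1, 0, 0, 0], [0, 0, 0, 1, 0, 0, 6, 0, 1, 0, 0, 0, 0, 1, 0, 0]),
  ([4, 0, 0, 0, 0, 4, 0, 0, 0, 0, 2, 0, 0, 0, 0, 2], [2, 0, 0, 0, 0, 2, 0, 0, 0, 0, 4, 0, 0, 0, 0, 4]),
  ([0, 0, 2, 0, 0, 0, 0, 2, 0, 3, 0, 0, 4, 0, 0, 0], [0, 0, 0, 2, 0, 0, 5, 0, 4, 0, 0, 0, 0, 4, 0, 0]),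
  ([0, 0, 4, 0, 0, 0, 0, 4, 0, 5, 0, 0, 2, 0, 0, 0], [0, 0, 0, 4, 0, 0, 3, 0, 2, 0, 0, 0, 0, 2, 0, 0]),
  ([0, 6, 0, 0, 1, 0, 0, 0, 0, 0, 0, 6, 0, 0, 1, 0], [0, 1, 0, 0, 6, 0, 0, 0, 0, 0, 0, 1, 0, 0, 6, 0]),
  ([0, 5, 0, 0, 2, 0, 0, 0, 0, 0, 0, 3, 0, 0, 4, 0], [0, 4, 0, 0, 3, 0, 0, 0, 0, 0, 0, 2, 0, 0, 5, 0]),
  ([0, 3, 0, 0, 4, 0, 0, 0, 0, 0, 0, 5, 0, 0, 2, 0], [0, 2, 0, 0, 5, 0, 0, 0, 0, 0, 0, 4, 0, 0, 3, 0]),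
  ([0, 0, 0, 6, 0, 0, 1, 0, 6, 0, 0, 0, 0, 6, 0, 0], [0, 0, 6, 0, 0, 0, 0, 6, 0, 1, 0, 0, 6, 0, 0, 0]),
  ([0, 0, 0, 5, 0, 0, 2, 0, 3, 0, 0, 0, 0, 3, 0, 0], [0, 0, 5, 0, 0, 0, 0, 5, 0, 4, 0, 0, 3, 0, 0, 0]),
  ([0, 0, 0, 3, 0, 0, 4, 0, 5, 0, 0, 0, 0, 5, 0, 0], [0, 0, 3, 0, 0, 0, 0, 3, 0, 2, 0, 0, 5, 0, 0, 0]),
  ([6, 0, 0, 0, 0, 6, 0, 0, 0, 0, 6, 0, 0, 0, 0, 6], [6, 0, 0, 0, 0, 6, 0, 0, 0, 0, 6, 0, 0, 0, 0, 6]),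
  ([5, 0, 0, 0, 0, 5, 0, 0, 0, 0, 3, 0, 0, 0, 0, 3], [3, 0, 0, 0, 0, 3, 0, 0, 0, 0, 5, 0, 0, 0, 0, 5]),
  ([3, 0, 0, 0, 0, 3, 0, 0, 0, 0, 5, 0, 0, 0, 0, 5], [5, 0, 0, 0, 0, 5, 0, 0, 0, 0, 3, 0, 0, 0, 0, 3]),
  ([0, 0, 6, 0, 0, 0, 0, 6, 0, 1, 0, 0, 6, 0, 0, 0], [0, 0, 0, 6, 0, 0, 1, 0, 6, 0, 0, 0, 0, 6, 0, 0]),
  ([0, 0, 5, 0, 0, 0, 0, 5, 0, 4, 0, 0, 3, 0, 0, 0], [0, 0, 0, 5, 0, 0, 2, 0, 3, 0, 0, 0, 0, 3, 0, 0]),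
  ([0, 0, 3, 0, 0, 0, 0, 3, 0, 2, 0, 0, 5, 0, 0, 0], [0, 0, 0, 3, 0, 0, 4, 0, 5, 0, 0, 0, 0, 5, 0, 0]),
  ([0, 1, 0, 0, 6, 0, 0, 0, 0, 0, 0, 1, 0, 0, 6, 0], [0, 6, 0, 0, 1, 0, 0, 0, 0, 0, 0, 6, 0, 0, 1, 0]),
  ([0, 2, 0, 0, 5, 0, 0, 0, 0, 0, 0, 4, 0, 0, 3, 0], [0, 3, 0, 0, 4, 0, 0, 0, 0, 0, 0, 5, 0, 0, 2, 0]),
  ([0, 4, 0, 0, 3, 0, 0, 0, 0, 0, 0, 2, 0, 0, 5, 0], [0, 5, 0, 0, 2, 0, 0, 0, 0, 0, 0, 3, 0, 0, 4, 0]),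
  ([0, 0, 0, 1, 0, 0, 6, 0, 1, 0, 0, 0, 0, 1, 0, 0], [0, 0, 1, 0, 0, 0, 0, 1, 0, 6, 0, 0, 1, 0, 0, 0]),
  ([0, 0, 0, 2, 0, 0, 5, 0, 4, 0, 0, 0, 0, 4, 0, 0], [0, 0, 2, 0, 0, 0, 0, 2, 0, 3, 0, 0, 4, 0, 0, 0]),
  ([0, 0, 0, 4, 0, 0, 3, 0, 2, 0, 0, 0, 0, 2, 0, 0], [0, 0, 4, 0, 0, 0, 0, 4, 0, 5, 0, 0, 2, 0, 0, 0])]

/-- chain 1 of the complement over `ZMod 7` -/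
def chain7_1 : List (List ℕ × List ℕ) := [
  ([1, 0, 0, 0, 0, 1, 0, 0, 0, 0, 1, 0, 0, 0, 0, 1], [1, 0, 0, 0, 0, 1, 0, 0, 0, 0, 1, 0, 0, 0, 0, 1]),
  ([2, 0, 0, 0, 0, 2, 0, 0, 0, 0, 4, 0, 0, 0, 0, 4], [4, 0, 0, 0, 0, 4, 0, 0, 0, 0, 2, 0, 0, 0, 0, 2]),
  ([4, 0, 0, 0, 0, 4, 0, 0, 0, 0, 2, 0, 0, 0, 0, 2], [2, 0, 0, 0, 0, 2, 0, 0, 0, 0, 4, 0, 0, 0, 0, 4])]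

/-- chain 2 of the complement over `ZMod 7` -/
def chain7_2 : List (List ℕ × List ℕ) := [
  ([1, 0, 0, 0, 0, 1, 0, 0, 0, 0, 1, 0, 0, 0, 0, 1], [1, 0, 0, 0, 0, 1, 0, 0, 0, 0, 1, 0, 0, 0, 0, 1])]

instance fact_prime_7 : Fact (Nat.Prime 7) := ⟨by norm_num⟩

theorem closed7_0 : Closed 7 chain7_0 := by
  unfold Closed
  decide +kernel

theorem closed7_1 : Closed 7 chain7_1 := by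
  unfold Closed
  decide +kernel

theorem closed7_2 : Closed 7 chain7_2 := by
  unfold Closed
  decide +kernel

theorem comm7_0 : CommInto 7 chain7_0 chain7_1 := by
  unfold CommInto
  decide +kernel

theorem comm7_1 : CommInto 7 chain7_1 chain7_2 := by
  unfold CommInto
  decide +kernel

theorem data7 : OrderData 7 chain7_0 [2, 3, 4, 6, 8, 12] := by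
  unfold OrderData
  decide +kernel

end Cfsg.Agent.FrobSpec
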