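import Mathlib
import Cfsg.Agent.Lib.Recog.GL42

/-! The point stabilisers of `GL(4,2) ≅ A₈` are doubly transitive on the fifteen non-zero vectors. -/

set_option autoImplicit false

namespace Cfsg.Agent.Recog.GL42Seven

open Matrix
open Cfsg.Agent.Recog.GL42

def M1 : M4 := !![1, 1, 0, 0; 0, 1, 1, 0; 1, 1, 1, 1; 0, 0, 0, 1]

def M2 : M4 := !![1, 1, 1, 1; 0, 0, 0, 1; 0, 1, 1, 0; 0, 1, 0, 0]

def N1 : M4 := !![0, 1, 1, 1; 1, 1, 1, 1; 1, 0, 1, 1; 0, 0, 0, 1]

def N2 : M4 := !![1, 1, 1, 0; 0, 0, 0, 1; 0, 0, 1, 1; 0, 1, 0, 0]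

def p1 : Fin 8 → Fin 8 := ![0, 5, 3, 6, 1, 7, 4, 2]

def p2 : Fin 8 → Fin 8 := ![0, 5, 4, 7, 3, 1, 6, 2]

def tab : List Bool := [false, false, false, false, false, false, false, false, false, false, false, false, false, false, false, false, false, false, false, true, false, true, false, true, true, true, false, true, true, true, false, true, false, false, false, false, false, true, false, true, false, false, true, true, false, false, true, false, false, false, true, false, false, false, false, false, false, false, true, true, false, true, true, false, false, true, true, false, false, true, true, true, true, true, true, true, false, true, true, true, false, false, true, false, false, false, true, false, false, false, false, false, false, false, true, false, false, true, true, false, true, false, false, false, false, false, false, false, true, true, false, false, false, false, false, true, true, false, false, false, true, false, false, false, true, true, true, false, false, false, true, false, true, true, true, true,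 false, true, false, true, true, true, false, true, false, true, false, false, true, false, false, false, true, false, false, false, true, false, true, false, false, true, false, false, false, false, true, true, true, false, false, false, false, false, false, true, false, false, false, true, false, false, true, false, true, true, false, false, false, true, false, false, false, false, true, true, true, true, false, false, true, true, false, false, false, false, true, false, false, true, true, false, false, true, true, false, true, false, false, true, false, false, false, false, false, false, true, false, false, true, true, false, true, false, true, false, true, true, false, false, false, false, true, false, false, false, false, false, true, true, false, false, false, true, true, false]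

abbrev V := Fin 4 → ZMod 2

def base : V × V := (![1, 0, 0, 0], ![0, 1, 0, 0])

def code (v : V) : ℕ := (v 0).val + 2 * (v 1).val + 4 * (v 2).val + 8 * (v 3).val

def sel (p : V × V) : Bool := tab.getD (16 * code p.1 + code p.2) false

def back (p : V × V) : V × V :=
  if p = base then p else if sel p then (N2 *ᵥ p.1, N2 *ᵥ p.2) else (N1 *ᵥ p.1, N1 *ᵥ p.2)

def chk (v w : V) : Bool := decide (v = 0) || decide (w = 0) || decide (v = w) || decide (back^[10] (v, w) = base)

theorem chk_ok : ∀ v w : V, chk v w = true := by decide +kernel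

theorem back_ok (v w : V) (hv : v ≠ 0) (hw : w ≠ 0) (hvw : v ≠ w) : back^[10] (v, w) = base := by
  simpa [chk, hv, hw, hvw] using chk_ok v w

theorem p_ok : Function.Bijective p1 ∧ Function.Bijective p2 ∧ p1 0 = 0 ∧ p2 0 = 0 ∧
    (∀ k l, k ≠ l → M1 * frm k l * M1ᵀ = frm (p1 k) (p1 l)) ∧
    (∀ k l, k ≠ l → M2 * frm k l * M2ᵀ = frm (p2 k) (p2 l)) ∧
    M1 * N1 = 1 ∧ N1 * M1 = 1 ∧ M2 * N2 = 1 ∧ N2 * M2 = 1 := by
  decide +kernel

def g1 : GL (Fin 4) (ZMod 2) := ⟨M1, N1, p_ok.2.2.2.2.2.2.1, p_ok.2.2.2.2.2.2.2.1⟩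

def g2 : GL (Fin 4) (ZMod 2) := ⟨M2, N2, p_ok.2.2.2.2.2.2.2.2.1, p_ok.2.2.2.2.2.2.2.2.2⟩

theorem hom_g1 : hom g1 0 = 0 := by
  rw [rel_unique (hom_rel g1) (σ := hom g1) (τ := Equiv.ofBijective p1 p_ok.1) p_ok.2.2.2.2.1]
  exact p_ok.2.2.1

theorem hom_g2 : hom g2 0 = 0 := by
  rw [rel_unique (hom_rel g2) (σ := hom g2) (τ := Equiv.ofBijective p2 p_ok.2.1) p_ok.2.2.2.2.2.1]
  exact p_ok.2.2.2.1

theorem reach (n : ℕ) : ∀ p : V × V, back^[n] p = base →
    ∃ g : GL (Fin 4) (ZMod 2), hom g 0 = 0 ∧ ((g : M4) *ᵥ base.1, (g : M4) *ᵥ base.2) = p := by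
  induction n with
  | zero => exact fun p h => ⟨1, by simp, by simpa using (Eq.symm h)⟩
  | succ n ih =>
    intro p h
    rw [Function.iterate_succ_apply] at h
    obtain ⟨g, hg, hgp⟩ := ih _ h
    unfold back at hgp
    split_ifs at hgp
    · exact ⟨g, hg, hgp⟩
    · obtain ⟨e1, e2⟩ := Prod.ext_iff.1 hgp
      dsimp only at e1 e2
      refine ⟨g2 * g, by rw [map_mul, Equiv.Perm.mul_apply, hg, hom_g2], ?_⟩
      rw [Units.val_mul, ← mulVec_mulVec, ← mulVec_mulVec, e1, e2,
        mulVec_mulVec, mulVec_mulVec, show (g2 : M4) = M2 from rfl, p_ok.2.2.2.2.2.2.2.2.1, one_mulVec, one_mulVec]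
    · obtain ⟨e1, e2⟩ := Prod.ext_iff.1 hgp
      dsimp only at e1 e2
      refine ⟨g1 * g, by rw [map_mul, Equiv.Perm.mul_apply, hg, hom_g1], ?_⟩
      rw [Units.val_mul, ← mulVec_mulVec, ← mulVec_mulVec, e1, e2,
        mulVec_mulVec, mulVec_mulVec, show (g1 : M4) = M1 from rfl, p_ok.2.2.2.2.2.2.1, one_mulVec, one_mulVec]

theorem stab_two_transitive {v w v' w' : V} (hv : v ≠ 0) (hw : w ≠ 0) (hvw : v ≠ w)
    (hv' : v' ≠ 0) (hw' : w' ≠ 0) (hvw' : v' ≠ w') :
    ∃ g : GL (Fin 4) (ZMod 2), hom g 0 = 0 ∧ (g : M4) *ᵥ v = v' ∧ (g : M4) *ᵥ w = w' := by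
  obtain ⟨a, ha, hap⟩ := reach 10 _ (back_ok v w hv hw hvw)
  obtain ⟨b, hb, hbp⟩ := reach 10 _ (back_ok v' w' hv' hw' hvw')
  have e : ∀ x : V, ((b * a⁻¹ : GL (Fin 4) (ZMod 2)) : M4) *ᵥ ((a : M4) *ᵥ x) = (b : M4) *ᵥ x := fun x => by
    rw [mulVec_mulVec, ← Units.val_mul, inv_mul_cancel_right]
  obtain ⟨a1, a2⟩ := Prod.ext_iff.1 hap
  obtain ⟨b1, b2⟩ := Prod.ext_iff.1 hbp
  dsimp only at a1 a2 b1 b2
  refine ⟨b * a⁻¹, ?_, ?_, ?_⟩
  · rw [map_mul, Equiv.Perm.mul_apply, map_inv, Equiv.Perm.inv_eq_iff_eq.2 ha.symm, hb]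
  · rw [← a1, e, b1]
  · rw [← a2, e, b2]

end Cfsg.Agent.Recog.GL42Seven
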