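import Mathlib

/-!
Split extensions `Vᵏ ⋊ G` by a module over `𝔽_r` with the same prime graph as `G`, of unbounded order.
-/

set_option autoImplicit false

namespace Cfsg.Agent.GraphExt

/-- If `G` acts on a nontrivial finite group `V` of exponent `r` and every element of prime order `q ≠ r`
fixing a nonzero vector forces an element of order `r * q` in `G`, then there are arbitrarily large finite
groups with the prime graph of `G`. -/
theorem exists_large_same_graph {G V : Type*} [Group G] [Finite G] [AddCommGroup V] [Finite V] [Nontrivial V]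
    [DistribMulAction G V] (r : ℕ) (hr : r.Prime) (hrG : r ∣ Nat.card G) (hV : ∀ v : V, r • v = 0)
    (hfix : ∀ (g : G) (v : V), (orderOf g).Prime → orderOf g ≠ r → v ≠ 0 → g • v = v →
      ∃ x : G, orderOf x = r * orderOf g) (N : ℕ) :
    ∃ (H : Type) (_ : Group H) (_ : Fintype H), N < Nat.card H ∧
      ((∀ p : ℕ, p.Prime → (p ∣ Nat.card G ↔ p ∣ Nat.card H)) ∧
        (∀ p q : ℕ, p.Prime → q.Prime → p ≠ q →
          ((∃ x : G, orderOf x = p * q) ↔ (∃ y : H, orderOf y = p * q)))) := by
  classical
  let A := Fin (N + 1) → V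
  let ψ : G →* MulAut (Multiplicative A) := MonoidHom.mk'
    (fun g => AddEquiv.toMultiplicative (AddEquiv.piCongrRight fun _ : Fin (N + 1) => DistribMulAction.toAddEquiv V g))
    (fun g h => MulEquiv.ext fun a => by
      apply Multiplicative.toAdd.injective
      funext i
      exact mul_smul g h (a.toAdd i))
  let P := Multiplicative A ⋊[ψ] G
  haveI : Finite P := Finite.of_equiv _ SemidirectProduct.equivProd.symm
  let E : P ≃* Shrink.{0} P := Shrink.mulEquiv.symm
  haveI : Finite (Shrink.{0} P) := Finite.of_equiv P E.toEquiv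
  letI : Fintype (Shrink.{0} P) := Fintype.ofFinite _
  have hS : Nat.card (Shrink.{0} P) = Nat.card P := Nat.card_congr E.toEquiv.symm
  have hcard : Nat.card P = Nat.card V ^ (N + 1) * Nat.card G := by
    rw [SemidirectProduct.card, Nat.card_congr Multiplicative.toAdd, Nat.card_fun, Nat.card_fin]
  have hAexp : ∀ a : Multiplicative A, a ^ r = 1 := fun a => by
    apply Multiplicative.toAdd.injective
    funext i
    exact hV (a.toAdd i)
  refine ⟨Shrink.{0} P, inferInstance, inferInstance, ?_, ?_, ?_⟩
  · rw [hS, hcard]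
    have h1 : 1 < Nat.card V := Finite.one_lt_card
    calc N < N + 1 := Nat.lt_succ_self N
      _ ≤ Nat.card V ^ (N + 1) := (Nat.lt_pow_self h1).le
      _ ≤ _ := Nat.le_mul_of_pos_right _ Nat.card_pos
  · intro p hp
    rw [hS, hcard]
    refine ⟨fun h => h.trans (Nat.dvd_mul_left _ _), fun h => ?_⟩
    rcases hp.dvd_mul.mp h with h | h
    · haveI := Fact.mk hr
      have hVp : IsPGroup r (Multiplicative V) := fun v => ⟨1, by
        rw [pow_one]; exact Multiplicative.toAdd.injective (hV v.toAdd)⟩
      obtain ⟨k, hk⟩ := IsPGroup.iff_card.mp hVp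
      rw [show Nat.card V = r ^ k from (Nat.card_congr Multiplicative.toAdd).symm.trans hk] at h
      rwa [(Nat.prime_dvd_prime_iff_eq hp hr).mp (hp.dvd_of_dvd_pow (hp.dvd_of_dvd_pow h))]
    · exact h
  · intro p q hp hq hpq
    constructor
    · rintro ⟨x, hx⟩
      exact ⟨E (SemidirectProduct.inr x), by
        rw [MulEquiv.orderOf_eq, orderOf_injective _ SemidirectProduct.inr_injective, hx]⟩
    · rintro ⟨y, hy⟩
      obtain ⟨z, rfl⟩ := E.surjective y
      rw [MulEquiv.orderOf_eq] at hy
      set g : G := z.right with hg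
      have hd : orderOf g ∣ p * q := hy ▸ orderOf_map_dvd (SemidirectProduct.rightHom : P →* G) z
      rcases eq_or_ne (orderOf g) (p * q) with ho | ho
      · exact ⟨g, ho⟩
      have hzo : z ^ orderOf g = SemidirectProduct.inl (z ^ orderOf g).left := by
        ext
        · simp
        · show SemidirectProduct.rightHom (z ^ orderOf g) = 1
          rw [map_pow]
          exact pow_orderOf_eq_one g
      have hzr : (z ^ orderOf g) ^ r = 1 := by rw [hzo, ← map_pow, hAexp, map_one]
      have hdr : p * q ∣ orderOf g * r := by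
        rw [← hy]; exact orderOf_dvd_of_pow_eq_one (by rw [pow_mul, hzr])
      have hne : z ^ orderOf g ≠ 1 := fun h => ho (Nat.dvd_antisymm hd (hy ▸ orderOf_dvd_of_pow_eq_one h))
      obtain ⟨s, hs, hs'⟩ : ∃ s : ℕ, p * q = r * s ∧ (s.Prime ∧ s ≠ r ∧ orderOf g = s) := by
        have hor : orderOf g = p ∧ q = r ∨ orderOf g = q ∧ p = r := by
          obtain ⟨c, hc⟩ := hd
          have hc' : c ∣ r := by
            rw [hc] at hdr
            exact (Nat.mul_dvd_mul_iff_left (orderOf_pos g)).mp hdr
          rcases (Nat.dvd_prime hr).mp hc' with rfl | rfl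
          · exact absurd (by rw [hc, mul_one]) ho
          have hrpq : c ∣ p * q := ⟨orderOf g, by rw [hc, mul_comm]⟩
          rcases (hr.dvd_mul.mp hrpq) with h | h
          · have := (Nat.prime_dvd_prime_iff_eq hr hp).mp h
            subst this
            rw [mul_comm c q] at hc
            exact Or.inr ⟨(Nat.eq_of_mul_eq_mul_right hr.pos hc).symm, rfl⟩
          · have := (Nat.prime_dvd_prime_iff_eq hr hq).mp h
            subst this
            exact Or.inl ⟨(Nat.eq_of_mul_eq_mul_right hr.pos hc).symm, rfl⟩
        rcases hor with ⟨h1, h2⟩ | ⟨h1, h2⟩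
        · exact ⟨p, by rw [h2, mul_comm], hp, h2 ▸ hpq, h1⟩
        · exact ⟨q, by rw [h2], hq, h2 ▸ hpq.symm, h1⟩
      obtain ⟨hsp, hsr, hgs⟩ := hs'
      set w := (z ^ orderOf g).left with hw
      have hw0 : w.toAdd ≠ 0 := fun h => hne (by rw [hzo, show w = 1 from h, map_one])
      obtain ⟨i, hi⟩ := Function.ne_iff.mp hw0
      have hcomm : ψ g w = w := by
        have hr1 : (z ^ orderOf g).right = 1 := by
          show SemidirectProduct.rightHom (z ^ orderOf g) = 1
          rw [map_pow]
          exact pow_orderOf_eq_one g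
        have h1 := congrArg SemidirectProduct.left (Commute.self_pow z (orderOf g)).eq
        rw [SemidirectProduct.mul_left, SemidirectProduct.mul_left, hr1, map_one, MulAut.one_apply,
          mul_comm (z ^ orderOf g).left z.left] at h1
        exact mul_left_cancel h1
      have hfi : g • (w.toAdd i) = w.toAdd i := congrArg (fun a : Multiplicative A => a.toAdd i) hcomm
      obtain ⟨x, hx⟩ := hfix g (w.toAdd i) (hgs ▸ hsp) (hgs ▸ hsr) hi hfi
      exact ⟨x, by rw [hx, hgs, hs]⟩

end Cfsg.Agent.GraphExt
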