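import Mathlib

/-!
A Hall-Higman style bound: an element with distinct eigenvalues acting nontrivially on a coprime prime-power group.
-/

set_option autoImplicit false

namespace Cfsg.Agent.Recog.HuppertKey

open Matrix Finset
open scoped commutatorElement

variable {G K : Type*} [Group G] [Field K] {n : ℕ}

/-- commuting with a diagonal matrix with distinct entries -/
theorem diag_of_commute {μ : Fin n → K} (hμ : Function.Injective μ) {M : Matrix (Fin n) (Fin n) K}
    (h : M * diagonal μ = diagonal μ * M) : M = diagonal fun i => M i i := by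
  ext i j
  by_cases hij : i = j
  · subst hij; simp
  · have h' := congrFun (congrFun h i) j
    rw [mul_diagonal, diagonal_mul, mul_comm] at h'
    rw [diagonal_apply_ne _ hij]
    by_contra hne
    exact hij (hμ (mul_right_cancel₀ hne h'.symm))

section Setting

variable (φ : G →* Matrix (Fin n) (Fin n) K) (r e : ℕ) (x : G) (μ : Fin n → K)

/-- the standing hypotheses on the element -/
structure Good : Prop where
  inj : Function.Injective φ
  prime : r.Prime
  pos : 1 ≤ e
  order : orderOf x = r ^ e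
  small : n < r
  cast : (r : K) ≠ 0
  dist : Function.Injective μ
  diag : φ (x ^ r ^ (e - 1)) = diagonal μ

variable {φ r e x μ}

theorem Good.central (h : Good φ r e x μ) {g : G} (hg : Commute g (x ^ r ^ (e - 1))) :
    φ g = diagonal fun i => φ g i i :=
  diag_of_commute h.dist (by rw [← h.diag, ← map_mul, hg.eq, map_mul])

theorem Good.comm (h : Good φ r e x μ) {g g' : G} (hg : Commute g (x ^ r ^ (e - 1)))
    (hg' : Commute g' (x ^ r ^ (e - 1))) : Commute g g' := by
  refine h.inj ?_
  rw [map_mul, map_mul, h.central hg, h.central hg', diagonal_mul_diagonal, diagonal_mul_diagonal]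
  simp [mul_comm]

theorem Good.diag_x (h : Good φ r e x μ) : φ x = diagonal fun i => φ x i i :=
  h.central (Commute.self_pow x _)

theorem Good.diag_pow (h : Good φ r e x μ) (m : ℕ) : φ (x ^ m) = diagonal fun i => φ x i i ^ m := by
  rw [map_pow, h.diag_x, diagonal_pow]
  congr 1
  ext i
  simp

theorem Good.lam_pow (h : Good φ r e x μ) (i : Fin n) : φ x i i ^ (r ^ e) = 1 := by
  have := congrFun (congrFun (h.diag_pow (r ^ e)) i) i
  rw [← h.order, pow_orderOf_eq_one, map_one, diagonal_apply_eq, one_apply_eq] at this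
  rw [← h.order]; exact this.symm

theorem Good.lam_inj (h : Good φ r e x μ) : Function.Injective fun i => φ x i i := by
  intro i j hij
  apply h.dist
  have h1 := congrFun (congrFun (h.diag_pow (r ^ (e - 1))) i) i
  have h2 := congrFun (congrFun (h.diag_pow (r ^ (e - 1))) j) j
  rw [h.diag, diagonal_apply_eq, diagonal_apply_eq] at h1 h2
  rw [h1, h2]
  simp only at hij
  rw [hij]

/-- A set of fewer than `r` values is not stable under a nontrivial root of unity. -/
theorem Good.exists_out (h : Good φ r e x μ) (J : Finset (Fin n)) (hJ : J.Nonempty) (c : K) (hc : c ^ (r ^ e) = 1)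
    (hc1 : c ≠ 1) : ∃ j ∈ J, ∀ i ∈ J, φ x i i ≠ c * φ x j j := by
  classical
  by_contra hne
  push Not at hne
  obtain ⟨j₀, hj₀⟩ := hJ
  have hord : r ≤ orderOf c := by
    obtain ⟨a, -, ha⟩ := (Nat.dvd_prime_pow h.prime).mp (orderOf_dvd_of_pow_eq_one hc)
    rcases Nat.eq_zero_or_pos a with rfl | hpos
    · exact absurd (orderOf_eq_one_iff.mp (by simpa using ha)) hc1
    · rw [ha]; exact Nat.le_self_pow (by omega) r
  have hne0 : φ x j₀ j₀ ≠ 0 := fun h0 => by
    have := h.lam_pow j₀
    rw [h0, zero_pow (pow_ne_zero _ h.prime.ne_zero)] at this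
    exact zero_ne_one this
  have hmem : ∀ m : ℕ, c ^ m * φ x j₀ j₀ ∈ J.image fun i => φ x i i := by
    intro m
    induction m with
    | zero => simpa using ⟨j₀, hj₀, rfl⟩
    | succ m ih =>
      obtain ⟨j, hj, hje⟩ := Finset.mem_image.mp ih
      obtain ⟨i, hi, hie⟩ := hne j hj
      exact Finset.mem_image.mpr ⟨i, hi, by rw [hie, hje, pow_succ']; ring⟩
  have hsub : (Finset.range r).image (fun m => c ^ m * φ x j₀ j₀) ⊆ J.image fun i => φ x i i := by
    intro y hy
    obtain ⟨m, -, rfl⟩ := Finset.mem_image.mp hy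
    exact hmem m
  have := Finset.card_le_card hsub
  rw [Finset.card_image_of_injOn, Finset.card_range] at this
  · have h2 := this.trans (Finset.card_image_le.trans (Finset.card_le_univ J))
    rw [Fintype.card_fin] at h2
    exact absurd h2 (not_le.mpr h.small)
  · intro a ha b hb hab
    have hab' : c ^ a = c ^ b := mul_right_cancel₀ hne0 hab
    exact pow_injOn_Iio_orderOf (lt_of_lt_of_le (Finset.mem_range.mp ha) hord)
      (lt_of_lt_of_le (Finset.mem_range.mp hb) hord) hab'

/-- `J` spans an invariant coordinate subspace. -/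
def Inv (φ : G →* Matrix (Fin n) (Fin n) K) (S : Subgroup G) (J : Finset (Fin n)) : Prop :=
  ∀ t ∈ S, ∀ i, i ∉ J → ∀ j ∈ J, φ t i j = 0

/-- the coordinate projection -/
def proj (J : Finset (Fin n)) : Matrix (Fin n) (Fin n) K := diagonal fun i => if i ∈ J then 1 else 0

theorem proj_mul_apply (J : Finset (Fin n)) (M : Matrix (Fin n) (Fin n) K) (i j : Fin n) :
    ((proj J : Matrix (Fin n) (Fin n) K) * M) i j = if i ∈ J then M i j else 0 := by
  rw [proj, diagonal_mul]; split_ifs <;> simp

theorem mul_proj_apply (J : Finset (Fin n)) (M : Matrix (Fin n) (Fin n) K) (i j : Fin n) :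
    (M * (proj J : Matrix (Fin n) (Fin n) K)) i j = if j ∈ J then M i j else 0 := by
  rw [proj, mul_diagonal]; split_ifs <;> simp

theorem map_inv_mul (g : G) : φ g⁻¹ * φ g = 1 := by rw [← map_mul, inv_mul_cancel, map_one]

theorem map_mul_inv (g : G) : φ g * φ g⁻¹ = 1 := by rw [← map_mul, mul_inv_cancel, map_one]

variable [Finite G] {S : Subgroup G} {s : ℕ}

/-- invariant coordinate subspaces have invariant complements -/
theorem Good.proj_comm (h : Good φ r e x μ) (hxS : ∀ t ∈ S, x * t * x⁻¹ ∈ S) (hS : (Nat.card S : K) ≠ 0)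
    {J : Finset (Fin n)} (hJ : Inv φ S J) {t : G} (ht : t ∈ S) : φ t * (proj J : Matrix (Fin n) (Fin n) K) = (proj J : Matrix (Fin n) (Fin n) K) * φ t := by
  classical
  haveI := Fintype.ofFinite S
  set P : Matrix (Fin n) (Fin n) K := proj J
  have hPP : ∀ u ∈ S, P * φ u * P = φ u * P := fun u hu => by
    ext i j
    rw [mul_proj_apply, mul_proj_apply]
    by_cases hj : j ∈ J
    · rw [if_pos hj, if_pos hj, proj_mul_apply]
      by_cases hi : i ∈ J
      · rw [if_pos hi]
      · rw [if_neg hi, hJ u hu i hi j hj]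
    · rw [if_neg hj, if_neg hj]
  let Q : Matrix (Fin n) (Fin n) K := ∑ u : S, φ (u : G) * P * φ (u : G)⁻¹
  have hQ : ∀ u ∈ S, φ u * Q = Q * φ u := by
    intro u hu
    simp only [Q, Finset.mul_sum, Finset.sum_mul]
    refine Fintype.sum_equiv (Equiv.mulLeft (⟨u, hu⟩ : S)) _ _ fun v => ?_
    simp only [Equiv.coe_mulLeft, Subgroup.coe_mul, _root_.mul_inv_rev, map_mul, mul_assoc, map_inv_mul, mul_one]
  have hQX : Q * φ x = φ x * Q := by
    simp only [Q, Finset.mul_sum, Finset.sum_mul]
    let σ : S → S := fun u => ⟨x * u * x⁻¹, hxS u u.2⟩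
    have hσ : Function.Bijective σ := Finite.injective_iff_bijective.mp fun a b hab => by
      have := congrArg Subtype.val hab
      exact Subtype.ext (mul_left_cancel (mul_right_cancel this))
    refine (Fintype.sum_bijective σ hσ _ _ fun u => ?_).symm
    have hPx : φ x * P = P * φ x := by
      rw [h.diag_x, show P = proj J from rfl, proj, diagonal_mul_diagonal, diagonal_mul_diagonal]
      simp [mul_comm]
    show φ x * (φ (u : G) * P * φ (u : G)⁻¹) = φ (x * u * x⁻¹) * P * φ (x * u * x⁻¹)⁻¹ * φ x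
    simp only [_root_.mul_inv_rev, inv_inv, map_mul, mul_assoc, map_inv_mul, mul_one]
    have hPx' : φ x⁻¹ * (P * (φ x * φ (u : G)⁻¹)) = P * φ (u : G)⁻¹ := by
      rw [← mul_assoc P, ← hPx, mul_assoc, ← mul_assoc (φ x⁻¹), map_inv_mul, one_mul]
    rw [hPx']
  have hQd : Q = diagonal fun i => Q i i := diag_of_commute h.lam_inj (by rw [← h.diag_x]; exact hQX)
  have h1 : P * Q = Q := by
    simp only [Q, Finset.mul_sum]
    refine Finset.sum_congr rfl fun u _ => ?_
    rw [← mul_assoc, ← mul_assoc, hPP u u.2]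
  have h2 : Q * P = (Nat.card S : K) • P := by
    simp only [Q, Finset.sum_mul]
    rw [Finset.sum_congr rfl fun (u : S) _ => show φ (u : G) * P * φ (u : G)⁻¹ * P = P by
      rw [mul_assoc _ (φ (u : G)⁻¹), mul_assoc, ← mul_assoc P, hPP _ (S.inv_mem u.2), ← mul_assoc, map_mul_inv,
        one_mul]]
    rw [Finset.sum_const, Finset.card_univ, Nat.card_eq_fintype_card, Nat.cast_smul_eq_nsmul]
  have hQP : Q = (Nat.card S : K) • P := by
    rw [← h2]
    conv_lhs => rw [← h1, hQd]
    conv_rhs => rw [hQd]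
    rw [show P = proj J from rfl, proj, diagonal_mul_diagonal, diagonal_mul_diagonal]
    simp [mul_comm]
  have := hQ t ht
  rw [hQP, mul_smul_comm, smul_mul_assoc] at this
  exact smul_right_injective _ hS this

/-- the commutant of a minimal invariant block is scalar -/
theorem Good.scalar (h : Good φ r e x μ) (hxS : ∀ t ∈ S, x * t * x⁻¹ ∈ S) (hS : (Nat.card S : K) ≠ 0)
    {J : Finset (Fin n)} (hJ : Inv φ S J) (hmin : ∀ J' ⊆ J, Inv φ S J' → J' = ∅ ∨ J' = J) (f : Matrix (Fin n) (Fin n) K)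
    (hsupp : ∀ i j, f i j ≠ 0 → i ∈ J ∧ j ∈ J) (hf : ∀ t ∈ S, φ t * f = f * φ t) :
    ∃ a : K, f = a • (proj J : Matrix (Fin n) (Fin n) K) := by
  classical
  set k := r ^ e
  set L : Fin n → K := fun i => φ x i i
  have hL0 : ∀ i, L i ≠ 0 := fun i h0 => by
    have := h.lam_pow i
    rw [show φ x i i = 0 from h0, zero_pow (pow_ne_zero _ h.prime.ne_zero)] at this
    exact zero_ne_one this
  have hk0 : (k : K) ≠ 0 := by rw [show k = r ^ e from rfl, Nat.cast_pow]; exact pow_ne_zero _ h.cast
  -- off-diagonal entries vanish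
  have hoff : ∀ i j, i ≠ j → f i j = 0 := by
    intro a b hab
    by_contra hne
    obtain ⟨haJ, hbJ⟩ := hsupp a b hne
    set c := L a * (L b)⁻¹ with hc
    have hc1 : c ≠ 1 := fun e => hab (h.lam_inj (mul_inv_eq_one₀ (hL0 b) |>.mp e))
    have hck : c ^ k = 1 := by rw [hc, mul_pow, inv_pow, h.lam_pow, h.lam_pow, inv_one, mul_one]
    have hc0 : c ≠ 0 := mul_ne_zero (hL0 a) (inv_ne_zero (hL0 b))
    let g : Matrix (Fin n) (Fin n) K := Matrix.of fun i j => if L i = c * L j then f i j else 0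
    have hg : (k : K) • g = ∑ m ∈ Finset.range k, (c⁻¹) ^ m • (φ (x ^ m) * f * φ (x ^ m)⁻¹) := by
      ext i j
      have hinv : ∀ m, φ (x ^ m)⁻¹ = diagonal fun l => (L l)⁻¹ ^ m := by
        intro m
        have h1 : φ (x ^ m) * φ (x ^ m)⁻¹ = 1 := map_mul_inv _
        have h2 : (diagonal fun l => (L l)⁻¹ ^ m) * φ (x ^ m) = 1 := by
          rw [h.diag_pow m, diagonal_mul_diagonal, ← diagonal_one]
          congr 1; ext l
          rw [← mul_pow, inv_mul_cancel₀ (hL0 l), one_pow]
        exact (left_inv_eq_right_inv h2 h1).symm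
      simp only [Matrix.sum_apply, Matrix.smul_apply, hinv, h.diag_pow, mul_diagonal, diagonal_mul, smul_eq_mul]
      rw [Finset.sum_congr rfl fun m _ => show c⁻¹ ^ m * (φ x i i ^ m * f i j * (L j)⁻¹ ^ m) =
        (c⁻¹ * L i * (L j)⁻¹) ^ m * f i j by rw [mul_pow, mul_pow]; ring, ← Finset.sum_mul]
      simp only [g, Matrix.of_apply]
      split_ifs with hij
      · rw [show c⁻¹ * L i * (L j)⁻¹ = 1 by
          rw [hij]; field_simp [hc0, hL0 j]]
        simp
      · rw [mul_zero, eq_comm]
        have hρ : c⁻¹ * L i * (L j)⁻¹ ≠ 1 := fun e => hij (by field_simp [hc0, hL0 j] at e; linear_combination e)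
        rw [geom_sum_eq hρ]
        have : (c⁻¹ * L i * (L j)⁻¹) ^ k = 1 := by
          rw [mul_pow, mul_pow, inv_pow, inv_pow, hck, h.lam_pow, h.lam_pow]; simp
        simp [this]
    have hconj : ∀ m : ℕ, ∀ t ∈ S, x ^ m * t * (x ^ m)⁻¹ ∈ S := by
      intro m
      induction m with
      | zero => intro t ht; simpa using ht
      | succ m ih =>
        intro t ht
        rw [pow_succ', show x * x ^ m * t * (x * x ^ m)⁻¹ = x * (x ^ m * t * (x ^ m)⁻¹) * x⁻¹ by group]
        exact hxS _ (ih t ht)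
    have hback : ∀ m : ℕ, ∀ t ∈ S, (x ^ m)⁻¹ * t * x ^ m ∈ S := by
      intro m t ht
      obtain ⟨l, hl⟩ : ∃ l : ℕ, (x ^ m)⁻¹ = x ^ l := by
        have : (x ^ m)⁻¹ ∈ Submonoid.powers x := by
          rw [mem_powers_iff_mem_zpowers]; exact inv_mem (pow_mem (Subgroup.mem_zpowers x) m)
        exact this.elim fun l hl => ⟨l, hl.symm⟩
      have := hconj l t ht
      rwa [← hl, inv_inv] at this
    have hgc : ∀ t ∈ S, φ t * g = g * φ t := by
      intro t ht
      refine smul_right_injective _ hk0 (show (k : K) • (φ t * g) = (k : K) • (g * φ t) from ?_)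
      rw [← mul_smul_comm, ← smul_mul_assoc, hg, Finset.mul_sum, Finset.sum_mul]
      refine Finset.sum_congr rfl fun m _ => ?_
      rw [mul_smul_comm, smul_mul_assoc]
      congr 1
      have := hf _ (hback m t ht)
      calc φ t * (φ (x ^ m) * f * φ (x ^ m)⁻¹) = φ (x ^ m) * (φ ((x ^ m)⁻¹ * t * x ^ m) * f) * φ (x ^ m)⁻¹ := by
            simp only [← mul_assoc, ← map_mul, mul_inv_cancel, one_mul]
        _ = φ (x ^ m) * f * φ (((x ^ m)⁻¹ * t * x ^ m) * (x ^ m)⁻¹) := by
            rw [this, map_mul _ ((x ^ m)⁻¹ * t * x ^ m)]; simp only [mul_assoc]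
        _ = _ := by rw [mul_inv_cancel_right, map_mul]; simp only [mul_assoc]
    let J' := J.filter fun j => ∀ i, g i j = 0
    have hJ' : Inv φ S J' := by
      intro t ht i hi j hj
      obtain ⟨hjJ, hjg⟩ := Finset.mem_filter.mp hj
      by_cases hiJ : i ∈ J
      swap
      · exact hJ t ht i hiJ j hjJ
      obtain ⟨l, hl⟩ : ∃ l, g l i ≠ 0 := by
        by_contra h'
        push Not at h'
        exact hi (Finset.mem_filter.mpr ⟨hiJ, h'⟩)
      have h1 : (φ t * g) l j = 0 := by simp [Matrix.mul_apply, hjg]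
      rw [hgc t ht, Matrix.mul_apply, Finset.sum_eq_single i] at h1
      · exact (mul_eq_zero.mp h1).resolve_left hl
      · intro i' _ hne'
        have : g l i' = 0 := by
          by_contra hne2
          simp only [g, Matrix.of_apply, ne_eq, ite_eq_right_iff, not_forall] at hl hne2
          exact hne' (h.lam_inj (mul_left_cancel₀ hc0 (hne2.1.symm.trans hl.1)))
        rw [this, zero_mul]
      · intro hh; exact absurd (Finset.mem_univ i) hh
    obtain ⟨j, hj, hjc⟩ := h.exists_out J ⟨a, haJ⟩ c hck hc1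
    have hjmem : j ∈ J' := Finset.mem_filter.mpr ⟨hj, fun i => by
      simp only [g, Matrix.of_apply]
      split_ifs with hij
      · by_contra hh
        exact hjc i (hsupp i j hh).1 hij
      · rfl⟩
    rcases hmin J' (Finset.filter_subset _ _) hJ' with h0 | h0
    · rw [h0] at hjmem; simp at hjmem
    · have hb : b ∈ J' := h0 ▸ hbJ
      have := (Finset.mem_filter.mp hb).2 a
      simp only [g, Matrix.of_apply] at this
      rw [if_pos (by rw [hc, inv_mul_cancel_right₀ (hL0 b)])] at this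
      exact hne this
  rcases J.eq_empty_or_nonempty with rfl | ⟨a, ha⟩
  · refine ⟨0, ?_⟩
    ext i j
    by_contra hne
    exact absurd (hsupp i j (by simpa using hne)).1 (by simp)
  refine ⟨f a a, ?_⟩
  let J' := J.filter fun j => f j j = f a a
  have hJ' : Inv φ S J' := by
    intro t ht i hi j hj
    obtain ⟨hjJ, hje⟩ := Finset.mem_filter.mp hj
    by_cases hiJ : i ∈ J
    swap
    · exact hJ t ht i hiJ j hjJ
    have h1 := congrFun (congrFun (hf t ht) i) j
    rw [Matrix.mul_apply, Matrix.mul_apply, Finset.sum_eq_single j (fun l _ hl => by rw [hoff l j hl, mul_zero]) (by simp),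
      Finset.sum_eq_single i (fun l _ hl => by rw [hoff i l (Ne.symm hl), zero_mul]) (by simp), mul_comm] at h1
    by_contra hne
    exact hi (Finset.mem_filter.mpr ⟨hiJ, (mul_right_cancel₀ hne h1).symm.trans hje⟩)
  have hJJ : J' = J := (hmin J' (Finset.filter_subset _ _) hJ').resolve_left
    (Finset.nonempty_iff_ne_empty.mp ⟨a, Finset.mem_filter.mpr ⟨ha, rfl⟩⟩)
  ext i j
  rw [Matrix.smul_apply, smul_eq_mul, proj, diagonal_apply]
  by_cases hij : i = j
  · subst hij
    by_cases hi : i ∈ J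
    · rw [if_pos rfl, if_pos hi, mul_one]
      rw [← hJJ] at hi
      exact (Finset.mem_filter.mp hi).2
    · rw [if_pos rfl, if_neg hi, mul_zero]
      by_contra hne
      exact hi (hsupp i i hne).1
  · rw [if_neg hij, mul_zero, hoff i j hij]

/-- abelian normalised subgroups are centralised -/
theorem Good.abelian (h : Good φ r e x μ) (hxS : ∀ t ∈ S, x * t * x⁻¹ ∈ S) (hS : (Nat.card S : K) ≠ 0)
    (hab : ∀ a ∈ S, ∀ b ∈ S, Commute a b) : ∀ t ∈ S, Commute t (x ^ r ^ (e - 1)) := by
  classical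
  intro t ht
  have hd : ∀ i j, i ≠ j → φ t i j = 0 := by
    intro i j hij
    let 𝒥 := Finset.univ.filter fun J : Finset (Fin n) => j ∈ J ∧ Inv φ S J
    have h𝒥 : 𝒥.Nonempty := ⟨Finset.univ, Finset.mem_filter.mpr ⟨Finset.mem_univ _, Finset.mem_univ j,
      fun _ _ i hi => absurd (Finset.mem_univ i) hi⟩⟩
    obtain ⟨J, hJmem, hJmin⟩ := 𝒥.exists_minimal h𝒥
    obtain ⟨-, hjJ, hJ⟩ := Finset.mem_filter.mp hJmem
    have hmin : ∀ J' ⊆ J, Inv φ S J' → J' = ∅ ∨ J' = J := by
      intro J' hJ'sub hJ'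
      by_cases hj' : j ∈ J'
      · exact Or.inr (le_antisymm hJ'sub (hJmin (Finset.mem_filter.mpr ⟨Finset.mem_univ _, hj', hJ'⟩) hJ'sub))
      · left
        have hd : Inv φ S (J \ J') := by
          intro u hu a ha b hb
          obtain ⟨hbJ, hbJ'⟩ := Finset.mem_sdiff.mp hb
          by_cases haJ : a ∈ J
          swap
          · exact hJ u hu a haJ b hbJ
          have haJ' : a ∈ J' := by
            by_contra h'
            exact ha (Finset.mem_sdiff.mpr ⟨haJ, h'⟩)
          have := congrFun (congrFun (h.proj_comm hxS hS hJ' hu) a) b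
          rw [mul_proj_apply, proj_mul_apply, if_neg hbJ', if_pos haJ'] at this
          exact this.symm
        have := hJmin (Finset.mem_filter.mpr ⟨Finset.mem_univ _, Finset.mem_sdiff.mpr ⟨hjJ, hj'⟩, hd⟩)
          Finset.sdiff_subset
        rw [Finset.eq_empty_iff_forall_notMem]
        intro a ha
        exact (Finset.mem_sdiff.mp (this (hJ'sub ha))).2 ha
    obtain ⟨a, ha⟩ := h.scalar hxS hS hJ hmin (φ t * proj J) (fun i j hne => by
        rw [mul_proj_apply] at hne
        by_cases hj : j ∈ J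
        · refine ⟨?_, hj⟩
          rw [if_pos hj] at hne
          by_contra hi
          exact hne (hJ t ht i hi j hj)
        · rw [if_neg hj] at hne; exact absurd rfl hne)
      (fun u hu => by
        rw [mul_assoc, ← h.proj_comm hxS hS hJ hu, ← mul_assoc, ← mul_assoc, ← map_mul, ← map_mul, (hab u hu t ht).eq])
    have := congrFun (congrFun ha i) j
    rw [mul_proj_apply, if_pos hjJ, Matrix.smul_apply, proj, diagonal_apply_ne _ hij, smul_zero] at this
    exact this
  refine h.inj ?_
  rw [map_mul, map_mul, h.diag]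
  ext i j
  rw [mul_diagonal, diagonal_mul]
  by_cases hij : i = j
  · subst hij; exact mul_comm _ _
  · rw [hd i j hij]; simp

theorem Good.conj_pow (hxS : ∀ t ∈ S, x * t * x⁻¹ ∈ S) : ∀ (m : ℕ), ∀ t ∈ S, x ^ m * t * (x ^ m)⁻¹ ∈ S := by
  intro m
  induction m with
  | zero => intro t ht; simpa using ht
  | succ m ih =>
    intro t ht
    rw [pow_succ', show x * x ^ m * t * (x * x ^ m)⁻¹ = x * (x ^ m * t * (x ^ m)⁻¹) * x⁻¹ by group]
    exact hxS _ (ih t ht)

/-- a nontrivial power of `x` generates `x ^ r ^ (e - 1)` -/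
theorem Good.mem_zpowers (h : Good φ r e x μ) {i : ℕ} (hi : ¬ r ^ e ∣ i) :
    x ^ r ^ (e - 1) ∈ Subgroup.zpowers (x ^ i) := by
  obtain ⟨a, u, hu, rfl⟩ := Nat.exists_eq_pow_mul_and_not_dvd (show i ≠ 0 from fun h0 => hi (h0 ▸ dvd_zero _)) r
    h.prime.ne_one
  have ha : a ≤ e - 1 := by
    by_contra hc
    exact hi ((pow_dvd_pow r (by omega)).mul_right u)
  have hcop : (orderOf x).Coprime u := by
    rw [h.order]; exact ((Nat.Prime.coprime_iff_not_dvd h.prime).mpr hu).pow_left e
  have hmem : x ∈ Subgroup.zpowers (x ^ u) := by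
    obtain ⟨m, hm⟩ := exists_pow_eq_self_of_coprime hcop.symm
    exact ⟨m, show (x ^ u) ^ (m : ℤ) = x by rw [zpow_natCast]; exact hm⟩
  obtain ⟨l, hl⟩ := hmem
  refine ⟨l * (r ^ (e - 1 - a) : ℕ), ?_⟩
  simp only at hl ⊢
  calc (x ^ (r ^ a * u)) ^ (l * (r ^ (e - 1 - a) : ℕ)) = ((x ^ u) ^ l) ^ (r ^ a * r ^ (e - 1 - a) : ℕ) := by
        rw [← zpow_natCast x, ← zpow_natCast x u, ← zpow_natCast (_ : G), ← _root_.zpow_mul, ← _root_.zpow_mul, ← _root_.zpow_mul]
        push_cast
        ring_nf
    _ = x ^ r ^ (e - 1) := by rw [hl, ← pow_add, Nat.add_sub_cancel' ha]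

/-- Hall-Higman: the element has order at most one more than the dimension. -/
theorem Good.bound [Fact s.Prime] (h : Good φ r e x μ) (hs : IsPGroup s S) (hsr : s ≠ r) (hsK : (s : K) ≠ 0)
    (hxS : ∀ t ∈ S, x * t * x⁻¹ ∈ S) (hnc : ¬ ∀ t ∈ S, Commute t (x ^ r ^ (e - 1)))
    (hmin : ∀ T : Subgroup G, T ≤ S → T ≠ S → (∀ t ∈ T, x * t * x⁻¹ ∈ T) → ∀ t ∈ T, Commute t (x ^ r ^ (e - 1))) :
    r ^ e ≤ n + 1 ∧ (r ^ e = n + 1 → ∃ j : ℕ, n * n = s ^ j) := by
  classical
  set y := x ^ r ^ (e - 1) with hy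
  have hxy : Commute x y := Commute.self_pow x _
  obtain ⟨w, hw⟩ := hs.exists_card_eq
  have hS : (Nat.card S : K) ≠ 0 := by rw [hw, Nat.cast_pow]; exact pow_ne_zero _ hsK
  have hcopr : ∀ c ∈ S, c ^ (r ^ e) = 1 → c = 1 := by
    intro c hc hce
    refine orderOf_eq_one_iff.mp (Nat.eq_one_of_dvd_coprimes ?_
      (show orderOf c ∣ s ^ w by
        have := orderOf_dvd_natCard (⟨c, hc⟩ : S)
        rwa [hw, ← Subgroup.orderOf_coe] at this) (orderOf_dvd_of_pow_eq_one hce))
    exact Nat.Coprime.pow _ _ ((Nat.coprime_primes Fact.out h.prime).mpr hsr)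
  have hyS : ∀ t ∈ S, y * t * y⁻¹ ∈ S := Good.conj_pow hxS _
  -- the centralised part
  let Z : Subgroup G := S ⊓ Subgroup.centralizer {y}
  have hZ : ∀ z, z ∈ Z ↔ z ∈ S ∧ Commute z y := fun z => by
    simp only [Z, Subgroup.mem_inf, Subgroup.mem_centralizer_singleton_iff]
    exact Iff.and Iff.rfl ⟨fun e => e, fun e => e⟩
  have hZx : ∀ z ∈ Z, Commute z x := fun z hz => h.comm ((hZ z).mp hz).2 hxy
  have hnab : ¬ ∀ a ∈ S, ∀ b ∈ S, Commute a b := fun hab => hnc (h.abelian hxS hS hab)
  have hder : ∀ a ∈ S, ∀ b ∈ S, a * b * a⁻¹ * b⁻¹ ∈ Z := by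
    intro a ha b hb
    let D : Subgroup G := (commutator S).map S.subtype
    have hD : D ≤ S := Subgroup.map_subtype_le _
    have hne : D ≠ S := by
      intro hDS
      haveI : Group.IsNilpotent S := hs.isNilpotent
      haveI : Group.IsSolvable S := inferInstance
      haveI : Nontrivial S := by
        rw [Subgroup.nontrivial_iff_ne_bot]
        rintro rfl
        exact hnab fun a ha b hb => by rw [Subgroup.mem_bot.mp ha]; exact Commute.one_left b
      have htop : commutator S = ⊤ := Subgroup.map_injective S.subtype_injective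
        (by rw [← MonoidHom.range_eq_map, Subgroup.range_subtype]; exact hDS)
      exact (Group.IsSolvable.commutator_lt_top_of_nontrivial S).ne htop
    have hDinv : ∀ t ∈ D, x * t * x⁻¹ ∈ D := by
      let α : S →* S :=
        { toFun := fun t => ⟨x * t * x⁻¹, hxS t t.2⟩
          map_one' := Subtype.ext (by simp)
          map_mul' := fun u v => Subtype.ext (by simp [mul_assoc]) }
      rintro _ ⟨t, ht, rfl⟩
      refine ⟨α t, ?_, rfl⟩
      have : (commutator S).map α ≤ commutator S := by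
        rw [commutator_def, Subgroup.map_commutator]
        exact Subgroup.commutator_mono le_top le_top
      exact this (Subgroup.mem_map_of_mem α ht)
    have hmem : a * b * a⁻¹ * b⁻¹ ∈ D :=
      ⟨⁅(⟨a, ha⟩ : S), ⟨b, hb⟩⁆, Subgroup.commutator_mem_commutator (Subgroup.mem_top _) (Subgroup.mem_top _), rfl⟩
    exact (hZ _).mpr ⟨hD hmem, hmin D hD hne hDinv _ hmem⟩
  have hcent : ∀ z ∈ Z, ∀ t ∈ S, Commute z t := by
    let T : Subgroup G := S ⊓ Subgroup.centralizer (Z : Set G)
    by_cases hT : T = S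
    · intro z hz t ht
      have : t ∈ T := hT ▸ ht
      exact (Subgroup.mem_centralizer_iff.mp this.2 z hz)
    exfalso
    have hTinv : ∀ t ∈ T, x * t * x⁻¹ ∈ T := fun t ht => by
      refine ⟨hxS t ht.1, Subgroup.mem_centralizer_iff.mpr fun z hz => ?_⟩
      have h1 : z * t = t * z := Subgroup.mem_centralizer_iff.mp ht.2 z hz
      have h2 := (hZx z hz).eq
      have h3 : z * x⁻¹ = x⁻¹ * z := ((hZx z hz).inv_right).eq
      calc z * (x * t * x⁻¹) = (z * x) * t * x⁻¹ := by group
        _ = x * (z * t) * x⁻¹ := by rw [h2]; group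
        _ = x * t * (z * x⁻¹) := by rw [h1]; group
        _ = _ := by rw [h3]; group
    have hTc := hmin T inf_le_left hT hTinv
    refine hnc fun t ht => ?_
    set c := t⁻¹ * (y * t * y⁻¹) with hc
    have hcS : c ∈ S := S.mul_mem (S.inv_mem ht) (hyS t ht)
    have hcT : c ∈ T := ⟨hcS, Subgroup.mem_centralizer_iff.mpr fun z hz => by
      have h1 : t * z * t⁻¹ ∈ Z := by
        have := Z.mul_mem (hder t ht z ((hZ z).mp hz).1) hz
        rwa [inv_mul_cancel_right] at this
      have hy1 : z * y = y * z := ((hZ z).mp hz).2.eq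
      have hy2 := ((hZ _).mp h1).2.eq
      have e1 : y * t * z * t⁻¹ * y⁻¹ = t * z * t⁻¹ := by
        rw [show y * t * z * t⁻¹ = t * z * t⁻¹ * y by rw [hy2]; group]; group
      rw [hc]
      calc z * (t⁻¹ * (y * t * y⁻¹)) = t⁻¹ * (t * z * t⁻¹) * (y * t * y⁻¹) := by group
        _ = t⁻¹ * (y * t * z * t⁻¹ * y⁻¹) * (y * t * y⁻¹) := by rw [e1]
        _ = t⁻¹ * (y * t * (z * y⁻¹)) * y * y⁻¹ := by group
        _ = t⁻¹ * (y * t * (y⁻¹ * z)) := by rw [(Commute.inv_right (hy1 : Commute z y)).eq]; group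
        _ = _ := by group⟩
    have hcy : Commute c y := hTc c hcT
    have hm : ∀ m : ℕ, y ^ m * t * (y ^ m)⁻¹ = t * c ^ m := by
      intro m
      induction m with
      | zero => simp
      | succ m ih =>
        rw [pow_succ', _root_.mul_inv_rev, show y * y ^ m * t * ((y ^ m)⁻¹ * y⁻¹) = y * (y ^ m * t * (y ^ m)⁻¹) * y⁻¹ by group,
          ih, show y * (t * c ^ m) * y⁻¹ = (y * t * y⁻¹) * (y * c ^ m * y⁻¹) by group,
          show y * c ^ m * y⁻¹ = c ^ m by rw [← (hcy.pow_left m).eq, mul_inv_cancel_right],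
          show y * t * y⁻¹ = t * c by rw [hc, mul_inv_cancel_left], mul_assoc, ← pow_succ']
    have hc1 : c = 1 := by
      refine hcopr c hcS ?_
      have h1 := hm (r ^ e)
      have h2 : y ^ r ^ e = 1 := by rw [hy, ← pow_mul, mul_comm, pow_mul, ← h.order, pow_orderOf_eq_one, one_pow]
      rw [h2, inv_one, one_mul, mul_one] at h1
      exact mul_eq_left.mp h1.symm
    have h1 := hm 1
    rw [hc1, pow_one, pow_one, mul_one, mul_inv_eq_iff_eq_mul] at h1
    exact h1.symm
  -- no nontrivial power of `x` fixes a nontrivial coset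
  have hfree : ∀ i : ℕ, ¬ r ^ e ∣ i → ∀ t ∈ S, (x ^ i * t * (x ^ i)⁻¹) * t⁻¹ ∈ Z → t ∈ Z := by
    intro i hi t ht hz
    set u := x ^ i with hu
    set c := u * t * u⁻¹ * t⁻¹ with hc
    have hcu : Commute c u := (hZx c hz).pow_right i
    have hm : ∀ m : ℕ, u ^ m * t * (u ^ m)⁻¹ = c ^ m * t := by
      intro m
      induction m with
      | zero => simp
      | succ m ih =>
        rw [pow_succ' u, _root_.mul_inv_rev,
          show u * u ^ m * t * ((u ^ m)⁻¹ * u⁻¹) = u * (u ^ m * t * (u ^ m)⁻¹) * u⁻¹ by group, ih,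
          show u * (c ^ m * t) * u⁻¹ = (u * c ^ m * u⁻¹) * (u * t * u⁻¹) by group,
          show u * c ^ m * u⁻¹ = c ^ m by rw [← (hcu.pow_left m).eq, mul_inv_cancel_right],
          show u * t * u⁻¹ = c * t by rw [hc, inv_mul_cancel_right], ← mul_assoc, ← pow_succ]
    have hc1 : c = 1 := by
      refine hcopr c ((hZ c).mp hz).1 ?_
      have h1 := hm (r ^ e)
      rw [show u ^ r ^ e = 1 by rw [hu, ← pow_mul, mul_comm, pow_mul, ← h.order, pow_orderOf_eq_one, one_pow], inv_one,
        one_mul, mul_one] at h1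
      exact mul_eq_right.mp h1.symm
    have htu : Commute t u := by
      rw [hc, mul_inv_eq_one, mul_inv_eq_iff_eq_mul] at hc1
      exact hc1.symm
    obtain ⟨l, hl⟩ := h.mem_zpowers hi
    exact (hZ t).mpr ⟨ht, by rw [hy, ← show u ^ l = x ^ r ^ (e - 1) from hl]; exact htu.zpow_right l⟩
  -- the character
  obtain ⟨a₀, ha₀, b₀, hb₀, hab₀⟩ : ∃ a ∈ S, ∃ b ∈ S, ¬ Commute a b := by
    by_contra h'; push Not at h'; exact hnab h'
  set c₀ := a₀ * b₀ * a₀⁻¹ * b₀⁻¹
  have hc₀ : c₀ ≠ 1 := fun e1 => hab₀ (by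
    rw [mul_inv_eq_one, mul_inv_eq_iff_eq_mul] at e1; exact e1)
  have hdiag : ∀ z ∈ Z, φ z = diagonal fun i => φ z i i := fun z hz => h.central ((hZ z).mp hz).2
  obtain ⟨i₀, hi₀⟩ : ∃ i, φ c₀ i i ≠ 1 := by
    by_contra h'
    push Not at h'
    refine hc₀ (h.inj ?_)
    rw [map_one, hdiag c₀ (hder a₀ ha₀ b₀ hb₀), ← diagonal_one]
    exact congrArg diagonal (funext h')
  let χ : G → K := fun z => φ z i₀ i₀
  have hχmul : ∀ z ∈ Z, ∀ z' ∈ Z, χ (z * z') = χ z * χ z' := fun z hz z' hz' => by
    show φ (z * z') i₀ i₀ = _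
    rw [map_mul, hdiag z hz, diagonal_mul]
  have hχ1 : χ 1 = 1 := by show φ 1 i₀ i₀ = 1; rw [map_one, one_apply_eq]
  have hχ0 : ∀ z ∈ Z, χ z ≠ 0 := fun z hz h0 => by
    have := hχmul z hz z⁻¹ (Z.inv_mem hz)
    rw [mul_inv_cancel, hχ1, h0, zero_mul] at this
    exact one_ne_zero this
  have hcc : ∀ t ∈ S, ∀ a ∈ S, ∀ b ∈ S,
      t * (a * b) * t⁻¹ * (a * b)⁻¹ = (t * a * t⁻¹ * a⁻¹) * (t * b * t⁻¹ * b⁻¹) := by
    intro t ht a ha b hb
    have h1 := (hcent _ (hder t ht b hb) a ha).eq
    calc t * (a * b) * t⁻¹ * (a * b)⁻¹ = (t * a * t⁻¹) * ((t * b * t⁻¹ * b⁻¹) * a⁻¹) := by group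
      _ = (t * a * t⁻¹) * (a⁻¹ * (t * b * t⁻¹ * b⁻¹)) := by rw [(hcent _ (hder t ht b hb) _ (S.inv_mem ha)).eq]
      _ = _ := by group
  have hcc' : ∀ t ∈ S, ∀ a ∈ S, ∀ b ∈ S,
      (a * b) * t * (a * b)⁻¹ * t⁻¹ = (a * t * a⁻¹ * t⁻¹) * (b * t * b⁻¹ * t⁻¹) := by
    intro t ht a ha b hb
    calc (a * b) * t * (a * b)⁻¹ * t⁻¹ = a * (b * t * b⁻¹ * t⁻¹) * t * a⁻¹ * t⁻¹ := by group
      _ = (b * t * b⁻¹ * t⁻¹) * a * t * a⁻¹ * t⁻¹ := by rw [(hcent _ (hder b hb t ht) a ha).eq]
      _ = (b * t * b⁻¹ * t⁻¹) * (a * t * a⁻¹ * t⁻¹) := by group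
      _ = _ := (hcent _ (hder b hb t ht) _ ((hZ _).mp (hder a ha t ht)).1).eq
  -- nondegeneracy
  let R : Subgroup G :=
    { carrier := {t | t ∈ S ∧ ∀ u ∈ S, χ (u * t * u⁻¹ * t⁻¹) = 1}
      one_mem' := ⟨S.one_mem, fun u _ => by simp [hχ1]⟩
      mul_mem' := fun {a b} ha hb => ⟨S.mul_mem ha.1 hb.1, fun u hu => by
        rw [hcc u hu a ha.1 b hb.1, hχmul _ (hder u hu a ha.1) _ (hder u hu b hb.1), ha.2 u hu, hb.2 u hu, one_mul]⟩
      inv_mem' := fun {a} ha => ⟨S.inv_mem ha.1, fun u hu => by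
        have := hcc u hu a ha.1 a⁻¹ (S.inv_mem ha.1)
        rw [mul_inv_cancel, inv_one, mul_one, mul_one, mul_inv_cancel] at this
        have h2 := congrArg χ this
        rw [hχ1, hχmul _ (hder u hu a ha.1) _ (hder u hu a⁻¹ (S.inv_mem ha.1)), ha.2 u hu, one_mul] at h2
        exact h2.symm⟩ }
  have hR : ∀ t ∈ R, t ∈ Z := by
    have hne : R ≠ S := fun e1 => hi₀ ((show b₀ ∈ R from e1 ▸ hb₀).2 a₀ ha₀)
    have hinv : ∀ t ∈ R, x * t * x⁻¹ ∈ R := by
      rintro t ⟨ht, htR⟩
      refine ⟨hxS t ht, fun u hu => ?_⟩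
      obtain ⟨u', hu', rfl⟩ : ∃ u' ∈ S, x * u' * x⁻¹ = u := by
        let σ : S → S := fun u => ⟨x * u * x⁻¹, hxS u u.2⟩
        obtain ⟨⟨v, hv⟩, hv'⟩ := (Finite.injective_iff_surjective (f := σ)).mp (fun a b hab =>
          Subtype.ext (mul_left_cancel (mul_right_cancel (congrArg Subtype.val hab)))) ⟨u, hu⟩
        exact ⟨v, hv, congrArg Subtype.val hv'⟩
      rw [show x * u' * x⁻¹ * (x * t * x⁻¹) * (x * u' * x⁻¹)⁻¹ * (x * t * x⁻¹)⁻¹ = x * (u' * t * u'⁻¹ * t⁻¹) * x⁻¹ by
        group, ← (hZx _ (hder u' hu' t ht)).eq, mul_inv_cancel_right]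
      exact htR u' hu'
    exact fun t ht => (hZ t).mpr ⟨ht.1, hmin R (fun _ ha => ha.1) hne hinv t ht⟩
  -- the block
  let J₀ := Finset.univ.filter fun j => ∀ z ∈ Z, φ z j j = χ z
  have hJ₀ : Inv φ S J₀ := by
    intro t ht i hi j hj
    simp only [J₀, Finset.mem_filter, Finset.mem_univ, true_and, not_forall] at hi hj
    obtain ⟨z, hz, hne⟩ := hi
    have h1 := congrFun (congrFun (congrArg φ (hcent z hz t ht).eq) i) j
    rw [map_mul, map_mul, hdiag z hz, diagonal_mul, mul_diagonal, hj z hz] at h1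
    by_contra hh
    exact hne (mul_right_cancel₀ hh (h1.trans (mul_comm _ _)))
  let 𝒥 := Finset.univ.filter fun J : Finset (Fin n) => J.Nonempty ∧ J ⊆ J₀ ∧ Inv φ S J
  obtain ⟨J, hJmem, hJmin⟩ := 𝒥.exists_minimal ⟨J₀, Finset.mem_filter.mpr
    ⟨Finset.mem_univ _, ⟨i₀, Finset.mem_filter.mpr ⟨Finset.mem_univ _, fun _ _ => rfl⟩⟩, subset_rfl, hJ₀⟩⟩
  obtain ⟨-, hJne, hJsub, hJ⟩ := Finset.mem_filter.mp hJmem
  have hmin' : ∀ J' ⊆ J, Inv φ S J' → J' = ∅ ∨ J' = J := fun J' hs' hi' =>
    J'.eq_empty_or_nonempty.imp id fun hne => le_antisymm hs'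
      (hJmin (Finset.mem_filter.mpr ⟨Finset.mem_univ _, hne, hs'.trans hJsub, hi'⟩) hs')
  set P : Matrix (Fin n) (Fin n) K := proj J with hP
  have hPc : ∀ t ∈ S, φ t * P = P * φ t := fun t ht => h.proj_comm hxS hS hJ ht
  have hPP : P * P = P := by
    rw [hP, proj, diagonal_mul_diagonal]; congr 1; funext i; split_ifs <;> simp
  have hPx : φ x * P = P * φ x := by
    rw [h.diag_x, hP, proj, diagonal_mul_diagonal, diagonal_mul_diagonal]; simp [mul_comm]
  have hzP : ∀ z ∈ Z, φ z * P = χ z • P := by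
    intro z hz
    rw [hdiag z hz, hP, proj, diagonal_mul_diagonal, ← diagonal_smul]
    congr 1; funext i
    by_cases hi : i ∈ J
    · simp [if_pos hi, (Finset.mem_filter.mp (hJsub hi)).2 z hz]
    · simp [if_neg hi]
  haveI := Fintype.ofFinite S
  -- the projection onto one coset
  let Φ : G → Matrix (Fin n) (Fin n) K →ₗ[K] Matrix (Fin n) (Fin n) K := fun t₀ =>
    ∑ u : S, (χ ((u : G) * t₀ * (u : G)⁻¹ * t₀⁻¹))⁻¹ •
      ((LinearMap.mulLeft K (φ (u : G))).comp (LinearMap.mulRight K (φ (u : G)⁻¹)))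
  have hΦ : ∀ t₀ ∈ S, ∀ t ∈ S, Φ t₀ (φ t * P) =
      (if t * t₀⁻¹ ∈ Z then (Nat.card S : K) else 0) • (φ t * P) := by
    intro t₀ ht₀ t ht
    simp only [Φ, LinearMap.sum_apply, LinearMap.smul_apply, LinearMap.comp_apply, LinearMap.mulRight_apply,
      LinearMap.mulLeft_apply]
    have hterm : ∀ u : S, φ (u : G) * (φ t * P * φ (u : G)⁻¹) = χ ((u : G) * t * (u : G)⁻¹ * t⁻¹) • (φ t * P) := by
      intro u
      have hz := hder u u.2 t ht
      rw [mul_assoc (φ t), ← hPc _ (S.inv_mem u.2), ← mul_assoc, ← mul_assoc, ← map_mul, ← map_mul]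
      nth_rewrite 1 [show (u : G) * t * (u : G)⁻¹ = ((u : G) * t * (u : G)⁻¹ * t⁻¹) * t by group]
      rw [map_mul, mul_assoc, hPc t ht, ← mul_assoc, hzP _ hz, smul_mul_assoc]
    simp only [hterm, smul_smul]
    rw [← Finset.sum_smul]
    congr 1
    let v := t * t₀⁻¹
    have hv : v ∈ S := S.mul_mem ht (S.inv_mem ht₀)
    let ω : S →* K :=
      { toFun := fun u => χ ((u : G) * v * (u : G)⁻¹ * v⁻¹)
        map_one' := by simp [hχ1]
        map_mul' := fun a b => by
          simp only [Subgroup.coe_mul]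
          rw [hcc' v hv a a.2 b b.2, hχmul _ (hder a a.2 v hv) _ (hder b b.2 v hv)] }
    have hω : ∀ u : S, (χ ((u : G) * t₀ * (u : G)⁻¹ * t₀⁻¹))⁻¹ * χ ((u : G) * t * (u : G)⁻¹ * t⁻¹) = ω u := by
      intro u
      have e1 := hcc u u.2 v hv t₀ ht₀
      rw [inv_mul_cancel_right] at e1
      rw [e1, hχmul _ (hder u u.2 v hv) _ (hder u u.2 t₀ ht₀), mul_comm _ (χ ((u : G) * t₀ * _ * _)), ← mul_assoc,
        inv_mul_cancel₀ (hχ0 _ (hder u u.2 t₀ ht₀)), one_mul]
      rfl
    simp only [hω]
    by_cases hvZ : t * t₀⁻¹ ∈ Z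
    · rw [if_pos hvZ, Finset.sum_congr rfl fun (u : S) _ => show ω u = 1 from ?_, Finset.sum_const, Finset.card_univ,
        Nat.card_eq_fintype_card, nsmul_eq_mul, mul_one]
      show χ ((u : G) * v * (u : G)⁻¹ * v⁻¹) = 1
      rw [← (hcent v hvZ u u.2).eq, mul_inv_cancel_right, mul_inv_cancel, hχ1]
    · rw [if_neg hvZ]
      refine sum_hom_units_eq_zero ω fun e1 => hvZ (hR _ ⟨hv, fun u hu => ?_⟩)
      exact DFunLike.congr_fun e1 ⟨u, hu⟩
  -- cosets
  let Zs : Subgroup S := Z.subgroupOf S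
  let Q := S ⧸ Zs
  haveI := Fintype.ofFinite Q
  have hQ : ∀ a b : S, (QuotientGroup.mk a : Q) = QuotientGroup.mk b ↔ (a : G) * (b : G)⁻¹ ∈ Z := fun a b => by
    rw [QuotientGroup.eq]
    show ((a⁻¹ * b : S) : G) ∈ Z ↔ _
    constructor
    · intro hh
      have h1 := hcent _ hh a a.2
      have : (a : G) * (b : G)⁻¹ = ((a⁻¹ * b : S) : G)⁻¹ := by
        push_cast at h1 ⊢
        have h2 := h1.eq
        rw [mul_inv_cancel_left] at h2
        calc (a : G) * (b : G)⁻¹ = a * ((a : G)⁻¹ * b * a)⁻¹ := by rw [h2]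
          _ = _ := by group
      rw [this]; exact Z.inv_mem hh
    · intro hh
      have h1 := (hcent _ hh b b.2).eq
      have : ((a⁻¹ * b : S) : G) = ((a : G) * (b : G)⁻¹)⁻¹ := by
        push_cast
        have h2 : (a : G) = b * ((a : G) * (b : G)⁻¹) := by rw [← h1]; group
        calc (a : G)⁻¹ * b = (b * ((a : G) * (b : G)⁻¹))⁻¹ * b := by rw [← h2]
          _ = _ := by group
      rw [this]; exact Z.inv_mem hh
  let E : Q → Matrix (Fin n) (Fin n) K := fun q => φ ((q.out : S) : G) * P
  have hEzero : ∀ t ∈ S, φ t * P ≠ 0 := fun t _ h0 => by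
    obtain ⟨j, hj⟩ := hJne
    have : P = 0 := by rw [show P = φ t⁻¹ * (φ t * P) by rw [← mul_assoc, map_inv_mul, one_mul], h0, mul_zero]
    have := congrFun (congrFun this j) j
    rw [hP, proj, diagonal_apply_eq, if_pos hj, Matrix.zero_apply] at this
    exact one_ne_zero this
  have hcoset : ∀ a : S, φ (a : G) * P = χ ((a : G) * (((QuotientGroup.mk a : Q).out : S) : G)⁻¹) •
      E (QuotientGroup.mk a) := by
    intro a
    have hz := (hQ a _).mp (QuotientGroup.out_eq' (QuotientGroup.mk a : Q)).symm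
    simp only [E]
    nth_rewrite 1 [show (a : G) = ((a : G) * (((QuotientGroup.mk a : Q).out : S) : G)⁻¹) *
      (((QuotientGroup.mk a : Q).out : S) : G) by group]
    rw [map_mul, mul_assoc, hPc _ (Subtype.coe_prop _), ← mul_assoc, hzP _ hz, smul_mul_assoc]
  have hindep : LinearIndependent K E := by
    rw [Fintype.linearIndependent_iff]
    intro g hg q
    have := congrArg (Φ ((q.out : S) : G)) hg
    simp only [E, map_sum, map_smul, map_zero] at this
    rw [Finset.sum_eq_single q] at this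
    · rw [hΦ _ (Subtype.coe_prop _) _ (Subtype.coe_prop _), if_pos (by rw [mul_inv_cancel]; exact Z.one_mem), smul_smul,
        smul_eq_zero] at this
      rcases this with h1 | h1
      · exact (mul_eq_zero.mp h1).resolve_right hS
      · exact absurd h1 (hEzero _ (Subtype.coe_prop _))
    · intro q' _ hne
      rw [hΦ _ (Subtype.coe_prop _) _ (Subtype.coe_prop _), if_neg, zero_smul, smul_zero]
      exact fun hh => hne (by simpa using (hQ _ _).mpr hh)
    · intro hh; exact absurd (Finset.mem_univ q) hh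
  -- spanning
  let Esupp : Submodule K (Matrix (Fin n) (Fin n) K) :=
    Submodule.span K (Set.range fun ij : J × J => Matrix.single (ij.1 : Fin n) (ij.2 : Fin n) (1 : K))
  have hentry : ∀ a ∈ J, ∀ i ∈ J, ∃ cst : K, ∀ l j,
      ∑ u : S, φ (u : G) l a * φ (u : G)⁻¹ i j = cst * (if l = j ∧ l ∈ J then 1 else 0) := by
    intro a ha i hi
    let F : Matrix (Fin n) (Fin n) K := ∑ u : S, φ (u : G) * Matrix.single a i 1 * φ (u : G)⁻¹
    have hFapp : ∀ l j, F l j = ∑ u : S, φ (u : G) l a * φ (u : G)⁻¹ i j := fun l j => by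
      simp [F, Matrix.sum_apply, Matrix.mul_apply, Matrix.single, Finset.sum_ite_eq, ite_and]
    obtain ⟨cst, hc⟩ := h.scalar hxS hS hJ hmin' F (fun l j hne => by
      rw [hFapp] at hne
      constructor
      · by_contra hl
        exact hne (Finset.sum_eq_zero fun u _ => by rw [hJ u u.2 l hl a ha, zero_mul])
      · by_contra hj
        refine hne (Finset.sum_eq_zero fun u _ => ?_)
        have := congrFun (congrFun (hPc _ (S.inv_mem u.2)) i) j
        rw [hP, mul_proj_apply, proj_mul_apply, if_neg hj, if_pos hi] at this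
        rw [← this, mul_zero])
      (fun t ht => by
        simp only [F, Finset.mul_sum, Finset.sum_mul]
        refine Fintype.sum_equiv (Equiv.mulLeft (⟨t, ht⟩ : S)) _ _ fun v => ?_
        simp only [Equiv.coe_mulLeft, Subgroup.coe_mul, _root_.mul_inv_rev, map_mul, mul_assoc, map_inv_mul, mul_one])
    refine ⟨cst, fun l j => ?_⟩
    rw [← hFapp, hc, Matrix.smul_apply, smul_eq_mul, proj, diagonal_apply]
    congr 1
    by_cases hlj : l = j <;> simp [hlj]
  have hdK : ∀ a ∈ J, ∀ i ∈ J, ∀ cst : K, (∀ l j, ∑ u : S, φ (u : G) l a * φ (u : G)⁻¹ i j =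
      cst * (if l = j ∧ l ∈ J then 1 else 0)) → (J.card : K) * cst = if a = i then (Nat.card S : K) else 0 := by
    intro a _ i _ cst hc
    have h1 : ∀ u : S, ∑ l, φ (u : G) l a * φ (u : G)⁻¹ i l = if i = a then 1 else 0 := fun u => by
      rw [Finset.sum_congr rfl fun l _ => mul_comm _ _, ← Matrix.mul_apply, map_inv_mul, Matrix.one_apply]
    have h2 : ∑ l, ∑ u : S, φ (u : G) l a * φ (u : G)⁻¹ i l = (J.card : K) * cst := by
      rw [Finset.sum_congr rfl fun l _ => hc l l]
      simp [Finset.sum_ite_mem, mul_comm]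
    rw [← h2, Finset.sum_comm, Finset.sum_congr rfl fun u _ => h1 u, Finset.sum_const, Finset.card_univ,
      Nat.card_eq_fintype_card]
    by_cases hia : a = i
    · subst hia; simp
    · simp [hia, Ne.symm hia]
  obtain ⟨j₁, hj₁⟩ := hJne
  have hd0 : (J.card : K) ≠ 0 := by
    obtain ⟨cst, hc⟩ := hentry j₁ hj₁ j₁ hj₁
    have := hdK j₁ hj₁ j₁ hj₁ cst hc
    rw [if_pos rfl] at this
    exact fun h0 => hS (by rw [← this, h0, zero_mul])
  have hmemE : ∀ t ∈ S, φ t * P ∈ Submodule.span K (Set.range E) := fun t ht => by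
    rw [hcoset ⟨t, ht⟩]
    exact Submodule.smul_mem _ _ (Submodule.subset_span ⟨_, rfl⟩)
  have hsingle : ∀ a ∈ J, ∀ b ∈ J, Matrix.single a b (1 : K) ∈ Submodule.span K (Set.range E) := by
    intro a ha b hb
    have heq : ((Nat.card S : K) / J.card) • Matrix.single a b (1 : K) =
        ∑ u : S, φ (u : G)⁻¹ b a • (φ (u : G) * P) := by
      ext l j
      rw [Matrix.sum_apply]
      simp only [Matrix.smul_apply, smul_eq_mul, hP, mul_proj_apply]
      by_cases hj : j ∈ J
      · simp only [if_pos hj]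
        obtain ⟨cst, hc⟩ := hentry j hj b hb
        have hcst := hdK j hj b hb cst hc
        rw [Finset.sum_congr rfl fun u _ => mul_comm _ _, hc l a, Matrix.single, Matrix.of_apply]
        by_cases hla : l = a
        · subst hla
          by_cases hjb : j = b
          · subst hjb
            rw [if_pos rfl] at hcst
            rw [← hcst, if_pos ⟨rfl, rfl⟩, if_pos ⟨rfl, ha⟩]
            field_simp
          · rw [if_neg hjb] at hcst
            rw [if_neg (fun hh => hjb hh.2.symm), (mul_eq_zero.mp hcst).resolve_left hd0]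
            simp
        · rw [if_neg (fun hh => hla hh.1.symm), if_neg (fun hh => hla hh.1)]; simp
      · simp only [if_neg hj, mul_zero, Finset.sum_const_zero]
        rw [Matrix.single, Matrix.of_apply, if_neg (fun (hh : a = l ∧ b = j) => hj (hh.2 ▸ hb)), mul_zero]
    have h0 : ((Nat.card S : K) / J.card) ≠ 0 := div_ne_zero hS hd0
    rw [← Submodule.smul_mem_iff _ h0, heq]
    exact Submodule.sum_mem _ fun u _ => Submodule.smul_mem _ _ (hmemE u u.2)
  have hsupp : ∀ M : Matrix (Fin n) (Fin n) K, (∀ i j, M i j ≠ 0 → i ∈ J ∧ j ∈ J) → M ∈ Esupp := by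
    intro M hM
    rw [Matrix.matrix_eq_sum_single M]
    refine Submodule.sum_mem _ fun i _ => Submodule.sum_mem _ fun j _ => ?_
    by_cases hne : M i j = 0
    · rw [hne, Matrix.single_zero]; exact Submodule.zero_mem _
    · obtain ⟨hi, hj⟩ := hM i j hne
      rw [show Matrix.single i j (M i j) = M i j • Matrix.single i j (1 : K) by rw [Matrix.smul_single, smul_eq_mul, mul_one]]
      exact Submodule.smul_mem _ _ (Submodule.subset_span ⟨(⟨i, hi⟩, ⟨j, hj⟩), rfl⟩)
  have hcardQ : Fintype.card Q = J.card * J.card := by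
    have heq : Submodule.span K (Set.range E) = Esupp := by
      refine le_antisymm (Submodule.span_le.mpr ?_) (Submodule.span_le.mpr ?_)
      · rintro _ ⟨q, rfl⟩
        refine hsupp _ fun i j hne => ?_
        simp only [E, hP, mul_proj_apply] at hne
        by_cases hj : j ∈ J
        · refine ⟨?_, hj⟩
          by_contra hi
          rw [if_pos hj, hJ _ (Subtype.coe_prop _) i hi j hj] at hne
          exact hne rfl
        · rw [if_neg hj] at hne; exact absurd rfl hne
      · rintro _ ⟨⟨a, b⟩, rfl⟩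
        exact hsingle a a.2 b b.2
    have h1 := finrank_span_eq_card hindep
    rw [heq, finrank_span_eq_card ((Matrix.stdBasis K (Fin n) (Fin n)).linearIndependent.comp
      (fun ij : J × J => ((ij.1 : Fin n), (ij.2 : Fin n))) (fun a b hab => by
        simp only [Prod.mk.injEq] at hab; exact Prod.ext (Subtype.ext hab.1) (Subtype.ext hab.2)) |> fun hl => by
        convert hl using 1
        funext ij
        simp [Matrix.stdBasis_eq_single])] at h1
    rw [← h1, Fintype.card_prod, Fintype.card_coe]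
  -- orbits
  set k := r ^ e with hk
  have hk0 : 0 < k := pow_pos h.prime.pos e
  let conj : ℕ → S → S := fun m t => ⟨x ^ m * t * (x ^ m)⁻¹, Good.conj_pow hxS m t t.2⟩
  let σ : ℕ → Q → Q := fun m q => QuotientGroup.mk (conj m q.out)
  have hσmk : ∀ m (t : S), σ m (QuotientGroup.mk t) = QuotientGroup.mk (conj m t) := by
    intro m t
    refine (hQ _ _).mpr ?_
    have hz := (hQ _ t).mp (QuotientGroup.out_eq' (QuotientGroup.mk t : Q))
    have := (hZx _ hz).pow_right m
    show x ^ m * _ * (x ^ m)⁻¹ * (x ^ m * t * (x ^ m)⁻¹)⁻¹ ∈ Z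
    rw [show x ^ m * (((QuotientGroup.mk t : Q).out : S) : G) * (x ^ m)⁻¹ * (x ^ m * t * (x ^ m)⁻¹)⁻¹ =
      x ^ m * ((((QuotientGroup.mk t : Q).out : S) : G) * (t : G)⁻¹) * (x ^ m)⁻¹ by group, ← this.eq, mul_inv_cancel_right]
    exact hz
  have hσadd : ∀ a b q, σ a (σ b q) = σ (a + b) q := by
    intro a b q
    induction q using QuotientGroup.induction_on with
    | _ t =>
      rw [hσmk b t, hσmk a (conj b t), hσmk (a + b) t]
      congr 1
      exact Subtype.ext (by simp only [conj, pow_add]; group)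
  have hxk : x ^ k = 1 := by rw [hk, ← h.order, pow_orderOf_eq_one]
  have hσk : ∀ a q, σ (a % k) q = σ a q := fun a q => by
    simp only [σ, conj, ← pow_eq_pow_mod a hxk]
  have hσ0 : ∀ q, σ 0 q = q := fun q => by
    induction q using QuotientGroup.induction_on with
    | _ t => rw [hσmk]; congr 1; exact Subtype.ext (by simp [conj])
  let rel : Setoid Q :=
    { r := fun a b => ∃ m, σ m a = b
      iseqv := ⟨fun a => ⟨0, hσ0 a⟩, fun {a b} ⟨m, hm⟩ => ⟨k - m % k, by
          rw [← hm, hσadd, ← hσk, show (k - m % k + m) % k = 0 by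
            rw [Nat.add_mod, Nat.mod_eq_of_lt (Nat.mod_lt m hk0) |>.symm]
            have := Nat.mod_lt m hk0
            rcases Nat.eq_zero_or_pos (m % k) with h0 | h0
            · simp [h0]
            · rw [Nat.mod_mod, Nat.mod_eq_of_lt (show k - m % k < k by omega), Nat.sub_add_cancel this.le, Nat.mod_self], hσ0]⟩,
        fun {a b c} ⟨m, hm⟩ ⟨m', hm'⟩ => ⟨m' + m, by rw [← hσadd, hm, hm']⟩⟩ }
  let O := Quotient rel
  haveI : Fintype O := Fintype.ofFinite O
  have hfr : ∀ q : Q, q ≠ QuotientGroup.mk 1 → ∀ m, ¬ k ∣ m → σ m q ≠ q := by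
    intro q hq m hm
    induction q using QuotientGroup.induction_on with
    | _ t =>
      rw [hσmk]
      intro hh
      exact hq ((hQ t 1).mpr (by simpa using hfree m hm t t.2 ((hQ _ _).mp hh)))
  let A : O → Matrix (Fin n) (Fin n) K := fun o => ∑ m ∈ Finset.range k, φ (conj m o.out.out : S) * P
  have hone : ∀ m, σ m (QuotientGroup.mk 1) = QuotientGroup.mk 1 := fun m => by
    rw [hσmk]; congr 1; exact Subtype.ext (by simp [conj])
  have hAindep : LinearIndependent K A := by
    rw [Fintype.linearIndependent_iff]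
    intro g hg o
    set t₀ : S := o.out.out
    have := congrArg (Φ (t₀ : G)) hg
    simp only [A, map_sum, map_smul, map_zero, hΦ _ t₀.2 _ (Subtype.coe_prop _)] at this
    rw [Finset.sum_eq_single o] at this
    · by_cases ho : o.out = QuotientGroup.mk 1
      · have hall : ∀ m ∈ Finset.range k,
            (if (conj m t₀ : G) * (t₀ : G)⁻¹ ∈ Z then (Nat.card S : K) else 0) • (φ (conj m t₀ : G) * P) =
              ((Nat.card S : K) * χ (conj m t₀ : G)) • P := by
          intro m _
          have hz : (t₀ : G) ∈ Z := by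
            have := (hQ t₀ 1).mp (by rw [← ho]; exact QuotientGroup.out_eq' _)
            simpa using this
          have hc : (conj m t₀ : G) = t₀ := by
            show x ^ m * (t₀ : G) * (x ^ m)⁻¹ = t₀
            rw [← ((hZx _ hz).pow_right m).eq, mul_inv_cancel_right]
          rw [hc, if_pos (by rw [mul_inv_cancel]; exact Z.one_mem), hzP _ hz, smul_smul]
        rw [Finset.sum_congr rfl hall, ← Finset.sum_smul, smul_smul, smul_eq_zero] at this
        have hz : (t₀ : G) ∈ Z := by
          have := (hQ t₀ 1).mp (by rw [← ho]; exact QuotientGroup.out_eq' _)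
          simpa using this
        have hc : ∀ m, (conj m t₀ : G) = t₀ := fun m => by
          show x ^ m * (t₀ : G) * (x ^ m)⁻¹ = t₀
          rw [← ((hZx _ hz).pow_right m).eq, mul_inv_cancel_right]
        rcases this with h1 | h1
        · simp only [hc, Finset.sum_const, Finset.card_range, nsmul_eq_mul, mul_eq_zero] at h1
          rcases h1 with h1 | h1 | h1 | h1
          · exact h1
          · rw [hk, Nat.cast_pow] at h1; exact absurd h1 (pow_ne_zero _ h.cast)
          · exact absurd h1 hS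
          · exact absurd h1 (hχ0 _ hz)
        · exact absurd (by rw [map_one, one_mul]; exact h1) (hEzero 1 S.one_mem)
      · rw [Finset.sum_eq_single 0] at this
        · simp only [conj, pow_zero, one_mul, inv_one, mul_one] at this
          rw [if_pos (by rw [mul_inv_cancel]; exact Z.one_mem), smul_smul, smul_eq_zero] at this
          rcases this with h1 | h1
          · exact (mul_eq_zero.mp h1).resolve_right hS
          · exact absurd h1 (hEzero _ t₀.2)
        · intro m hm hm0
          rw [if_neg, zero_smul]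
          intro hh
          refine hfr o.out ho m (fun hd => hm0 (Nat.eq_zero_of_dvd_of_lt hd (Finset.mem_range.mp hm))) ?_
          conv_rhs => rw [← QuotientGroup.out_eq' o.out]
          exact (hQ _ _).mpr hh
        · intro hh; exact absurd (Finset.mem_range.mpr hk0) hh
    · intro o' _ hne
      rw [Finset.sum_eq_zero fun m _ => ?_, smul_zero]
      rw [if_neg, zero_smul]
      intro hh
      refine hne ?_
      rw [← Quotient.out_eq o', ← Quotient.out_eq o]
      refine Quotient.sound ⟨m, ?_⟩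
      conv_rhs => rw [← QuotientGroup.out_eq' o.out]
      exact (hQ _ _).mpr hh
    · intro hh; exact absurd (Finset.mem_univ o) hh
  let D : Submodule K (Matrix (Fin n) (Fin n) K) :=
    Submodule.span K (Set.range fun j : J => Matrix.single (j : Fin n) (j : Fin n) (1 : K))
  have hconjφ : ∀ m (t : S), φ (x ^ m) * (φ (t : G) * P) * φ (x ^ m)⁻¹ = φ (conj m t : G) * P := by
    intro m t
    have hc : Commute (φ (x ^ m)⁻¹) P := by
      have h1 : Commute (φ (x ^ m)) P := by rw [map_pow]; exact (show Commute (φ x) P from hPx).pow_left m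
      calc φ (x ^ m)⁻¹ * P = φ (x ^ m)⁻¹ * (P * (φ (x ^ m) * φ (x ^ m)⁻¹)) := by rw [map_mul_inv, mul_one]
        _ = φ (x ^ m)⁻¹ * (φ (x ^ m) * P) * φ (x ^ m)⁻¹ := by rw [h1.eq]; simp only [mul_assoc]
        _ = P * φ (x ^ m)⁻¹ := by rw [← mul_assoc (φ (x ^ m)⁻¹), map_inv_mul, one_mul]
    simp only [conj, map_mul, mul_assoc, hc.eq]
  have hAD : ∀ t : S, ∑ m ∈ Finset.range k, φ (conj m t : G) * P ∈ D := by
    intro t
    set M := ∑ m ∈ Finset.range k, φ (conj m t : G) * P with hM
    have hMx : M * φ x = φ x * M := by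
      have hshift : φ x * M * φ x⁻¹ = M := by
        rw [hM, Finset.mul_sum, Finset.sum_mul]
        refine Finset.sum_bij (fun m _ => (m + 1) % k) (fun m _ => Finset.mem_range.mpr (Nat.mod_lt _ hk0))
          (fun a ha b hb hab => ?_) (fun b hb => ⟨(b + (k - 1)) % k, Finset.mem_range.mpr (Nat.mod_lt _ hk0), ?_⟩)
          fun m _ => ?_
        · have ha := Finset.mem_range.mp ha
          have hb := Finset.mem_range.mp hb
          exact Nat.ModEq.add_right_cancel' 1 hab |>.eq_of_lt_of_lt ha hb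
        · rw [Nat.mod_add_mod, show b + (k - 1) + 1 = b + k by omega, Nat.add_mod_right,
            Nat.mod_eq_of_lt (Finset.mem_range.mp hb)]
        · rw [show (conj ((m + 1) % k) t : G) = conj (m + 1) t by simp only [conj, ← pow_eq_pow_mod _ hxk], ← hconjφ,
            ← hconjφ, pow_succ', map_mul φ x, _root_.mul_inv_rev, map_mul φ (x ^ m)⁻¹]
          simp only [mul_assoc]
      calc M * φ x = φ x * M * φ x⁻¹ * φ x := by rw [hshift]
        _ = _ := by rw [mul_assoc, map_inv_mul, mul_one]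
    have hd : M = diagonal fun i => M i i := diag_of_commute h.lam_inj (by rw [← h.diag_x]; exact hMx)
    have hMP : M * P = M := by rw [hM, Finset.sum_mul]; simp only [mul_assoc, hPP]
    rw [Matrix.matrix_eq_sum_single M]
    refine Submodule.sum_mem _ fun i _ => Submodule.sum_mem _ fun j _ => ?_
    by_cases hij : i = j
    swap
    · rw [hd, diagonal_apply_ne _ hij, Matrix.single_zero]; exact Submodule.zero_mem _
    subst hij
    by_cases hi : i ∈ J
    · rw [show Matrix.single i i (M i i) = M i i • Matrix.single i i (1 : K) by rw [Matrix.smul_single, smul_eq_mul, mul_one]]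
      exact Submodule.smul_mem _ _ (Submodule.subset_span ⟨⟨i, hi⟩, rfl⟩)
    · rw [← hMP, hP, mul_proj_apply, if_neg hi, Matrix.single_zero]; exact Submodule.zero_mem _
  have hDA : D ≤ Submodule.span K (Set.range A) := by
    rw [Submodule.span_le]
    rintro _ ⟨⟨j, hj⟩, rfl⟩
    let Ψ : Matrix (Fin n) (Fin n) K →ₗ[K] Matrix (Fin n) (Fin n) K :=
      ∑ m ∈ Finset.range k, (LinearMap.mulLeft K (φ (x ^ m))).comp (LinearMap.mulRight K (φ (x ^ m)⁻¹))
    have hΨfix : Ψ (Matrix.single j j 1) = (k : K) • Matrix.single j j 1 := by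
      simp only [Ψ, LinearMap.sum_apply, LinearMap.comp_apply, LinearMap.mulRight_apply, LinearMap.mulLeft_apply]
      rw [Finset.sum_congr rfl fun m _ => show φ (x ^ m) * (Matrix.single j j 1 * φ (x ^ m)⁻¹) = Matrix.single j j 1 by
        rw [← mul_assoc, show φ (x ^ m) * Matrix.single j j 1 = Matrix.single j j 1 * φ (x ^ m) by
          rw [h.diag_pow]; ext a b; rw [diagonal_mul, mul_diagonal, Matrix.single, Matrix.of_apply]
          split_ifs with hab
          · rw [← hab.1, ← hab.2]; ring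
          · simp, mul_assoc, map_mul_inv, mul_one], Finset.sum_const, Finset.card_range, Nat.cast_smul_eq_nsmul]
    have hΨE : ∀ q, Ψ (E q) ∈ Submodule.span K (Set.range A) := by
      intro q
      simp only [Ψ, E, LinearMap.sum_apply, LinearMap.comp_apply, LinearMap.mulRight_apply, LinearMap.mulLeft_apply]
      rw [Finset.sum_congr rfl fun m _ => (mul_assoc _ _ _).symm.trans (hconjφ m q.out)]
      obtain ⟨m₀, hm₀⟩ : rel.r (Quotient.mk rel q).out q := Quotient.exact (Quotient.out_eq _)
      set t₁ : S := (Quotient.mk rel q).out.out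
      have hz : (q.out : G) * (conj m₀ t₁ : G)⁻¹ ∈ Z := (hQ _ _).mp (by rw [QuotientGroup.out_eq']; exact hm₀.symm)
      set z := (q.out : G) * (conj m₀ t₁ : G)⁻¹
      have hterm : ∀ m, φ (conj m q.out : G) * P = χ z • (φ (conj (m + m₀) t₁ : G) * P) := by
        intro m
        have e1 : (conj m q.out : G) = z * (conj (m + m₀) t₁ : G) := by
          show x ^ m * (q.out : G) * (x ^ m)⁻¹ = z * (x ^ (m + m₀) * t₁ * (x ^ (m + m₀))⁻¹)
          have h1 : (q.out : G) = z * (x ^ m₀ * t₁ * (x ^ m₀)⁻¹) := by simp only [z, conj]; group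
          rw [h1, ← mul_assoc (x ^ m), ← ((hZx z hz).pow_right m).eq, pow_add]
          group
        rw [e1, map_mul, mul_assoc, hPc _ (Subtype.coe_prop _), ← mul_assoc, hzP _ hz, smul_mul_assoc]
      rw [Finset.sum_congr rfl fun m _ => hterm m, ← Finset.smul_sum]
      refine Submodule.smul_mem _ _ (Submodule.subset_span ⟨Quotient.mk rel q, ?_⟩)
      refine (Finset.sum_bij (fun m _ => (m + m₀) % k) (fun m _ => Finset.mem_range.mpr (Nat.mod_lt _ hk0))
          (fun a ha b hb hab => ?_) (fun b hb => ⟨(b + (k - m₀ % k)) % k, Finset.mem_range.mpr (Nat.mod_lt _ hk0), ?_⟩)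
          fun m _ => ?_).symm
      · exact Nat.ModEq.add_right_cancel' m₀ hab |>.eq_of_lt_of_lt (Finset.mem_range.mp ha) (Finset.mem_range.mp hb)
      · rw [Nat.mod_add_mod]
        have h1 := Nat.mod_lt m₀ hk0
        have h2 := Nat.mod_add_div m₀ k
        rw [show b + (k - m₀ % k) + m₀ = b + k + k * (m₀ / k) by omega, Nat.add_mul_mod_self_left, Nat.add_mod_right,
          Nat.mod_eq_of_lt (Finset.mem_range.mp hb)]
      · have e1 : conj ((m + m₀) % k) t₁ = conj (m + m₀) t₁ := Subtype.ext (by simp only [conj, ← pow_eq_pow_mod _ hxk])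
        simp only [e1, t₁]
    have hmem := Submodule.apply_mem_span_image_of_mem_span Ψ (hsingle j hj j hj)
    rw [hΨfix] at hmem
    have hk0' : (k : K) ≠ 0 := by rw [hk, Nat.cast_pow]; exact pow_ne_zero _ h.cast
    refine (Submodule.smul_mem_iff _ hk0').mp (Submodule.span_le.mpr ?_ hmem)
    rintro _ ⟨_, ⟨q, rfl⟩, rfl⟩
    exact hΨE q
  have hcardO : Fintype.card O = J.card := by
    have heq : Submodule.span K (Set.range A) = D :=
      le_antisymm (Submodule.span_le.mpr (by rintro _ ⟨o, rfl⟩; exact hAD _)) hDA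
    have h1 := finrank_span_eq_card hAindep
    rw [heq, finrank_span_eq_card ((Matrix.stdBasis K (Fin n) (Fin n)).linearIndependent.comp
      (fun j : J => ((j : Fin n), (j : Fin n))) (fun a b hab => by
        simp only [Prod.mk.injEq] at hab; exact Subtype.ext hab.1) |> fun hl => by
        convert hl using 1
        funext ij
        simp [Matrix.stdBasis_eq_single])] at h1
    rw [← h1, Fintype.card_coe]
  have hfib : Fintype.card Q + (k - 1) = Fintype.card O * k := by
    set o₁ : O := Quotient.mk rel (QuotientGroup.mk 1)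
    have hcnt : ∀ o : O, (Finset.univ.filter fun q => Quotient.mk rel q = o).card = if o = o₁ then 1 else k := by
      intro o
      split_ifs with ho
      · subst ho
        rw [Finset.card_eq_one]
        refine ⟨QuotientGroup.mk 1, ?_⟩
        ext q
        simp only [Finset.mem_filter, Finset.mem_univ, true_and, Finset.mem_singleton, o₁]
        refine ⟨fun hh => ?_, fun hh => by rw [hh]⟩
        obtain ⟨m, hm⟩ := rel.iseqv.symm (Quotient.exact hh)
        rw [← hm, hone]
      · have hne : o.out ≠ QuotientGroup.mk 1 := fun hh => ho (by rw [← Quotient.out_eq o, hh])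
        have himg : (Finset.univ.filter fun q => Quotient.mk rel q = o) = (Finset.range k).image fun m => σ m o.out := by
          ext q
          simp only [Finset.mem_filter, Finset.mem_univ, true_and, Finset.mem_image, Finset.mem_range]
          refine ⟨fun hh => ?_, fun ⟨m, _, hm⟩ => ?_⟩
          · obtain ⟨m, hm⟩ := Quotient.exact ((Quotient.out_eq o).trans hh.symm)
            exact ⟨m % k, Nat.mod_lt _ hk0, by rw [hσk, hm]⟩
          · have h2 : Quotient.mk rel o.out = Quotient.mk rel q := Quotient.sound ⟨m, hm⟩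
            rw [← h2]; exact Quotient.out_eq o
        rw [himg, Finset.card_image_of_injOn, Finset.card_range]
        have key : ∀ a b, a ≤ b → b < k → σ a o.out = σ b o.out → a = b := by
          intro a b hab hb heq
          by_contra hne'
          have := congrArg (σ (k - a)) heq
          rw [hσadd, hσadd, Nat.sub_add_cancel (by omega), ← hσk k, Nat.mod_self, hσ0] at this
          refine hfr o.out hne (k - a + b) (fun hd => ?_) this.symm
          obtain ⟨l, hl⟩ := hd
          rcases Nat.lt_or_ge l 2 with h2 | h2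
          · interval_cases l <;> omega
          · have := Nat.mul_le_mul_left k h2
            omega
        intro a ha b hb hab
        rcases le_total a b with h' | h'
        · exact key a b h' (Finset.mem_range.mp hb) hab
        · exact (key b a h' (Finset.mem_range.mp ha) hab.symm).symm
    have := Finset.card_eq_sum_card_fiberwise (f := Quotient.mk rel) (s := Finset.univ) (t := (Finset.univ : Finset O))
      fun _ _ => Finset.mem_univ _
    rw [Finset.card_univ, Finset.sum_congr rfl fun o _ => hcnt o, Finset.sum_ite, Finset.sum_const, Finset.sum_const,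
      Finset.filter_eq', if_pos (Finset.mem_univ _), Finset.card_singleton, Finset.filter_ne',
      Finset.card_erase_of_mem (Finset.mem_univ _), Finset.card_univ, smul_eq_mul, smul_eq_mul, mul_one] at this
    rw [this]
    have hO1 : 1 ≤ Fintype.card O := Fintype.card_pos
    rw [Nat.sub_mul, one_mul]
    have : k ≤ Fintype.card O * k := Nat.le_mul_of_pos_left k hO1
    omega
  set d := J.card
  rw [hcardQ, hcardO] at hfib
  have hd2 : 2 ≤ d := by
    by_contra hc
    have hd1 : Fintype.card Q ≤ 1 := hcardQ ▸ (by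
      have : d ≤ 1 := by omega
      exact (Nat.mul_le_mul this this).trans (le_of_eq (one_mul 1)))
    refine hab₀ (hcent a₀ ?_ b₀ hb₀)
    have := (hQ ⟨a₀, ha₀⟩ 1).mp (Fintype.card_le_one_iff.mp hd1 _ _)
    simpa using this
  have hkd : k = d + 1 := by
    obtain ⟨d', hd'⟩ := Nat.exists_eq_add_of_le hd2
    rw [hd'] at hfib ⊢
    obtain ⟨k', hk'⟩ := Nat.exists_eq_add_of_le hk0
    rw [hk'] at hfib ⊢
    simp only [Nat.succ_eq_add_one, zero_add, Nat.add_sub_cancel_left] at hfib
    nlinarith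
  have hdn : d ≤ n := (Finset.card_le_univ J).trans_eq (Fintype.card_fin n)
  refine ⟨by omega, fun hkn => ?_⟩
  have hQS : Fintype.card Q ∣ s ^ w := by
    rw [← hw, ← Nat.card_eq_fintype_card]; exact Subgroup.card_quotient_dvd_card Zs
  obtain ⟨j, -, hj⟩ := (Nat.dvd_prime_pow Fact.out).mp hQS
  exact ⟨j, by rw [← hj, hcardQ, show d = n by omega]⟩

end Setting

end Cfsg.Agent.Recog.HuppertKey
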