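import Mathlib
import Cfsg.Prelude.Def_Solvable
import Cfsg.Agent.Lib.Grp.Cores
import Cfsg.Agent.Lib.Grp.Solvable
import Cfsg.Agent.Lib.Recog.Zsigmondy
import Cfsg.Agent.Lib.Recog.HuppertKey

/-!
Solvable linear groups transitive on the nonzero vectors.
-/

set_option autoImplicit false

namespace Cfsg.Agent.Recog.HuppertCases

open Cfsg.Agent Finset

universe u v

variable {q : ℕ} [Fact q.Prime] {V : Type v} [AddCommGroup V] [Module (ZMod q) V] [Finite V]
  {G : Type u} [Group G] [Finite G] (ρ : G →* (V ≃ₗ[ZMod q] V))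

/-- transitive on nonzero vectors -/
def Trans : Prop := ∀ v w : V, v ≠ 0 → w ≠ 0 → ∃ g : G, ρ g v = w

/-- inside the semilinear group of a field structure -/
def Semi : Prop :=
  ∃ (F : Type) (_ : Field F) (_ : Fintype F) (e : V ≃+ F), ∀ g : G, ∃ (a : F) (σ : F ≃+* F), ∀ v : V,
    e (ρ g v) = a * σ (e v)

/-- `A` leaves only the trivial subspaces invariant. -/
def Irred (A : Subgroup G) : Prop :=
  ∀ W : Submodule (ZMod q) V, (∀ a ∈ A, ∀ w ∈ W, ρ a w ∈ W) → W = ⊥ ∨ W = ⊤

/-- acts as a scalar -/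
def Sc (g : G) : Prop := ∃ c : ZMod q, ∀ v : V, ρ g v = c • v

/-- the endomorphism of a group element -/
def toEnd : G →* Module.End (ZMod q) V where
  toFun g := (ρ g : V →ₗ[ZMod q] V)
  map_one' := by ext; simp
  map_mul' g h := by ext; simp

variable {ρ}

theorem toEnd_apply (g : G) (v : V) : toEnd ρ g v = ρ g v := rfl

theorem rho_mul (g h : G) (v : V) : ρ (g * h) v = ρ g (ρ h v) := by rw [map_mul]; rfl

theorem rho_inv (g : G) (v : V) : ρ g (ρ g⁻¹ v) = v := by rw [← rho_mul, mul_inv_cancel, map_one]; rfl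

theorem rho_inv' (g : G) (v : V) : ρ g⁻¹ (ρ g v) = v := by rw [← rho_mul, inv_mul_cancel, map_one]; rfl

theorem eq_one_of_fix (hρ : Function.Injective ρ) {g : G} (h : ∀ v, ρ g v = v) : g = 1 :=
  hρ (by rw [map_one]; exact LinearEquiv.ext h)

theorem card_V : Nat.card V = q ^ Module.finrank (ZMod q) V := by
  rw [Module.natCard_eq_pow_finrank (K := ZMod q), Nat.card_zmod]

theorem irred_of_finrank_one (h1 : Module.finrank (ZMod q) V = 1) (A : Subgroup G) : Irred ρ A := by
  intro W _
  rcases eq_or_ne W ⊥ with h | h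
  · exact Or.inl h
  · refine Or.inr (Submodule.eq_top_of_finrank_eq ?_)
    have h2 := Submodule.finrank_le W
    have h3 : Module.finrank (ZMod q) W ≠ 0 := fun h0 => h (Submodule.finrank_eq_zero.mp h0)
    omega

/-- an irreducible abelian normal subgroup gives a semilinear structure -/
theorem semilinear [Nontrivial V] {A : Subgroup G} (hA : A.Normal) (hab : ∀ a ∈ A, ∀ b ∈ A, Commute a b)
    (hirr : Irred ρ A) : Semi ρ := by
  classical
  let S : Subalgebra (ZMod q) (Module.End (ZMod q) V) := Algebra.adjoin (ZMod q) (toEnd ρ '' (A : Set G))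
  have hcomm : ∀ f ∈ S, ∀ f' ∈ S, f * f' = f' * f := by
    have h1 : ∀ f ∈ S, ∀ a ∈ A, f * toEnd ρ a = toEnd ρ a * f := by
      intro f hf a ha
      induction hf using Algebra.adjoin_induction with
      | mem x hx =>
        obtain ⟨b, hb, rfl⟩ := hx
        rw [← map_mul, ← map_mul, (hab b hb a ha).eq]
      | algebraMap c => exact Algebra.commutes c _
      | add x y _ _ hx hy => rw [add_mul, mul_add, hx, hy]
      | mul x y _ _ hx hy => rw [mul_assoc, hy, ← mul_assoc, hx, mul_assoc]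
    intro f hf f' hf'
    induction hf' using Algebra.adjoin_induction with
    | mem x hx => obtain ⟨b, hb, rfl⟩ := hx; exact h1 f hf b hb
    | algebraMap c => exact (Algebra.commutes c f).symm
    | add x y _ _ hx hy => rw [add_mul, mul_add, hx, hy]
    | mul x y _ _ hx hy => rw [← mul_assoc, hx, mul_assoc, hy, mul_assoc]
  have hgen : ∀ a ∈ A, toEnd ρ a ∈ S := fun a ha => Algebra.subset_adjoin ⟨a, ha, rfl⟩
  obtain ⟨v₀, hv₀⟩ := exists_ne (0 : V)
  let ev : S →ₗ[ZMod q] V := (LinearMap.applyₗ v₀).comp S.toSubmodule.subtype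
  have hev : ∀ f : S, ev f = (f : Module.End (ZMod q) V) v₀ := fun f => rfl
  have hinj : Function.Injective ev := by
    refine (injective_iff_map_eq_zero ev).mpr fun f hf => ?_
    rcases hirr (LinearMap.ker (f : Module.End (ZMod q) V)) (fun a ha w hw => by
      rw [LinearMap.mem_ker] at hw ⊢
      have := LinearMap.congr_fun (hcomm f f.2 _ (hgen a ha)) w
      rw [Module.End.mul_apply, Module.End.mul_apply, hw, map_zero, toEnd_apply] at this
      exact this) with h | h
    · exact absurd (LinearMap.ker_eq_bot.mp h (hf.trans (map_zero _).symm)) hv₀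
    · exact Subtype.ext (LinearMap.ker_eq_top.mp h)
  have hsurj : Function.Surjective ev := by
    refine LinearMap.range_eq_top.mp ((hirr _ fun a ha w hw => ?_).resolve_left fun h => hv₀ ?_)
    · obtain ⟨f, rfl⟩ := hw
      exact ⟨⟨_, S.mul_mem (hgen a ha) f.2⟩, rfl⟩
    · have : v₀ ∈ LinearMap.range ev := ⟨1, rfl⟩
      rwa [h, Submodule.mem_bot] at this
  let e : S ≃ₗ[ZMod q] V := LinearEquiv.ofBijective ev ⟨hinj, hsurj⟩
  letI : CommRing S := { (inferInstance : Ring S) with mul_comm := fun a b => Subtype.ext (hcomm a a.2 b b.2) }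
  haveI : Finite S := Finite.of_injective _ e.injective
  haveI : Nontrivial S := e.toEquiv.nontrivial
  haveI : IsDomain S := by
    haveI : NoZeroDivisors S := ⟨fun {a b} hab' => by
      by_contra hne
      push Not at hne
      obtain ⟨ha, hb⟩ := hne
      rcases hirr (LinearMap.ker (a : Module.End (ZMod q) V)) (fun x hx w hw => by
        rw [LinearMap.mem_ker] at hw ⊢
        have := LinearMap.congr_fun (hcomm a a.2 _ (hgen x hx)) w
        rw [Module.End.mul_apply, Module.End.mul_apply, hw, map_zero, toEnd_apply] at this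
        exact this) with h | h
      · refine hb (hinj (LinearMap.ker_eq_bot.mp h ?_))
        have := LinearMap.congr_fun (congrArg Subtype.val hab') v₀
        simpa [hev] using this
      · exact ha (Subtype.ext (LinearMap.ker_eq_top.mp h))⟩
    exact NoZeroDivisors.to_isDomain S
  haveI := Fintype.ofFinite S
  letI : Field S := Fintype.fieldOfDomain S
  let F := {_i : Fin (Nat.card S) // True}
  let τ : F ≃ S := (Equiv.subtypeUnivEquiv fun _ => trivial).trans (Finite.equivFin S).symm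
  letI : Field F := τ.field
  let τr : F ≃+* S := τ.ringEquiv
  refine ⟨F, inferInstance, inferInstance, e.symm.toAddEquiv.trans τr.symm.toAddEquiv, fun g => ?_⟩
  -- conjugation
  let cg : G → Module.End (ZMod q) V →ₐ[ZMod q] Module.End (ZMod q) V := fun g =>
    { toFun := fun f => toEnd ρ g * f * toEnd ρ g⁻¹
      map_one' := by rw [mul_one, ← map_mul, mul_inv_cancel, map_one]
      map_mul' := fun f f' => by
        have : toEnd ρ g⁻¹ * toEnd ρ g = 1 := by rw [← map_mul, inv_mul_cancel, map_one]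
        calc toEnd ρ g * (f * f') * toEnd ρ g⁻¹ = toEnd ρ g * f * (toEnd ρ g⁻¹ * toEnd ρ g) * f' * toEnd ρ g⁻¹ := by
              rw [this, mul_one]; simp only [mul_assoc]
          _ = _ := by simp only [mul_assoc]
      map_zero' := by simp
      map_add' := fun f f' => by rw [mul_add, add_mul]
      commutes' := fun c => by
        rw [← Algebra.commutes c (toEnd ρ g), mul_assoc, ← map_mul, mul_inv_cancel, map_one, mul_one] }
  have hcg : ∀ g, ∀ f ∈ S, cg g f ∈ S := by
    intro g
    have : S ≤ S.comap (cg g) := Algebra.adjoin_le (by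
      rintro _ ⟨a, ha, rfl⟩
      show toEnd ρ g * toEnd ρ a * toEnd ρ g⁻¹ ∈ S
      rw [← map_mul, ← map_mul]
      exact hgen _ (hA.conj_mem a ha g))
    exact fun f hf => this hf
  let σ : S ≃+* S :=
    { toFun := fun f => ⟨cg g f, hcg g f f.2⟩
      invFun := fun f => ⟨cg g⁻¹ f, hcg g⁻¹ f f.2⟩
      left_inv := fun f => Subtype.ext (LinearMap.ext fun v => by simp [cg, toEnd_apply, rho_inv', rho_inv])
      right_inv := fun f => Subtype.ext (LinearMap.ext fun v => by simp [cg, toEnd_apply, rho_inv', rho_inv])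
      map_mul' := fun f f' => Subtype.ext (map_mul (cg g) _ _)
      map_add' := fun f f' => Subtype.ext (map_add (cg g) _ _) }
  refine ⟨τr.symm (e.symm (ρ g v₀)), τr.trans (σ.trans τr.symm), fun v => ?_⟩
  show τr.symm (e.symm (ρ g v)) = τr.symm (e.symm (ρ g v₀)) * τr.symm (σ (τr (τr.symm (e.symm v))))
  rw [τr.apply_symm_apply, ← map_mul]
  congr 1
  apply e.injective
  rw [e.apply_symm_apply, mul_comm (e.symm (ρ g v₀))]
  show ρ g v = ((σ (e.symm v) : S) : Module.End (ZMod q) V) ((e.symm (ρ g v₀) : S).1 v₀)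
  rw [show (e.symm (ρ g v₀) : S).1 v₀ = ρ g v₀ from e.apply_symm_apply _]
  show ρ g v = (toEnd ρ g * (e.symm v : S).1 * toEnd ρ g⁻¹) (ρ g v₀)
  rw [Module.End.mul_apply, Module.End.mul_apply, toEnd_apply, toEnd_apply, rho_inv',
    show (e.symm v : S).1 v₀ = v from e.apply_symm_apply _]

theorem card_sub_one_dvd [Nontrivial V] (ht : Trans ρ) : q ^ Module.finrank (ZMod q) V - 1 ∣ Nat.card G := by
  classical
  letI : MulAction G V := MulAction.compHom V ρ
  obtain ⟨v₀, hv₀⟩ := exists_ne (0 : V)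
  have horb : MulAction.orbit G v₀ = {w : V | w ≠ 0} := by
    ext w
    refine ⟨fun ⟨g, hg⟩ h0 => hv₀ ((ρ g).injective ?_), fun hw => ht v₀ w hv₀ hw⟩
    rw [map_zero]; exact (show ρ g v₀ = w from hg).trans h0
  have h := Subgroup.index_dvd_card (MulAction.stabilizer G v₀)
  rw [MulAction.index_stabilizer, horb, show {w : V | w ≠ 0} = {(0 : V)}ᶜ from rfl, Set.ncard_compl,
    Set.ncard_singleton, card_V (q := q)] at h
  exact h

theorem pCore_q_eq_bot [Nontrivial V] (hρ : Function.Injective ρ) (ht : Trans ρ) : pCore q G = ⊥ := by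
  classical
  set P := pCore q G
  have hP : P.Normal := Grp.pCore_isNormal
  letI : MulAction P V := MulAction.compHom V (ρ.comp P.subtype)
  have h := (Grp.pCore_isPGroup (p := q) (G := G)).exists_fixed_point_of_prime_dvd_card_of_fixed_point V
    (by
      rw [card_V (q := q)]
      exact dvd_pow_self q (Module.finrank_pos (R := ZMod q) (M := V)).ne')
    (show (0 : V) ∈ MulAction.fixedPoints P V from fun p => map_zero (ρ (p : G)))
  obtain ⟨v, hv, hv0⟩ := h
  rw [Subgroup.eq_bot_iff_forall]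
  intro p hp
  refine eq_one_of_fix hρ fun w => ?_
  by_cases hw : w = 0
  · rw [hw, map_zero]
  obtain ⟨g, rfl⟩ := ht v w hv0.symm hw
  have hconj : g⁻¹ * p * g ∈ P := by simpa using hP.conj_mem p hp g⁻¹
  have h1 : ρ (g⁻¹ * p * g) v = v := hv ⟨_, hconj⟩
  rw [rho_mul, rho_mul] at h1
  calc ρ p (ρ g v) = ρ g (ρ g⁻¹ (ρ p (ρ g v))) := (rho_inv _ _).symm
    _ = ρ g v := by rw [h1]

/-- something in a group with self-centralising Fitting subgroup moves some core -/
theorem exists_moved [Group.IsSolvable G] {r : ℕ} [Fact r.Prime] (hr : pCore r G = ⊥) {x : G} (hx : orderOf x = r) :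
    ∃ s : ℕ, s.Prime ∧ ¬ ∀ t ∈ pCore s G, Commute t x := by
  by_contra h
  push Not at h
  have hxF : x ∈ fittingSubgroup G := by
    refine Grp.centralizer_fittingSubgroup_le (Subgroup.mem_centralizer_iff.mpr fun t ht => ?_)
    have hle : fittingSubgroup G ≤ Subgroup.centralizer {x} := by
      rw [Grp.fittingSubgroup_eq_iSup_pCore]
      exact iSup_le fun p t ht => Subgroup.mem_centralizer_singleton_iff.mpr (h p p.2 t ht)
    exact Subgroup.mem_centralizer_singleton_iff.mp (hle ht)
  set F := fittingSubgroup G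
  haveI : F.Normal := Grp.fittingSubgroup_isNormal
  haveI : Group.IsNilpotent F := Grp.fittingSubgroup_isNilpotent
  obtain ⟨P⟩ : Nonempty (Sylow r F) := Sylow.nonempty
  haveI : (P : Subgroup F).Normal := Grp.isNilpotent_iff_sylow_normal.mp inferInstance r inferInstance P
  have hPc : (P : Subgroup F).Characteristic := P.characteristic_of_normal inferInstance
  have hn : ((P : Subgroup F).map F.subtype).Normal := inferInstance
  have hle := Grp.le_pCore hn (P.isPGroup'.map _)
  rw [hr, le_bot_iff, (P : Subgroup F).map_eq_bot_iff_of_injective F.subtype_injective] at hle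
  have hdvd : r ∣ Nat.card F := by
    have := orderOf_dvd_natCard (⟨x, hxF⟩ : F)
    rwa [← Subgroup.orderOf_coe, hx] at this
  have h2 := P.dvd_card_of_dvd_card hdvd
  rw [hle, Subgroup.card_bot] at h2
  exact (Fact.out : r.Prime).one_lt.ne' (Nat.dvd_one.mp h2)

theorem eigen_scalar {T : Module.End (ZMod q) V} (h : ∀ v : V, ∃ c : ZMod q, T v = c • v) [Nontrivial V] :
    ∃ c : ZMod q, ∀ v, T v = c • v := by
  obtain ⟨v₀, hv₀⟩ := exists_ne (0 : V)
  obtain ⟨c₀, hc₀⟩ := h v₀
  refine ⟨c₀, fun v => ?_⟩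
  obtain ⟨c, hc⟩ := h v
  by_cases hdep : v ∈ Submodule.span (ZMod q) {v₀}
  · obtain ⟨a, rfl⟩ := Submodule.mem_span_singleton.mp hdep
    rw [map_smul, hc₀, smul_comm]
  obtain ⟨d, hd⟩ := h (v + v₀)
  rw [map_add, hc, hc₀, smul_add] at hd
  have h1 : (c - d) • v = (d - c₀) • v₀ := by
    rw [sub_smul, sub_smul, sub_eq_sub_iff_add_eq_add, hd, add_comm]
  by_cases hcd : c - d = 0
  · rw [hcd, zero_smul, eq_comm, smul_eq_zero] at h1
    rw [hc, sub_eq_zero.mp hcd, sub_eq_zero.mp (h1.resolve_right hv₀)]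
  · refine absurd (Submodule.mem_span_singleton.mpr ⟨(c - d)⁻¹ * (d - c₀), ?_⟩) hdep
    rw [mul_smul, ← h1, smul_smul, inv_mul_cancel₀ hcd, one_smul]

/-- a reducible abelian normal subgroup of a transitive linear group -/
theorem reducible [Nontrivial V] (hρ : Function.Injective ρ) (ht : Trans ρ) {A : Subgroup G} (hA : A.Normal)
    (hab : ∀ a ∈ A, ∀ b ∈ A, Commute a b) (hred : ¬ Irred ρ A) :
    ∃ d, 0 < d ∧ d < Module.finrank (ZMod q) V ∧ q ^ d - 1 ∣ q ^ Module.finrank (ZMod q) V - 1 ∧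
      Nat.card A ∣ q ^ d - 1 ∧ (d = 1 → ∀ a ∈ A, Sc ρ a) := by
  classical
  set n := Module.finrank (ZMod q) V
  simp only [Irred, not_forall, exists_prop, not_or] at hred
  obtain ⟨W₁, hW₁, hW₁b, hW₁t⟩ := hred
  let IsInv : Submodule (ZMod q) V → Prop := fun W => W ≠ ⊥ ∧ ∀ a ∈ A, ∀ w ∈ W, ρ a w ∈ W
  have hex : ∃ d, ∃ W, IsInv W ∧ Module.finrank (ZMod q) W = d := ⟨_, W₁, ⟨hW₁b, hW₁⟩, rfl⟩
  obtain ⟨W, hW, hWd⟩ := Nat.find_spec hex
  set d := Nat.find hex
  have hmin : ∀ W', IsInv W' → d ≤ Module.finrank (ZMod q) W' := fun W' h' => Nat.find_min' hex ⟨W', h', rfl⟩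
  have hd0 : 0 < d := by
    rw [← hWd]; exact Nat.pos_of_ne_zero fun h0 => hW.1 (Submodule.finrank_eq_zero.mp h0)
  have hdn : d < n := lt_of_le_of_lt (hmin W₁ ⟨hW₁b, hW₁⟩) (Submodule.finrank_lt hW₁t)
  -- translates
  let T : G → Submodule (ZMod q) V := fun g => W.map (ρ g).toLinearMap
  have hTfin : ∀ g, Module.finrank (ZMod q) (T g) = d := fun g => (LinearEquiv.finrank_map_eq (ρ g) W).trans hWd
  have hTinv : ∀ g, IsInv (T g) := by
    intro g
    refine ⟨fun h0 => ?_, ?_⟩
    · have := hTfin g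
      rw [h0, finrank_bot] at this
      omega
    · rintro a ha _ ⟨w, hw, rfl⟩
      refine ⟨ρ (g⁻¹ * a * g) w, hW.2 _ (by simpa using hA.conj_mem a ha g⁻¹) w hw, ?_⟩
      show ρ g (ρ (g⁻¹ * a * g) w) = ρ a (ρ g w)
      rw [← rho_mul, ← rho_mul]; group
  have hmeet : ∀ g g', ∀ v ∈ T g, v ∈ T g' → v ≠ 0 → T g = T g' := by
    intro g g' v hv hv' hv0
    have hinv : IsInv (T g ⊓ T g') := ⟨fun h0 => hv0 (by
      have : v ∈ T g ⊓ T g' := ⟨hv, hv'⟩
      rwa [h0, Submodule.mem_bot] at this), fun a ha w hw => ⟨(hTinv g).2 a ha w hw.1, (hTinv g').2 a ha w hw.2⟩⟩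
    have h1 : T g ⊓ T g' = T g := Submodule.eq_of_le_of_finrank_le inf_le_left (by rw [hTfin]; exact hmin _ hinv)
    have h2 : T g ⊓ T g' = T g' := Submodule.eq_of_le_of_finrank_le inf_le_right (by rw [hTfin]; exact hmin _ hinv)
    exact h1.symm.trans h2
  obtain ⟨w₀, hw₀, hw₀0⟩ := (Submodule.ne_bot_iff _).mp hW.1
  have hcover : ∀ v : V, v ≠ 0 → ∃ g, v ∈ T g := fun v hv => by
    obtain ⟨g, hg⟩ := ht w₀ v hw₀0 hv
    exact ⟨g, w₀, hw₀, hg⟩
  -- semiregular
  have hsemi : ∀ a ∈ A, ∀ v : V, v ≠ 0 → ρ a v = v → a = 1 := by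
    intro a ha v hv hfix
    refine eq_one_of_fix hρ ?_
    obtain ⟨g, hg⟩ := hcover v hv
    have hTfix : ∀ w ∈ T g, ρ a w = w := by
      let W' : Submodule (ZMod q) V := T g ⊓ LinearMap.ker (toEnd ρ a - 1)
      have hW' : IsInv W' := ⟨fun h0 => hv (by
        have : v ∈ W' := ⟨hg, by simp [LinearMap.mem_ker, toEnd_apply, hfix]⟩
        rwa [h0, Submodule.mem_bot] at this), fun b hb w hw => ⟨(hTinv g).2 b hb w hw.1, by
          have h1 : ρ a w = w := by simpa [LinearMap.mem_ker, toEnd_apply, sub_eq_zero] using hw.2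
          have h2 : ρ a (ρ b w) = ρ b w := by rw [← rho_mul, (hab a ha b hb).eq, rho_mul, h1]
          simp [LinearMap.mem_ker, toEnd_apply, h2]⟩⟩
      have h1 : W' = T g := Submodule.eq_of_le_of_finrank_le inf_le_left (by rw [hTfin]; exact hmin _ hW')
      intro w hw
      rw [← h1] at hw
      simpa [LinearMap.mem_ker, toEnd_apply, sub_eq_zero] using hw.2
    intro w
    by_cases hw : w ∈ T g
    · exact hTfix w hw
    have hw0 : w ≠ 0 := fun h0 => hw (h0 ▸ Submodule.zero_mem _)
    have hne : v + w ≠ 0 := fun h0 => hw (by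
      rw [eq_neg_of_add_eq_zero_right h0]; exact Submodule.neg_mem _ hg)
    obtain ⟨g₂, hg₂⟩ := hcover w hw0
    obtain ⟨g₃, hg₃⟩ := hcover (v + w) hne
    have hd2 : ρ a w - w ∈ T g₂ := Submodule.sub_mem _ ((hTinv g₂).2 a ha w hg₂) hg₂
    have hd3 : ρ a w - w ∈ T g₃ := by
      have := Submodule.sub_mem _ ((hTinv g₃).2 a ha _ hg₃) hg₃
      rwa [map_add, hfix, add_sub_add_left_eq_sub] at this
    by_contra hne'
    have h23 := hmeet g₂ g₃ _ hd2 hd3 (sub_ne_zero.mpr hne')
    have hv2 : v ∈ T g₂ := by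
      have := Submodule.sub_mem _ (h23 ▸ hg₃) hg₂
      rwa [add_sub_cancel_right] at this
    exact hw (hmeet g₂ g v hv2 hg hv ▸ hg₂)
  refine ⟨d, hd0, hdn, ?_, ?_, ?_⟩
  · haveI := Fintype.ofFinite V
    haveI : Finite (Submodule (ZMod q) V) := Finite.of_injective _ SetLike.coe_injective
    haveI := Fintype.ofFinite (Submodule (ZMod q) V)
    choose c hc using hcover
    let f : {v : V // v ≠ 0} → Submodule (ZMod q) V := fun v => T (c v v.2)
    have hfib : ∀ U ∈ Finset.univ.image f, (Finset.univ.filter fun v => f v = U).card = q ^ d - 1 := by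
      intro U hU
      obtain ⟨v₁, -, rfl⟩ := Finset.mem_image.mp hU
      have e1 : (Finset.univ.filter fun v => f v = f v₁).map ⟨Subtype.val, Subtype.val_injective⟩ =
          (Finset.univ.filter fun w : V => w ∈ f v₁).erase 0 := by
        ext w
        simp only [Finset.mem_map, Finset.mem_filter, Finset.mem_univ, true_and, Function.Embedding.coeFn_mk,
          Finset.mem_erase]
        refine ⟨fun ⟨v, hv, he⟩ => he ▸ ⟨v.2, hv ▸ hc v v.2⟩, fun ⟨h0, hw⟩ => ⟨⟨w, h0⟩, ?_, rfl⟩⟩
        exact hmeet _ _ w (hc w h0) hw h0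
      have e2 := congrArg Finset.card e1
      rw [Finset.card_map, Finset.card_erase_of_mem (by simp)] at e2
      rw [e2]
      congr 1
      rw [← Fintype.card_subtype, ← Nat.card_eq_fintype_card]
      show Nat.card (f v₁) = q ^ d
      rw [Module.natCard_eq_pow_finrank (K := ZMod q), Nat.card_zmod, hTfin]
    have h1 := Finset.card_eq_sum_card_image f (Finset.univ : Finset {v : V // v ≠ 0})
    rw [Finset.sum_congr rfl hfib, Finset.sum_const, smul_eq_mul, Finset.card_univ, Fintype.card_subtype_compl,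
      Fintype.card_subtype_eq, ← Nat.card_eq_fintype_card, card_V (q := q)] at h1
    exact ⟨_, h1.trans (mul_comm _ _)⟩
  · letI : MulAction A {w : V // w ∈ W ∧ w ≠ 0} :=
      { smul := fun a w => ⟨ρ (a : G) w.1, hW.2 a a.2 w.1 w.2.1, fun h0 => w.2.2 ((ρ (a : G)).injective (h0.trans (map_zero _).symm))⟩
        one_smul := fun w => Subtype.ext (by show ρ ((1 : A) : G) w.1 = w.1; simp)
        mul_smul := fun a b w => Subtype.ext (by show ρ ((a * b : A) : G) w.1 = _; exact rho_mul _ _ _) }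
    have hst : ∀ w : {w : V // w ∈ W ∧ w ≠ 0}, MulAction.stabilizer A w = ⊥ := fun w => by
      rw [Subgroup.eq_bot_iff_forall]
      exact fun a ha => Subtype.ext (hsemi a a.2 w.1 w.2.2 (congrArg Subtype.val ha))
    have heq := Nat.card_congr (MulAction.selfEquivSigmaOrbits A {w : V // w ∈ W ∧ w ≠ 0})
    haveI : Finite (MulAction.orbitRel.Quotient A {w : V // w ∈ W ∧ w ≠ 0}) := inferInstance
    haveI := Fintype.ofFinite (MulAction.orbitRel.Quotient A {w : V // w ∈ W ∧ w ≠ 0})
    rw [Nat.card_sigma, Finset.sum_congr rfl fun o _ => show Nat.card (MulAction.orbit A o.out) = Nat.card A by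
      rw [Nat.card_coe_set_eq, ← MulAction.index_stabilizer, hst, Subgroup.index_bot],
      Finset.sum_const, smul_eq_mul] at heq
    refine ⟨Fintype.card (MulAction.orbitRel.Quotient A {w : V // w ∈ W ∧ w ≠ 0}), ?_⟩
    rw [mul_comm, ← Finset.card_univ, ← heq]
    haveI := Fintype.ofFinite V
    rw [Nat.card_eq_fintype_card, Fintype.card_subtype, show (Finset.univ.filter fun w : V => w ∈ W ∧ w ≠ 0) =
      (Finset.univ.filter fun w : V => w ∈ W).erase 0 by ext; simp [and_comm], Finset.card_erase_of_mem (by simp),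
      ← Fintype.card_subtype, ← Nat.card_eq_fintype_card, ← hWd]
    congr 1
    show q ^ _ = Nat.card W
    rw [Module.natCard_eq_pow_finrank (K := ZMod q), Nat.card_zmod]
  · intro hd1 a ha
    refine eigen_scalar (T := toEnd ρ a) fun v => ?_
    by_cases hv : v = 0
    · exact ⟨1, by simp [hv]⟩
    obtain ⟨g, hg⟩ := hcover v hv
    have hsp : Submodule.span (ZMod q) {v} = T g := Submodule.eq_of_le_of_finrank_le
      ((Submodule.span_singleton_le_iff_mem _ _).mpr hg) (by rw [hTfin, hd1, finrank_span_singleton hv])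
    have := (hTinv g).2 a ha v hg
    rw [← hsp] at this
    obtain ⟨c, hc⟩ := Submodule.mem_span_singleton.mp this
    exact ⟨c, hc.symm⟩

end Cfsg.Agent.Recog.HuppertCases
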