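import Mathlib

/-!
The algebra of the degree and involution equations: the weights are signed degrees, the coordinates
are normalised character values at two classes of involutions.
-/

namespace Cfsg.Agent.Recog.MonoCube.Alg

theorem three_eq {a b c r s t : ℝ} (ha : a ≠ 0) (hb : b ≠ 0) (hc : c ≠ 0)
    (h0 : a + b + c = 0) (h1 : a * r + b * s + c * t = 0)
    (h2 : a * r ^ 2 + b * s ^ 2 + c * t ^ 2 = 0) : r = t ∧ s = t := by
  have e1 : a * (r - t) + b * (s - t) = 0 := by linear_combination h1 - t * h0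
  have e2 : a * (r - t) ^ 2 + b * (s - t) ^ 2 = 0 := by linear_combination h2 - 2 * t * h1 + t ^ 2 * h0
  have e3 : a * (a + b) * (r - t) ^ 2 = 0 := by
    linear_combination b * e2 + (a * (r - t) - b * (s - t)) * e1
  have hab : a + b ≠ 0 := fun h => hc (by linarith)
  have hr : r - t = 0 := by
    rcases mul_eq_zero.1 e3 with h | h
    · exact absurd h (mul_ne_zero ha hab)
    · exact pow_eq_zero_iff (n := 2) (by norm_num) |>.1 h
  have hs : b * (s - t) = 0 := by rw [hr] at e1; linarith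
  exact ⟨sub_eq_zero.1 hr, sub_eq_zero.1 ((mul_eq_zero.1 hs).resolve_left hb)⟩

/-- The weights and coordinates of the first three virtual characters, in normal form: `a`, `b`, `c`
have first coordinate `0` and second coordinates `A`, `B`, `0`; `d` is `(P, 0)`, `e` is `(xe, 0)`;
the trivial character is `(F, h)` and `f` is `(xf, yf)`. -/
structure Base (n m l A B P xe F h xf yf : ℝ) : Prop where
  n_ne : n ≠ 0
  m_ne : m ≠ 0
  l_ne : l ≠ 0
  M_ne : n + m ≠ 0
  e_ne : n + m + l ≠ 0
  f_ne : 1 + n + l ≠ 0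
  y11 : n * A + m * B = 0
  yy11 : n * A ^ 2 + m * B ^ 2 = 1
  x31 : l * P - (n + m + l) * xe = 0
  xx31 : l * P ^ 2 - (n + m + l) * xe ^ 2 = 1
  x10 : F + l * P - (1 + n + l) * xf = 0
  y10 : h + n * A - (1 + n + l) * yf = 0
  xx10 : F ^ 2 + l * P ^ 2 - (1 + n + l) * xf ^ 2 = 1
  xy10 : F * h - (1 + n + l) * (xf * yf) = 1
  yy10 : h ^ 2 + n * A ^ 2 - (1 + n + l) * yf ^ 2 = 2

variable {n m l A B P xe F h xf yf : ℝ}

theorem Base.P_ne (H : Base n m l A B P xe F h xf yf) : P ≠ 0 := by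
  intro h0
  have h1 := H.x31
  rw [h0, mul_zero, zero_sub, neg_eq_zero] at h1
  have hx : xe = 0 := (mul_eq_zero.1 h1).resolve_left H.e_ne
  have h2 := H.xx31
  rw [h0, hx] at h2
  norm_num at h2

theorem Base.lMP (H : Base n m l A B P xe F h xf yf) :
    l * (n + m) * P ^ 2 = n + m + l := by
  linear_combination (n + m + l) * H.xx31 - (l * P + (n + m + l) * xe) * H.x31

/-- The combination `1 + 2a + b + d - f`. -/
theorem Base.case_A (H : Base n m l A B P xe F h xf yf) (hx : F + l * P + (1 + n + l) * xf = 0)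
    (hxx : F ^ 2 + l * P ^ 2 + (1 + n + l) * xf ^ 2 = 3 / 2) : False := by
  have h1 : (1 + n + l) * xf = 0 := by linarith [H.x10]
  have h2 := (mul_eq_zero.1 h1).resolve_left H.f_ne
  have h3 := H.xx10
  rw [h2] at h3 hxx
  norm_num at h3 hxx
  linarith

/-- The combination `1 + a + 2b + e + f`. -/
theorem Base.case_D (H : Base n m l A B P xe F h xf yf)
    (hx : F - (n + m + l) * xe - (1 + n + l) * xf = 0) : False := by
  have h1 : l * P = 0 := by linarith [H.x10, H.x31]
  exact H.P_ne ((mul_eq_zero.1 h1).resolve_left H.l_ne)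

/-- The combination `1 + a + b + c + c' + d + e + Z`. -/
theorem Base.case_E (_H : Base n m l A B P xe F h xf yf) {z xz yz : ℝ}
    (hx : F + z * xz = 0) (hy : h + z * yz = 0) (hxx : F ^ 2 + z * xz ^ 2 = 1 / 2)
    (hxy : F * h + z * (xz * yz) = 1 / 2) (hyy : h ^ 2 + z * yz ^ 2 = 3 / 2) : False := by
  have hF : F = -(z * xz) := by linarith
  have hh : h = -(z * yz) := by linarith
  subst hF hh
  have e : (1 / 2 : ℝ) * (3 / 2) = (1 / 2) ^ 2 := by
    conv_lhs => rw [← hxx, ← hyy]
    conv_rhs => rw [← hxy]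
    ring
  norm_num at e

/-- The combination `1 + 2a + b + e + g` forces the weight of `b` to be one. -/
theorem Base.case_B (H : Base n m l A B P xe F h xf yf) {g xg yg : ℝ}
    (hg : g = -(1 + n - l)) (hg0 : g ≠ 0)
    (hx : F - l * P + g * xg = 0) (hy : h + n * A + g * yg = 0)
    (hxx : F ^ 2 - l * P ^ 2 + g * xg ^ 2 = 1 / 2) (hxy : F * h + g * (xg * yg) = 1 / 2)
    (hyy : h ^ 2 + n * A ^ 2 + g * yg ^ 2 = 3 / 2) : m = 1 := by
  have hl := H.l_ne
  obtain ⟨e1, e2⟩ := three_eq (a := -2 * l) (b := g) (c := 1 + n + l) (r := 0 - P) (s := yg - xg)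
    (t := yf - xf) (mul_ne_zero (by norm_num) hl) hg0 H.f_ne (by rw [hg]; ring)
    (by linear_combination hy - hx - H.y10 + H.x10)
    (by linear_combination hyy - 2 * hxy + hxx - H.yy10 + 2 * H.xy10 - H.xx10)
  set ζ := yf - xf with hζ
  have hP : -P = ζ := by linarith
  have hz : (h - F) + n * A - (1 + n) * ζ = 0 := by
    linear_combination H.y10 - H.x10 - l * hP + (1 + n + l) * hζ
  have hzz : (h - F) ^ 2 + n * A ^ 2 - (1 + n) * ζ ^ 2 = 1 := by
    linear_combination H.yy10 - 2 * H.xy10 + H.xx10 + (1 + n + l) * (yf - xf + ζ) * hζ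
      - l * (ζ - P) * hP
  have hxz : F * ((h - F) - ζ) = 0 := by
    linear_combination H.xy10 - H.xx10 - ζ * H.x10 - (1 + n + l) * xf * hζ - l * P * hP
  have hF : F = 0 := by
    rcases mul_eq_zero.1 hxz with h1 | h1
    · exact h1
    · exfalso
      have h2 : n * (A - ζ) = 0 := by linear_combination hz - h1
      have h3 : A = ζ := sub_eq_zero.1 ((mul_eq_zero.1 h2).resolve_left H.n_ne)
      have h4 : (0 : ℝ) = 1 := by
        linear_combination hzz - (h - F + ζ) * h1 - n * (A + ζ) * h3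
      norm_num at h4
  have h1 := H.x10
  have h2 := H.xx10
  rw [hF] at h1 h2 hx hxx
  have a1 : l * P ^ 2 * (1 + n) = 1 + n + l := by
    linear_combination (1 + n + l) * h2 - (l * P + (1 + n + l) * xf) * h1
  have a2 : l * P ^ 2 * (g - l) = -(g / 2) := by
    linear_combination -g * hxx + (g * xg + l * P) * hx
  have a3 : l = -3 * (1 + n) := by
    rw [hg] at a2
    linear_combination -2 * a1 - 2 * a2
  have hL : (1 + n) ≠ 0 := fun h0 => hl (by rw [a3, h0, mul_zero])
  have a4 : l * P ^ 2 = -2 := by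
    apply mul_right_cancel₀ hL
    linear_combination a1 + a3
  linear_combination -1/3 * (H.lMP) + (n + m) / 3 * a4 - 1/3 * a3

/-- The combination `1 + a + 2b + d + Z`. -/
theorem Base.case_standard (H : Base n m l A B P xe F h xf yf) {xz yz : ℝ}
    (hx : F + l * P - (1 + n + 2 * m + l) * xz = 0)
    (hy : h + n * A + 2 * m * B - (1 + n + 2 * m + l) * yz = 0)
    (hxx : F ^ 2 + l * P ^ 2 - (1 + n + 2 * m + l) * xz ^ 2 = 3 / 2)
    (hxy : F * h - (1 + n + 2 * m + l) * (xz * yz) = 1 / 2)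
    (hyy : h ^ 2 + n * A ^ 2 + 2 * m * B ^ 2 - (1 + n + 2 * m + l) * yz ^ 2 = 5 / 2) :
    l = 2 * m - n - 1 ∧ (m - 1) * (2 * m * (m - 1) - (m + 1) * n) = 0 ∧
      (n * (n + m) - l ^ 2 + l) ^ 2 = 4 * l * (n + m + l) * (n + m - l) ∧
      2 * l * (F * P) * (n + m) = n * (n + m) - l ^ 2 + l ∧
      F ^ 2 * (n + m) = n + m - l := by
  have hM := H.M_ne
  have hn := H.n_ne
  have hm := H.m_ne
  have e0 := H.lMP
  have e1 : (F ^ 2 + l * P ^ 2 - 1) * (1 + n + l) = (F + l * P) ^ 2 := by
    linear_combination (1 + n + l) * H.xx10 - (F + l * P + (1 + n + l) * xf) * H.x10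
  have e2 : (F ^ 2 + l * P ^ 2 - 3 / 2) * (1 + n + 2 * m + l) = (F + l * P) ^ 2 := by
    linear_combination (1 + n + 2 * m + l) * hxx - (F + l * P + (1 + n + 2 * m + l) * xz) * hx
  have e3 : (F * h - 1) * (1 + n + l) = (F + l * P) * (h + n * A) := by
    linear_combination (1 + n + l) * H.xy10 - (h + n * A) * H.x10 - (1 + n + l) * xf * H.y10
  have hK : m * B = -(n * A) := by linarith [H.y11]
  have e4 : (F * h - 1 / 2) * (1 + n + 2 * m + l) = (F + l * P) * (h - n * A) := by
    linear_combination (1 + n + 2 * m + l) * hxy - (h - n * A) * hx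
      - (1 + n + 2 * m + l) * xz * hy + 2 * (1 + n + 2 * m + l) * xz * hK
  have e5 : (h ^ 2 + n * A ^ 2 - 2) * (1 + n + l) = (h + n * A) ^ 2 := by
    linear_combination (1 + n + l) * H.yy10 - (h + n * A + (1 + n + l) * yf) * H.y10
  have e6 : (h ^ 2 + n * A ^ 2 + 2 * m * B ^ 2 - 5 / 2) * (1 + n + 2 * m + l) = (h - n * A) ^ 2 := by
    linear_combination (1 + n + 2 * m + l) * hyy
      - (h - n * A + (1 + n + 2 * m + l) * yz) * hy + 2 * (h - n * A + (1 + n + 2 * m + l) * yz) * hK
  have k2 : (n * A) ^ 2 * (n + m) = m * n := by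
    linear_combination m * n * H.yy11 - n * (m * B - n * A) * hK
  have kA : n * A ^ 2 * (n + m) = m := by
    apply mul_left_cancel₀ hn
    linear_combination k2
  have kB : m * B ^ 2 * (n + m) = n := by
    apply mul_left_cancel₀ hm
    linear_combination k2 + (n + m) * (m * B - n * A) * hK
  have s4 : 4 * m * (F ^ 2 + l * P ^ 2 - 1) = 1 + n + 2 * m + l := by
    linear_combination -2 * e1 + 2 * e2
  have s5 : n * (F ^ 2 + l * P ^ 2 - 1) = 1 + l - l * (F - P) ^ 2 := by linear_combination e1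
  have g1 : l * (P * h * n + (F - P) * (n * A)) ^ 2 = n * (1 + n + l) := by
    have hS := H.f_ne
    apply mul_left_cancel₀ hS
    have i1 : ((F ^ 2 + l * P ^ 2) * (1 + n + l) - (F + l * P) ^ 2) *
        ((h ^ 2 + n * A ^ 2) * (1 + n + l) - (h + n * A) ^ 2) -
        (F * h * (1 + n + l) - (F + l * P) * (h + n * A)) ^ 2 = (1 + n + l) ^ 2 := by
      have x1 : (F ^ 2 + l * P ^ 2) * (1 + n + l) - (F + l * P) ^ 2 = 1 + n + l := by
        linear_combination e1
      have x2 : (h ^ 2 + n * A ^ 2) * (1 + n + l) - (h + n * A) ^ 2 = 2 * (1 + n + l) := by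
        linear_combination e5
      have x3 : F * h * (1 + n + l) - (F + l * P) * (h + n * A) = 1 + n + l := by
        linear_combination e3
      rw [x1, x2, x3]; ring
    linear_combination n * i1
  have hS2 : 1 + n + 2 * m + l ≠ 0 := fun h0 => by
    rw [h0] at s4
    have h1 : F ^ 2 + l * P ^ 2 - 1 = 0 := (mul_eq_zero.1 s4).resolve_left (by positivity)
    have h2 : (F ^ 2 + l * P ^ 2 - 3 / 2) = 1 / 2 * (0 - 1) := by linarith
    have h3 := hxx
    rw [h0] at h3
    linarith
  have kk : (n * A) ^ 2 * (m + 2 * n) = m * n * (n * A ^ 2 + 2 * m * B ^ 2) := by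
    apply mul_left_cancel₀ hM
    linear_combination (m + 2 * n) * k2 - m * n * kA - 2 * m * n * kB
  have g2 : 2 * l * (P * h * m - (F - P) * (n * A)) ^ 2 * n
      + l * (P * h * n + (F - P) * (n * A)) ^ 2 * m
      + 2 * m * n * (n + m) * (F ^ 2 + l * P ^ 2) =
      7 / 2 * (1 + n + 2 * m + l) * (m * n) := by
    apply mul_left_cancel₀ hS2
    have i1 : ((F ^ 2 + l * P ^ 2) * (1 + n + 2 * m + l) - (F + l * P) ^ 2) *
        ((h ^ 2 + n * A ^ 2 + 2 * m * B ^ 2) * (1 + n + 2 * m + l) - (h - n * A) ^ 2) -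
        (F * h * (1 + n + 2 * m + l) - (F + l * P) * (h - n * A)) ^ 2 =
        7 / 2 * (1 + n + 2 * m + l) ^ 2 := by
      have x1 : (F ^ 2 + l * P ^ 2) * (1 + n + 2 * m + l) - (F + l * P) ^ 2 =
          3 / 2 * (1 + n + 2 * m + l) := by linear_combination e2
      have x2 : (h ^ 2 + n * A ^ 2 + 2 * m * B ^ 2) * (1 + n + 2 * m + l) - (h - n * A) ^ 2 =
          5 / 2 * (1 + n + 2 * m + l) := by linear_combination e6
      have x3 : F * h * (1 + n + 2 * m + l) - (F + l * P) * (h - n * A) =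
          1 / 2 * (1 + n + 2 * m + l) := by linear_combination e4
      rw [x1, x2, x3]; ring
    linear_combination m * n * i1 + ((F ^ 2 + l * P ^ 2) * (1 + n + 2 * m + l) - (F + l * P) ^ 2) *
      (1 + n + 2 * m + l) * kk
      - 2 * (F ^ 2 + l * P ^ 2) * (n + m) * (1 + n + 2 * m + l) * k2
  have gs : 2 * (n + m + l) * h ^ 2 + 2 * l * (F - P) ^ 2 + 2 * (n + m) * (F ^ 2 + l * P ^ 2) =
      7 / 2 * (1 + n + 2 * m + l) + (1 + n + l) := by
    apply mul_left_cancel₀ (mul_ne_zero hm hn)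
    linear_combination g2 + m * g1 - 2 * l * (F - P) ^ 2 * k2 - 2 * h ^ 2 * m * n * e0
  have hh : (n + m + l) * h ^ 2 = 1 + n + 2 * m + l := by
    linear_combination 1 / 2 * gs - s5 - 1 / 4 * s4
  have hl : l = 2 * m - n - 1 := by
    have h1 : (n + m) * (2 * m - n - 1 - l) = 0 := by
      linear_combination 2 * (n + m) * e5 + 2 * (n + m) * e6 - 2 * (1 + n + l) * kA
        - 2 * (1 + n + 2 * m + l) * (kA + 2 * kB) + 4 * k2 - 4 * (n + m) * hh
    linarith [(mul_eq_zero.1 h1).resolve_left hM]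
  have hS1v : 1 + n + l = 2 * m := by linarith
  have hP0 : F ^ 2 + l * P ^ 2 - 1 = 1 := by
    apply mul_left_cancel₀ hm
    linear_combination 1 / 4 * s4 + 1 / 4 * hS1v
  have hF2 : F ^ 2 * (n + m) = n + m - l := by
    linear_combination (n + m) * hP0 - e0
  have hW : 2 * l * (F * P) * (n + m) = n * (n + m) - l ^ 2 + l := by
    linear_combination -(n + m) * e1 + (n + m) * (1 + n + l) * hP0 - hF2 - l * e0
  have hFm : m * (h * F) + (F + l * P) * (n * A) = 0 := by
    linear_combination -1/2 * e3 + 1/2 * e4 - 1/4 * hS1v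
  have hQ : 2 * (n + m) * h * (n * A) * (n + m + l) =
      (n + m) * (1 + n + 2 * m + l) * (l + n) +
        ((m - 2 * (n + m)) * (1 + n + l) - m * n) * (n + m + l) := by
    linear_combination -(n + m + l) * ((n + m) * e5 - (1 + n + l) * kA + k2)
      + (n + m) * (l + n) * hh
  have hR : m * (n + m - l) * (2 * (n + m) * h * (n * A) * (n + m + l)) +
      m * n * (n + m + l) * (2 * (n + m - l) + (n * (n + m) - l ^ 2 + l)) = 0 := by
    rw [← hF2, ← hW]
    linear_combination 2 * (n + m + l) * (n + m) * F * ((n + m) * (n * A) * hFm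
      - (F + l * P) * k2)
  refine ⟨hl, ?_, ?_, hW, hF2⟩
  · have h1 : m * (n + m) * ((m - 1) * (2 * m * (m - 1) - (m + 1) * n)) = 0 := by
      rw [hQ] at hR
      subst hl
      linear_combination -hR
    exact (mul_eq_zero.1 h1).resolve_left (mul_ne_zero hm hM)
  · rw [← hW, ← hF2, ← e0]; ring

/-- Integer solutions of the final equations. -/
theorem weights_eq (n m : ℤ) (hn : n ≠ 0) (hm : m ≠ 0)
    (h1 : (m - 1) * (2 * m * (m - 1) - (m + 1) * n) = 0) (hm1 : m ≠ 1)
    (h2 : (n * (n + m) - (2 * m - n - 1) ^ 2 + (2 * m - n - 1)) ^ 2 =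
      4 * (2 * m - n - 1) * (n + m + (2 * m - n - 1)) * (n + m - (2 * m - n - 1))) :
    n = 3 ∧ m = 3 := by
  have h3 := (mul_eq_zero.1 h1).resolve_left (sub_ne_zero.2 hm1)
  have hd : (m + 1) ∣ 4 := ⟨n - 2 * m + 4, by linear_combination h3⟩
  have hlo : -4 ≤ m + 1 := by
    have := Int.le_of_dvd (by norm_num) ((neg_dvd).2 hd)
    omega
  have hhi : m + 1 ≤ 4 := Int.le_of_dvd (by norm_num) hd
  have hm' : -5 ≤ m := by omega
  have hm'' : m ≤ 3 := by omega
  interval_cases m <;> norm_num at h3 <;> first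
    | omega
    | (exfalso; norm_num at hd; done)
    | (suffices n = -12 by subst this; norm_num at h2
       omega)
    | (suffices n = -15 by subst this; norm_num at h2
       omega)

end Cfsg.Agent.Recog.MonoCube.Alg
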