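import Cfsg.Agent.Lib.Recog.MonoCubeAlg

/-!
The four coefficient vectors are forced, and one constituent has degree two and takes its degree as
value at the first involution.
-/

namespace Cfsg.Agent.Recog.MonoCube.Coef

universe u

/-- Four integer vectors with the inner products of the virtual characters, the twist, and the
moments of degrees and normalised values. -/
structure Data {ι : Type u} [Fintype ι] (one : ι) (π : ι → ι) (a₁ a₃ a₄ a₂ : ι → ℤ) (deg : ι → ℕ)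
    (x y : ι → ℝ) : Prop where
  n11 : ∑ i, a₁ i * a₁ i = 3
  n33 : ∑ i, a₃ i * a₃ i = 4
  n44 : ∑ i, a₄ i * a₄ i = 4
  n22 : ∑ i, a₂ i * a₂ i = 8
  n13 : ∑ i, a₁ i * a₃ i = 2
  n14 : ∑ i, a₁ i * a₄ i = 1
  n12 : ∑ i, a₁ i * a₂ i = 3
  n34 : ∑ i, a₃ i * a₄ i = 2
  n32 : ∑ i, a₃ i * a₂ i = 4
  n42 : ∑ i, a₄ i * a₂ i = 3
  one1 : a₁ one = 0
  one3 : a₃ one = 0
  one4 : a₄ one = 1
  one2 : a₂ one = 1
  pi_one : π one = one
  pi_inj : Function.Injective π
  pi3 : ∀ i, a₃ (π i) = a₃ i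
  pi4 : ∀ i, a₄ (π i) = a₄ i
  pi2 : ∀ i, a₂ (π i) = a₂ i
  twist : ∑ i, a₁ (π i) * a₁ i = 2
  deg_pos : ∀ i, 0 < deg i
  deg_one : deg one = 1
  deg_pi : ∀ i, deg (π i) = deg i
  x_pi : ∀ i, x (π i) = x i
  y_pi : ∀ i, y (π i) = y i
  not_linear : ∀ i, a₁ i ≠ 0 → deg i ≠ 1
  d1 : ∑ i, (a₁ i : ℝ) * deg i = 0
  d3 : ∑ i, (a₃ i : ℝ) * deg i = 0
  d4 : ∑ i, (a₄ i : ℝ) * deg i = 0
  d2 : ∑ i, (a₂ i : ℝ) * deg i = 0
  x1 : ∑ i, (a₁ i : ℝ) * deg i * x i = 0
  x3 : ∑ i, (a₃ i : ℝ) * deg i * x i = 0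
  x4 : ∑ i, (a₄ i : ℝ) * deg i * x i = 0
  x2 : ∑ i, (a₂ i : ℝ) * deg i * x i = 0
  y1 : ∑ i, (a₁ i : ℝ) * deg i * y i = 0
  y3 : ∑ i, (a₃ i : ℝ) * deg i * y i = 0
  y4 : ∑ i, (a₄ i : ℝ) * deg i * y i = 0
  y2 : ∑ i, (a₂ i : ℝ) * deg i * y i = 0
  xx1 : ∑ i, (a₁ i : ℝ) * deg i * (x i * x i) = 0
  xx3 : ∑ i, (a₃ i : ℝ) * deg i * (x i * x i) = 1
  xx4 : ∑ i, (a₄ i : ℝ) * deg i * (x i * x i) = 1
  xx2 : ∑ i, (a₂ i : ℝ) * deg i * (x i * x i) = 3 / 2
  xy3 : ∑ i, (a₃ i : ℝ) * deg i * (x i * y i) = 0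
  xy4 : ∑ i, (a₄ i : ℝ) * deg i * (x i * y i) = 1
  xy2 : ∑ i, (a₂ i : ℝ) * deg i * (x i * y i) = 1 / 2
  yy1 : ∑ i, (a₁ i : ℝ) * deg i * (y i * y i) = 1
  yy3 : ∑ i, (a₃ i : ℝ) * deg i * (y i * y i) = 1
  yy4 : ∑ i, (a₄ i : ℝ) * deg i * (y i * y i) = 2
  yy2 : ∑ i, (a₂ i : ℝ) * deg i * (y i * y i) = 5 / 2

variable {ι : Type u} [Fintype ι]

theorem sum_eq {R : Type*} [AddCommMonoid R] (S : Finset ι) (f : ι → R) (h : ∀ i, i ∉ S → f i = 0) :
    ∑ i, f i = ∑ i ∈ S, f i :=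
  (Finset.sum_subset (Finset.subset_univ S) fun i _ hi => h i hi).symm

theorem sum_eq_three [DecidableEq ι] {R : Type*} [AddCommMonoid R] {p q r : ι} (hpq : p ≠ q)
    (hpr : p ≠ r) (hqr : q ≠ r) (f : ι → R) (h : ∀ i, i ≠ p → i ≠ q → i ≠ r → f i = 0) :
    ∑ i, f i = f p + f q + f r := by
  rw [sum_eq {p, q, r} f fun i hi => by
    simp only [Finset.mem_insert, Finset.mem_singleton, not_or] at hi
    exact h i hi.1 hi.2.1 hi.2.2]
  rw [Finset.sum_insert (by simp [hpq, hpr]), Finset.sum_insert (by simp [hqr]),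
    Finset.sum_singleton, add_assoc]

theorem sum_eq_four [DecidableEq ι] {R : Type*} [AddCommMonoid R] {p q r s : ι} (hpq : p ≠ q)
    (hpr : p ≠ r) (hps : p ≠ s) (hqr : q ≠ r) (hqs : q ≠ s) (hrs : r ≠ s) (f : ι → R)
    (h : ∀ i, i ≠ p → i ≠ q → i ≠ r → i ≠ s → f i = 0) :
    ∑ i, f i = f p + f q + f r + f s := by
  rw [sum_eq {p, q, r, s} f fun i hi => by
    simp only [Finset.mem_insert, Finset.mem_singleton, not_or] at hi
    exact h i hi.1 hi.2.1 hi.2.2.1 hi.2.2.2]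
  rw [Finset.sum_insert (by simp [hpq, hpr, hps]), Finset.sum_insert (by simp [hqr, hqs]),
    Finset.sum_insert (by simp [hrs]), Finset.sum_singleton]
  simp only [add_assoc]

theorem unit_of_sq {v : ℤ} (h : v * v ≤ 3) : v = 0 ∨ v = 1 ∨ v = -1 := by
  have h1 : -1 ≤ v ∧ v ≤ 1 := ⟨by nlinarith, by nlinarith⟩
  omega

variable {one : ι} {π : ι → ι} {a₁ a₃ a₄ a₂ : ι → ℤ} {deg : ι → ℕ} {x y : ι → ℝ}

theorem Data.sq_le (v : ι → ℤ) (i : ι) : v i * v i ≤ ∑ j, v j * v j :=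
  Finset.single_le_sum (f := fun j => v j * v j) (fun j _ => mul_self_nonneg _) (Finset.mem_univ i)

theorem Data.unit1 (D : Data one π a₁ a₃ a₄ a₂ deg x y) (i : ι) :
    a₁ i = 0 ∨ a₁ i = 1 ∨ a₁ i = -1 :=
  unit_of_sq (by simpa [D.n11] using Data.sq_le a₁ i)

theorem Data.degR (D : Data one π a₁ a₃ a₄ a₂ deg x y) (i : ι) : (deg i : ℝ) ≠ 0 :=
  Nat.cast_ne_zero.2 (D.deg_pos i).ne'

theorem Data.unit3 (D : Data one π a₁ a₃ a₄ a₂ deg x y) (i : ι) :
    a₃ i = 0 ∨ a₃ i = 1 ∨ a₃ i = -1 := by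
  classical
  by_cases hsq : a₃ i * a₃ i ≤ 3
  · exact unit_of_sq hsq
  · exfalso
    have h4 : a₃ i * a₃ i = 4 := by
      have := Data.sq_le a₃ i
      rw [D.n33] at this
      omega
    have h0 : ∀ j, j ≠ i → a₃ j = 0 := by
      intro j hj
      have h := Finset.add_sum_erase Finset.univ (fun k => a₃ k * a₃ k) (Finset.mem_univ i)
      have h' := Finset.single_le_sum (f := fun k => a₃ k * a₃ k) (fun k _ => mul_self_nonneg _)
        (Finset.mem_erase.2 ⟨hj, Finset.mem_univ j⟩)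
      rw [D.n33] at h
      exact mul_self_eq_zero.1 (le_antisymm (by linarith) (mul_self_nonneg _))
    have h := D.d3
    rw [Finset.sum_eq_single i (fun j _ hj => by simp [h0 j hj]) (by simp)] at h
    rcases mul_eq_zero.1 h with h1 | h1
    · have : a₃ i = 0 := by exact_mod_cast h1
      rw [this] at h4; norm_num at h4
    · exact D.degR i h1

theorem Data.unit4 (D : Data one π a₁ a₃ a₄ a₂ deg x y) (i : ι) :
    a₄ i = 0 ∨ a₄ i = 1 ∨ a₄ i = -1 := by
  classical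
  rcases eq_or_ne i one with rfl | hi
  · exact Or.inr (Or.inl D.one4)
  · refine unit_of_sq ?_
    have h := Finset.add_sum_erase Finset.univ (fun k => a₄ k * a₄ k) (Finset.mem_univ one)
    have h' := Finset.single_le_sum (f := fun k => a₄ k * a₄ k) (fun k _ => mul_self_nonneg _)
      (Finset.mem_erase.2 ⟨hi, Finset.mem_univ i⟩)
    simp only [D.n44, D.one4] at h
    linarith

/-- The support of the first vector. -/
theorem Data.exists_abc (D : Data one π a₁ a₃ a₄ a₂ deg x y) :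
    ∃ a b c : ι, a ≠ b ∧ a ≠ c ∧ b ≠ c ∧ a₁ a ≠ 0 ∧ a₁ b ≠ 0 ∧ a₁ c ≠ 0 ∧
      (∀ i, i ≠ a → i ≠ b → i ≠ c → a₁ i = 0) ∧ a₁ (π c) = 0 := by
  classical
  set S := Finset.univ.filter fun i => a₁ i ≠ 0 with hS
  have hc : S.card = 3 := by
    have h : ∑ i, a₁ i * a₁ i = ∑ i, (if a₁ i ≠ 0 then (1 : ℤ) else 0) :=
      Finset.sum_congr rfl fun i _ => by rcases D.unit1 i with h | h | h <;> simp [h]
    rw [D.n11, Finset.sum_boole] at h
    exact_mod_cast h.symm
  obtain ⟨p, q, r, hpq, hpr, hqr, hset⟩ := Finset.card_eq_three.1 hc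
  have hmem : ∀ i, a₁ i ≠ 0 ↔ i = p ∨ i = q ∨ i = r := fun i => by
    have : i ∈ S ↔ i ∈ ({p, q, r} : Finset ι) := by rw [hset]
    simpa [hS] using this
  have hout : ∀ i, i ≠ p → i ≠ q → i ≠ r → a₁ i = 0 := fun i h1 h2 h3 => by
    by_contra h
    rcases (hmem i).1 h with h | h | h <;> contradiction
  have hp := (hmem p).2 (Or.inl rfl)
  have hq := (hmem q).2 (Or.inr (Or.inl rfl))
  have hr := (hmem r).2 (Or.inr (Or.inr rfl))
  have h := D.twist
  rw [sum_eq_three hpq hpr hqr _ fun i h1 h2 h3 => by simp [hout i h1 h2 h3]] at h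
  by_cases h1 : a₁ (π r) = 0
  · exact ⟨p, q, r, hpq, hpr, hqr, hp, hq, hr, hout, h1⟩
  by_cases h2 : a₁ (π q) = 0
  · exact ⟨p, r, q, hpr, hpq, hqr.symm, hp, hr, hq, fun i a b c => hout i a c b, h2⟩
  by_cases h3 : a₁ (π p) = 0
  · exact ⟨q, r, p, hqr, hpq.symm, hpr.symm, hq, hr, hp, fun i a b c => hout i c a b, h3⟩
  exfalso
  rcases D.unit1 (π p) with u1 | u1 | u1 <;> rcases D.unit1 (π q) with u2 | u2 | u2 <;>
    rcases D.unit1 (π r) with u3 | u3 | u3 <;> rcases D.unit1 p with u4 | u4 | u4 <;>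
    rcases D.unit1 q with u5 | u5 | u5 <;> rcases D.unit1 r with u6 | u6 | u6 <;>
    first
    | contradiction
    | (rw [u1, u2, u3, u4, u5, u6] at h; norm_num at h)

/-- The number of constituents outside a given set. -/
theorem rest_card [DecidableEq ι] (v : ι → ℤ) (S : Finset ι) (k : ℤ)
    (hu : ∀ i, v i = 0 ∨ v i = 1 ∨ v i = -1) (h : ∑ i, v i * v i = ∑ i ∈ S, v i * v i + k) :
    ((Finset.univ \ S).filter fun i => v i ≠ 0).card = k := by
  rw [← Finset.sum_sdiff (Finset.subset_univ S)] at h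
  have h1 : ∑ i ∈ Finset.univ \ S, v i * v i =
      ∑ i ∈ Finset.univ \ S, (if v i ≠ 0 then (1 : ℤ) else 0) :=
    Finset.sum_congr rfl fun i _ => by rcases hu i with h | h | h <;> simp [h]
  rw [h1, Finset.sum_boole] at h
  linarith

theorem two_of_three {p q r : ℤ} (hp : p = 0 ∨ p = 1 ∨ p = -1) (hq : q = 0 ∨ q = 1 ∨ q = -1)
    (hr : r = 0 ∨ r = 1 ∨ r = -1) (h : p + q + r = 2) :
    (p = 1 ∧ q = 1 ∧ r = 0) ∨ (r = 1 ∧ ((p = 1 ∧ q = 0) ∨ (p = 0 ∧ q = 1))) := by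
  omega

theorem unit_mul {p q : ℤ} (hp : p = 0 ∨ p = 1 ∨ p = -1) (hq : q = 0 ∨ q = 1 ∨ q = -1) :
    p * q = 0 ∨ p * q = 1 ∨ p * q = -1 := by
  rcases hp with rfl | rfl | rfl <;> rcases hq with rfl | rfl | rfl <;> simp

theorem eq_of_mul_one {p q : ℤ} (hp : p = 0 ∨ p = 1 ∨ p = -1) (hq : q = 0 ∨ q = 1 ∨ q = -1)
    (h : p * q = 1) : q = p := by
  rcases hp with rfl | rfl | rfl <;> rcases hq with rfl | rfl | rfl <;> simp at h <;> rfl

theorem eq_zero_of_mul_zero {p q : ℤ} (hp : p ≠ 0) (h : p * q = 0) : q = 0 :=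
  (mul_eq_zero.1 h).resolve_left hp

/-- The shapes of the last vector. -/
theorem shapes {A B C D E F R : ℤ} (h1 : A + B + C = 3) (h3 : A + B + D + E = 4)
    (h4 : A + D + F = 2) (hn : A * A + B * B + 2 * (C * C) + D * D + E * E + F * F + R = 7)
    (hR : 0 ≤ R) :
    (A = 1 ∧ B = 1 ∧ C = 1 ∧ D = 1 ∧ E = 1 ∧ F = 0 ∧ R = 1) ∨
    (A = 2 ∧ B = 1 ∧ C = 0 ∧ D = 1 ∧ E = 0 ∧ F = -1 ∧ R = 0) ∨
    (A = 1 ∧ B = 2 ∧ C = 0 ∧ D = 1 ∧ E = 0 ∧ F = 0 ∧ R = 1) ∨
    (A = 2 ∧ B = 1 ∧ C = 0 ∧ D = 0 ∧ E = 1 ∧ F = 0 ∧ R = 1) ∨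
    (A = 1 ∧ B = 2 ∧ C = 0 ∧ D = 0 ∧ E = 1 ∧ F = 1 ∧ R = 0) := by
  have hC : C = 3 - A - B := by linarith
  have hE : E = 4 - A - B - D := by linarith
  have hF : F = 2 - A - D := by linarith
  have hA : -2 ≤ A ∧ A ≤ 2 := by
    constructor <;>
      nlinarith [sq_nonneg B, sq_nonneg C, sq_nonneg D, sq_nonneg E, sq_nonneg F]
  have hB : -2 ≤ B ∧ B ≤ 2 := by
    constructor <;>
      nlinarith [sq_nonneg A, sq_nonneg C, sq_nonneg D, sq_nonneg E, sq_nonneg F]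
  have hD : -2 ≤ D ∧ D ≤ 2 := by
    constructor <;>
      nlinarith [sq_nonneg B, sq_nonneg C, sq_nonneg A, sq_nonneg E, sq_nonneg F]
  obtain ⟨hA1, hA2⟩ := hA
  obtain ⟨hB1, hB2⟩ := hB
  obtain ⟨hD1, hD2⟩ := hD
  subst hC hE hF
  interval_cases A <;> interval_cases B <;> interval_cases D <;> norm_num at hn ⊢ <;> omega

/-- The supports of the first three vectors, with signed degrees. -/
structure Frame (one : ι) (π : ι → ι) (a₁ a₃ a₄ : ι → ℤ) (a b c d e f : ι) : Prop where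
  ab : a ≠ b
  ac : a ≠ c
  bc : b ≠ c
  ad : a ≠ d
  bd : b ≠ d
  cd : c ≠ d
  ae : a ≠ e
  be : b ≠ e
  ce : c ≠ e
  de : d ≠ e
  af : a ≠ f
  bf : b ≠ f
  cf : c ≠ f
  df : d ≠ f
  ef : e ≠ f
  oa : one ≠ a
  ob : one ≠ b
  oc : one ≠ c
  od : one ≠ d
  oe : one ≠ e
  of : one ≠ f
  pc_a : π c ≠ a
  pc_b : π c ≠ b
  pc_c : π c ≠ c
  pc_d : π c ≠ d
  pc_e : π c ≠ e
  pc_f : π c ≠ f
  pc_one : π c ≠ one
  ua : a₁ a * a₁ a = 1
  ub : a₁ b * a₁ b = 1
  uc : a₁ c * a₁ c = 1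
  ud : a₃ d * a₃ d = 1
  ue : a₃ e * a₃ e = 1
  uf : a₄ f * a₄ f = 1
  a3a : a₃ a = a₁ a
  a3b : a₃ b = a₁ b
  a4a : a₄ a = a₁ a
  a4d : a₄ d = a₃ d
  out1 : ∀ i, i ≠ a → i ≠ b → i ≠ c → a₁ i = 0
  out3 : ∀ i, i ≠ a → i ≠ b → i ≠ d → i ≠ e → a₃ i = 0
  out4 : ∀ i, i ≠ one → i ≠ a → i ≠ d → i ≠ f → a₄ i = 0

theorem sq_one {v : ℤ} (hu : v = 0 ∨ v = 1 ∨ v = -1) (h : v ≠ 0) : v * v = 1 := by
  rcases hu with rfl | rfl | rfl <;> simp at h ⊢

theorem Data.exists_frame (D : Data one π a₁ a₃ a₄ a₂ deg x y) :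
    ∃ a b c d e f : ι, Frame one π a₁ a₃ a₄ a b c d e f := by
  classical
  obtain ⟨a, b, c, hab, hac, hbc, ha, hb, hc, hout, hpc⟩ := D.exists_abc
  have hoa : one ≠ a := fun h => ha (h ▸ D.one1)
  have hob : one ≠ b := fun h => hb (h ▸ D.one1)
  have hoc : one ≠ c := fun h => hc (h ▸ D.one1)
  have hpa : π c ≠ a := fun h => ha (h ▸ hpc)
  have hpb : π c ≠ b := fun h => hb (h ▸ hpc)
  have hpcc : π c ≠ c := fun h => hc (h ▸ hpc)
  have hpo : π c ≠ one := fun h => hoc (D.pi_inj (D.pi_one.trans h.symm))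
  -- the common first coordinate
  have hwd : (a₁ a : ℝ) * deg a + a₁ b * deg b + a₁ c * deg c = 0 := by
    have := D.d1
    rwa [sum_eq_three hab hac hbc _ fun i h1 h2 h3 => by simp [hout i h1 h2 h3]] at this
  have hwx : (a₁ a : ℝ) * deg a * x a + a₁ b * deg b * x b + a₁ c * deg c * x c = 0 := by
    have := D.x1
    rwa [sum_eq_three hab hac hbc _ fun i h1 h2 h3 => by simp [hout i h1 h2 h3]] at this
  have hwxx : (a₁ a : ℝ) * deg a * x a ^ 2 + a₁ b * deg b * x b ^ 2 + a₁ c * deg c * x c ^ 2 = 0 := by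
    have := D.xx1
    rw [sum_eq_three hab hac hbc _ fun i h1 h2 h3 => by simp [hout i h1 h2 h3]] at this
    linear_combination this
  obtain ⟨hxa, hxb⟩ := Alg.three_eq (mul_ne_zero (Int.cast_ne_zero.2 ha) (D.degR a))
    (mul_ne_zero (Int.cast_ne_zero.2 hb) (D.degR b))
    (mul_ne_zero (Int.cast_ne_zero.2 hc) (D.degR c)) hwd hwx hwxx
  -- the second vector
  have h13 := D.n13
  rw [sum_eq_three hab hac hbc _ fun i h1 h2 h3 => by simp [hout i h1 h2 h3]] at h13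
  have hsupp3 : ((Finset.univ : Finset ι).filter fun i => a₃ i ≠ 0).card = 4 := by
    have h := rest_card a₃ ∅ 4 D.unit3 (by simpa using D.n33)
    simp only [Finset.sdiff_empty] at h
    exact_mod_cast h
  have hc3 : a₃ c = 0 := by
    by_contra hne
    have hcc : a₃ (π c) ≠ 0 := by rwa [D.pi3]
    rcases two_of_three (unit_mul (D.unit1 a) (D.unit3 a)) (unit_mul (D.unit1 b) (D.unit3 b))
      (unit_mul (D.unit1 c) (D.unit3 c)) h13 with h | ⟨-, h⟩
    · exact hne (eq_zero_of_mul_zero hc h.2.2)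
    · have key : ∀ s : ι, s ≠ c → π c ≠ s → a₃ s ≠ 0 → x s = x c → False := by
        intro s hs hps hs0 hxs
        have hmem : ({s, c, π c} : Finset ι) ⊆ Finset.univ.filter fun i => a₃ i ≠ 0 := by
          intro i hi
          simp only [Finset.mem_insert, Finset.mem_singleton] at hi
          rcases hi with rfl | rfl | rfl <;> simp [hs0, hne, hcc]
        have h3c : ({s, c, π c} : Finset ι).card = 3 :=
          Finset.card_eq_three.2 ⟨s, c, π c, hs, hps.symm, hpcc.symm, rfl⟩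
        obtain ⟨q, hq⟩ : ∃ q, (Finset.univ.filter fun i => a₃ i ≠ 0) \ {s, c, π c} = {q} := by
          rw [← Finset.card_eq_one, Finset.card_sdiff_of_subset hmem, hsupp3, h3c]
        have hq' := hq.symm ▸ Finset.mem_singleton_self q
        simp only [Finset.mem_sdiff, Finset.mem_filter, Finset.mem_univ, true_and,
          Finset.mem_insert, Finset.mem_singleton, not_or] at hq'
        have ho : ∀ i, i ≠ s → i ≠ c → i ≠ π c → i ≠ q → a₃ i = 0 := by
          intro i h1 h2 h3 h4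
          by_contra hne'
          have : i ∈ (Finset.univ.filter fun i => a₃ i ≠ 0) \ {s, c, π c} := by simp [hne', h1, h2, h3]
          rw [hq] at this
          exact h4 (Finset.mem_singleton.1 this)
        have e0 := D.d3
        have e1 := D.x3
        have e2 := D.xx3
        rw [sum_eq_four hs hps.symm (Ne.symm hq'.2.1) hpcc.symm (Ne.symm hq'.2.2.1)
          (Ne.symm hq'.2.2.2) _ fun i h1 h2 h3 h4 => by simp [ho i h1 h2 h3 h4]] at e0 e1 e2
        rw [hxs, D.x_pi, D.deg_pi] at e1 e2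
        rw [D.deg_pi] at e0
        have hq0 : (a₃ q : ℝ) * deg q * (x q - x c) = 0 := by linear_combination e1 - x c * e0
        have hxq : x q = x c := sub_eq_zero.1 ((mul_eq_zero.1 hq0).resolve_left
          (mul_ne_zero (Int.cast_ne_zero.2 hq'.1) (D.degR q)))
        rw [hxq] at e2
        exact zero_ne_one (α := ℝ) (by linear_combination e2 - x c ^ 2 * e0)
      rcases h with ⟨h, -⟩ | ⟨-, h⟩
      · exact key a hac hpa (fun h0 => by simp [h0] at h) hxa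
      · exact key b hbc hpb (fun h0 => by simp [h0] at h) hxb
  have h3ab : a₃ a = a₁ a ∧ a₃ b = a₁ b := by
    have h : a₁ a * a₃ a + a₁ b * a₃ b = 2 := by rw [hc3, mul_zero, add_zero] at h13; exact h13
    have u := unit_mul (D.unit1 a) (D.unit3 a)
    have v := unit_mul (D.unit1 b) (D.unit3 b)
    exact ⟨eq_of_mul_one (D.unit1 a) (D.unit3 a) (by omega),
      eq_of_mul_one (D.unit1 b) (D.unit3 b) (by omega)⟩
  obtain ⟨d, e, hde, hset3⟩ : ∃ d e, d ≠ e ∧
      (Finset.univ.filter fun i => a₃ i ≠ 0) \ {a, b} = {d, e} := by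
    rw [← Finset.card_eq_two, Finset.card_sdiff_of_subset, hsupp3, Finset.card_pair hab]
    intro i hi
    simp only [Finset.mem_insert, Finset.mem_singleton] at hi
    rcases hi with rfl | rfl <;> simp [h3ab.1, h3ab.2, ha, hb]
  have hmem3 : ∀ i, (a₃ i ≠ 0 ∧ i ≠ a ∧ i ≠ b) ↔ (i = d ∨ i = e) := by
    intro i
    have : i ∈ (Finset.univ.filter fun i => a₃ i ≠ 0) \ {a, b} ↔ i ∈ ({d, e} : Finset ι) := by
      rw [hset3]
    simpa using this
  obtain ⟨hd, hda, hdb⟩ := (hmem3 d).2 (Or.inl rfl)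
  obtain ⟨he, hea, heb⟩ := (hmem3 e).2 (Or.inr rfl)
  have hout3 : ∀ i, i ≠ a → i ≠ b → i ≠ d → i ≠ e → a₃ i = 0 := fun i h1 h2 h3 h4 => by
    by_contra h
    rcases (hmem3 i).1 ⟨h, h1, h2⟩ with h | h <;> contradiction
  have hdc : c ≠ d := fun h => hd (h ▸ hc3)
  have hec : c ≠ e := fun h => he (h ▸ hc3)
  have hod : one ≠ d := fun h => hd (h ▸ D.one3)
  have hoe : one ≠ e := fun h => he (h ▸ D.one3)
  have hpd : π c ≠ d := fun h => hd (h ▸ (D.pi3 c).trans hc3)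
  have hpe : π c ≠ e := fun h => he (h ▸ (D.pi3 c).trans hc3)
  -- the third vector
  have h14 := D.n14
  rw [sum_eq_three hab hac hbc _ fun i h1 h2 h3 => by simp [hout i h1 h2 h3]] at h14
  have h34 := D.n34
  rw [sum_eq_four hab hda.symm hea.symm hdb.symm heb.symm hde _
    fun i h1 h2 h3 h4 => by simp [hout3 i h1 h2 h3 h4], h3ab.1, h3ab.2] at h34
  have hsupp4 : ((Finset.univ \ {one}).filter fun i => a₄ i ≠ 0).card = 3 := by
    have h := rest_card a₄ {one} 3 D.unit4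
      (by rw [D.n44, Finset.sum_singleton, D.one4]; norm_num)
    exact_mod_cast h
  have hc4 : a₄ c = 0 := by
    by_contra hne
    have hcc : a₄ (π c) ≠ 0 := by rwa [D.pi4]
    have hmem : ({c, π c} : Finset ι) ⊆ (Finset.univ \ {one}).filter fun i => a₄ i ≠ 0 := by
      intro i hi
      simp only [Finset.mem_insert, Finset.mem_singleton] at hi
      rcases hi with rfl | rfl <;> simp [hne, hcc, hoc.symm, hpo]
    obtain ⟨q, hq⟩ : ∃ q, ((Finset.univ \ {one}).filter fun i => a₄ i ≠ 0) \ {c, π c} = {q} := by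
      rw [← Finset.card_eq_one, Finset.card_sdiff_of_subset hmem, hsupp4, Finset.card_pair hpcc.symm]
    have ho : ∀ i, i ≠ one → i ≠ c → i ≠ π c → i ≠ q → a₄ i = 0 := by
      intro i h1 h2 h3 h4
      by_contra hne'
      have : i ∈ ((Finset.univ \ {one}).filter fun i => a₄ i ≠ 0) \ {c, π c} := by
        simp [hne', h1, h2, h3]
      rw [hq] at this
      exact h4 (Finset.mem_singleton.1 this)
    have hz : ∀ i, i ≠ q → (i = a ∨ i = b ∨ i = d ∨ i = e) → a₄ i = 0 := by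
      intro i hi hcase
      rcases hcase with rfl | rfl | rfl | rfl
      · exact ho _ hoa.symm hac hpa.symm hi
      · exact ho _ hob.symm hbc hpb.symm hi
      · exact ho _ hod.symm hdc.symm hpd.symm hi
      · exact ho _ hoe.symm hec.symm hpe.symm hi
    have ua := unit_mul (D.unit1 a) (D.unit4 a)
    have ub := unit_mul (D.unit1 b) (D.unit4 b)
    have ud := unit_mul (D.unit3 d) (D.unit4 d)
    have ue := unit_mul (D.unit3 e) (D.unit4 e)
    by_cases hqa : q = a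
    · have e1 := hz b (by rw [hqa]; exact hab.symm) (by simp)
      have e2 := hz d (by rw [hqa]; exact hda) (by simp)
      have e3 := hz e (by rw [hqa]; exact hea) (by simp)
      simp only [e1, e2, e3, mul_zero, add_zero] at h34
      omega
    · have e0 := hz a (Ne.symm hqa) (by simp)
      simp only [e0, mul_zero, zero_add] at h34
      by_cases hqb : q = b
      · have e2 := hz d (by rw [hqb]; exact hdb) (by simp)
        have e3 := hz e (by rw [hqb]; exact heb) (by simp)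
        simp only [e2, e3, mul_zero, add_zero] at h34
        omega
      · have e1 := hz b (Ne.symm hqb) (by simp)
        simp only [e1, mul_zero, zero_add] at h34
        by_cases hqd : q = d
        · have e3 := hz e (by rw [hqd]; exact hde.symm) (by simp)
          simp only [e3, mul_zero, add_zero] at h34
          omega
        · have e2 := hz d (Ne.symm hqd) (by simp)
          simp only [e2, mul_zero, zero_add] at h34
          omega
  have sab : a₁ a * a₄ a + a₁ b * a₄ b = 1 := by rw [hc4, mul_zero, add_zero] at h14; exact h14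
  have sde : a₃ d * a₄ d + a₃ e * a₄ e = 1 := by linarith
  have wlog' : ∀ p q r s : ι, (p = a ∧ q = b ∨ p = b ∧ q = a) → (r = d ∧ s = e ∨ r = e ∧ s = d) →
      a₄ q = 0 → a₁ p * a₄ p = 1 → a₄ s = 0 → a₃ r * a₄ r = 1 →
      ∃ a b c d e f : ι, Frame one π a₁ a₃ a₄ a b c d e f := by
    intro p q r s hpq hrs hq hp hs hr
    have e4p : a₄ p = a₁ p := eq_of_mul_one (D.unit1 p) (D.unit4 p) hp
    have e4r : a₄ r = a₃ r := eq_of_mul_one (D.unit3 r) (D.unit4 r) hr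
    have hp0 : a₁ p ≠ 0 := fun h => by simp [h] at hp
    have hr0 : a₃ r ≠ 0 := fun h => by simp [h] at hr
    have facts : p ≠ q ∧ p ≠ c ∧ q ≠ c ∧ p ≠ r ∧ q ≠ r ∧ p ≠ s ∧ q ≠ s ∧ r ≠ s ∧ c ≠ r ∧ c ≠ s ∧
        one ≠ p ∧ one ≠ q ∧ one ≠ r ∧ one ≠ s ∧ π c ≠ p ∧ π c ≠ q ∧ π c ≠ r ∧ π c ≠ s ∧
        a₁ q ≠ 0 ∧ a₃ s ≠ 0 ∧ a₃ p = a₁ p ∧ a₃ q = a₁ q ∧
        (∀ i, i ≠ p → i ≠ q → i ≠ c → a₁ i = 0) ∧
        (∀ i, i ≠ p → i ≠ q → i ≠ r → i ≠ s → a₃ i = 0) := by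
      rcases hpq with ⟨rfl, rfl⟩ | ⟨rfl, rfl⟩ <;> rcases hrs with ⟨rfl, rfl⟩ | ⟨rfl, rfl⟩
      · exact ⟨hab, hac, hbc, hda.symm, hdb.symm, hea.symm, heb.symm, hde, hdc, hec, hoa, hob,
          hod, hoe, hpa, hpb, hpd, hpe, hb, he, h3ab.1, h3ab.2, hout, hout3⟩
      · exact ⟨hab, hac, hbc, hea.symm, heb.symm, hda.symm, hdb.symm, hde.symm, hec, hdc, hoa, hob,
          hoe, hod, hpa, hpb, hpe, hpd, hb, hd, h3ab.1, h3ab.2, hout,
          fun i u v w z => hout3 i u v z w⟩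
      · exact ⟨hab.symm, hbc, hac, hdb.symm, hda.symm, heb.symm, hea.symm, hde, hdc, hec, hob, hoa,
          hod, hoe, hpb, hpa, hpd, hpe, ha, he, h3ab.2, h3ab.1, fun i u v w => hout i v u w,
          fun i u v w z => hout3 i v u w z⟩
      · exact ⟨hab.symm, hbc, hac, heb.symm, hea.symm, hdb.symm, hda.symm, hde.symm, hec, hdc, hob,
          hoa, hoe, hod, hpb, hpa, hpe, hpd, ha, hd, h3ab.2, h3ab.1, fun i u v w => hout i v u w,
          fun i u v w z => hout3 i v u z w⟩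
    obtain ⟨fpq, fpc, fqc, fpr, fqr, fps, fqs, frs, fcr, fcs, fop, foq, for', fos, fpp, fpq', fpr',
      fps', fq0, fs0, f3p, f3q, fo1, fo3⟩ := facts
    have hmem : ({p, r} : Finset ι) ⊆ (Finset.univ \ {one}).filter fun i => a₄ i ≠ 0 := by
      intro i hi
      simp only [Finset.mem_insert, Finset.mem_singleton] at hi
      rcases hi with rfl | rfl <;> simp [e4p, e4r, hp0, hr0, fop.symm, for'.symm]
    obtain ⟨f, hf⟩ : ∃ f, ((Finset.univ \ {one}).filter fun i => a₄ i ≠ 0) \ {p, r} = {f} := by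
      rw [← Finset.card_eq_one, Finset.card_sdiff_of_subset hmem, hsupp4, Finset.card_pair fpr]
    have hf' := hf.symm ▸ Finset.mem_singleton_self f
    simp only [Finset.mem_sdiff, Finset.mem_filter, Finset.mem_univ, true_and, Finset.mem_insert,
      Finset.mem_singleton, not_or] at hf'
    obtain ⟨⟨hfo, hf0⟩, hfp, hfr⟩ := hf'
    refine ⟨p, q, c, r, s, f, ⟨fpq, fpc, fqc, fpr, fqr, fcr, fps, fqs, fcs, frs, Ne.symm hfp,
      fun h => hf0 (h ▸ hq), fun h => hf0 (h ▸ hc4), Ne.symm hfr, fun h => hf0 (h ▸ hs), fop, foq,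
      hoc, for', fos, Ne.symm hfo, fpp, fpq', hpcc, fpr', fps',
      fun h => hf0 (h ▸ (D.pi4 c).trans hc4), hpo, sq_one (D.unit1 p) hp0, sq_one (D.unit1 q) fq0,
      sq_one (D.unit1 c) hc, sq_one (D.unit3 r) hr0, sq_one (D.unit3 s) fs0,
      sq_one (D.unit4 f) hf0, f3p, f3q, e4p, e4r, fo1, fo3, fun i h1 h2 h3 h4 => ?_⟩⟩
    by_contra hne
    have : i ∈ ((Finset.univ \ {one}).filter fun i => a₄ i ≠ 0) \ {p, r} := by simp [hne, h1, h2, h3]
    rw [hf] at this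
    exact h4 (Finset.mem_singleton.1 this)
  have ua := unit_mul (D.unit1 a) (D.unit4 a)
  have ub := unit_mul (D.unit1 b) (D.unit4 b)
  have ud := unit_mul (D.unit3 d) (D.unit4 d)
  have ue := unit_mul (D.unit3 e) (D.unit4 e)
  rcases (by omega : (a₁ a * a₄ a = 1 ∧ a₁ b * a₄ b = 0) ∨ (a₁ a * a₄ a = 0 ∧ a₁ b * a₄ b = 1))
    with ⟨p1, p0⟩ | ⟨p0, p1⟩ <;>
    rcases (by omega : (a₃ d * a₄ d = 1 ∧ a₃ e * a₄ e = 0) ∨ (a₃ d * a₄ d = 0 ∧ a₃ e * a₄ e = 1))
      with ⟨q1, q0⟩ | ⟨q0, q1⟩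
  · exact wlog' a b d e (Or.inl ⟨rfl, rfl⟩) (Or.inl ⟨rfl, rfl⟩) (eq_zero_of_mul_zero hb p0) p1
      (eq_zero_of_mul_zero he q0) q1
  · exact wlog' a b e d (Or.inl ⟨rfl, rfl⟩) (Or.inr ⟨rfl, rfl⟩) (eq_zero_of_mul_zero hb p0) p1
      (eq_zero_of_mul_zero hd q0) q1
  · exact wlog' b a d e (Or.inr ⟨rfl, rfl⟩) (Or.inl ⟨rfl, rfl⟩) (eq_zero_of_mul_zero ha p0) p1
      (eq_zero_of_mul_zero he q0) q1
  · exact wlog' b a e d (Or.inr ⟨rfl, rfl⟩) (Or.inr ⟨rfl, rfl⟩) (eq_zero_of_mul_zero ha p0) p1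
      (eq_zero_of_mul_zero hd q0) q1

/-- A constituent of degree two with the value two at the first involution. -/
theorem Data.exists_kernel (D : Data one π a₁ a₃ a₄ a₂ deg x y) :
    ∃ i, i ≠ one ∧ deg i = 2 ∧ x i = x one := by
  classical
  obtain ⟨a, b, c, d, e, f, F⟩ := D.exists_frame
  set S : Finset ι := {one, a, b, c, π c, d, e, f} with hS
  have hexp : ∀ {R : Type} [AddCommMonoid R] (g : ι → R), ∑ i ∈ S, g i =
      g one + (g a + (g b + (g c + (g (π c) + (g d + (g e + g f)))))) := by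
    intro R _ g
    rw [hS, Finset.sum_insert (by simp [F.oa, F.ob, F.oc, F.pc_one.symm, F.od, F.oe, F.of]),
      Finset.sum_insert (by simp [F.ab, F.ac, F.pc_a.symm, F.ad, F.ae, F.af]),
      Finset.sum_insert (by simp [F.bc, F.pc_b.symm, F.bd, F.be, F.bf]),
      Finset.sum_insert (by simp [F.pc_c.symm, F.cd, F.ce, F.cf]),
      Finset.sum_insert (by simp [F.pc_d, F.pc_e, F.pc_f]),
      Finset.sum_insert (by simp [F.de, F.df]),
      Finset.sum_insert (by simp [F.ef]), Finset.sum_singleton]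
  have s1 : ∀ {R : Type} [AddCommMonoid R] (g : ι → R), (∀ i, a₁ i = 0 → g i = 0) →
      ∑ i, g i = g a + g b + g c := fun {R} _ g hg =>
    sum_eq_three F.ab F.ac F.bc g fun i h1 h2 h3 => hg i (F.out1 i h1 h2 h3)
  have s3 : ∀ {R : Type} [AddCommMonoid R] (g : ι → R), (∀ i, a₃ i = 0 → g i = 0) →
      ∑ i, g i = g a + g b + g d + g e := fun {R} _ g hg =>
    sum_eq_four F.ab F.ad F.ae F.bd F.be F.de g fun i h1 h2 h3 h4 => hg i (F.out3 i h1 h2 h3 h4)
  have s4 : ∀ {R : Type} [AddCommMonoid R] (g : ι → R), (∀ i, a₄ i = 0 → g i = 0) →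
      ∑ i, g i = g one + g a + g d + g f := fun {R} _ g hg =>
    sum_eq_four F.oa F.od F.of F.ad F.af F.df g fun i h1 h2 h3 h4 => hg i (F.out4 i h1 h2 h3 h4)
  set A := a₁ a * a₂ a with hA
  set B := a₁ b * a₂ b with hB
  set C := a₁ c * a₂ c with hC
  set Dd := a₃ d * a₂ d with hD
  set E := a₃ e * a₂ e with hE
  set Ff := a₄ f * a₂ f with hF
  have e1 : A + B + C = 3 := by
    rw [hA, hB, hC, ← D.n12, s1 _ fun i hi => by simp [hi]]
  have e3 : A + B + Dd + E = 4 := by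
    rw [hA, hB, hD, hE, ← D.n32, s3 _ fun i hi => by simp [hi], F.a3a, F.a3b]
  have e4 : A + Dd + Ff = 2 := by
    have h := D.n42
    rw [s4 _ fun i hi => by simp [hi], D.one4, D.one2, F.a4a, F.a4d] at h
    linarith
  set R := ∑ i ∈ Finset.univ \ S, a₂ i * a₂ i with hR
  have en : A * A + B * B + 2 * (C * C) + Dd * Dd + E * E + Ff * Ff + R = 7 := by
    have h := D.n22
    rw [← Finset.sum_sdiff (Finset.subset_univ S), hexp, ← hR, D.one2, D.pi2] at h
    have q : ∀ s v : ℤ, s * s = 1 → s * v * (s * v) = v * v := fun s v hs => by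
      linear_combination (v * v) * hs
    rw [hA, hB, hC, hD, hE, hF, q _ _ F.ua, q _ _ F.ub, q _ _ F.uc, q _ _ F.ud, q _ _ F.ue,
      q _ _ F.uf]
    linarith
  have hR0 : 0 ≤ R := Finset.sum_nonneg fun i _ => mul_self_nonneg _
  -- weights and coordinates
  set n : ℝ := (a₁ a : ℝ) * deg a with hn
  set m : ℝ := (a₁ b : ℝ) * deg b with hm
  set l : ℝ := (a₃ d : ℝ) * deg d with hl
  have cast0 : ∀ {s : ℤ}, s * s = 1 → (s : ℝ) ≠ 0 := fun {s} h => Int.cast_ne_zero.2 fun h0 => by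
    simp [h0] at h
  have wc : (a₁ c : ℝ) * deg c = -(n + m) := by
    have h := D.d1
    rw [s1 _ fun i hi => by simp [hi]] at h
    linarith
  have we : (a₃ e : ℝ) * deg e = -(n + m + l) := by
    have h := D.d3
    rw [s3 _ fun i hi => by simp [hi], F.a3a, F.a3b] at h
    linarith
  have wf : (a₄ f : ℝ) * deg f = -(1 + n + l) := by
    have h := D.d4
    rw [s4 _ fun i hi => by simp [hi], D.one4, F.a4a, F.a4d, D.deg_one] at h
    push_cast at h
    linarith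
  have hn0 : n ≠ 0 := mul_ne_zero (cast0 F.ua) (D.degR a)
  have hm0 : m ≠ 0 := mul_ne_zero (cast0 F.ub) (D.degR b)
  have hl0 : l ≠ 0 := mul_ne_zero (cast0 F.ud) (D.degR d)
  have hM0 : n + m ≠ 0 := fun h => mul_ne_zero (cast0 F.uc) (D.degR c) (by rw [wc, h, neg_zero])
  have he0 : n + m + l ≠ 0 := fun h => mul_ne_zero (cast0 F.ue) (D.degR e) (by rw [we, h, neg_zero])
  have hf0 : 1 + n + l ≠ 0 := fun h => mul_ne_zero (cast0 F.uf) (D.degR f) (by rw [wf, h, neg_zero])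
  set x0 := x c with hx0
  set y0 := y c with hy0
  have m1 : ∀ g : ι → ℝ, ∑ i, (a₁ i : ℝ) * deg i * g i = n * g a + m * g b - (n + m) * g c := by
    intro g
    rw [s1 _ fun i hi => by simp [hi], wc]
    ring
  have m3 : ∀ g : ι → ℝ, ∑ i, (a₃ i : ℝ) * deg i * g i =
      n * g a + m * g b + l * g d - (n + m + l) * g e := by
    intro g
    rw [s3 _ fun i hi => by simp [hi], we, F.a3a, F.a3b]
    ring
  have m4 : ∀ g : ι → ℝ, ∑ i, (a₄ i : ℝ) * deg i * g i =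
      g one + n * g a + l * g d - (1 + n + l) * g f := by
    intro g
    rw [s4 _ fun i hi => by simp [hi], wf, D.one4, F.a4a, F.a4d, D.deg_one]
    push_cast
    ring
  have t1x := D.x1; have t1xx := D.xx1; have t1y := D.y1; have t1yy := D.yy1
  rw [m1] at t1x t1xx t1y t1yy
  obtain ⟨hxa, hxb⟩ := Alg.three_eq hn0 hm0 (neg_ne_zero.2 hM0) (a := n) (b := m) (c := -(n + m))
    (r := x a) (s := x b) (t := x c) (by ring) (by linear_combination t1x)
    (by linear_combination t1xx)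
  have t3x := D.x3; have t3xx := D.xx3; have t3y := D.y3; have t3yy := D.yy3; have t3xy := D.xy3
  rw [m3] at t3x t3xx t3y t3yy t3xy
  rw [hxa, hxb] at t3x t3xx t3xy
  have hP : l * (n + m) * (x d - x0) ^ 2 = n + m + l := by
    linear_combination (n + m + l) * t3xx - (l * (x d - x0) + (n + m + l) * (x e - x0)) * t3x
      - 2 * x0 * (n + m + l) * t3x
      + (x0 * (l * (x d - x0) + (n + m + l) * (x e - x0)) + x0 ^ 2 * (n + m + l)) * 0
  have hQ : (y d - y0) * (l * (x d - x0) * (n + m)) = 0 := by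
    linear_combination (n + m + l) * t3xy - (n + m + l) * x0 * t3y - (n + m + l) * y0 * t3x
      - (n + m + l) * (y e - y0) * t3x - l * (x d - x0) * t3y
      + (l * (x d - x0)) * t1y
  have hP0 : x d - x0 ≠ 0 := fun h => he0 (by rw [h] at hP; linarith)
  have hQ0 : y d = y0 := sub_eq_zero.1 ((mul_eq_zero.1 hQ).resolve_right
    (mul_ne_zero (mul_ne_zero hl0 hP0) hM0))
  have hye : y e = y0 := by
    have h : (n + m + l) * (y e - y0) = 0 := by linear_combination t1y - t3y + l * hQ0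
    exact sub_eq_zero.1 ((mul_eq_zero.1 h).resolve_left he0)
  have t4x := D.x4; have t4xx := D.xx4; have t4y := D.y4; have t4yy := D.yy4; have t4xy := D.xy4
  rw [m4] at t4x t4xx t4y t4yy t4xy
  rw [hxa] at t4x t4xx t4xy
  rw [hQ0] at t4y t4yy t4xy t3yy
  rw [hye] at t3yy
  set A' := y a - y0 with hA'
  set B' := y b - y0 with hB'
  set P := x d - x0 with hPdef
  set xe := x e - x0 with hxe
  set F' := x one - x0 with hF'
  set h' := y one - y0 with hh'
  set xf := x f - x0 with hxf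
  set yf := y f - y0 with hyf
  have base : Alg.Base n m l A' B' P xe F' h' xf yf := by
    refine ⟨hn0, hm0, hl0, hM0, he0, hf0, ?_, ?_, ?_, ?_, ?_, ?_, ?_, ?_, ?_⟩
    · linear_combination t1y
    · linear_combination t1yy - 2 * y0 * t1y
    · linear_combination t3x
    · linear_combination t3xx - 2 * x0 * t3x
    · linear_combination t4x
    · linear_combination t4y
    · linear_combination t4xx - 2 * x0 * t4x
    · linear_combination t4xy - x0 * t4y - y0 * t4x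
    · linear_combination t4yy - 2 * y0 * t4y
  -- the last vector
  have q2 : ∀ {s v p : ℤ}, s * s = 1 → s * v = p → (v : ℝ) = (p : ℝ) * (s : ℝ) := by
    intro s v p hs hp
    have : v = p * s := by rw [← hp]; linear_combination -v * hs
    exact_mod_cast this
  have va := q2 F.ua hA.symm
  have vb := q2 F.ub hB.symm
  have vc := q2 F.uc hC.symm
  have vd := q2 F.ud hD.symm
  have ve := q2 F.ue hE.symm
  have vf := q2 F.uf hF.symm
  have m2 : ∀ g : ι → ℝ, g (π c) = g c → ∑ i, (a₂ i : ℝ) * deg i * g i =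
      (g one + A * n * g a + B * m * g b - 2 * C * (n + m) * g c + Dd * l * g d
        - E * (n + m + l) * g e - Ff * (1 + n + l) * g f) +
      ∑ i ∈ Finset.univ \ S, (a₂ i : ℝ) * deg i * g i := by
    intro g hg
    rw [← Finset.sum_sdiff (Finset.subset_univ S), hexp, hg, D.pi2, D.deg_pi, D.one2, D.deg_one,
      va, vb, vc, vd, ve, vf]
    rw [hn, hm, hl]
    linear_combination (2 * (C : ℝ) * g c) * wc + (E : ℝ) * g e * we + (Ff : ℝ) * g f * wf
  have rest0 : R = 0 → ∀ g : ι → ℝ, ∑ i ∈ Finset.univ \ S, (a₂ i : ℝ) * deg i * g i = 0 := by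
    intro h g
    refine Finset.sum_eq_zero fun i hi => ?_
    have := (Finset.sum_eq_zero_iff_of_nonneg fun j _ => mul_self_nonneg (a₂ j)).1 h i hi
    rw [mul_self_eq_zero.1 this]
    simp
  have rest1 : R = 1 → ∃ z xz yz : ℝ, z ≠ 0 ∧
      (∑ i ∈ Finset.univ \ S, (a₂ i : ℝ) * deg i = z) ∧
      (∑ i ∈ Finset.univ \ S, (a₂ i : ℝ) * deg i * x i = z * (xz + x0)) ∧
      (∑ i ∈ Finset.univ \ S, (a₂ i : ℝ) * deg i * y i = z * (yz + y0)) ∧
      (∑ i ∈ Finset.univ \ S, (a₂ i : ℝ) * deg i * (x i * x i) = z * ((xz + x0) * (xz + x0))) ∧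
      (∑ i ∈ Finset.univ \ S, (a₂ i : ℝ) * deg i * (x i * y i) = z * ((xz + x0) * (yz + y0))) ∧
      (∑ i ∈ Finset.univ \ S, (a₂ i : ℝ) * deg i * (y i * y i) = z * ((yz + y0) * (yz + y0))) := by
    intro h
    have hu : ∀ i ∈ Finset.univ \ S, a₂ i = 0 ∨ a₂ i = 1 ∨ a₂ i = -1 := fun i hi =>
      unit_of_sq ((Finset.single_le_sum (f := fun j => a₂ j * a₂ j) (fun j _ => mul_self_nonneg _)
        hi).trans (h.le.trans (by norm_num)))
    have hc1 : ((Finset.univ \ S).filter fun i => a₂ i ≠ 0).card = 1 := by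
      have h1 : R = ∑ i ∈ Finset.univ \ S, (if a₂ i ≠ 0 then (1 : ℤ) else 0) :=
        Finset.sum_congr rfl fun i hi => by rcases hu i hi with h | h | h <;> simp [h]
      rw [h, Finset.sum_boole] at h1
      exact_mod_cast h1.symm
    obtain ⟨Z, hZ⟩ := Finset.card_eq_one.1 hc1
    have hsingle : ∀ g : ι → ℝ, ∑ i ∈ Finset.univ \ S, (a₂ i : ℝ) * deg i * g i =
        (a₂ Z : ℝ) * deg Z * g Z := by
      intro g
      rw [← Finset.sum_filter_of_ne (p := fun i => a₂ i ≠ 0)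
        (fun i _ hne h0 => hne (by simp [h0])), hZ, Finset.sum_singleton]
    have hZ0 : a₂ Z ≠ 0 := by
      have hmem := Finset.mem_singleton_self Z
      rw [← hZ] at hmem
      exact (Finset.mem_filter.1 hmem).2
    refine ⟨(a₂ Z : ℝ) * deg Z, x Z - x0, y Z - y0,
      mul_ne_zero (Int.cast_ne_zero.2 hZ0) (D.degR Z), by simpa using hsingle fun _ => 1,
      ?_, ?_, ?_, ?_, ?_⟩ <;> rw [hsingle] <;> ring
  have t2d := D.d2; have t2x := D.x2; have t2y := D.y2; have t2xx := D.xx2; have t2xy := D.xy2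
  have t2yy := D.yy2
  have k1 := m2 (fun _ => 1) rfl
  simp only [mul_one] at k1
  rw [k1] at t2d
  rw [m2 _ (D.x_pi c), hxa, hxb, ← hx0] at t2x
  rw [m2 _ (D.y_pi c), hQ0, hye, ← hy0] at t2y
  rw [m2 (fun i => x i * x i) (by simp [D.x_pi]), hxa, hxb, ← hx0] at t2xx
  rw [m2 (fun i => x i * y i) (by simp [D.x_pi, D.y_pi]), hxa, hxb, hQ0, hye, ← hx0, ← hy0] at t2xy
  rw [m2 (fun i => y i * y i) (by simp [D.y_pi]), hQ0, hye, ← hy0] at t2yy
  have lin_b : m ≠ 1 := fun hm1 => by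
    refine D.not_linear b (fun h0 => by simp [hm, h0] at hm0) ?_
    have h : ((a₁ b * deg b : ℤ) : ℝ) = 1 := by push_cast; exact hm1
    have h' : a₁ b * (deg b : ℤ) = 1 := by exact_mod_cast h
    have := Int.eq_one_of_dvd_one (by positivity) (Dvd.intro_left _ h')
    exact_mod_cast this
  rcases shapes e1 e3 e4 en hR0 with ⟨hA1, hB1, hC1, hD1, hE1, hF1, hR1⟩ |
    ⟨hA1, hB1, hC1, hD1, hE1, hF1, hR1⟩ | ⟨hA1, hB1, hC1, hD1, hE1, hF1, hR1⟩ |
    ⟨hA1, hB1, hC1, hD1, hE1, hF1, hR1⟩ | ⟨hA1, hB1, hC1, hD1, hE1, hF1, hR1⟩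
  · -- `1 + a + b + c + c' + d + e + Z`
    obtain ⟨z, xz, yz, hz, r0, r1, r2, r11, r12, r22⟩ := rest1 hR1
    simp only [hA1, hB1, hC1, hD1, hE1, hF1, Int.cast_one, Int.cast_zero, one_mul, zero_mul,
      sub_zero, r0, r1, r2, r11, r12, r22] at t2d t2x t2y t2xx t2xy t2yy
    refine (base.case_E (z := z) (xz := xz) (yz := yz) ?_ ?_ ?_ ?_ ?_).elim
    · linear_combination t2x - t3x - x0 * t2d
    · linear_combination t2y - t1y - y0 * t2d
    · linear_combination t2xx - t3xx - 2 * x0 * (t2x - t3x) + x0 ^ 2 * t2d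
    · linear_combination t2xy - x0 * (t2y - t1y) - y0 * (t2x - t3x) + x0 * y0 * t2d - x0 * t1y - y0 * t3x
    · linear_combination t2yy - t1yy - 2 * y0 * (t2y - t1y) + y0 ^ 2 * t2d
  · -- `1 + 2a + b + d - f`
    have r0 := rest0 hR1 fun _ => 1
    simp only [mul_one] at r0
    simp only [hA1, hB1, hC1, hD1, hE1, hF1, Int.cast_one, Int.cast_zero, Int.cast_ofNat,
      Int.cast_neg, one_mul, zero_mul, mul_zero, sub_zero, rest0 hR1, r0, add_zero]
      at t2d t2x t2y t2xx t2xy t2yy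
    refine (base.case_A ?_ ?_).elim
    · linear_combination t2x - x0 * t2d
    · linear_combination t2xx - 2 * x0 * t2x + x0 ^ 2 * t2d
  · -- `1 + a + 2b + d + Z`
    obtain ⟨z, xz, yz, hz, r0, r1, r2, r11, r12, r22⟩ := rest1 hR1
    simp only [hA1, hB1, hC1, hD1, hE1, hF1, Int.cast_one, Int.cast_zero, Int.cast_ofNat, one_mul,
      zero_mul, mul_zero, sub_zero, r0, r1, r2, r11, r12, r22] at t2d t2x t2y t2xx t2xy t2yy
    have hzv : z = -(1 + n + 2 * m + l) := by linarith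
    subst hzv
    obtain ⟨hl', h1, h2, h3, h4⟩ := base.case_standard (xz := xz) (yz := yz)
      (by linear_combination t2x) (by linear_combination t2y)
      (by linear_combination t2xx - 2 * x0 * t2x)
      (by linear_combination t2xy - x0 * t2y - y0 * t2x)
      (by linear_combination t2yy - 2 * y0 * t2y)
    obtain ⟨N, hN⟩ : ∃ N : ℤ, n = N := ⟨a₁ a * deg a, by push_cast; rfl⟩
    obtain ⟨M, hM⟩ : ∃ M : ℤ, m = M := ⟨a₁ b * deg b, by push_cast; rfl⟩
    rw [hl', hN, hM] at h2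
    rw [hN, hM] at h1
    obtain ⟨hN3, hM3⟩ := Alg.weights_eq N M (fun h0 => hn0 (by simp [hN, h0]))
      (fun h0 => hm0 (by simp [hM, h0])) (by exact_mod_cast h1)
      (fun h0 => lin_b (by simp [hM, h0])) (by exact_mod_cast h2)
    have vn : n = 3 := by rw [hN, hN3]; norm_num
    have vm : m = 3 := by rw [hM, hM3]; norm_num
    have vl : l = 2 := by rw [hl', vn, vm]; norm_num
    rw [vn, vm, vl] at h3 h4
    have hPP := base.lMP
    rw [vn, vm, vl] at hPP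
    have hFP : (F' - P) ^ 2 = 0 := by
      linear_combination 1 / 6 * h4 + 1 / 12 * hPP - 1 / 12 * h3
    refine ⟨d, F.od.symm, ?_, ?_⟩
    · have h : ((a₃ d * deg d : ℤ) : ℝ) = 2 := by push_cast; exact vl
      have h' : a₃ d * (deg d : ℤ) = 2 := by exact_mod_cast h
      rcases D.unit3 d with u | u | u <;> rw [u] at h' <;> omega
    · have := pow_eq_zero_iff (n := 2) (by norm_num) |>.1 hFP
      linarith
  · -- `1 + 2a + b + e + g`
    obtain ⟨z, xz, yz, hz, r0, r1, r2, r11, r12, r22⟩ := rest1 hR1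
    simp only [hA1, hB1, hC1, hD1, hE1, hF1, Int.cast_one, Int.cast_zero, Int.cast_ofNat, one_mul,
      zero_mul, mul_zero, sub_zero, r0, r1, r2, r11, r12, r22] at t2d t2x t2y t2xx t2xy t2yy
    refine absurd (base.case_B (g := z) (xg := xz) (yg := yz) ?_ hz ?_ ?_ ?_ ?_ ?_) lin_b
    · linarith
    · linear_combination t2x - t3x - x0 * t2d
    · linear_combination t2y - t1y - y0 * t2d
    · linear_combination t2xx - t3xx - 2 * x0 * (t2x - t3x) + x0 ^ 2 * t2d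
    · linear_combination t2xy - x0 * (t2y - t1y) - y0 * (t2x - t3x) + x0 * y0 * t2d - x0 * t1y - y0 * t3x
    · linear_combination t2yy - t1yy - 2 * y0 * (t2y - t1y) + y0 ^ 2 * t2d
  · -- `1 + a + 2b + e + f`
    have r0 := rest0 hR1 fun _ => 1
    simp only [mul_one] at r0
    simp only [hA1, hB1, hC1, hD1, hE1, hF1, Int.cast_one, Int.cast_zero, Int.cast_ofNat, one_mul,
      zero_mul, mul_zero, sub_zero, rest0 hR1, r0, add_zero] at t2d t2x t2y t2xx t2xy t2yy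
    refine (base.case_D ?_).elim
    linear_combination t2x - x0 * t2d

end Cfsg.Agent.Recog.MonoCube.Coef
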