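import Cfsg.Agent.Lib.Recog.MonoCubeData
import Cfsg.Agent.Lib.Recog.MonoCubeCoef
import Cfsg.Agent.Lib.Block.Central
import Cfsg.Agent.Lib.Char.Schur
import Cfsg.Agent.Lib.Char.Galois
import Cfsg.Agent.Lib.Char.Constituent

/-!
A group with a subgroup `3³:S₄` as in the statement has an irreducible character of degree two
containing the first involution in its kernel.
-/

namespace Cfsg.Agent.Recog.MonoCube

open scoped ComplexConjugate
open Cfsg Cfsg.Agent.Char

universe u

namespace W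

/-- The ninth power is trivial. -/
def nine (w : W) : Bool := decide (w * w * w * (w * w * w) * (w * w * w) = 1)

set_option maxRecDepth 100000

theorem nine_iff (w : W) : nine w = true ↔ w ^ 9 = 1 := by
  simp only [nine, decide_eq_true_eq, pow_succ, pow_zero, one_mul, mul_assoc]

theorem mem_inv : ∀ i, ∀ w : W, mem i w = true → mem i w⁻¹ = true := by decide +kernel

theorem cent_gT : ∀ w : W, w * gT = gT * w → nine w = true → inJ w = true := by decide +kernel

theorem inJ_inv' : ∀ w : W, inJ w = true → inJ w⁻¹ = true := by decide +kernel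

theorem normal_witness : ∀ w : W, nine w = true → inJ w = false →
    nine (w⁻¹ * (gV * w * gV⁻¹)) = false := by decide +kernel

theorem pow36 (w : W) : w ^ 36 = 1 := by
  have h := pow_thirty_six w
  simp only [← mul_assoc] at h
  simp only [pow_succ, pow_zero, one_mul]
  exact h

theorem nine_of_pow {w : W} {k : ℕ} (h : w ^ 3 ^ k = 1) : nine w = true := by
  rw [nine_iff]
  have h1 : orderOf w ∣ 9 * 4 := orderOf_dvd_of_pow_eq_one (pow36 w)
  have h2 : Nat.Coprime (orderOf w) 4 :=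
    Nat.Coprime.coprime_dvd_left (orderOf_dvd_of_pow_eq_one h) (Nat.Coprime.pow_left _ (by norm_num))
  exact orderOf_dvd_iff_pow_eq_one.1 (h2.dvd_of_dvd_mul_right h1)

theorem good_iff {w : W} : good w = true ↔ inJ w = true ∧ w ≠ 1 := by simp [good]

theorem inJ_pow_three {w : W} (h : inJ w = true) : w ^ 3 = 1 := by
  rw [pow_succ, pow_succ, pow_one]
  exact (inJ_mul w h w h).2.2

/-- In a cyclic group with an element of the core, all elements of order three are in the core. -/
theorem inJ_of_cube {w v : W} (n : ℕ) (hn : good (w ^ n) = true) (hv : v ∈ Subgroup.zpowers w)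
    (h3 : v ^ 3 = 1) : inJ v = true := by
  classical
  obtain ⟨hJ, h1⟩ := good_iff.1 hn
  set z : Subgroup.zpowers w := ⟨w ^ n, pow_mem (Subgroup.mem_zpowers w) n⟩
  have hz : z ^ 3 = 1 := Subtype.ext (inJ_pow_three hJ)
  have hz1 : z ≠ 1 := fun e => h1 (congrArg Subtype.val e)
  have hz2 : z ^ 2 ≠ 1 := fun e => hz1 (by rwa [pow_succ, e, one_mul] at hz)
  have hzz : z ≠ z ^ 2 := fun e => hz1 (by rw [pow_two] at e; exact (mul_eq_left.1 e.symm))
  have hsub : ({1, z, z ^ 2} : Finset (Subgroup.zpowers w)) ⊆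
      Finset.univ.filter fun u => u ^ 3 = 1 := by
    intro u hu
    simp only [Finset.mem_insert, Finset.mem_singleton] at hu
    simp only [Finset.mem_filter, Finset.mem_univ, true_and]
    rcases hu with rfl | rfl | rfl
    · simp
    · exact hz
    · rw [← pow_mul, mul_comm, pow_mul, hz, one_pow]
  have hcard : ({1, z, z ^ 2} : Finset (Subgroup.zpowers w)).card = 3 :=
    Finset.card_eq_three.2 ⟨_, _, _, hz1.symm, hz2.symm, hzz, rfl⟩
  have heq := Finset.eq_of_subset_of_card_le hsub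
    (hcard.symm ▸ IsCyclic.card_pow_eq_one_le (by norm_num))
  have hvm : (⟨v, hv⟩ : Subgroup.zpowers w) ∈ ({1, z, z ^ 2} : Finset (Subgroup.zpowers w)) := by
    rw [heq]
    exact Finset.mem_filter.2 ⟨Finset.mem_univ _, Subtype.ext h3⟩
  simp only [Finset.mem_insert, Finset.mem_singleton] at hvm
  rcases hvm with h | h | h
  · rw [show v = 1 from congrArg Subtype.val h]; rfl
  · rw [show v = w ^ n from congrArg Subtype.val h]; exact hJ
  · rw [show v = (w ^ n) ^ 2 from congrArg Subtype.val h, pow_two]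
    exact (inJ_mul _ hJ _ hJ).1

theorem psi_invol (i : Fin 4) {w : W} (h : w * w = 1) : psiR i w = 0 ∧ psiS i w = 0 := by
  refine psi_supp i w ?_
  have hg : good w = false := by
    by_contra hne
    obtain ⟨hJ, h1⟩ := good_iff.1 (Bool.not_eq_false _ ▸ hne)
    exact h1 (by simpa [h] using (inJ_mul w hJ w hJ).2.2)
  simp [supp, h, hg]
  simp [good]

theorem supp_pow {w : W} (h : supp w = true) : ∃ m : ℕ, good (w ^ m) = true := by
  simp only [supp, Bool.or_eq_true] at h
  rcases h with ((h | h) | h) | h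
  · exact ⟨1, by rwa [pow_one]⟩
  · exact ⟨2, by rwa [sq]⟩
  · exact ⟨3, by rwa [pow_succ, sq]⟩
  · exact ⟨4, by rwa [show (4 : ℕ) = 2 + 2 from rfl, pow_add, sq]⟩

/-! ### the virtual characters -/

noncomputable def zeta : ℂ := ((Real.sqrt 3 : ℝ) + Complex.I) / 2

theorem sqrt3_sq : ((Real.sqrt 3 : ℝ) : ℂ) ^ 2 = 3 := by
  rw [← Complex.ofReal_pow, Real.sq_sqrt (by norm_num : (0 : ℝ) ≤ 3)]
  norm_num

theorem zeta_cube : zeta ^ 3 = Complex.I := by
  rw [zeta]
  linear_combination ((Real.sqrt 3 : ℝ) + 3 * Complex.I) / 8 * sqrt3_sq +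
    (3 * (Real.sqrt 3 : ℝ) + Complex.I) / 8 * Complex.I_sq

theorem zeta_four : zeta ^ 4 = zeta ^ 2 - 1 := by
  rw [show zeta ^ 4 = zeta ^ 3 * zeta from pow_succ zeta 3, zeta_cube, zeta]
  linear_combination (-1 / 4 : ℂ) * sqrt3_sq + (1 / 4 : ℂ) * Complex.I_sq

theorem zeta_pow_twelve : zeta ^ 12 = 1 := by
  rw [show zeta ^ 12 = (zeta ^ 3) ^ 4 from pow_mul zeta 3 4, zeta_cube, Complex.I_pow_four]

theorem zeta_ne : zeta ≠ 0 := fun h => by
  have := zeta_pow_twelve
  rw [h] at this
  norm_num at this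

noncomputable def ev (a : ℤ × ℤ × ℤ × ℤ) : ℂ :=
  a.1 + a.2.1 * zeta + a.2.2.1 * zeta ^ 2 + a.2.2.2 * zeta ^ 3

theorem ev_add (a b : ℤ × ℤ × ℤ × ℤ) : ev (a + b) = ev a + ev b := by
  simp only [ev, Prod.fst_add, Prod.snd_add]; push_cast; ring

theorem ev_sub (a b : ℤ × ℤ × ℤ × ℤ) : ev (a - b) = ev a - ev b := by
  simp only [ev, Prod.fst_sub, Prod.snd_sub]; push_cast; ring

theorem ev_zero : ev 0 = 0 := by simp [ev]

theorem ev_sum (l : List (ℤ × ℤ × ℤ × ℤ)) : ev l.sum = (l.map ev).sum := by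
  induction l with
  | nil => exact ev_zero
  | cons a l ih => rw [List.sum_cons, ev_add, ih, List.map_cons, List.sum_cons]

theorem ev_pw (n : Fin 12) : ev (pw n) = zeta ^ n.val := by
  have h4 := zeta_four
  fin_cases n <;> simp [ev, pw] <;> grind

/-- The values. -/
noncomputable def psiC (i : Fin 4) (w : W) : ℂ :=
  (psiR i w : ℂ) + (psiS i w : ℂ) * (Real.sqrt 3 : ℝ)

theorem conj_psiC (i : Fin 4) (w : W) : conj (psiC i w) = psiC i w := by
  simp [psiC, map_intCast]

theorem psiC_mul (i j : Fin 4) (v w : W) : psiC i v * psiC j w =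
    ((psiR i v * psiR j w + 3 * (psiS i v * psiS j w) : ℤ) : ℂ) +
      ((psiR i v * psiS j w + psiS i v * psiR j w : ℤ) : ℂ) * (Real.sqrt 3 : ℝ) := by
  push_cast [psiC]
  linear_combination ((psiS i v : ℂ) * psiS j w) * sqrt3_sq

/-- The monomial subgroups. -/
def memGrp (i : Fin 4) : Subgroup W where
  carrier := {w | mem i w = true}
  one_mem' := mem_one i
  mul_mem' ha hb := (mem_mul i _ ha _ hb).1
  inv_mem' ha := mem_inv i _ ha

theorem mem_memGrp {i : Fin 4} {w : W} : w ∈ memGrp i ↔ mem i w = true := Iff.rfl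

noncomputable def linHom (i : Fin 4) (f : W → Fin 12)
    (hf : ∀ a, mem i a = true → ∀ b, mem i b = true → f (a * b) = f a + f b) :
    memGrp i →* ℂˣ where
  toFun w := Units.mk0 zeta zeta_ne ^ (f w).val
  map_one' := by
    have h := hf 1 (mem_one i) 1 (mem_one i)
    rw [one_mul, left_eq_add] at h
    simp [h]
  map_mul' a b := by
    rw [Subgroup.coe_mul, hf a a.2 b b.2, ← pow_add, Fin.val_add]
    exact (pow_eq_pow_mod _ (Units.ext (by simpa using zeta_pow_twelve))).symm

noncomputable def muHom (i : Fin 4) : memGrp i →* ℂˣ :=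
  linHom i (muExp i) fun a ha b hb => (mem_mul i a ha b hb).2.1

noncomputable def nuHom (i : Fin 4) : memGrp i →* ℂˣ :=
  linHom i (nuExp i) fun a ha b hb => by
    simp only [nuExp, (mem_mul i a ha b hb).2.1, (mem_mul i a ha b hb).2.2]
    exact add_add_add_comm _ _ _ _

noncomputable def seed (i : Fin 4) : memGrp i → ℂ :=
  (fun k => (muHom i k : ℂ)) - fun k => (nuHom i k : ℂ)

theorem extend_seed (i : Fin 4) (u : W) : extendByZero (memGrp i) (seed i) u = ev (term i u) := by
  by_cases hu : u ∈ memGrp i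
  · rw [extendByZero_of_mem _ hu, term, if_pos (mem_memGrp.1 hu), ev_sub, ev_pw, ev_pw]
    simp [seed, muHom, nuHom, linHom]
  · rw [extendByZero_not_mem _ hu, term, if_neg (fun h => hu (mem_memGrp.2 h)), ev_zero]

theorem hom_conj {i : Fin 4} (l : memGrp i →* ℂˣ) (k u : memGrp i) :
    l (k * u * k⁻¹) = l u := by
  rw [map_mul, map_mul, map_inv, mul_right_comm, mul_inv_cancel, one_mul]

theorem extend_seed_conj (i : Fin 4) {k : W} (hk : k ∈ memGrp i) (u : W) :
    extendByZero (memGrp i) (seed i) (k * u * k⁻¹) = extendByZero (memGrp i) (seed i) u := by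
  by_cases hu : u ∈ memGrp i
  · rw [extendByZero_of_mem _ (mul_mem (mul_mem hk hu) (inv_mem hk)), extendByZero_of_mem _ hu]
    show seed i (⟨k, hk⟩ * ⟨u, hu⟩ * ⟨k, hk⟩⁻¹) = _
    simp only [seed, Pi.sub_apply, hom_conj]
  · rw [extendByZero_not_mem _ hu, extendByZero_not_mem]
    intro h
    refine hu ?_
    simpa [mul_assoc] using mul_mem (mul_mem (inv_mem hk) h) hk

theorem sum_trans (i : Fin 4) (F : W → ℂ) (hF : ∀ y t, mem i (y * t⁻¹) = true → F y = F t) :
    ∑ y : W, F y = (Nat.card (memGrp i) : ℂ) * ((trans i).map F).sum := by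
  classical
  have hy : ∀ y, (((trans i).filter fun t => mem i (y * t⁻¹)).map F).sum = F y := by
    intro y
    obtain ⟨t, ht⟩ := List.length_eq_one_iff.1 (trans_unique i y)
    rw [ht, List.map_singleton, List.sum_singleton]
    have hm : t ∈ (trans i).filter fun t => mem i (y * t⁻¹) := by simp [ht]
    exact (hF y t (List.mem_filter.1 hm).2).symm
  have hN : ∀ t : W, ((Finset.univ.filter fun y : W => mem i (y * t⁻¹) = true).card : ℂ) =
      (Nat.card (memGrp i) : ℂ) := by
    intro t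
    rw [Nat.card_eq_fintype_card, ← Fintype.card_subtype]
    norm_cast
    exact Fintype.card_congr ((Equiv.mulRight t⁻¹).subtypeEquiv fun y => Iff.rfl)
  have key : ∀ l : List W, ∑ y : W, ((l.filter fun t => mem i (y * t⁻¹)).map F).sum =
      (Nat.card (memGrp i) : ℂ) * (l.map F).sum := by
    intro l
    induction l with
    | nil => simp
    | cons t l ih =>
      have hstep : ∀ y : W, (((t :: l).filter fun t => mem i (y * t⁻¹)).map F).sum =
          (if mem i (y * t⁻¹) = true then F t else 0) +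
            ((l.filter fun t => mem i (y * t⁻¹)).map F).sum := by
        intro y
        by_cases h : mem i (y * t⁻¹) = true <;> simp [List.filter_cons, h]
      rw [Finset.sum_congr rfl fun y _ => hstep y, Finset.sum_add_distrib, ih, ← Finset.sum_filter,
        Finset.sum_const, nsmul_eq_mul, hN, List.map_cons, List.sum_cons, mul_add]
  rw [← key, Finset.sum_congr rfl fun y _ => (hy y).symm]

theorem indFun_seed (i : Fin 4) (w : W) : indFun (memGrp i) (seed i) w = psiC i w := by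
  have h1 : ∑ x : W, extendByZero (memGrp i) (seed i) (x⁻¹ * w * x) =
      ∑ y : W, extendByZero (memGrp i) (seed i) (y * w * y⁻¹) :=
    Fintype.sum_equiv (Equiv.inv W) _ _ fun x => by simp
  have h2 : ∀ y t : W, mem i (y * t⁻¹) = true →
      extendByZero (memGrp i) (seed i) (y * w * y⁻¹) =
        extendByZero (memGrp i) (seed i) (t * w * t⁻¹) := by
    intro y t h
    rw [← extend_seed_conj i (mem_memGrp.2 h) (t * w * t⁻¹)]
    congr 1
    group
  rw [indFun, h1, sum_trans i _ h2, ← mul_assoc,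
    inv_mul_cancel₀ (Nat.cast_ne_zero.2 Nat.card_pos.ne'), one_mul]
  simp only [extend_seed]
  rw [show (List.map (fun y => ev (term i (y * w * y⁻¹))) (trans i)) =
    (List.map (fun t => term i (t * w * t⁻¹)) (trans i)).map ev from (List.map_map ..).symm ▸ rfl,
    ← ev_sum, ← indCoef, indCoef_eq]
  simp only [ev, psiC, Int.cast_neg, Int.cast_mul, Int.cast_ofNat, Int.cast_zero]
  rw [zeta_cube, zeta]
  ring

theorem isGenChar_psiC (i : Fin 4) : IsGeneralizedCharacter W (psiC i) := by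
  have h : indFun (memGrp i) (seed i) = psiC i := funext (indFun_seed i)
  rw [← h]
  exact IsGenChar.ind _ (IsGenChar.sub
    (IsGenChar.of_isCharacter (IsIrr.isCharacter (isIrr_linear (muHom i))))
    (IsGenChar.of_isCharacter (IsIrr.isCharacter (isIrr_linear (nuHom i)))))

/-- The sign of the block permutation. -/
noncomputable def sgn : W →* ℂˣ where
  toFun w := if odd w.p then -1 else 1
  map_one' := by rw [if_neg (by decide)]
  map_mul' a b := by
    have h : (a * b).p = pm a.p b.p := rfl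
    rw [h, odd_mul]
    cases odd a.p <;> cases odd b.p <;> simp

theorem linear_cases (l : W →* ℂˣ) : l = 1 ∨ l = sgn := by
  obtain ⟨hA, hB, hV, hT⟩ := gens_comm
  have comm : ∀ a b : W, l (a * b * a⁻¹ * b⁻¹) = 1 := fun a b => by
    rw [map_mul, map_mul, map_mul, map_inv, map_inv, mul_right_comm (l a), mul_inv_cancel, one_mul,
      mul_inv_cancel]
  have ha : l gA = 1 := by rw [hA]; exact comm _ _
  have hb : l gB = 1 := by rw [hB]; exact comm _ _
  have hv : l gV = 1 := by rw [hV]; exact comm _ _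
  have ht : l gT * l gT = 1 := by rw [← map_mul, hT, map_one]
  have hval : (l gT : ℂ) = 1 ∨ (l gT : ℂ) = -1 :=
    mul_self_eq_one_iff.1 (by simpa using congrArg Units.val ht)
  have key : ∀ m : W →* ℂˣ, m gA = 1 → m gB = 1 → m gV = 1 → m gT = l gT → l = m := by
    intro m h1 h2 h3 h4
    refine MonoidHom.eq_of_eqOn_dense closure_gens fun w hw => ?_
    simp only [gens, Set.mem_insert_iff, Set.mem_singleton_iff] at hw
    rcases hw with rfl | rfl | rfl | rfl
    · rw [ha, h1]
    · rw [hb, h2]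
    · rw [hv, h3]
    · rw [h4]
  rcases hval with h | h
  · exact Or.inl (key 1 rfl rfl rfl (Units.ext (by simp [h])))
  · have hs : ∀ w, sgn w = if odd w.p then -1 else 1 := fun w => rfl
    refine Or.inr (key sgn ?_ ?_ ?_ ?_)
    · rw [hs, if_neg (by decide)]
    · rw [hs, if_neg (by decide)]
    · rw [hs, if_neg (by decide)]
    · rw [hs, if_pos (by decide)]
      exact Units.ext (by simp [h])

theorem sum_psi_zero : ∀ l : W →* ℂˣ, ∑ w : W, psiC 0 w * conj (l w : ℂ) = 0 := by
  intro l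
  rcases linear_cases l with rfl | rfl
  · simp only [MonoidHom.one_apply, Units.val_one, map_one, mul_one, psiC, Finset.sum_add_distrib,
      ← Finset.sum_mul, ← Int.cast_sum, (triv_eq 0).1, (triv_eq 0).2]
    simp [triv]
  · have h : ∀ w : W, psiC 0 w * conj (sgn w : ℂ) =
        ((if odd w.p then -psiR 0 w else psiR 0 w : ℤ) : ℂ) +
          ((if odd w.p then -psiS 0 w else psiS 0 w : ℤ) : ℂ) * (Real.sqrt 3 : ℝ) := by
      intro w
      rw [show sgn w = if odd w.p then -1 else 1 from rfl]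
      cases odd w.p <;> simp [psiC, add_comm]
    rw [Finset.sum_congr rfl fun w _ => h w, Finset.sum_add_distrib, ← Finset.sum_mul,
      ← Int.cast_sum, ← Int.cast_sum, sgn_eq.1, sgn_eq.2]
    simp

end W

open W

variable {G : Type u} [Group G] [Fintype G]

/-- The hypotheses, with an identification. -/
structure Ctx (H : Subgroup G) where
  e : H ≃* W
  cent : ∀ h : H, good (e h) = true → Subgroup.centralizer ({(h : G)} : Set G) ≤ H
  closed : ∀ (h : H) (g : G) (hg : g * h * g⁻¹ ∈ H), inJ (e h) = true → wt (e h) = 1 →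
    inJ (e ⟨_, hg⟩) = true

namespace Ctx

variable {H : Subgroup G} (C : Ctx H)

theorem card_centralizer (h : H) (hh : good (C.e h) = true) :
    Nat.card (Subgroup.centralizer ({(h : G)} : Set G)) =
      (Finset.univ.filter fun w : W => decide (w * C.e h = C.e h * w)).card := by
  rw [← Fintype.card_subtype, ← Nat.card_eq_fintype_card]
  refine Nat.card_congr
    ⟨fun g => ⟨C.e ⟨g, C.cent h hh g.2⟩, ?_⟩, fun w => ⟨(C.e.symm w : G), ?_⟩, ?_, ?_⟩
  · rw [decide_eq_true_eq, ← map_mul, ← map_mul]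
    exact congrArg C.e (Subtype.ext (Subgroup.mem_centralizer_singleton_iff.1 g.2))
  · rw [Subgroup.mem_centralizer_singleton_iff]
    have h2 := congrArg C.e.symm (of_decide_eq_true w.2)
    simp only [map_mul, C.e.symm_apply_apply] at h2
    exact congrArg Subtype.val h2
  · intro g; simp
  · intro w; simp

theorem ti {h : H} (hh : good (C.e h) = true) {g : G} (hg : g * h * g⁻¹ ∈ H)
    (himg : inJ (C.e ⟨_, hg⟩) = true) : g ∈ H := by
  obtain ⟨hJ, h1⟩ := good_iff.1 hh
  obtain ⟨k, hk⟩ : ∃ k : H, (k : G) = g * h * g⁻¹ := ⟨⟨_, hg⟩, rfl⟩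
  have hkJ : inJ (C.e k) = true := by
    rw [show k = ⟨_, hg⟩ from Subtype.ext hk]
    exact himg
  have hk1 : C.e k ≠ 1 := by
    intro h2
    rw [map_eq_one_iff C.e C.e.injective] at h2
    rw [h2, Subgroup.coe_one, eq_comm, conj_eq_one_iff] at hk
    exact h1 (by rw [show h = 1 from Subtype.ext hk, map_one])
  have hkg : good (C.e k) = true := good_iff.2 ⟨hkJ, hk1⟩
  have hcard : Nat.card (Subgroup.centralizer ({(k : G)} : Set G)) =
      Nat.card (Subgroup.centralizer ({(h : G)} : Set G)) := by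
    refine Nat.card_congr ((MulAut.conj g⁻¹).toEquiv.subtypeEquiv fun x => ?_)
    simp only [Subgroup.mem_centralizer_singleton_iff, hk, MulEquiv.toEquiv_eq_coe,
      MulEquiv.coe_toEquiv, MulAut.conj_apply, inv_inv]
    constructor <;> intro h2
    · calc g⁻¹ * x * g * h = g⁻¹ * (x * (g * h * g⁻¹)) * g := by group
        _ = g⁻¹ * (g * h * g⁻¹ * x) * g := by rw [h2]
        _ = h * (g⁻¹ * x * g) := by group
    · calc x * (g * h * g⁻¹) = g * (g⁻¹ * x * g * h) * g⁻¹ := by group
        _ = g * (h * (g⁻¹ * x * g)) * g⁻¹ := by rw [h2]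
        _ = g * h * g⁻¹ * x := by group
  rw [C.card_centralizer k hkg, C.card_centralizer h hh, card_cent _ hkJ hk1, card_cent _ hJ h1]
    at hcard
  have hw : wt (C.e h) = wt (C.e k) := by
    rcases wt_range _ hkJ hk1 with a | a | a <;> rcases wt_range _ hJ h1 with b | b | b <;>
      simp [a, b] at hcard ⊢
  obtain ⟨p, e', hc⟩ := wt_orbit _ hJ h1 _ hkJ hk1 hw
  set d : H := C.e.symm ⟨p, e', 0, 0, 0⟩
  have hd : d * h * d⁻¹ = k := C.e.injective (by simp [d, hc])
  have hd' : (d : G) * h * (d : G)⁻¹ = g * h * g⁻¹ := by simpa [hk] using congrArg Subtype.val hd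
  have hz : g⁻¹ * d ∈ H := by
    refine C.cent h hh (Subgroup.mem_centralizer_singleton_iff.2 ?_)
    calc g⁻¹ * d * h = g⁻¹ * (d * h * (d : G)⁻¹) * d := by group
      _ = g⁻¹ * (g * h * g⁻¹) * d := by rw [hd']
      _ = h * (g⁻¹ * d) := by group
  simpa using mul_mem d.2 (inv_mem hz)

/-- Conjugation of an element of weight one into the subgroup stays inside it. -/
theorem ti_one {h : H} (hh : good (C.e h) = true) (hw : wt (C.e h) = 1) {g : G}
    (hg : g * h * g⁻¹ ∈ H) : g ∈ H :=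
  C.ti hh hg (C.closed h g hg (good_iff.1 hh).1 hw)

/-- The functions on `H`. -/
noncomputable def phi (i : Fin 4) : H → ℂ := fun h => psiC i (C.e h)

theorem phi_gen (i : Fin 4) : IsGeneralizedCharacter H (C.phi i) :=
  IsGenChar.comp C.e.toMonoidHom (isGenChar_psiC i)

theorem phi_supp {i : Fin 4} {h : H} (hh : C.phi i h ≠ 0) :
    ∃ m : ℕ, good (C.e (h ^ m)) = true := by
  simp only [map_pow]
  refine supp_pow ?_
  by_contra hs
  refine hh ?_
  obtain ⟨h1, h2⟩ := psi_supp i _ (Bool.eq_false_iff.2 hs)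
  simp [phi, psiC, h1, h2]

theorem phi_invol {i : Fin 4} {h : H} (hh : (h : G) * h = 1) : C.phi i h = 0 := by
  obtain ⟨h1, h2⟩ := psi_invol i (w := C.e h) (by
    rw [← map_mul, show h * h = 1 from Subtype.ext hh, map_one])
  simp [phi, psiC, h1, h2]

/-- The induced functions. -/
noncomputable def Phi (i : Fin 4) : G → ℂ := indFun H (C.phi i)

theorem Phi_gen (i : Fin 4) : IsGeneralizedCharacter G (C.Phi i) := IsGenChar.ind H (C.phi_gen i)

theorem Phi_res (i : Fin 4) (d : H) (hd : ∃ n : ℕ, good (C.e (d ^ n)) = true) :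
    C.Phi i d = C.phi i d := by
  classical
  have hval : ∀ x : G, extendByZero H (C.phi i) (x⁻¹ * d * x) =
      if x ∈ H then C.phi i d else 0 := by
    intro x
    split_ifs with hx
    · rw [extendByZero_of_mem _ (mul_mem (mul_mem (inv_mem hx) d.2) hx)]
      have h := IsGenChar.classFun (C.phi_gen i) d (⟨x, hx⟩⁻¹)
      rw [inv_inv] at h
      exact h
    · by_cases hm : x⁻¹ * (d : G) * x ∈ H
      · rw [extendByZero_of_mem _ hm]
        by_contra hne
        obtain ⟨m, hgm⟩ := C.phi_supp hne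
        obtain ⟨n, hn⟩ := hd
        have h2 : x * (x⁻¹ * d * x) ^ m * x⁻¹ = (d : G) ^ m := by
          rw [← MulAut.conj_apply, map_pow, MulAut.conj_apply]
          congr 1
          group
        have hmem : x * (((⟨_, hm⟩ : H) ^ m : H) : G) * x⁻¹ ∈ H := by
          simpa [h2] using pow_mem d.2 m
        refine hx (C.ti hgm hmem ?_)
        have hd' : (⟨_, hmem⟩ : H) = d ^ m := Subtype.ext (by simp [h2])
        rw [hd', map_pow]
        refine inJ_of_cube (w := C.e d) n (by rwa [← map_pow]) (pow_mem (Subgroup.mem_zpowers _) m) ?_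
        rw [← map_pow, ← map_pow, map_eq_one_iff C.e C.e.injective]
        refine Subtype.ext ?_
        have h3 : ((⟨_, hm⟩ : H) ^ m) ^ 3 = 1 :=
          C.e.injective (by rw [map_pow, inJ_pow_three (good_iff.1 hgm).1, map_one])
        have h4 : ((x⁻¹ * d * x) ^ m) ^ 3 = 1 := by simpa using congrArg Subtype.val h3
        show ((d : G) ^ m) ^ 3 = 1
        rw [← h2, ← MulAut.conj_apply, ← map_pow, h4, map_one]
      · exact extendByZero_not_mem _ hm
  simp only [Phi, indFun, hval]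
  rw [← Finset.sum_filter, Finset.sum_const, nsmul_eq_mul, ← Fintype.card_subtype,
    ← Nat.card_eq_fintype_card, ← mul_assoc,
    inv_mul_cancel₀ (Nat.cast_ne_zero.2 Nat.card_pos.ne'), one_mul]

theorem Phi_invol (i : Fin 4) {g : G} (hg : g * g = 1) : C.Phi i g = 0 := by
  refine indFun_eq_zero_of_not_conj H _ fun x hx => C.phi_invol ?_
  show x⁻¹ * g * x * (x⁻¹ * g * x) = 1
  calc x⁻¹ * g * x * (x⁻¹ * g * x) = x⁻¹ * (g * g) * x := by group
    _ = 1 := by rw [hg]; group

include C in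
theorem card_H : Nat.card H = 648 := by
  rw [Nat.card_congr C.e.toEquiv, Nat.card_eq_fintype_card, card_W]

include C in
theorem sum_H [Fintype H] (f : W → ℂ) : ∑ h : H, f (C.e h) = ∑ w : W, f w :=
  Fintype.sum_equiv C.e.toEquiv _ _ fun _ => rfl

theorem classInner_phi [Fintype H] (i j : Fin 4) :
    classInner (C.phi i) (C.phi j) = (gram i j : ℂ) := by
  rw [classInner, show (∑ h : H, C.phi i h * conj (C.phi j h)) =
    ∑ h : H, (fun w => psiC i w * conj (psiC j w)) (C.e h) from rfl,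
    C.sum_H fun w => psiC i w * conj (psiC j w), C.card_H]
  simp only [conj_psiC, psiC_mul, Finset.sum_add_distrib, ← Finset.sum_mul, ← Int.cast_sum,
    (gram_eq i j).1, (gram_eq i j).2]
  push_cast
  ring

theorem inner_Phi (i j : Fin 4) : classInner (C.Phi i) (C.Phi j) = (gram i j : ℂ) := by
  classical
  haveI := Fintype.ofFinite H
  rw [show C.Phi i = indFun H (C.phi i) from rfl,
    classInner_indFun H _ (IsGenChar.classFun (C.Phi_gen j))]
  rw [← C.classInner_phi i j, classInner, classInner]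
  congr 1
  refine Finset.sum_congr rfl fun d _ => ?_
  by_cases h0 : C.phi i d = 0
  · rw [h0, zero_mul, zero_mul]
  · rw [C.Phi_res j d (C.phi_supp h0)]

theorem inner_Phi_one (i : Fin 4) : classInner (C.Phi i) (fun _ => 1) = (triv i : ℂ) := by
  classical
  haveI := Fintype.ofFinite H
  rw [Phi, classInner_indFun H _ (IsIrr.classFun isIrr_one), classInner, C.card_H]
  simp only [map_one, mul_one, phi]
  rw [C.sum_H fun w => psiC i w]
  simp only [psiC, Finset.sum_add_distrib, ← Finset.sum_mul, ← Int.cast_sum, (triv_eq i).1,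
    (triv_eq i).2]
  push_cast
  ring

/-! ### fusion of the involutions -/

theorem V_sq : (C.e.symm gV : G) * C.e.symm gV = 1 := by
  rw [← Subgroup.coe_mul, ← map_mul, cV_gV.2.2.1, map_one, Subgroup.coe_one]

theorem T_sq : (C.e.symm gT : G) * C.e.symm gT = 1 := by
  rw [← Subgroup.coe_mul, ← map_mul, gens_comm.2.2.2, map_one, Subgroup.coe_one]

theorem three_elt {h : H} {k : ℕ} (hk : (h : G) ^ 3 ^ k = 1) : nine (C.e h) = true := by
  refine nine_of_pow (k := k) ?_
  rw [← map_pow, show h ^ 3 ^ k = 1 from Subtype.ext (by simpa using hk), map_one]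

theorem not_fused (g : G) : g * C.e.symm gV * g⁻¹ ≠ (C.e.symm gT : G) := by
  intro hg
  haveI : Fact (Nat.Prime 3) := ⟨by norm_num⟩
  obtain ⟨hZ, hZ1, hWJ, hW1, -, -, hZV, hWT, -⟩ := fusion_data
  set V : G := ((C.e.symm gV : H) : G)
  set T : G := ((C.e.symm gT : H) : G)
  let K := Subgroup.centralizer ({T} : Set G)
  have hWK : (C.e.symm cW : G) ∈ K := by
    rw [Subgroup.mem_centralizer_singleton_iff]
    exact congrArg Subtype.val ((map_mul C.e.symm cW gT).symm.trans
      ((congrArg C.e.symm hWT).trans (map_mul C.e.symm gT cW)))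
  have hZV' : (C.e.symm cZ : G) * V = V * C.e.symm cZ :=
    congrArg Subtype.val ((map_mul C.e.symm cZ gV).symm.trans
      ((congrArg C.e.symm hZV).trans (map_mul C.e.symm gV cZ)))
  have hXK : g * C.e.symm cZ * g⁻¹ ∈ K := by
    rw [Subgroup.mem_centralizer_singleton_iff, ← hg]
    calc g * C.e.symm cZ * g⁻¹ * (g * V * g⁻¹) = g * (C.e.symm cZ * V) * g⁻¹ := by group
      _ = g * (V * C.e.symm cZ) * g⁻¹ := by rw [hZV']
      _ = g * V * g⁻¹ * (g * C.e.symm cZ * g⁻¹) := by group
  have hcube : ∀ w : W, inJ w = true → (C.e.symm w : G) ^ 3 = 1 := fun w hw => by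
    rw [← Subgroup.coe_pow, ← map_pow, inJ_pow_three hw, map_one, Subgroup.coe_one]
  have hp : ∀ z : K, z ^ 3 = 1 → IsPGroup 3 (Subgroup.zpowers z) := by
    rintro z hz ⟨_, n, rfl⟩
    refine ⟨1, Subtype.ext ?_⟩
    show ((z ^ n) ^ 3 ^ 1 : K) = 1
    rw [pow_one, ← zpow_natCast, zpow_comm, zpow_natCast, hz, one_zpow]
  obtain ⟨P, hPle⟩ := (hp ⟨_, hWK⟩ (Subtype.ext (by simpa using hcube _ hWJ))).exists_le_sylow
  obtain ⟨Q, hQle⟩ := (hp ⟨_, hXK⟩ (Subtype.ext (by
    show (g * C.e.symm cZ * g⁻¹) ^ 3 = 1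
    rw [← MulAut.conj_apply, ← map_pow, hcube _ hZ, map_one]))).exists_le_sylow
  obtain ⟨c, hc⟩ := MulAction.exists_smul_eq K Q P
  have hgoodW : good (C.e (C.e.symm cW)) = true := by
    rw [C.e.apply_symm_apply]
    exact good_iff.2 ⟨hWJ, hW1⟩
  have hJP : ∀ x : K, x ∈ (P : Subgroup K) → (x : G) ∈ H ∧
      ∀ hx : (x : G) ∈ H, inJ (C.e ⟨x, hx⟩) = true := by
    intro x hx
    have hin : ∀ y : K, y ∈ (P : Subgroup K) → ∀ hy : (y : G) ∈ H,
        inJ (C.e ⟨y, hy⟩) = true := by
      intro y hy hyH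
      obtain ⟨k, hk⟩ := P.2 ⟨y, hy⟩
      have hk' : (y : G) ^ 3 ^ k = 1 := by
        simpa using congrArg (fun t : (P : Subgroup K) => ((t : K) : G)) hk
      refine cent_gT _ ?_ (C.three_elt (h := ⟨y, hyH⟩) hk')
      rw [← C.e.apply_symm_apply gT, ← map_mul, ← map_mul]
      exact congrArg C.e (Subtype.ext (Subgroup.mem_centralizer_singleton_iff.1 y.2))
    have hWP : (⟨_, hWK⟩ : K) ∈ (P : Subgroup K) := hPle (Subgroup.mem_zpowers _)
    haveI : Nontrivial (P : Subgroup K) := by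
      refine ⟨⟨⟨_, hWP⟩, 1, fun h => hW1 ?_⟩⟩
      have h1 : (C.e.symm cW : G) = 1 :=
        congrArg (fun t : (P : Subgroup K) => ((t : K) : G)) h
      simpa using congrArg C.e (show C.e.symm cW = 1 from Subtype.ext h1)
    obtain ⟨z, hz, hz1⟩ := (Subgroup.nontrivial_iff_exists_ne_one _).1 P.2.center_nontrivial
    have hzW : ((z : K) : G) * C.e.symm cW = C.e.symm cW * (z : K) :=
      (congrArg (fun t : (P : Subgroup K) => ((t : K) : G))
        (Subgroup.mem_center_iff.1 hz ⟨_, hWP⟩)).symm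
    have hzH : ((z : K) : G) ∈ H :=
      C.cent _ hgoodW (Subgroup.mem_centralizer_singleton_iff.2 hzW)
    have hzg : good (C.e ⟨_, hzH⟩) = true := by
      refine good_iff.2 ⟨hin _ z.2 hzH, fun h => hz1 ?_⟩
      have := congrArg Subtype.val ((map_eq_one_iff C.e C.e.injective).1 h)
      exact Subtype.ext (Subtype.ext this)
    have hxH : (x : G) ∈ H := C.cent _ hzg (Subgroup.mem_centralizer_singleton_iff.2
      (congrArg (fun t : (P : Subgroup K) => ((t : K) : G))
        (Subgroup.mem_center_iff.1 hz ⟨x, hx⟩)))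
    exact ⟨hxH, hin x hx⟩
  have hw : c * ⟨_, hXK⟩ * c⁻¹ ∈ (P : Subgroup K) := by
    rw [← hc, Sylow.coe_subgroup_smul]
    exact Subgroup.smul_mem_pointwise_smul _ (MulAut.conj c) _ (hQle (Subgroup.mem_zpowers _))
  have hcg : (c : G) * g ∈ H := by
    refine C.ti_one (h := C.e.symm cZ) ?_ ?_ ?_
    · rw [C.e.apply_symm_apply]
      exact good_iff.2 ⟨hZ, hZ1⟩
    · rw [C.e.apply_symm_apply]
      exact fusion_data.2.2.2.2.1
    · convert (hJP _ hw).1 using 1
      simp only [Subgroup.coe_mul, Subgroup.coe_inv]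
      group
  have hcT : (c : G) * T = T * c := Subgroup.mem_centralizer_singleton_iff.1 c.2
  have hconj : (⟨_, hcg⟩ : H) * C.e.symm gV * (⟨_, hcg⟩ : H)⁻¹ = C.e.symm gT := by
    refine Subtype.ext ?_
    show (c : G) * g * V * ((c : G) * g)⁻¹ = T
    calc (c : G) * g * V * ((c : G) * g)⁻¹ = c * (g * V * g⁻¹) * (c : G)⁻¹ := by group
      _ = T * c * (c : G)⁻¹ := by rw [hg, hcT]
      _ = T := by group
  have h := congrArg C.e hconj
  simp only [map_mul, map_inv, C.e.apply_symm_apply] at h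
  have h2 := conj_cV (C.e ⟨_, hcg⟩)
  rw [h] at h2
  exact absurd h2 (by decide)

/-- A class of involutions of `H` which is the trace of a class of `G`. -/
structure Cls (v : W) (c : W → Bool) : Prop where
  sq : v * v = 1
  image : ∀ d : W, c (d * v * d⁻¹) = true
  surj : ∀ w, c w = true → ∃ d : W, d * v * d⁻¹ = w
  trace : ∀ (g : G) (hg : g * C.e.symm v * g⁻¹ ∈ H), c (C.e ⟨_, hg⟩) = true

theorem invol_image {v : W} (hv : v * v = 1) (hv1 : v ≠ 1) {g : G}
    (hg : g * C.e.symm v * g⁻¹ ∈ H) :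
    cV (C.e ⟨_, hg⟩) = true ∨ cT (C.e ⟨_, hg⟩) = true := by
  rcases invol_cases (C.e ⟨_, hg⟩) (by
    rw [← map_mul]
    refine (map_eq_one_iff C.e C.e.injective).2 (Subtype.ext ?_)
    show g * C.e.symm v * g⁻¹ * (g * C.e.symm v * g⁻¹) = 1
    calc g * C.e.symm v * g⁻¹ * (g * C.e.symm v * g⁻¹) =
        g * ((C.e.symm v * C.e.symm v : H) : G) * g⁻¹ := by rw [Subgroup.coe_mul]; group
      _ = 1 := by rw [← map_mul, hv, map_one, Subgroup.coe_one]; group) with h | h | h
  · exfalso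
    rw [map_eq_one_iff C.e C.e.injective, Subgroup.mk_eq_one, conj_eq_one_iff] at h
    exact hv1 (by simpa using congrArg C.e (show C.e.symm v = 1 from Subtype.ext h))
  · exact Or.inl h
  · exact Or.inr h

theorem clsV : C.Cls gV cV where
  sq := cV_gV.2.2.1
  image := conj_cV
  surj := cV_conj
  trace g hg := by
    rcases C.invol_image cV_gV.2.2.1 cV_gV.2.2.2.1 hg with h | h
    · exact h
    · exfalso
      obtain ⟨d, hd⟩ := cT_conj _ h
      set a : H := ⟨_, hg⟩
      have h1 : (C.e.symm d)⁻¹ * a * C.e.symm d = C.e.symm gT :=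
        C.e.injective (by simp [← hd, mul_assoc])
      refine C.not_fused ((C.e.symm d : G)⁻¹ * g) ?_
      rw [← show ((C.e.symm d : G))⁻¹ * (g * C.e.symm gV * g⁻¹) * C.e.symm d = C.e.symm gT by
        simpa [a] using congrArg Subtype.val h1]
      group

theorem clsT : C.Cls gT cT where
  sq := gens_comm.2.2.2
  image := conj_cT
  surj := cT_conj
  trace g hg := by
    rcases C.invol_image gens_comm.2.2.2 cV_gV.2.2.2.2 hg with h | h
    · exfalso
      obtain ⟨d, hd⟩ := cV_conj _ h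
      set a : H := ⟨_, hg⟩
      have h1 : C.e.symm d * C.e.symm gV * (C.e.symm d)⁻¹ = a :=
        C.e.injective (by simp [hd])
      refine C.not_fused (g⁻¹ * C.e.symm d) ?_
      have h2 : (C.e.symm d : G) * C.e.symm gV * (C.e.symm d : G)⁻¹ = g * C.e.symm gT * g⁻¹ := by
        simpa [a] using congrArg Subtype.val h1
      calc g⁻¹ * C.e.symm d * C.e.symm gV * (g⁻¹ * C.e.symm d)⁻¹ =
          g⁻¹ * ((C.e.symm d : G) * C.e.symm gV * (C.e.symm d : G)⁻¹) * g := by group
        _ = C.e.symm gT := by rw [h2]; group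
    · exact h

/-- The order of the centralizer of the element with code `v`. -/
noncomputable def cc (v : W) : ℕ := Nat.card (Subgroup.centralizer ({(C.e.symm v : G)} : Set G))

theorem cc_pos (v : W) : 0 < C.cc v := Nat.card_pos

theorem sum_class {v : W} {c : W → Bool} (hc : C.Cls v c) (f : G → ℂ)
    (hf : ∀ g : G, g * C.e.symm v * g⁻¹ ∉ H → f (g * C.e.symm v * g⁻¹) = 0) :
    ∑ g : G, f (g * C.e.symm v * g⁻¹) =
      (C.cc v : ℂ) * ∑ w : W, if c w then f (C.e.symm w) else 0 := by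
  classical
  have h1 : ∀ g : G, f (g * C.e.symm v * g⁻¹) = ∑ w : W,
      if c w = true ∧ g * C.e.symm v * g⁻¹ = C.e.symm w then f (C.e.symm w) else 0 := by
    intro g
    by_cases hg : g * C.e.symm v * g⁻¹ ∈ H
    · rw [Fintype.sum_eq_single (C.e ⟨_, hg⟩) fun w hw => if_neg fun h => hw
        (by rw [show (⟨_, hg⟩ : H) = C.e.symm w from Subtype.ext h.2, C.e.apply_symm_apply]),
        if_pos ⟨hc.trace g hg, by rw [C.e.symm_apply_apply]⟩, C.e.symm_apply_apply]
    · rw [hf g hg, Finset.sum_eq_zero fun w _ => if_neg fun h => hg ?_]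
      rw [h.2]
      exact (C.e.symm w).2
  rw [Finset.sum_congr rfl fun g _ => h1 g, Finset.sum_comm, Finset.mul_sum]
  refine Finset.sum_congr rfl fun w _ => ?_
  by_cases hw : c w = true
  · rw [if_pos hw, ← Finset.sum_filter, Finset.sum_const, nsmul_eq_mul]
    congr 2
    obtain ⟨d, hd⟩ := hc.surj w hw
    have hd' : (C.e.symm d : G) * C.e.symm v * (C.e.symm d : G)⁻¹ = C.e.symm w := by
      rw [← hd]; simp
    rw [cc, ← Fintype.card_subtype, ← Nat.card_eq_fintype_card]
    refine Nat.card_congr ((Equiv.mulLeft (C.e.symm d : G)⁻¹).subtypeEquiv fun g => ?_)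
    simp only [hw, true_and, Equiv.coe_mulLeft, Subgroup.mem_centralizer_singleton_iff]
    rw [← hd']
    constructor <;> intro h
    · calc (C.e.symm d : G)⁻¹ * g * C.e.symm v =
          (C.e.symm d : G)⁻¹ * (g * C.e.symm v * g⁻¹) * g := by group
        _ = (C.e.symm d : G)⁻¹ * ((C.e.symm d : G) * C.e.symm v * (C.e.symm d : G)⁻¹) * g := by
          rw [h]
        _ = C.e.symm v * ((C.e.symm d : G)⁻¹ * g) := by group
    · calc g * C.e.symm v * g⁻¹ =
          (C.e.symm d : G) * ((C.e.symm d : G)⁻¹ * g * C.e.symm v) * g⁻¹ := by group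
        _ = (C.e.symm d : G) * (C.e.symm v * ((C.e.symm d : G)⁻¹ * g)) * g⁻¹ := by rw [h]
        _ = (C.e.symm d : G) * C.e.symm v * (C.e.symm d : G)⁻¹ := by group
  · rw [if_neg hw, mul_zero]
    exact Finset.sum_eq_zero fun g _ => if_neg fun h => hw h.1

theorem invol_factors {i : Fin 4} {a b : G} (ha : a * a = 1) (hb : b * b = 1)
    (hne : extendByZero H (C.phi i) (a * b) ≠ 0) : a ∈ H ∧ b ∈ H := by
  by_cases hab : a * b ∈ H
  swap
  · exact absurd (extendByZero_not_mem _ hab) hne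
  rw [extendByZero_of_mem _ hab] at hne
  obtain ⟨m, hm⟩ := C.phi_supp hne
  have hai : a⁻¹ = a := inv_eq_of_mul_eq_one_right ha
  have hbi : b⁻¹ = b := inv_eq_of_mul_eq_one_right hb
  have h1 : a * (a * b) ^ m * a⁻¹ = ((a * b) ^ m)⁻¹ := by
    rw [← MulAut.conj_apply, map_pow, MulAut.conj_apply, ← inv_pow]
    congr 1
    rw [mul_inv_rev, hai, hbi, ← mul_assoc a a b, ha, one_mul]
  have haH : a ∈ H := by
    have hmem : a * (((⟨_, hab⟩ : H) ^ m : H) : G) * a⁻¹ ∈ H := by
      simp only [Subgroup.coe_pow]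
      rw [h1]
      exact inv_mem (pow_mem hab m)
    refine C.ti hm hmem ?_
    have he : (⟨_, hmem⟩ : H) = ((⟨_, hab⟩ : H) ^ m)⁻¹ := Subtype.ext (by simp [h1])
    rw [he, map_inv]
    exact inJ_inv' _ (good_iff.1 hm).1
  exact ⟨haH, by simpa using mul_mem (inv_mem haH) hab⟩

/-- The class multiplication identity. -/
theorem sum_Phi_pairs {v v' : W} {c c' : W → Bool} (hc : C.Cls v c) (hc' : C.Cls v' c')
    (i : Fin 4) :
    ∑ g : G, ∑ g' : G, C.Phi i (g * C.e.symm v * g⁻¹ * (g' * C.e.symm v' * g'⁻¹)) =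
      (Nat.card G : ℂ) / 648 * ((C.cc v : ℂ) * C.cc v') *
        ∑ a : W, if c a then ∑ b : W, (if c' b then psiC i (a * b) else 0) else 0 := by
  classical
  set F := extendByZero H (C.phi i) with hF
  set A : G := ((C.e.symm v : H) : G)
  set B : G := ((C.e.symm v' : H) : G)
  have hA : A * A = 1 := by
    rw [← Subgroup.coe_mul, ← map_mul, hc.sq, map_one, Subgroup.coe_one]
  have hB : B * B = 1 := by
    rw [← Subgroup.coe_mul, ← map_mul, hc'.sq, map_one, Subgroup.coe_one]
  have hconj : ∀ g u : G, u * u = 1 → g * u * g⁻¹ * (g * u * g⁻¹) = 1 := fun g u hu =>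
    calc g * u * g⁻¹ * (g * u * g⁻¹) = g * (u * u) * g⁻¹ := by group
      _ = 1 := by rw [hu]; group
  have h1 : ∀ x : G, ∑ g : G, ∑ g' : G, F (x⁻¹ * (g * A * g⁻¹ * (g' * B * g'⁻¹)) * x) =
      ∑ g : G, ∑ g' : G, F (g * A * g⁻¹ * (g' * B * g'⁻¹)) := fun x =>
    Fintype.sum_equiv (Equiv.mulLeft x⁻¹) _ _ fun g =>
      Fintype.sum_equiv (Equiv.mulLeft x⁻¹) _ _ fun g' => congrArg F (by
        simp only [Equiv.coe_mulLeft]; group)
  have h2 : ∑ g : G, ∑ g' : G, C.Phi i (g * A * g⁻¹ * (g' * B * g'⁻¹)) =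
      (648 : ℂ)⁻¹ * ((Nat.card G : ℂ) * ∑ g : G, ∑ g' : G, F (g * A * g⁻¹ * (g' * B * g'⁻¹))) := by
    simp only [Phi, indFun, C.card_H, ← hF, ← Finset.mul_sum]
    rw [Nat.cast_ofNat]
    congr 1
    rw [Finset.sum_congr rfl fun g _ => Finset.sum_comm, Finset.sum_comm,
      Finset.sum_congr rfl fun x _ => h1 x, Finset.sum_const, Finset.card_univ,
      ← Nat.card_eq_fintype_card, nsmul_eq_mul]
  have hz : ∀ a b : G, a * a = 1 → b * b = 1 → a ∉ H ∨ b ∉ H → F (a * b) = 0 := by
    intro a b ha hb hor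
    by_contra hne
    rcases hor with h | h
    · exact h (C.invol_factors ha hb hne).1
    · exact h (C.invol_factors ha hb hne).2
  have h3 : ∑ g : G, ∑ g' : G, F (g * A * g⁻¹ * (g' * B * g'⁻¹)) = (C.cc v : ℂ) *
      ∑ a : W, if c a then ∑ g' : G, F (C.e.symm a * (g' * B * g'⁻¹)) else 0 :=
    C.sum_class hc (fun t => ∑ g' : G, F (t * (g' * B * g'⁻¹))) fun g hg =>
      Finset.sum_eq_zero fun g' _ => hz _ _ (hconj g A hA) (hconj g' B hB) (Or.inl hg)
  have h4 : ∀ a : W, c a = true → ∑ g' : G, F (C.e.symm a * (g' * B * g'⁻¹)) =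
      (C.cc v' : ℂ) * ∑ b : W, if c' b then psiC i (a * b) else 0 := by
    intro a ha
    obtain ⟨d, hd⟩ := hc.surj a ha
    have haa : (C.e.symm a : G) * C.e.symm a = 1 := by
      rw [← Subgroup.coe_mul, ← map_mul, ← hd,
        show d * v * d⁻¹ * (d * v * d⁻¹) = d * (v * v) * d⁻¹ by group, hc.sq]
      simp
    rw [C.sum_class hc' (fun t => F (C.e.symm a * t)) fun g hg =>
      hz _ _ haa (hconj g B hB) (Or.inr hg)]
    refine congrArg _ (Finset.sum_congr rfl fun b _ => ?_)
    by_cases hb : c' b = true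
    · rw [if_pos hb, if_pos hb, ← Subgroup.coe_mul, hF, extendByZero_apply, phi, ← map_mul,
        C.e.apply_symm_apply]
    · rw [if_neg hb, if_neg hb]
  have h5 : (∑ a : W, if c a then ∑ g' : G, F (C.e.symm a * (g' * B * g'⁻¹)) else 0) =
      (C.cc v' : ℂ) *
        ∑ a : W, if c a then ∑ b : W, (if c' b then psiC i (a * b) else 0) else 0 := by
    rw [Finset.mul_sum]
    refine Finset.sum_congr rfl fun a _ => ?_
    by_cases ha : c a = true
    · rw [if_pos ha, if_pos ha, h4 a ha]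
    · rw [if_neg ha, if_neg ha, mul_zero]
  rw [h2, h3, h5]
  ring

theorem sum_pairs_eq {v v' : W} {c c' : W → Bool} (hc : C.Cls v c) (hc' : C.Cls v' c')
    {i : Fin 4} {R : ℤ} {n : ℕ} (hn : (Finset.univ.filter fun w : W => c w).card = n)
    (hR : (n : ℤ) * (∑ b : W, (if c' b then psiR i (v * b) else 0)) = R)
    (hS : (∑ b : W, (if c' b then psiS i (v * b) else 0)) = 0) :
    (∑ a : W, if c a then ∑ b : W, (if c' b then psiC i (a * b) else 0) else 0) = (R : ℂ) := by
  have hinv : ∀ d b : W, c' b = true → c' (d * b * d⁻¹) = true := by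
    intro d b hb
    obtain ⟨f, rfl⟩ := hc'.surj b hb
    rw [show d * (f * v' * f⁻¹) * d⁻¹ = d * f * v' * (d * f)⁻¹ by group]
    exact hc'.image _
  have hin : ∀ a : W, c a = true → (∑ b : W, (if c' b then psiC i (a * b) else 0)) =
      ∑ b : W, (if c' b then psiC i (v * b) else 0) := by
    intro a ha
    obtain ⟨d, rfl⟩ := hc.surj a ha
    symm
    refine Fintype.sum_equiv (MulAut.conj d).toEquiv _ _ fun b => ?_
    show (if c' b = true then psiC i (v * b) else 0) =
      if c' (d * b * d⁻¹) = true then psiC i (d * v * d⁻¹ * (d * b * d⁻¹)) else 0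
    by_cases hb : c' b = true
    · rw [if_pos hb, if_pos (hinv d b hb),
        show d * v * d⁻¹ * (d * b * d⁻¹) = d * (v * b) * d⁻¹ by group,
        IsGenChar.classFun (isGenChar_psiC i) (v * b) d]
    · rw [if_neg hb, if_neg]
      intro h
      exact hb (by simpa [mul_assoc] using hinv d⁻¹ _ h)
  have hval : (∑ b : W, (if c' b then psiC i (v * b) else 0)) =
      ((∑ b : W, (if c' b then psiR i (v * b) else 0) : ℤ) : ℂ) +
        ((∑ b : W, (if c' b then psiS i (v * b) else 0) : ℤ) : ℂ) * (Real.sqrt 3 : ℝ) := by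
    rw [Int.cast_sum, Int.cast_sum, Finset.sum_mul, ← Finset.sum_add_distrib]
    refine Finset.sum_congr rfl fun b _ => ?_
    cases c' b <;> simp [psiC]
  rw [← Finset.sum_filter, Finset.sum_congr rfl fun a ha => hin a (Finset.mem_filter.1 ha).2,
    Finset.sum_const, hn, nsmul_eq_mul, hval, hS, ← hR]
  simp

/-! ### the coefficient data -/

theorem exists_exponent : ∃ k : ℕ, k.Coprime (Nat.card G) ∧ k % 36 = 5 := by
  have hn : 0 < Nat.card G := Nat.card_pos
  haveI : NeZero (36 * Nat.card G) := ⟨by positivity⟩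
  obtain ⟨u, hu⟩ := ZMod.unitsMap_surjective (dvd_mul_right 36 (Nat.card G))
    (ZMod.unitOfCoprime 5 (by norm_num))
  refine ⟨(u : ZMod (36 * Nat.card G)).val,
    (ZMod.val_coe_unit_coprime u).coprime_dvd_right (dvd_mul_left _ _), ?_⟩
  have h := congrArg (fun t : (ZMod 36)ˣ => ((t : ZMod 36)).val) hu
  simp only [ZMod.unitsMap_def, Units.coe_map, ZMod.coe_unitOfCoprime, MonoidHom.coe_coe,
    ZMod.castHom_apply, ZMod.cast_eq_val, ZMod.val_natCast] at h
  simpa using h

theorem Phi_pow {k : ℕ} (hk : k.Coprime (Nat.card G)) (i : Fin 4) (g : G) :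
    C.Phi i (g ^ k) = indFun H (fun h => C.phi i (h ^ k)) g := by
  simp only [Phi, indFun]
  refine congrArg _ (Finset.sum_congr rfl fun x _ => ?_)
  have hp : x⁻¹ * g ^ k * x = (x⁻¹ * g * x) ^ k := by
    have h := map_pow (MulAut.conj x⁻¹) g k
    simpa [MulAut.conj_apply] using h
  by_cases hx : x⁻¹ * g * x ∈ H
  · rw [extendByZero_of_mem _ hx, extendByZero_of_mem _ (hp ▸ pow_mem hx k)]
    exact congrArg (C.phi i) (Subtype.ext (by simpa using hp))
  · rw [extendByZero_not_mem _ hx, extendByZero_not_mem]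
    rw [hp]
    intro hm
    obtain ⟨n, hn⟩ := exists_pow_eq_self_of_coprime
      (x := x⁻¹ * g * x) (n := k) (hk.coprime_dvd_right (orderOf_dvd_natCard _))
    exact hx (hn ▸ pow_mem hm n)

theorem psi_pow {k : ℕ} (hk : k % 36 = 5) (i : Fin 4) (w : W) :
    psiR i (w ^ k) = psiR i w ∧ psiS i (w ^ k) = -psiS i w := by
  have h : w ^ k = pow5 w := by
    rw [pow_eq_pow_mod k (pow36 w), hk, pow5]
    simp only [pow_succ, pow_zero, one_mul, mul_assoc]
  rw [h]
  exact psi_pow5 i w

theorem psiS_ne_zero {i : Fin 4} (hi : i ≠ 0) (w : W) : psiS i w = 0 := if_neg hi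

theorem Phi_pow_fix {k : ℕ} (hk : k.Coprime (Nat.card G)) (h36 : k % 36 = 5) {i : Fin 4}
    (hi : i ≠ 0) (g : G) : C.Phi i (g ^ k) = C.Phi i g := by
  rw [C.Phi_pow hk, Phi]
  congr 1
  funext h
  simp [phi, psiC, map_pow, (psi_pow h36 i _).1, psiS_ne_zero hi]

theorem inner_twist {k : ℕ} (hk : k.Coprime (Nat.card G)) (h36 : k % 36 = 5) :
    classInner (fun g => C.Phi 0 (g ^ k)) (C.Phi 0) = 2 := by
  classical
  haveI := Fintype.ofFinite H
  rw [show (fun g => C.Phi 0 (g ^ k)) = indFun H fun h => C.phi 0 (h ^ k) from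
    funext (C.Phi_pow hk 0)]
  rw [Phi, classInner_indFun H _ (indFun_classFun H _), classInner, C.card_H]
  have h : ∀ h : H, C.phi 0 (h ^ k) * conj (indFun H (C.phi 0) (h : G)) =
      (fun w : W => psiC 0 (w ^ k) * psiC 0 w) (C.e h) := by
    intro h
    by_cases h0 : C.phi 0 (h ^ k) = 0
    · have h0' : psiC 0 (C.e h ^ k) = 0 := by rw [← map_pow]; exact h0
      simp [h0, h0']
    obtain ⟨n, hn⟩ := C.phi_supp h0
    rw [show indFun H (C.phi 0) (h : G) = C.phi 0 h from
      C.Phi_res 0 h ⟨k * n, by rwa [pow_mul]⟩]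
    simp [phi, conj_psiC, map_pow]
  rw [Finset.sum_congr rfl fun x _ => h x, C.sum_H fun w : W => psiC 0 (w ^ k) * psiC 0 w]
  have h2 : ∀ w : W, psiC 0 (w ^ k) * psiC 0 w =
      ((psiR 0 w * psiR 0 w - 3 * (psiS 0 w * psiS 0 w) : ℤ) : ℂ) := by
    intro w
    rw [psiC_mul, (psi_pow h36 0 w).1, (psi_pow h36 0 w).2]
    push_cast
    ring
  rw [Finset.sum_congr rfl fun w _ => h2 w, ← Int.cast_sum, twist_eq]
  norm_num

/-- The coefficients of an induced function. -/
noncomputable def coef (i : Fin 4) : IrrCharacter G → ℤ :=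
  (IsGenChar.exists_decomp (C.Phi_gen i)).choose

theorem coef_inner (i : Fin 4) (χ : IrrCharacter G) :
    classInner (C.Phi i) (χ : G → ℂ) = C.coef i χ :=
  (IsGenChar.exists_decomp (C.Phi_gen i)).choose_spec.1 χ

theorem coef_apply (i : Fin 4) (g : G) :
    C.Phi i g = ∑ χ : IrrCharacter G, (C.coef i χ : ℂ) * (χ : G → ℂ) g :=
  (congrFun (IsGenChar.exists_decomp (C.Phi_gen i)).choose_spec.2 g).trans (sum_irr_apply _ g)

theorem coef_mul (i j : Fin 4) :
    ∑ χ : IrrCharacter G, C.coef i χ * C.coef j χ = gram i j := by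
  have h := C.inner_Phi i j
  rw [(IsGenChar.exists_decomp (C.Phi_gen i)).choose_spec.2,
    (IsGenChar.exists_decomp (C.Phi_gen j)).choose_spec.2, classInner_sum_sum] at h
  have h2 : ((∑ χ : IrrCharacter G, C.coef i χ * C.coef j χ : ℤ) : ℂ) = (gram i j : ℂ) := by
    rw [← h]; simp [coef]
  exact_mod_cast h2

theorem coef_one (i : Fin 4) : C.coef i (Block.trivialIrr G) = triv i := by
  have h := C.coef_inner i (Block.trivialIrr G)
  rw [show (Block.trivialIrr G : G → ℂ) = fun _ => 1 from rfl, C.inner_Phi_one] at h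
  exact_mod_cast h.symm

/-- Composition with a power map. -/
def twistIrr {k : ℕ} (hk : k.Coprime (Nat.card G)) (χ : IrrCharacter G) : IrrCharacter G :=
  ⟨fun g => (χ : G → ℂ) (g ^ k), IsIrr.pow_map χ.2 hk⟩

theorem twistIrr_injective {k : ℕ} (hk : k.Coprime (Nat.card G)) :
    Function.Injective (twistIrr hk) := by
  intro χ ψ h
  refine Subtype.ext (funext fun g => ?_)
  obtain ⟨y, rfl⟩ : ∃ y, y ^ k = g := ((powCoprime hk.symm).surjective g)
  exact congrFun (congrArg Subtype.val h) y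

theorem coef_twist {k : ℕ} (hk : k.Coprime (Nat.card G)) (i : Fin 4) (χ : IrrCharacter G) :
    classInner (fun g => C.Phi i (g ^ k)) (twistIrr hk χ : G → ℂ) = C.coef i χ := by
  rw [← C.coef_inner i χ, classInner, classInner]
  congr 1
  exact Fintype.sum_equiv (powCoprime hk.symm) _ _ fun g => rfl

theorem coef_twist_fix {k : ℕ} (hk : k.Coprime (Nat.card G)) (h36 : k % 36 = 5) {i : Fin 4}
    (hi : i ≠ 0) (χ : IrrCharacter G) : C.coef i (twistIrr hk χ) = C.coef i χ := by
  have h := C.coef_twist hk i χ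
  rw [show (fun g => C.Phi i (g ^ k)) = C.Phi i from funext (C.Phi_pow_fix hk h36 hi),
    C.coef_inner] at h
  exact_mod_cast h

theorem coef_twist_zero {k : ℕ} (hk : k.Coprime (Nat.card G)) (h36 : k % 36 = 5) :
    ∑ χ : IrrCharacter G, C.coef 0 (twistIrr hk χ) * C.coef 0 χ = 2 := by
  have h1 : (fun g => C.Phi 0 (g ^ k)) =
      ∑ χ : IrrCharacter G, (C.coef 0 χ : ℂ) • (twistIrr hk χ : G → ℂ) := by
    funext g
    rw [C.coef_apply, Finset.sum_apply]
    rfl
  have h := C.inner_twist hk h36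
  have h2 : classInner (fun g => C.Phi 0 (g ^ k)) (C.Phi 0) =
      ∑ χ : IrrCharacter G, (C.coef 0 χ : ℂ) * C.coef 0 (twistIrr hk χ) := by
    rw [h1]
    simp only [classInner, Finset.sum_apply, Pi.smul_apply, smul_eq_mul, Finset.sum_mul,
      mul_assoc]
    rw [Finset.sum_comm, Finset.mul_sum]
    refine Finset.sum_congr rfl fun χ _ => ?_
    rw [← Finset.mul_sum, mul_left_comm, ← classInner, ← classInner_conj_symm, C.coef_inner,
      map_intCast]
  rw [h2] at h
  have h3 : ((∑ χ : IrrCharacter G, C.coef 0 (twistIrr hk χ) * C.coef 0 χ : ℤ) : ℂ) = 2 := by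
    rw [← h]
    push_cast
    exact Finset.sum_congr rfl fun χ _ => mul_comm _ _
  exact_mod_cast h3

/-- The degree as a natural number. -/
noncomputable def degN (χ : IrrCharacter G) : ℕ := ⌊((χ : G → ℂ) 1).re⌋₊

theorem degN_spec (χ : IrrCharacter G) : (χ : G → ℂ) 1 = (degN χ : ℂ) :=
  IsChar.degree_spec (IsIrr.isCharacter χ.2)

theorem degN_pos (χ : IrrCharacter G) : 0 < degN χ :=
  Nat.pos_of_ne_zero fun h => IsIrr.one_ne_zero χ.2 (by rw [degN_spec, h, Nat.cast_zero])

theorem real_invol (χ : IrrCharacter G) {g : G} (hg : g * g = 1) :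
    (χ : G → ℂ) g = ((((χ : G → ℂ) g).re : ℝ) : ℂ) := by
  obtain ⟨n, ρ, hρ⟩ := IsIrr.isCharacter χ.2
  rw [← hρ]
  refine (Complex.conj_eq_iff_re.1 ?_).symm
  rw [← character_inv, inv_eq_of_mul_eq_one_right hg]

theorem not_linear (χ : IrrCharacter G) (hne : C.coef 0 χ ≠ 0) : degN χ ≠ 1 := by
  classical
  intro h1
  haveI := Fintype.ofFinite H
  obtain ⟨l, hl⟩ := linearHom_of_isCharacter (IsIrr.isCharacter χ.2)
    (by rw [degN_spec, h1, Nat.cast_one])
  refine hne ?_
  have h := C.coef_inner 0 χ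
  rw [Phi, classInner_indFun H _ (IsIrr.classFun χ.2), classInner] at h
  have h2 : ∑ x : H, C.phi 0 x * conj ((χ : G → ℂ) x) =
      ∑ x : H, (fun w => psiC 0 w *
        conj (((l.comp (H.subtype.comp C.e.symm.toMonoidHom)) w : ℂˣ) : ℂ)) (C.e x) := by
    refine Finset.sum_congr rfl fun x _ => ?_
    simp [phi, hl]
  rw [h2, C.sum_H fun w => psiC 0 w *
    conj (((l.comp (H.subtype.comp C.e.symm.toMonoidHom)) w : ℂˣ) : ℂ), sum_psi_zero,
    mul_zero] at h
  exact_mod_cast h.symm

/-- The scaled value at an involution. -/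
noncomputable def xv (v : W) (χ : IrrCharacter G) : ℝ :=
  Real.sqrt (Nat.card G / 3 : ℝ) / (C.cc v) * (((χ : G → ℂ) (C.e.symm v)).re / degN χ)

theorem moment_zero (i : Fin 4) : ∑ χ : IrrCharacter G, (C.coef i χ : ℝ) * degN χ = 0 := by
  have h := C.coef_apply i 1
  rw [C.Phi_invol i (one_mul 1)] at h
  have h2 : ((∑ χ : IrrCharacter G, (C.coef i χ : ℝ) * degN χ : ℝ) : ℂ) = 0 := by
    rw [h]
    push_cast
    exact Finset.sum_congr rfl fun χ _ => by rw [degN_spec]
  exact_mod_cast h2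

theorem moment_one {v : W} (hv : v * v = 1) (i : Fin 4) :
    ∑ χ : IrrCharacter G, (C.coef i χ : ℝ) * degN χ * C.xv v χ = 0 := by
  have hg : (C.e.symm v : G) * C.e.symm v = 1 := by
    rw [← Subgroup.coe_mul, ← map_mul, hv, map_one, Subgroup.coe_one]
  have h := C.coef_apply i (C.e.symm v : G)
  rw [C.Phi_invol i hg, Finset.sum_congr rfl fun χ _ => by rw [real_invol χ hg]] at h
  have h2 : ∑ χ : IrrCharacter G, (C.coef i χ : ℝ) * ((χ : G → ℂ) (C.e.symm v)).re = 0 := by
    exact_mod_cast h.symm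
  calc ∑ χ : IrrCharacter G, (C.coef i χ : ℝ) * degN χ * C.xv v χ =
      Real.sqrt (Nat.card G / 3 : ℝ) / (C.cc v) *
        ∑ χ : IrrCharacter G, (C.coef i χ : ℝ) * ((χ : G → ℂ) (C.e.symm v)).re := by
        rw [Finset.mul_sum]
        refine Finset.sum_congr rfl fun χ _ => ?_
        have : (degN χ : ℝ) ≠ 0 := Nat.cast_ne_zero.2 (degN_pos χ).ne'
        rw [xv]
        field_simp
    _ = 0 := by rw [h2, mul_zero]

theorem moment_two {v v' : W} {c c' : W → Bool} (hc : C.Cls v c) (hc' : C.Cls v' c')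
    (i : Fin 4) {R : ℤ}
    {n : ℕ} (hn : (Finset.univ.filter fun w : W => c w).card = n)
    (hR : (n : ℤ) * (∑ b : W, (if c' b then psiR i (v * b) else 0)) = R)
    (hS : (∑ b : W, (if c' b then psiS i (v * b) else 0)) = 0) :
    ∑ χ : IrrCharacter G, (C.coef i χ : ℝ) * degN χ * (C.xv v χ * C.xv v' χ) = R / 1944 := by
  classical
  have hA : (C.e.symm v : G) * C.e.symm v = 1 := by
    rw [← Subgroup.coe_mul, ← map_mul, hc.sq, map_one, Subgroup.coe_one]
  have hB : (C.e.symm v' : G) * C.e.symm v' = 1 := by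
    rw [← Subgroup.coe_mul, ← map_mul, hc'.sq, map_one, Subgroup.coe_one]
  have h := C.sum_Phi_pairs hc hc' i
  rw [C.sum_pairs_eq hc hc' hn hR hS] at h
  have hG : (Nat.card G : ℂ) ≠ 0 := Nat.cast_ne_zero.2 Nat.card_pos.ne'
  have hS' : ∀ χ : IrrCharacter G, ∑ g : G, ∑ g' : G,
      (χ : G → ℂ) (g * C.e.symm v * g⁻¹ * (g' * C.e.symm v' * g'⁻¹)) =
      (Nat.card G : ℂ) * (Nat.card G : ℂ) *
        ((χ : G → ℂ) (C.e.symm v) * (χ : G → ℂ) (C.e.symm v') / (χ : G → ℂ) 1) := by
    intro χ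
    rw [Finset.sum_comm]
    simp only [sum_conj_apply χ.2, IsIrr.classFun χ.2 _ _, Finset.sum_const, Finset.card_univ,
      ← Nat.card_eq_fintype_card, nsmul_eq_mul]
    ring
  simp only [C.coef_apply] at h
  rw [Finset.sum_congr rfl fun g _ => Finset.sum_comm, Finset.sum_comm] at h
  simp only [← Finset.mul_sum, hS'] at h
  have h2 : (Nat.card G : ℂ) * ((∑ χ : IrrCharacter G, (C.coef i χ : ℝ) *
      (((χ : G → ℂ) (C.e.symm v)).re * ((χ : G → ℂ) (C.e.symm v')).re / degN χ) : ℝ) : ℂ) =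
      (C.cc v : ℂ) * C.cc v' * R / 648 := by
    refine mul_left_cancel₀ hG ?_
    push_cast
    rw [show (Nat.card G : ℂ) * ((C.cc v : ℂ) * C.cc v' * R / 648) =
      (Nat.card G : ℂ) / 648 * ((C.cc v : ℂ) * C.cc v') * (R : ℂ) by ring, ← h, Finset.mul_sum,
      Finset.mul_sum]
    refine Finset.sum_congr rfl fun χ _ => ?_
    rw [← real_invol χ hA, ← real_invol χ hB, ← degN_spec]
    ring
  have h3 : (Nat.card G : ℝ) * (∑ χ : IrrCharacter G, (C.coef i χ : ℝ) *
      (((χ : G → ℂ) (C.e.symm v)).re * ((χ : G → ℂ) (C.e.symm v')).re / degN χ)) =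
      (C.cc v : ℝ) * C.cc v' * R / 648 :=
    Complex.ofReal_injective (by
      simp only [Complex.ofReal_mul, Complex.ofReal_div, Complex.ofReal_natCast,
        Complex.ofReal_intCast, Complex.ofReal_ofNat]
      exact h2)
  have hG' : (Nat.card G : ℝ) ≠ 0 := Nat.cast_ne_zero.2 Nat.card_pos.ne'
  have hv0 : (C.cc v : ℝ) ≠ 0 := Nat.cast_ne_zero.2 (C.cc_pos v).ne'
  have hv0' : (C.cc v' : ℝ) ≠ 0 := Nat.cast_ne_zero.2 (C.cc_pos v').ne'
  have hsq : Real.sqrt (Nat.card G / 3 : ℝ) ^ 2 = (Nat.card G : ℝ) / 3 :=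
    Real.sq_sqrt (by positivity)
  calc ∑ χ : IrrCharacter G, (C.coef i χ : ℝ) * degN χ * (C.xv v χ * C.xv v' χ) =
      Real.sqrt (Nat.card G / 3 : ℝ) ^ 2 / (C.cc v * C.cc v') *
        ∑ χ : IrrCharacter G, (C.coef i χ : ℝ) *
          (((χ : G → ℂ) (C.e.symm v)).re * ((χ : G → ℂ) (C.e.symm v')).re / degN χ) := by
        rw [Finset.mul_sum]
        refine Finset.sum_congr rfl fun χ _ => ?_
        have : (degN χ : ℝ) ≠ 0 := Nat.cast_ne_zero.2 (degN_pos χ).ne'
        rw [xv, xv]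
        field_simp
    _ = R / 1944 := by
        rw [hsq]
        field_simp at h3 ⊢
        linarith

/-- Some character of degree two has the first involution in its kernel. -/
theorem exists_degree_two : ∃ χ : IrrCharacter G, (χ : G → ℂ) 1 = 2 ∧
    (C.e.symm gV : G) ∈ charKer (IsIrr.isCharacter χ.2) := by
  obtain ⟨k, hk, h36⟩ := exists_exponent (G := G)
  have hodd : Odd k := Nat.odd_iff.2 (by omega)
  have hfix : ∀ v : W, v * v = 1 → ∀ χ : IrrCharacter G,
      C.xv v (twistIrr hk χ) = C.xv v χ := by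
    intro v hv χ
    obtain ⟨m, rfl⟩ := hodd
    have hg : (C.e.symm v : G) ^ (2 * m + 1) = C.e.symm v := by
      rw [pow_succ, pow_mul, sq, ← Subgroup.coe_mul, ← map_mul, hv, map_one, Subgroup.coe_one,
        one_pow, one_mul]
    simp only [xv, degN, twistIrr, one_pow, hg]
  have hdata : Coef.Data (Block.trivialIrr G) (twistIrr hk) (C.coef 0) (C.coef 1) (C.coef 2)
      (C.coef 3) degN (C.xv gV) (C.xv gT) := by
    refine {
      n11 := C.coef_mul 0 0, n33 := C.coef_mul 1 1, n44 := C.coef_mul 2 2, n22 := C.coef_mul 3 3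
      n13 := C.coef_mul 0 1, n14 := C.coef_mul 0 2, n12 := C.coef_mul 0 3, n34 := C.coef_mul 1 2
      n32 := C.coef_mul 1 3, n42 := C.coef_mul 2 3
      one1 := C.coef_one 0, one3 := C.coef_one 1, one4 := C.coef_one 2, one2 := C.coef_one 3
      pi_one := Subtype.ext rfl
      pi_inj := twistIrr_injective hk
      pi3 := C.coef_twist_fix hk h36 (by decide)
      pi4 := C.coef_twist_fix hk h36 (by decide)
      pi2 := C.coef_twist_fix hk h36 (by decide)
      twist := C.coef_twist_zero hk h36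
      deg_pos := degN_pos
      deg_one := by simp [degN, Block.trivialIrr]
      deg_pi := fun χ => by simp [degN, twistIrr]
      x_pi := hfix gV cV_gV.2.2.1
      y_pi := hfix gT gens_comm.2.2.2
      not_linear := C.not_linear
      d1 := C.moment_zero 0, d3 := C.moment_zero 1, d4 := C.moment_zero 2, d2 := C.moment_zero 3
      x1 := C.moment_one cV_gV.2.2.1 0, x3 := C.moment_one cV_gV.2.2.1 1
      x4 := C.moment_one cV_gV.2.2.1 2, x2 := C.moment_one cV_gV.2.2.1 3
      y1 := C.moment_one gens_comm.2.2.2 0, y3 := C.moment_one gens_comm.2.2.2 1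
      y4 := C.moment_one gens_comm.2.2.2 2, y2 := C.moment_one gens_comm.2.2.2 3
      xx1 := ?_, xx3 := ?_, xx4 := ?_, xx2 := ?_
      xy3 := ?_, xy4 := ?_, xy2 := ?_
      yy1 := ?_, yy3 := ?_, yy4 := ?_, yy2 := ?_ }
    · rw [C.moment_two C.clsV C.clsV 0 card_cV (vv_eq 0).1 (vv_eq 0).2];
      rw [show sumVV 0 = 0 from rfl]; norm_num
    · rw [C.moment_two C.clsV C.clsV 1 card_cV (vv_eq 1).1 (vv_eq 1).2];
      rw [show sumVV 1 = 1944 from rfl]; norm_num
    · rw [C.moment_two C.clsV C.clsV 2 card_cV (vv_eq 2).1 (vv_eq 2).2];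
      rw [show sumVV 2 = 1944 from rfl]; norm_num
    · rw [C.moment_two C.clsV C.clsV 3 card_cV (vv_eq 3).1 (vv_eq 3).2];
      rw [show sumVV 3 = 2916 from rfl]; norm_num
    · rw [C.moment_two C.clsV C.clsT 1 card_cV (vt_eq 1).1 (vt_eq 1).2];
      rw [show sumVT 1 = 0 from rfl]; norm_num
    · rw [C.moment_two C.clsV C.clsT 2 card_cV (vt_eq 2).1 (vt_eq 2).2];
      rw [show sumVT 2 = 1944 from rfl]; norm_num
    · rw [C.moment_two C.clsV C.clsT 3 card_cV (vt_eq 3).1 (vt_eq 3).2];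
      rw [show sumVT 3 = 972 from rfl]; norm_num
    · rw [C.moment_two C.clsT C.clsT 0 card_cT (tt_eq 0).1 (tt_eq 0).2];
      rw [show sumTT 0 = 1944 from rfl]; norm_num
    · rw [C.moment_two C.clsT C.clsT 1 card_cT (tt_eq 1).1 (tt_eq 1).2];
      rw [show sumTT 1 = 1944 from rfl]; norm_num
    · rw [C.moment_two C.clsT C.clsT 2 card_cT (tt_eq 2).1 (tt_eq 2).2];
      rw [show sumTT 2 = 3888 from rfl]; norm_num
    · rw [C.moment_two C.clsT C.clsT 3 card_cT (tt_eq 3).1 (tt_eq 3).2];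
      rw [show sumTT 3 = 4860 from rfl]; norm_num
  obtain ⟨χ, -, hd, hx⟩ := hdata.exists_kernel
  have h1 : (χ : G → ℂ) 1 = 2 := by rw [degN_spec, hd]; norm_num
  refine ⟨χ, h1, (mem_charKer _).2 ?_⟩
  have hs : Real.sqrt (Nat.card G / 3 : ℝ) / (C.cc gV) ≠ 0 :=
    div_ne_zero (Real.sqrt_ne_zero'.2 (by
      have : (0 : ℝ) < Nat.card G := Nat.cast_pos.2 Nat.card_pos
      positivity)) (Nat.cast_ne_zero.2 (C.cc_pos gV).ne')
  have h2 := mul_left_cancel₀ hs hx
  rw [hd, hdata.deg_one, show (Block.trivialIrr G : G → ℂ) (C.e.symm gV : G) = 1 from rfl,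
    Complex.one_re, Nat.cast_one, div_one, Nat.cast_ofNat] at h2
  have h3 : ((χ : G → ℂ) (C.e.symm gV : G)).re = 2 := by linarith
  rw [h1, real_invol χ C.V_sq, h3]
  norm_num

end Ctx

end Cfsg.Agent.Recog.MonoCube
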