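import Cfsg.Agent.Lib.Recog.MonoCubeModel

/-!
Four virtual characters of `3³:S₄` vanishing outside the elements with a power in `3³ ∖ 1`, and the
finite facts about them.
-/

namespace Cfsg.Agent.Recog.MonoCube

namespace W

def inJ (w : W) : Bool := decide (w.p = 0) && decide (w.e = 0)

def good (w : W) : Bool := inJ w && !decide (w = 1)

/-- Some small power is a non-trivial element of `3³`. -/
def supp (w : W) : Bool :=
  good w || good (w * w) || good (w * w * w) || good (w * w * (w * w))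

def cV (w : W) : Bool := decide (w.p = 0) && decide (w * w = 1) && !decide (w = 1)

def cT (w : W) : Bool := odd w.p && decide (w * w = 1)

def pow5 (w : W) : W := w * w * (w * w) * w

def cZ : W := ⟨0, 0, 0, 0, 1⟩
def cW : W := ⟨0, 0, 1, 1, 0⟩

def wt (w : W) : ℕ :=
  (if w.x = 0 then 0 else 1) + (if w.y = 0 then 0 else 1) + (if w.z = 0 then 0 else 1)

/-- The three monomial subgroups: `0` and `2` for weight one, `1` for weight three, `3` for weight two. -/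
def mem (i : Fin 4) (w : W) : Bool :=
  if i = 0 ∨ i = 2 then (decide (w.p = 0) || decide (w.p = 5)) && !neg w.p w.e 0
  else if i = 1 then decide (w.e = 0) && !odd w.p
  else decide (w.e = 0) && (decide (w.p = 0) || decide (w.p = 3))

/-- The exponent of the first linear character. -/
def muExp (i : Fin 4) (w : W) : Fin 12 :=
  if i = 0 then (if w.p = 0 then (if w.e = 0 then 0 else 6) else (if w.e = 0 then 3 else 9))
  else if i = 1 then (if w.p = 0 then 0 else if w.p = 1 then 4 else 8)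
  else 0

def lamExp (i : Fin 4) (w : W) : Fin 12 :=
  let s : Fin 3 := if i = 0 ∨ i = 2 then w.x else if i = 1 then w.x + w.y + w.z else w.x + w.y
  if s = 0 then 0 else if s = 1 then 4 else 8

def nuExp (i : Fin 4) (w : W) : Fin 12 := muExp i w + lamExp i w

/-- Coset representatives. -/
def trans (i : Fin 4) : List W :=
  if i = 0 ∨ i = 2 then
    [⟨0, 0, 0, 0, 0⟩, ⟨1, 0, 0, 0, 0⟩, ⟨2, 0, 0, 0, 0⟩, ⟨0, 1, 0, 0, 0⟩, ⟨1, 1, 0, 0, 0⟩,
      ⟨2, 2, 0, 0, 0⟩]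
  else if i = 1 then
    [⟨0, 0, 0, 0, 0⟩, ⟨0, 1, 0, 0, 0⟩, ⟨0, 2, 0, 0, 0⟩, ⟨0, 3, 0, 0, 0⟩, ⟨3, 0, 0, 0, 0⟩,
      ⟨3, 1, 0, 0, 0⟩, ⟨3, 2, 0, 0, 0⟩, ⟨3, 3, 0, 0, 0⟩]
  else
    [⟨0, 0, 0, 0, 0⟩, ⟨0, 1, 0, 0, 0⟩, ⟨0, 2, 0, 0, 0⟩, ⟨0, 3, 0, 0, 0⟩, ⟨1, 0, 0, 0, 0⟩,
      ⟨1, 1, 0, 0, 0⟩, ⟨1, 2, 0, 0, 0⟩, ⟨1, 3, 0, 0, 0⟩, ⟨2, 0, 0, 0, 0⟩, ⟨2, 1, 0, 0, 0⟩,
      ⟨2, 2, 0, 0, 0⟩, ⟨2, 3, 0, 0, 0⟩]

/-- Coordinates of a twelfth root of unity with respect to `1, ζ, ζ², ζ³`. -/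
def pw (n : Fin 12) : ℤ × ℤ × ℤ × ℤ :=
  (![(1, 0, 0, 0), (0, 1, 0, 0), (0, 0, 1, 0), (0, 0, 0, 1), (-1, 0, 1, 0), (0, -1, 0, 1),
    (-1, 0, 0, 0), (0, -1, 0, 0), (0, 0, -1, 0), (0, 0, 0, -1), (1, 0, -1, 0), (0, 1, 0, -1)] :
      Fin 12 → ℤ × ℤ × ℤ × ℤ) n

def term (i : Fin 4) (w : W) : ℤ × ℤ × ℤ × ℤ :=
  if mem i w then pw (muExp i w) - pw (nuExp i w) else 0

def indCoef (i : Fin 4) (w : W) : ℤ × ℤ × ℤ × ℤ :=
  ((trans i).map fun t => term i (t * w * t⁻¹)).sum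

/-- The block fixed by an odd block permutation. -/
def fixBlk (p : Fin 6) : Fin 3 := if p = 3 then 2 else if p = 4 then 1 else 0

/-- The rational part. -/
def psiR (i : Fin 4) (w : W) : ℤ :=
  if inJ w then
    (![![0, 3, 6, 9], ![0, 12, 6, 9], ![0, 3, 6, 9], ![0, 12, 15, 9]] : Fin 4 → Fin 4 → ℤ) i
      (if w.x = 0 then (if w.y = 0 then (if w.z = 0 then 0 else 1) else if w.z = 0 then 1 else 2)
        else if w.y = 0 then (if w.z = 0 then 1 else 2) else if w.z = 0 then 2 else 3)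
  else if w.p = 0 then (if w * w = 1 then 0 else (![-3, 0, 3, 0] : Fin 4 → ℤ) i)
  else if odd w.p then
    (if inJ (w * w) then (if w * w = 1 then 0 else (![0, 0, 0, 3] : Fin 4 → ℤ) i)
      else (if w * w * (w * w) = 1 then 0 else (![0, 0, 3, 0] : Fin 4 → ℤ) i))
  else
    let c := w * w * w
    if c = 1 then 0 else
      if decide (c.x * c.y * c.z = 1) == decide (w.p = 1) then 0
      else (![0, -3, 0, 0] : Fin 4 → ℤ) i

/-- The coefficient of `√3`. -/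
def psiS (i : Fin 4) (w : W) : ℤ :=
  if i = 0 then
    if odd w.p && !inJ (w * w) then
      let c := (w * w * (w * w)).sh (fixBlk w.p)
      if c = 0 then 0
      else if decide (c = 1) == neg w.p w.e (fixBlk w.p + 1) then -1 else 1
    else 0
  else 0

set_option maxRecDepth 100000

theorem mem_one : ∀ i, mem i 1 = true := by decide

/-- The shift coordinate read by the second character. -/
def lamS (i : Fin 4) (w : W) : Fin 3 :=
  if i = 0 ∨ i = 2 then w.x else if i = 1 then w.x + w.y + w.z else w.x + w.y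

def third (s : Fin 3) : Fin 12 := if s = 0 then 0 else if s = 1 then 4 else 8

theorem third_add : ∀ s t, third (s + t) = third s + third t := by decide

theorem top_mul : ∀ i p e q f, mem i ⟨p, e, 0, 0, 0⟩ = true → mem i ⟨q, f, 0, 0, 0⟩ = true →
    mem i ((⟨p, e, 0, 0, 0⟩ : W) * ⟨q, f, 0, 0, 0⟩) = true ∧
      muExp i ((⟨p, e, 0, 0, 0⟩ : W) * ⟨q, f, 0, 0, 0⟩) =
        muExp i ⟨p, e, 0, 0, 0⟩ + muExp i ⟨q, f, 0, 0, 0⟩ := by
  decide +kernel

theorem top_shift : ∀ i p e, mem i ⟨p, e, 0, 0, 0⟩ = true → ∀ x y z,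
    lamS i ((⟨p, e, 0, 0, 0⟩ : W) * ⟨0, 0, x, y, z⟩) = lamS i ⟨0, 0, x, y, z⟩ := by
  decide +kernel

theorem lamS_mul (i : Fin 4) (a b : W) : lamS i (a * b) =
    lamS i a + lamS i ((⟨a.p, a.e, 0, 0, 0⟩ : W) * ⟨0, 0, b.x, b.y, b.z⟩) := by
  show lamS i ⟨pm a.p b.p, em a.p a.e b.p b.e, shMul a b 0, shMul a b 1, shMul a b 2⟩ =
    lamS i a + lamS i ⟨pm a.p 0, em a.p a.e 0 0, shMul ⟨a.p, a.e, 0, 0, 0⟩ ⟨0, 0, b.x, b.y, b.z⟩ 0,
      shMul ⟨a.p, a.e, 0, 0, 0⟩ ⟨0, 0, b.x, b.y, b.z⟩ 1,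
      shMul ⟨a.p, a.e, 0, 0, 0⟩ ⟨0, 0, b.x, b.y, b.z⟩ 2⟩
  simp only [lamS, shMul, sh, if_true, if_neg (show ¬ (1 : Fin 3) = 0 by decide),
    if_neg (show ¬ (2 : Fin 3) = 0 by decide), if_neg (show ¬ (2 : Fin 3) = 1 by decide), zero_add]
  split_ifs <;> abel

theorem mem_mul (i : Fin 4) (a : W) (ha : mem i a = true) (b : W) (hb : mem i b = true) :
    mem i (a * b) = true ∧ muExp i (a * b) = muExp i a + muExp i b ∧
      lamExp i (a * b) = lamExp i a + lamExp i b := by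
  obtain ⟨h1, h2⟩ := top_mul i a.p a.e b.p b.e ha hb
  refine ⟨h1, h2, ?_⟩
  show third (lamS i (a * b)) = third (lamS i a) + third (lamS i b)
  rw [lamS_mul, top_shift i a.p a.e ha, third_add]
  rfl

theorem trans_unique_top : ∀ i p e,
    ((trans i).filter fun t => mem i ((⟨p, e, 0, 0, 0⟩ : W) * t⁻¹)).length = 1 := by
  decide +kernel

theorem trans_unique (i : Fin 4) (w : W) :
    ((trans i).filter fun t => mem i (w * t⁻¹)).length = 1 := trans_unique_top i w.p w.e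

theorem indCoef_eq : ∀ i, ∀ w : W,
    indCoef i w = (psiR i w, 2 * psiS i w, 0, -psiS i w) := by
  decide +kernel

theorem psi_supp : ∀ i, ∀ w : W, supp w = false → psiR i w = 0 ∧ psiS i w = 0 := by
  decide +kernel

theorem psi_pow5 : ∀ i, ∀ w : W, psiR i (pow5 w) = psiR i w ∧ psiS i (pow5 w) = -psiS i w := by
  decide +kernel

def gram (i j : Fin 4) : ℤ :=
  (![![3, 2, 1, 3], ![2, 4, 2, 4], ![1, 2, 4, 3], ![3, 4, 3, 8]] : Fin 4 → Fin 4 → ℤ) i j

theorem gram_eq : ∀ i j,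
    (∑ w : W, (psiR i w * psiR j w + 3 * (psiS i w * psiS j w))) = 648 * gram i j ∧
      (∑ w : W, (psiR i w * psiS j w + psiS i w * psiR j w)) = 0 := by
  decide +kernel

theorem twist_eq : (∑ w : W, (psiR 0 w * psiR 0 w - 3 * (psiS 0 w * psiS 0 w))) = 648 * 2 := by
  decide +kernel

def triv (i : Fin 4) : ℤ := (![0, 0, 1, 1] : Fin 4 → ℤ) i

theorem triv_eq : ∀ i, (∑ w : W, psiR i w) = 648 * triv i ∧ (∑ w : W, psiS i w) = 0 := by
  decide +kernel

theorem sgn_eq : (∑ w : W, if odd w.p then -psiR 0 w else psiR 0 w) = 0 ∧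
    (∑ w : W, if odd w.p then -psiS 0 w else psiS 0 w) = 0 := by
  decide +kernel

def sumVV (i : Fin 4) : ℤ := (![0, 1944, 1944, 2916] : Fin 4 → ℤ) i
def sumVT (i : Fin 4) : ℤ := (![0, 0, 1944, 972] : Fin 4 → ℤ) i
def sumTT (i : Fin 4) : ℤ := (![1944, 1944, 3888, 4860] : Fin 4 → ℤ) i

theorem card_cV : (Finset.univ.filter fun w : W => cV w).card = 27 := by decide +kernel
theorem card_cT : (Finset.univ.filter fun w : W => cT w).card = 54 := by decide +kernel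

theorem vv_eq : ∀ i, 27 * (∑ b : W, (if cV b then psiR i (gV * b) else 0)) = sumVV i ∧
    (∑ b : W, (if cV b then psiS i (gV * b) else 0)) = 0 := by
  decide +kernel

theorem vt_eq : ∀ i, 27 * (∑ b : W, (if cT b then psiR i (gV * b) else 0)) = sumVT i ∧
    (∑ b : W, (if cT b then psiS i (gV * b) else 0)) = 0 := by
  decide +kernel

theorem tt_eq : ∀ i, 54 * (∑ b : W, (if cT b then psiR i (gT * b) else 0)) = sumTT i ∧
    (∑ b : W, (if cT b then psiS i (gT * b) else 0)) = 0 := by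
  decide +kernel

theorem cV_conj : ∀ w : W, cV w = true → ∃ c : W, c * gV * c⁻¹ = w := by decide +kernel
theorem cT_conj : ∀ w : W, cT w = true → ∃ c : W, c * gT * c⁻¹ = w := by decide +kernel
theorem conj_invol {v : W} (hv : v * v = 1) (c : W) : c * v * c⁻¹ * (c * v * c⁻¹) = 1 :=
  calc c * v * c⁻¹ * (c * v * c⁻¹) = c * (v * v) * c⁻¹ := by group
    _ = 1 := by rw [hv]; group

theorem top_conj : ∀ p : Fin 6, pm (pm p 0) (pinv p) = 0 ∧ odd (pm (pm p 3) (pinv p)) = true := by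
  decide

theorem gens_invol : gV * gV = 1 ∧ gT * gT = 1 ∧ gV ≠ 1 := by decide +kernel

theorem conj_cV (c : W) : cV (c * gV * c⁻¹) = true := by
  simp only [cV, Bool.and_eq_true, decide_eq_true_eq, Bool.not_eq_true', decide_eq_false_iff_not]
  exact ⟨⟨(top_conj c.p).1, conj_invol gens_invol.1 c⟩,
    fun h => gens_invol.2.2 (conj_eq_one_iff.1 h)⟩

theorem conj_cT (c : W) : cT (c * gT * c⁻¹) = true := by
  simp only [cT, Bool.and_eq_true, decide_eq_true_eq]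
  exact ⟨(top_conj c.p).2, conj_invol gens_invol.2.1 c⟩

theorem invol_cases : ∀ w : W, w * w = 1 → w = 1 ∨ cV w = true ∨ cT w = true := by decide +kernel

theorem inJ_top : ∀ p e, inJ ((⟨p, e, 0, 0, 0⟩ : W) * 1 * (⟨p, e, 0, 0, 0⟩ : W)⁻¹) = true := by
  decide +kernel

theorem inJ_iff {w : W} : inJ w = true ↔ w.p = 0 ∧ w.e = 0 := by simp [inJ]

theorem inJ_conj (w : W) (hw : inJ w = true) (c : W) : inJ (c * w * c⁻¹) = true := by
  obtain ⟨p, e, x, y, z⟩ := w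
  obtain ⟨rfl, rfl⟩ := inJ_iff.1 hw
  exact inJ_top c.p c.e

theorem inJ_cube : ∀ x y z, (⟨0, 0, x, y, z⟩ : W) * ⟨0, 0, x, y, z⟩ * ⟨0, 0, x, y, z⟩ = 1 := by
  decide +kernel

theorem inJ_mul (a : W) (ha : inJ a = true) (b : W) (hb : inJ b = true) :
    inJ (a * b) = true ∧ a * b = b * a ∧ a * a * a = 1 := by
  obtain ⟨p, e, x, y, z⟩ := a
  obtain ⟨q, f, x', y', z'⟩ := b
  obtain ⟨rfl, rfl⟩ := inJ_iff.1 ha
  obtain ⟨rfl, rfl⟩ := inJ_iff.1 hb
  exact ⟨rfl, W.ext rfl rfl (add_comm x x') (add_comm y y') (add_comm z z'), inJ_cube x y z⟩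

theorem card_inJ : (Finset.univ.filter fun w : W => inJ w).card = 27 := by decide +kernel

theorem wt_range : ∀ w : W, inJ w = true → w ≠ 1 → wt w = 1 ∨ wt w = 2 ∨ wt w = 3 := by
  decide +kernel

theorem wt_orbit : ∀ a : W, inJ a = true → a ≠ 1 → ∀ b : W, inJ b = true → b ≠ 1 → wt a = wt b →
    ∃ p : Fin 6, ∃ e : Fin 4, (⟨p, e, 0, 0, 0⟩ : W) * a * (⟨p, e, 0, 0, 0⟩ : W)⁻¹ = b := by
  decide +kernel

def rep (k : Fin 3) : W := (![cZ, cW, ⟨0, 0, 1, 1, 1⟩] : Fin 3 → W) k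

theorem card_cent_rep : ∀ k, inJ (rep k) = true ∧ rep k ≠ 1 ∧ wt (rep k) = k.val + 1 ∧
    (Finset.univ.filter fun h : W => decide (h * rep k = rep k * h)).card =
      (if k = 0 then 108 else if k = 1 then 54 else 81) := by
  decide +kernel

theorem card_cent (w : W) (hw : inJ w = true) (h1 : w ≠ 1) :
    (Finset.univ.filter fun h : W => decide (h * w = w * h)).card =
      (if wt w = 1 then 108 else if wt w = 2 then 54 else 81) := by
  obtain ⟨k, hk⟩ : ∃ k : Fin 3, wt w = k.val + 1 := by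
    rcases wt_range w hw h1 with h | h | h
    exacts [⟨0, h⟩, ⟨1, h⟩, ⟨2, h⟩]
  obtain ⟨hr, hr1, hrw, hcard⟩ := card_cent_rep k
  obtain ⟨p, e, hc⟩ := wt_orbit _ hr hr1 w hw h1 (hrw.trans hk.symm)
  have hmove : (Finset.univ.filter fun h : W => decide (h * w = w * h)).card =
      (Finset.univ.filter fun h : W => decide (h * rep k = rep k * h)).card := by
    refine Finset.card_equiv (MulAut.conj (⟨p, e, 0, 0, 0⟩ : W)⁻¹).toEquiv fun h => ?_
    simp only [Finset.mem_filter, Finset.mem_univ, true_and, decide_eq_true_eq,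
      MulEquiv.toEquiv_eq_coe, MulEquiv.coe_toEquiv, MulAut.conj_apply, inv_inv]
    rw [← hc]
    generalize (⟨p, e, 0, 0, 0⟩ : W) = c
    constructor <;> intro h'
    · calc c⁻¹ * h * c * rep k = c⁻¹ * (h * (c * rep k * c⁻¹)) * c := by group
        _ = c⁻¹ * (c * rep k * c⁻¹ * h) * c := by rw [h']
        _ = rep k * (c⁻¹ * h * c) := by group
    · calc h * (c * rep k * c⁻¹) = c * (c⁻¹ * h * c * rep k) * c⁻¹ := by group
        _ = c * (rep k * (c⁻¹ * h * c)) * c⁻¹ := by rw [h']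
        _ = c * rep k * c⁻¹ * h := by group
  rw [hmove, hcard, hk]
  fin_cases k <;> rfl

theorem fusion_data : inJ cZ = true ∧ cZ ≠ 1 ∧ inJ cW = true ∧ cW ≠ 1 ∧ wt cZ = 1 ∧ wt cW = 2 ∧
    cZ * gV = gV * cZ ∧ cW * gT = gT * cW ∧ wt (cZ * cZ) = 1 ∧
    cZ * cZ ≠ 1 := by
  decide +kernel

def inP (w : W) : Bool := decide (w.e = 0) && !odd w.p

theorem inP_top : ∀ p e q f, inP ⟨p, e, 0, 0, 0⟩ = true → inP ⟨q, f, 0, 0, 0⟩ = true →
    inP ((⟨p, e, 0, 0, 0⟩ : W) * ⟨q, f, 0, 0, 0⟩) = true ∧ inP (⟨p, e, 0, 0, 0⟩ : W)⁻¹ = true := by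
  decide +kernel

theorem inP_mul (a : W) (ha : inP a = true) (b : W) (hb : inP b = true) :
    inP (a * b) = true ∧ inP a⁻¹ = true := inP_top a.p a.e b.p b.e ha hb

theorem card_inP : (Finset.univ.filter fun w : W => inP w).card = 81 := by decide +kernel

theorem inP_meet : ∀ w : W, inP w = true → inP (gV * w * gV⁻¹) = true → inJ w = true := by
  decide +kernel

theorem inP_of_inJ : ∀ w : W, inJ w = true → inP w = true := by decide +kernel

theorem gens_comm : gA = gV * gA * gV⁻¹ * gA⁻¹ ∧ gB = gV * gT * gB * (gV * gT)⁻¹ * gB⁻¹ ∧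
    gV = gB * (gB * gV) * gB⁻¹ * (gB * gV)⁻¹ ∧ gT * gT = 1 := by
  decide +kernel

theorem word0 : ∀ w : W, w.p = 0 → ∃ e : Fin 4, shifts w.x w.y w.z * signs e = w := by
  decide +kernel

theorem odd_commutator : ∀ p : Fin 6, odd p = true →
    let r := tops p * gB * (tops p)⁻¹ * gB⁻¹
    r.p = 1 ∨ r.p = 2 := by decide +kernel

theorem odd_mul : ∀ p q : Fin 6, odd (pm p q) = (odd p ^^ odd q) := by decide

theorem card_even : (Finset.univ.filter fun w : W => !odd w.p).card = 324 := by decide +kernel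

theorem cV_gV : cV gV = true ∧ cT gT = true ∧ gV * gV = 1 ∧ gV ≠ 1 ∧ gT ≠ 1 := by decide +kernel

theorem card_W : Fintype.card W = 648 := by decide +kernel

theorem pow_twelve_top : ∀ p e,
    let w : W := ⟨p, e, 0, 0, 0⟩
    let a := w * w * (w * w)
    inJ (a * a * a) = true := by
  decide +kernel

theorem pow_thirty_six (w : W) :
    let a := w * w * (w * w)
    let b := a * a * w
    (b * b) * (b * b) = 1 := by
  intro a b
  have h : inJ (a * a * a) = true := pow_twelve_top w.p w.e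
  rw [← (inJ_mul _ h _ h).2.2]
  simp only [a, b, mul_assoc]

end W

end Cfsg.Agent.Recog.MonoCube
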