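import Mathlib

/-!
The group `3³:S₄ ≤ Sym(9)` of order 648 (the normalizer in `Alt(9)` of the group generated by three
disjoint 3-cycles) coded by a block permutation, a sign pattern and three shifts.
-/

namespace Cfsg.Agent.Recog.MonoCube

/-- The code of an element. -/
@[ext]
structure W where
  p : Fin 6
  e : Fin 4
  x : Fin 3
  y : Fin 3
  z : Fin 3
deriving DecidableEq, Fintype

namespace W

/-- Block permutations. -/
def P (p : Fin 6) (b : Fin 3) : Fin 3 :=
  (![![0, 1, 2], ![1, 2, 0], ![2, 0, 1], ![1, 0, 2], ![2, 1, 0], ![0, 2, 1]] : Fin 6 → Fin 3 → Fin 3)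
    p b

def pinv (p : Fin 6) : Fin 6 := (![0, 2, 1, 3, 4, 5] : Fin 6 → Fin 6) p

def pm (p q : Fin 6) : Fin 6 :=
  (![![0, 1, 2, 3, 4, 5], ![1, 2, 0, 4, 5, 3], ![2, 0, 1, 5, 3, 4], ![3, 5, 4, 0, 2, 1],
    ![4, 3, 5, 1, 0, 2], ![5, 4, 3, 2, 1, 0]] : Fin 6 → Fin 6 → Fin 6) p q

/-- Odd block permutations. -/
def odd (p : Fin 6) : Bool := decide (3 ≤ p.val)

/-- Is the map into the block coming from block `b` an inversion? -/
def neg (p : Fin 6) (e : Fin 4) (b : Fin 3) : Bool :=
  if b = 0 then decide (e.val % 2 = 1) else if b = 1 then decide (2 ≤ e.val)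
  else (decide (e.val % 2 = 1) ^^ decide (2 ≤ e.val)) ^^ odd p

def ap (n : Bool) (i : Fin 3) : Fin 3 := if n then -i else i

def em (p : Fin 6) (e : Fin 4) (q : Fin 6) (f : Fin 4) : Fin 4 :=
  match (neg p e (P q 0) ^^ neg q f 0), (neg p e (P q 1) ^^ neg q f 1) with
  | false, false => 0
  | true, false => 1
  | false, true => 2
  | true, true => 3

def sh (w : W) (c : Fin 3) : Fin 3 := if c = 0 then w.x else if c = 1 then w.y else w.z

theorem P_pm : ∀ p q b, P (pm p q) b = P p (P q b) := by decide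
theorem P_pinv : ∀ p b, P p (P (pinv p) b) = b := by decide
theorem pinv_P : ∀ p b, P (pinv p) (P p b) = b := by decide
theorem neg_em : ∀ p e q f b, neg (pm p q) (em p e q f) b = (neg p e (P q b) ^^ neg q f b) := by
  decide
theorem ap_comp : ∀ m n i X Y, ap (m ^^ n) i + (X + ap m Y) = ap m (ap n i + Y) + X := by decide

def act (w : W) (t : Fin 3 × Fin 3) : Fin 3 × Fin 3 :=
  (P w.p t.1, ap (neg w.p w.e t.1) t.2 + w.sh (P w.p t.1))

theorem data_inj : ∀ p q : Fin 6, ∀ e f : Fin 4, (∀ b, P p b = P q b) →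
    (∀ b, neg p e b = neg q f b) → p = q ∧ e = f := by decide

theorem ap_inj : ∀ m n X Y, (∀ i, ap m i + X = ap n i + Y) → m = n ∧ X = Y := by decide

theorem act_inj {w v : W} (h : ∀ t, act w t = act v t) : w = v := by
  have h1 : ∀ b, P w.p b = P v.p b := fun b => congrArg Prod.fst (h (b, 0))
  have h2 : ∀ b, neg w.p w.e b = neg v.p v.e b ∧ w.sh (P w.p b) = v.sh (P v.p b) := fun b =>
    ap_inj _ _ _ _ fun i => congrArg Prod.snd (h (b, i))
  obtain ⟨hp, he⟩ := data_inj _ _ _ _ h1 fun b => (h2 b).1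
  have h3 : ∀ c, w.sh c = v.sh c := fun c => by
    have := (h2 (P (pinv w.p) c)).2
    rwa [← hp, P_pinv] at this
  exact W.ext hp he (h3 0) (h3 1) (h3 2)

def shMul (w v : W) (c : Fin 3) : Fin 3 :=
  w.sh c + ap (neg w.p w.e (P (pinv w.p) c)) (v.sh (P (pinv w.p) c))

instance : Mul W := ⟨fun w v =>
  ⟨pm w.p v.p, em w.p w.e v.p v.e, shMul w v 0, shMul w v 1, shMul w v 2⟩⟩

instance : One W := ⟨⟨0, 0, 0, 0, 0⟩⟩

def einv (w : W) : Fin 4 :=
  match neg w.p w.e (P (pinv w.p) 0), neg w.p w.e (P (pinv w.p) 1) with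
  | false, false => 0
  | true, false => 1
  | false, true => 2
  | true, true => 3

def shInv (w : W) (b : Fin 3) : Fin 3 := ap (neg w.p w.e b) (-(w.sh (P w.p b)))

instance : Inv W := ⟨fun w => ⟨pinv w.p, einv w, shInv w 0, shInv w 1, shInv w 2⟩⟩

theorem sh_mul (w v : W) : ∀ c, (w * v).sh c = shMul w v c := by
  intro c; fin_cases c <;> rfl

theorem act_mul (w v : W) (t : Fin 3 × Fin 3) : act (w * v) t = act w (act v t) := by
  obtain ⟨b, i⟩ := t
  show (P (pm w.p v.p) b, ap (neg (pm w.p v.p) (em w.p w.e v.p v.e) b) i +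
    (w * v).sh (P (pm w.p v.p) b)) = _
  rw [sh_mul, P_pm, neg_em]
  simp only [act, shMul, pinv_P]
  rw [ap_comp]

theorem act_one : ∀ t, act 1 t = t := by decide

theorem einv_spec : ∀ p e, ∀ b, neg (pinv p)
    (match neg p e (P (pinv p) 0), neg p e (P (pinv p) 1) with
      | false, false => (0 : Fin 4)
      | true, false => 1
      | false, true => 2
      | true, true => 3) b = neg p e (P (pinv p) b) := by decide

theorem ap_inv : ∀ n i X, ap n (ap n i + X) + ap n (-X) = i := by decide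

theorem act_inv (w : W) (t : Fin 3 × Fin 3) : act w⁻¹ (act w t) = t := by
  obtain ⟨b, i⟩ := t
  have hs : ∀ c, (w⁻¹).sh c = shInv w c := by intro c; fin_cases c <;> rfl
  show (P (pinv w.p) (P w.p b), ap (neg (pinv w.p) (einv w) (P w.p b))
    (ap (neg w.p w.e b) i + w.sh (P w.p b)) + (w⁻¹).sh (P (pinv w.p) (P w.p b))) = _
  rw [hs, einv, einv_spec, pinv_P, shInv, ap_inv]

instance : Group W where
  mul_assoc a b c := act_inj fun t => by simp only [act_mul]
  one_mul a := act_inj fun t => by simp only [act_mul, act_one]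
  mul_one a := act_inj fun t => by simp only [act_mul, act_one]
  inv_mul_cancel a := act_inj fun t => by rw [act_mul, act_inv, act_one]

/-- The action on the nine points. -/
def toPerm : W →* Equiv.Perm (Fin 9) where
  toFun w := finProdFinEquiv.permCongr
    ⟨act w, act w⁻¹, act_inv w, fun t => by
      rw [← act_mul, mul_inv_cancel, act_one]⟩
  map_one' := Equiv.ext fun t => by
    simp [Equiv.permCongr_apply, act_one]
  map_mul' w v := Equiv.ext fun t => by
    simp [Equiv.permCongr_apply, act_mul]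

theorem toPerm_injective : Function.Injective toPerm := by
  intro w v h
  refine act_inj fun t => ?_
  have h1 := DFunLike.congr_fun (finProdFinEquiv.permCongr.injective h) t
  exact h1

def gA : W := ⟨0, 0, 1, 0, 0⟩
def gB : W := ⟨1, 0, 0, 0, 0⟩
def gV : W := ⟨0, 3, 1, 1, 0⟩
def gT : W := ⟨3, 0, 0, 0, 1⟩

theorem toPerm_gens :
    toPerm gA = Equiv.swap (0 : Fin 9) 1 * Equiv.swap 1 2 ∧
    toPerm gB = Equiv.swap (0 : Fin 9) 3 * Equiv.swap 3 6 * (Equiv.swap (1 : Fin 9) 4 * Equiv.swap 4 7)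
      * (Equiv.swap (2 : Fin 9) 5 * Equiv.swap 5 8) ∧
    toPerm gV = Equiv.swap (0 : Fin 9) 1 * Equiv.swap 3 4 ∧
    toPerm gT = Equiv.swap (0 : Fin 9) 3 * Equiv.swap 1 4 * Equiv.swap 2 5 * Equiv.swap 6 7 := by
  refine ⟨?_, ?_, ?_, ?_⟩ <;>
    (refine Equiv.ext fun t => ?_; revert t; decide)

/-- The four generators as one tuple. -/
def gens : Set W := {gA, gB, gV, gT}

def aY : W := gB * gA * (gB * gB)
def aZ : W := gB * gB * gA * gB
def tP : W := gT * aZ
def vE : W := gA * gA * (aY * aY) * gV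

def shifts (a b c : Fin 3) : W :=
  (if a = 0 then 1 else if a = 1 then gA else gA * gA) *
  (if b = 0 then 1 else if b = 1 then aY else aY * aY) *
  (if c = 0 then 1 else if c = 1 then aZ else aZ * aZ)

def tops (p : Fin 6) : W :=
  (![1, gB, gB * gB, tP, gB * tP, gB * gB * tP] : Fin 6 → W) p

def signs (e : Fin 4) : W :=
  (![1, gB * gB * vE * gB, gB * vE * (gB * gB), vE] : Fin 4 → W) e

set_option maxRecDepth 100000 in
theorem word : ∀ w : W, ∃ e : Fin 4, shifts w.x w.y w.z * tops w.p * signs e = w := by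
  decide +kernel

theorem closure_gens : Subgroup.closure gens = (⊤ : Subgroup W) := by
  refine eq_top_iff.2 fun w _ => ?_
  obtain ⟨e, he⟩ := word w
  rw [← he]
  have hA : gA ∈ Subgroup.closure gens := Subgroup.subset_closure (by simp [gens])
  have hB : gB ∈ Subgroup.closure gens := Subgroup.subset_closure (by simp [gens])
  have hV : gV ∈ Subgroup.closure gens := Subgroup.subset_closure (by simp [gens])
  have hT : gT ∈ Subgroup.closure gens := Subgroup.subset_closure (by simp [gens])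
  have hY : aY ∈ Subgroup.closure gens := mul_mem (mul_mem hB hA) (mul_mem hB hB)
  have hZ : aZ ∈ Subgroup.closure gens := mul_mem (mul_mem (mul_mem hB hB) hA) hB
  have hE : vE ∈ Subgroup.closure gens := mul_mem (mul_mem (mul_mem hA hA) (mul_mem hY hY)) hV
  have hP : tP ∈ Subgroup.closure gens := mul_mem hT hZ
  have hone : (1 : W) ∈ Subgroup.closure gens := one_mem _
  refine mul_mem (mul_mem ?_ ?_) ?_
  · have h : ∀ g ∈ Subgroup.closure gens, ∀ a : Fin 3,
        (if a = 0 then 1 else if a = 1 then g else g * g) ∈ Subgroup.closure gens := by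
      intro g hg a
      split_ifs
      exacts [one_mem _, hg, mul_mem hg hg]
    exact mul_mem (mul_mem (h _ hA _) (h _ hY _)) (h _ hZ _)
  · have h : ∀ p, tops p ∈ Subgroup.closure gens := by
      intro p
      fin_cases p
      exacts [hone, hB, mul_mem hB hB, hP, mul_mem hB hP, mul_mem (mul_mem hB hB) hP]
    exact h _
  · fin_cases e
    exacts [hone, mul_mem (mul_mem (mul_mem hB hB) hE) hB,
      mul_mem (mul_mem hB hE) (mul_mem hB hB), hE]

/-- The code group is the group in the statement. -/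
theorem model_iso : Nonempty (↥(Subgroup.closure ({Equiv.swap (0 : Fin 9) 1 * Equiv.swap 1 2,
    Equiv.swap (0 : Fin 9) 3 * Equiv.swap 3 6 * (Equiv.swap (1 : Fin 9) 4 * Equiv.swap 4 7) *
      (Equiv.swap (2 : Fin 9) 5 * Equiv.swap 5 8),
    Equiv.swap (0 : Fin 9) 1 * Equiv.swap 3 4,
    Equiv.swap (0 : Fin 9) 3 * Equiv.swap 1 4 * Equiv.swap 2 5 * Equiv.swap 6 7} :
      Set (Equiv.Perm (Fin 9)))) ≃* W) := by
  obtain ⟨h1, h2, h3, h4⟩ := toPerm_gens
  have h : (⊤ : Subgroup W).map toPerm = Subgroup.closure ({Equiv.swap (0 : Fin 9) 1 * Equiv.swap 1 2,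
      Equiv.swap (0 : Fin 9) 3 * Equiv.swap 3 6 * (Equiv.swap (1 : Fin 9) 4 * Equiv.swap 4 7) *
        (Equiv.swap (2 : Fin 9) 5 * Equiv.swap 5 8),
      Equiv.swap (0 : Fin 9) 1 * Equiv.swap 3 4,
      Equiv.swap (0 : Fin 9) 3 * Equiv.swap 1 4 * Equiv.swap 2 5 * Equiv.swap 6 7} :
        Set (Equiv.Perm (Fin 9))) := by
    rw [← closure_gens, MonoidHom.map_closure]
    simp only [gens, Set.image_insert_eq, Set.image_singleton, h1, h2, h3, h4]
  exact ⟨(MulEquiv.subgroupCongr h.symm).trans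
    (((⊤ : Subgroup W).equivMapOfInjective toPerm toPerm_injective).symm.trans Subgroup.topEquiv)⟩

end W

end Cfsg.Agent.Recog.MonoCube
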