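import Mathlib
import Cfsg.Agent.Lib.Char.Integral

set_option autoImplicit false

namespace Cfsg.Agent.PRegularClass

open Cfsg.Agent.Char

universe u

theorem index_centralizer_quot_dvd {X : Type u} [Group X] (N : Subgroup X) [N.Normal] (x : X) :
    (Subgroup.centralizer ({(x : X ⧸ N)} : Set (X ⧸ N))).index ∣
      (Subgroup.centralizer ({x} : Set X)).index := by
  refine dvd_trans (Subgroup.index_dvd_of_le (H := (Subgroup.centralizer ({x} : Set X)).map
    (QuotientGroup.mk' N)) ?_) (Subgroup.index_map_dvd _ (QuotientGroup.mk'_surjective N))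
  rintro _ ⟨c, hc, rfl⟩
  rw [Subgroup.mem_centralizer_singleton_iff]
  show QuotientGroup.mk' N c * QuotientGroup.mk' N x = QuotientGroup.mk' N x * QuotientGroup.mk' N c
  rw [← map_mul, ← map_mul, Subgroup.mem_centralizer_singleton_iff.mp hc]

theorem relIndex_dvd_index {X : Type u} [Group X] [Finite X] (C N : Subgroup X) [N.Normal] :
    C.relIndex N ∣ C.index := by
  obtain ⟨t, ht⟩ := Subgroup.relIndex_dvd_index_of_normal N C
  have h1 : C.relIndex N * N.index = (C ⊓ N).index := by
    rw [← Subgroup.relIndex_mul_index (inf_le_right : C ⊓ N ≤ N), Subgroup.inf_relIndex_right]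
  have h2 : N.relIndex C * C.index = (C ⊓ N).index := by
    rw [← Subgroup.relIndex_mul_index (inf_le_left : C ⊓ N ≤ C), inf_comm, Subgroup.inf_relIndex_right]
  refine ⟨t, ?_⟩
  apply Nat.eq_of_mul_eq_mul_left (Nat.pos_of_ne_zero (Subgroup.index_ne_zero_of_finite (H := N.subgroupOf C) : N.relIndex C ≠ 0))
  show N.relIndex C * C.index = N.relIndex C * (C.relIndex N * t)
  rw [h2, ← h1, ht]
  ring

theorem index_centralizer_sub_dvd {X : Type u} [Group X] [Finite X] (N : Subgroup X) [N.Normal] (x : N) :
    (Subgroup.centralizer ({x} : Set N)).index ∣ (Subgroup.centralizer ({(x : X)} : Set X)).index := by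
  set C := Subgroup.centralizer ({(x : X)} : Set X)
  have e : Subgroup.centralizer ({x} : Set N) = C.subgroupOf N := by
    ext c
    rw [Subgroup.mem_subgroupOf, Subgroup.mem_centralizer_singleton_iff,
      Subgroup.mem_centralizer_singleton_iff, Subtype.ext_iff]
    rfl
  rw [e]
  exact relIndex_dvd_index C N

/-- Lift a p-regular element of a quotient to a p-regular element with the same centralizer. -/
theorem exists_regular_lift {X : Type u} [Group X] [Finite X] (N : Subgroup X) [N.Normal] {p : ℕ}
    (hp : p.Prime) (x : X ⧸ N) (hx : (orderOf x).Coprime p) :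
    ∃ y : X, (orderOf y).Coprime p ∧
      Subgroup.centralizer ({(y : X ⧸ N)} : Set (X ⧸ N)) = Subgroup.centralizer ({x} : Set (X ⧸ N)) := by
  obtain ⟨y, rfl⟩ := QuotientGroup.mk_surjective x
  set n := orderOf y with hn
  set a := n.factorization p
  refine ⟨y ^ (p ^ a), ?_, ?_⟩
  · rw [orderOf_pow, Nat.gcd_eq_right (Nat.ordProj_dvd n p)]
    exact ((hp.coprime_iff_not_dvd).mpr (Nat.not_dvd_ordCompl hp (orderOf_pos y).ne')).symm
  · obtain ⟨m, hm⟩ := exists_pow_eq_self_of_coprime
      ((Nat.Coprime.pow_right a hx).symm : (p ^ a).Coprime (orderOf (y : X ⧸ N)))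
    ext c
    rw [Subgroup.mem_centralizer_singleton_iff, Subgroup.mem_centralizer_singleton_iff,
      QuotientGroup.mk_pow]
    constructor
    · intro h
      have h' : Commute c ((y : X ⧸ N) ^ p ^ a) := h
      have := h'.pow_right m
      rwa [hm] at this
    · exact fun h => (show Commute c (y : X ⧸ N) from h).pow_right _

/-- If all p-regular class sizes are powers of p, the group is solvable. -/
theorem solvable_of_classes {p : ℕ} (hp : p.Prime) (n : ℕ) : ∀ (X : Type u) [Group X] [Finite X],
    Nat.card X = n → (∀ x : X, (orderOf x).Coprime p →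
      ∃ k, (Subgroup.centralizer ({x} : Set X)).index = p ^ k) → Group.IsSolvable X := by
  induction n using Nat.strong_induction_on with
  | _ n ih =>
  intro X _ _ hn hX
  rcases subsingleton_or_nontrivial X with hss | hnt
  · exact Group.isSolvable_of_comm fun x y => Subsingleton.elim _ _
  by_cases hs : IsSimpleGroup X
  · by_cases hP : IsPGroup p X
    · haveI : Fact p.Prime := ⟨hp⟩
      haveI := hP.isNilpotent
      infer_instance
    · obtain ⟨x, hx1, hx⟩ : ∃ x : X, x ≠ 1 ∧ (orderOf x).Coprime p := by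
        have : ∃ q : ℕ, q.Prime ∧ q ≠ p ∧ q ∣ Nat.card X := by
          by_contra hc
          push Not at hc
          refine hP (IsPGroup.of_card (n := (Nat.card X).primeFactorsList.length)
            (Nat.eq_prime_pow_of_unique_prime_dvd Nat.card_pos.ne' ?_))
          intro q hq hqd
          by_contra h
          exact hc q hq h hqd
        obtain ⟨q, hq, hqp, hqd⟩ := this
        haveI : Fact q.Prime := ⟨hq⟩
        obtain ⟨x, hx⟩ := exists_prime_orderOf_dvd_card' q hqd
        exact ⟨x, fun h => hq.one_lt.ne (by rw [← hx, h, orderOf_one]),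
          hx ▸ (Nat.coprime_primes hq hp).mpr hqp⟩
      obtain ⟨k, hk⟩ := hX x hx
      haveI := Fact.mk (simple_prime_pow_class p k hp x hx1 hk)
      haveI : IsCyclic X := isCyclic_of_prime_card (p := Nat.card X) rfl
      exact Group.isSolvable_of_comm fun x y => (IsCyclic.commGroup (α := X)).mul_comm x y
  · obtain ⟨N, hN, hN0, hN1⟩ : ∃ N : Subgroup X, N.Normal ∧ N ≠ ⊥ ∧ N ≠ ⊤ := by
      by_contra hc
      push Not at hc
      exact hs ⟨fun H hH => or_iff_not_imp_left.mpr (hc H hH)⟩
    have hmul := N.index_mul_card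
    have h1 : 1 < Nat.card N := (Subgroup.one_lt_card_iff_ne_bot N).mpr hN0
    have h2 : 1 < N.index := by
      have := mt Subgroup.index_eq_one.mp hN1
      have := N.index_ne_zero_of_finite
      omega
    have e1 : Group.IsSolvable N := ih _ (by rw [← hn, ← hmul]; nlinarith) N rfl fun x hx => by
      obtain ⟨k, hk⟩ := hX x (by rwa [Subgroup.orderOf_coe])
      obtain ⟨i, -, hi⟩ := (Nat.dvd_prime_pow hp).mp (hk ▸ index_centralizer_sub_dvd N x)
      exact ⟨i, hi⟩
    have e2 : Group.IsSolvable (X ⧸ N) :=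
      ih N.index (by rw [← hn, ← hmul]; nlinarith) (X ⧸ N) N.index_eq_card.symm fun x hx => by
        obtain ⟨y, hy, hc⟩ := exists_regular_lift N hp x hx
        obtain ⟨k, hk⟩ := hX y hy
        obtain ⟨i, -, hi⟩ := (Nat.dvd_prime_pow hp).mp (hk ▸ index_centralizer_quot_dvd N y)
        exact ⟨i, hc ▸ hi⟩
    exact Group.isSolvable_of_ker_le_range N.subtype (QuotientGroup.mk' N) (le_of_eq (by simp))

/-- An abelian p-complement forces solvability. -/
theorem solvable_of_abelian_complement {p : ℕ} (hp : p.Prime) (n : ℕ) :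
    ∀ (X : Type u) [Group X] [Finite X], Nat.card X = n → ∀ H : Subgroup X,
      (∀ a ∈ H, ∀ b ∈ H, a * b = b * a) → (∃ k, H.index = p ^ k) → Group.IsSolvable X := by
  induction n using Nat.strong_induction_on with
  | _ n ih =>
  intro X _ _ hn H hc ⟨k, hk⟩
  rcases subsingleton_or_nontrivial X with hss | hnt
  · exact Group.isSolvable_of_comm fun x y => Subsingleton.elim _ _
  by_cases hs : IsSimpleGroup X
  · by_cases hb : H = ⊥
    · haveI : Fact p.Prime := ⟨hp⟩
      haveI := (IsPGroup.of_card (n := k) (by rw [← hk, hb, Subgroup.index_bot]) : IsPGroup p X).isNilpotent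
      infer_instance
    · obtain ⟨x, hxH, hx1⟩ := H.bot_or_exists_ne_one.resolve_left hb
      have hle : H ≤ Subgroup.centralizer ({x} : Set X) := fun y hy =>
        Subgroup.mem_centralizer_singleton_iff.mpr (hc y hy x hxH)
      obtain ⟨i, -, hi⟩ := (Nat.dvd_prime_pow hp).mp (hk ▸ Subgroup.index_dvd_of_le hle)
      haveI := Fact.mk (simple_prime_pow_class p i hp x hx1 hi)
      haveI : IsCyclic X := isCyclic_of_prime_card (p := Nat.card X) rfl
      exact Group.isSolvable_of_comm fun x y => (IsCyclic.commGroup (α := X)).mul_comm x y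
  · obtain ⟨N, hN, hN0, hN1⟩ : ∃ N : Subgroup X, N.Normal ∧ N ≠ ⊥ ∧ N ≠ ⊤ := by
      by_contra hc'
      push Not at hc'
      exact hs ⟨fun K hK => or_iff_not_imp_left.mpr (hc' K hK)⟩
    have hmul := N.index_mul_card
    have h1 : 1 < Nat.card N := (Subgroup.one_lt_card_iff_ne_bot N).mpr hN0
    have h2 : 1 < N.index := by
      have := mt Subgroup.index_eq_one.mp hN1
      have := N.index_ne_zero_of_finite
      omega
    have e1 : Group.IsSolvable N := ih _ (by rw [← hn, ← hmul]; nlinarith) N rfl (H.subgroupOf N)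
      (fun a ha b hb => Subtype.ext (hc a ha b hb)) (by
        have : (H.subgroupOf N).index ∣ p ^ k := by
          exact hk ▸ relIndex_dvd_index H N
        obtain ⟨i, -, hi⟩ := (Nat.dvd_prime_pow hp).mp this
        exact ⟨i, hi⟩)
    have e2 : Group.IsSolvable (X ⧸ N) :=
      ih N.index (by rw [← hn, ← hmul]; nlinarith) (X ⧸ N) N.index_eq_card.symm
        (H.map (QuotientGroup.mk' N))
        (by rintro _ ⟨a, ha, rfl⟩ _ ⟨b, hb, rfl⟩; rw [← map_mul, ← map_mul, hc a ha b hb]) (by
        obtain ⟨i, -, hi⟩ := (Nat.dvd_prime_pow hp).mp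
          (hk ▸ H.index_map_dvd (QuotientGroup.mk'_surjective N))
        exact ⟨i, hi⟩)
    exact Group.isSolvable_of_ker_le_range N.subtype (QuotientGroup.mk' N) (le_of_eq (by simp))

end Cfsg.Agent.PRegularClass
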