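import Mathlib
import Cfsg.Prelude.Def_DegreeGraph
import Cfsg.Agent.Lib.Block.PermChar
import Cfsg.Agent.Lib.Block.OrderPrime
import Cfsg.Agent.Lib.Char.Quotient
import Cfsg.Agent.Lib.Char.ModP
import Cfsg.Agent.Lib.Char.TwoTransConstituent
import Cfsg.Agent.Lib.Recog.PSU33Action

/-! The character degree graph of `PSU(3, 3)`. -/

set_option autoImplicit false
set_option linter.unusedSectionVars false

namespace Cfsg.Agent.PSU33

open Cfsg Matrix Cfsg.Agent.Block Cfsg.Agent.Block.PermChar Cfsg.Agent.Char Cfsg.Agent.SpectrumPSU3Three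

/-- intersection numbers -/
def pt : Fin 4 → Fin 4 → ℕ := ![![0, 6, 0, 0], ![1, 1, 0, 4], ![0, 0, 3, 3], ![0, 1, 4, 1]]

theorem nb_spec : ∀ x, (nb x).Nodup ∧ ∀ y, y ∈ nb x ↔ dt x y = 1 := by decide +kernel

theorem nb_count : ∀ x z k, (nb x).countP (fun y => dt y z == k) = pt (dt x z) k := by decide +kernel

theorem dt_symm : ∀ x y, dt x y = dt y x := by decide +kernel

theorem dt_diag : ∀ x y, dt x y = 0 ↔ x = y := by decide +kernel

/-- the matrix of a function of the class -/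
def mc (c : Fin 4 → ℂ) : Matrix (Fin 63) (Fin 63) ℂ := Matrix.of fun x y => c (dt x y)

theorem list_sum_classes (c : Fin 4 → ℂ) (f : Fin 63 → Fin 4) (L : List (Fin 63)) :
    (L.map fun y => c (f y)).sum = ∑ k, (L.countP (fun y => f y == k) : ℂ) * c k := by
  induction L with
  | nil => simp
  | cons a L ih =>
    simp only [List.map_cons, List.sum_cons, ih, List.countP_cons, Nat.cast_add, add_mul,
      Finset.sum_add_distrib]
    simp [add_comm]

theorem adj_mul (c : Fin 4 → ℂ) (θ : ℂ) (h : ∀ i, ∑ k, (pt i k : ℂ) * c k = θ * c i) :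
    mc (fun k => if k = 1 then 1 else 0) * mc c = θ • mc c := by
  classical
  ext x z
  simp only [Matrix.mul_apply, mc, Matrix.of_apply, Matrix.smul_apply, smul_eq_mul, ite_mul, one_mul, zero_mul]
  rw [← Finset.sum_filter, show Finset.univ.filter (fun y => dt x y = 1) = (nb x).toFinset from by
    ext y; simp [(nb_spec x).2 y], List.sum_toFinset _ (nb_spec x).1,
    list_sum_classes c (fun y => dt y z), ← h]
  exact Finset.sum_congr rfl fun k _ => by rw [nb_count]

theorem mc_transpose (c : Fin 4 → ℂ) : (mc c)ᵀ = mc c := by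
  ext x y; simp [mc, dt_symm x y]

theorem trace_mc (c : Fin 4 → ℂ) : (mc c).trace = 63 * c 0 := by
  simp [mc, Matrix.trace, (dt_diag _ _).2 rfl]

/-- coefficients of the four projections -/
def ccq : Fin 4 → Fin 4 → ℚ :=
  ![![1/63, 1/63, 1/63, 1/63], ![1/3, 1/6, -1/24, 0], ![3/7, -1/14, 3/56, -1/14], ![2/9, -1/9, -1/36, 1/18]]

/-- eigenvalues -/
def thq : Fin 4 → ℚ := ![6, 3, -1, -3]

/-- coefficients of the four projections, in `ℂ` -/
noncomputable def cc (j k : Fin 4) : ℂ := (ccq j k : ℂ)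

/-- eigenvalues, in `ℂ` -/
noncomputable def th (j : Fin 4) : ℂ := (thq j : ℂ)

theorem cc_eigen (j i : Fin 4) : ∑ k, (pt i k : ℂ) * cc j k = th j * cc j i := by
  have key : ∀ j i : Fin 4, ∑ k, (pt i k : ℚ) * ccq j k = thq j * ccq j i := by decide +kernel
  simp only [cc, th]
  exact_mod_cast key j i

theorem th_inj {j k : Fin 4} (h : th j = th k) : j = k := by
  have key : ∀ j k : Fin 4, thq j = thq k → j = k := by decide +kernel
  exact key j k (Rat.cast_injective h)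

theorem cc_zero_ne (j : Fin 4) : (63 : ℂ) * cc j 0 ≠ 0 := by
  have key : ∀ j : Fin 4, ccq j 0 ≠ 0 := by decide +kernel
  exact mul_ne_zero (by norm_num) (Rat.cast_ne_zero.2 (key j))

theorem sum_cc : ∑ j, mc (cc j) = 1 := by
  classical
  have key : ∀ k : Fin 4, ∑ j, ccq j k = if k = 0 then 1 else 0 := by decide +kernel
  ext x y
  simp only [Matrix.sum_apply, mc, Matrix.of_apply, Matrix.one_apply, ← dt_diag x y, cc]
  rw [← Rat.cast_sum, key]
  split_ifs <;> simp

theorem mc_orth {j k : Fin 4} (h : j ≠ k) : mc (cc j) * mc (cc k) = 0 := by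
  set A := mc (fun k => if k = 1 then 1 else 0)
  have hA : ∀ j, A * mc (cc j) = th j • mc (cc j) := fun j => adj_mul _ _ (cc_eigen j)
  have hA' : mc (cc j) * A = th j • mc (cc j) := by
    have := congrArg Matrix.transpose (hA j)
    rwa [Matrix.transpose_mul, Matrix.transpose_smul, mc_transpose, mc_transpose] at this
  have e : th j • (mc (cc j) * mc (cc k)) = th k • (mc (cc j) * mc (cc k)) := by
    rw [← Matrix.smul_mul, ← hA', Matrix.mul_assoc, hA, Matrix.mul_smul]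
  by_contra hne
  exact h (th_inj (smul_left_injective ℂ hne e))

theorem mc_idem (j : Fin 4) : mc (cc j) * mc (cc j) = mc (cc j) := by
  conv_rhs => rw [← Matrix.mul_one (mc (cc j)), ← sum_cc, Finset.mul_sum]
  rw [Finset.sum_eq_single j (fun k _ hk => mc_orth (Ne.symm hk)) (by simp)]

variable {F : Type*} [Field F] [Fintype F] [hF : Fact (Fintype.card F = 9)]

local notation "SUF" => SU 3 F 3

theorem mc_inv (c : Fin 4 → ℂ) : Inv SUF (Fin 63) (mc c) := fun g x y => by
  simp [mc, dt_smul g x y]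

theorem orbitals_le : Nat.card (MulAction.orbitRel.Quotient SUF (Fin 63 × Fin 63)) ≤ 4 := by
  have hs : Function.Surjective
      (fun k : Fin 4 => (Quotient.mk'' ((0 : Fin 63), subReps k) : MulAction.orbitRel.Quotient SUF (Fin 63 × Fin 63))) := by
    intro c
    induction c using Quotient.inductionOn' with
    | h p =>
      obtain ⟨x, y⟩ := p
      obtain ⟨g, rfl⟩ := transitive (F := F) 0 x
      obtain ⟨k, h, h0, hk⟩ := suborbits (F := F) (g⁻¹ • y)
      refine ⟨k, (Quotient.sound' (MulAction.orbitRel_apply.2 ⟨g * h, ?_⟩)).symm⟩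
      simp [Prod.smul_mk, mul_smul, h0, hk]
  exact (Nat.card_le_card_of_surjective _ hs).trans (Nat.card_fin 4).le

theorem exists_degree (j : Fin 4) : ∃ χ : IrrCharacter SUF, (χ : SUF → ℂ) 1 = 63 * cc j 0 := by
  classical
  haveI := Fintype.ofFinite SUF
  haveI : MulAction.IsPretransitive SUF (Fin 63) := ⟨transitive (F := F)⟩
  choose a ha using fun χ : IrrCharacter SUF => exists_mult (Ω := Fin 63) χ
  have hs := sum_mult_sq (G := SUF) (Ω := Fin 63)
  simp only [ha, map_natCast] at hs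
  have hs4 : ∑ χ : IrrCharacter SUF, a χ * a χ ≤ 4 := by
    refine le_of_eq_of_le ?_ (orbitals_le (F := F))
    exact_mod_cast hs
  let one' : IrrCharacter SUF := ⟨fun _ => 1, isIrr_one⟩
  have h1 : a one' = 1 := by
    have := (ha one').symm.trans (Cfsg.Agent.Char.mult_one (G := SUF) (Ω := Fin 63) inferInstance ⟨0⟩)
    exact_mod_cast this
  have hfree : ∀ χ : IrrCharacter SUF, mult SUF (Fin 63) (χ : SUF → ℂ) = 0 ∨ mult SUF (Fin 63) (χ : SUF → ℂ) = 1 := by
    intro χ
    rw [ha]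
    suffices a χ ≤ 1 by
      rcases Nat.le_one_iff_eq_zero_or_eq_one.1 this with e | e <;> simp [e]
    by_contra hc
    push Not at hc
    have hne : one' ≠ χ := fun e => by rw [← e, h1] at hc; omega
    have := Finset.sum_le_sum_of_subset (f := fun x => a x * a x) (Finset.subset_univ {one', χ})
    rw [Finset.sum_pair hne, h1] at this
    nlinarith
  let S := {χ : IrrCharacter SUF // mult SUF (Fin 63) (χ : SUF → ℂ) ≠ 0}
  have hS : Fintype.card S ≤ 4 := by
    rw [Fintype.card_subtype]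
    refine le_trans ?_ hs4
    rw [Finset.card_eq_sum_ones]
    refine le_trans (Finset.sum_le_sum fun χ hχ => ?_) (Finset.sum_le_sum_of_subset (Finset.subset_univ _))
    have h := (Finset.mem_filter.1 hχ).2
    rw [ha] at h
    exact Nat.one_le_iff_ne_zero.2 (mul_ne_zero (by exact_mod_cast h) (by exact_mod_cast h))
  have hspan : ∀ k, ∃ w : S → ℂ, ∑ χ, w χ • proj SUF (Fin 63) (χ.1 : SUF → ℂ) = mc (cc k) := fun k =>
    (Submodule.mem_span_range_iff_exists_fun ℂ).1 (inv_mem_span hfree (mc_inv (cc k)))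
  choose w hw using hspan
  have hp : ∀ k (χ : S), proj SUF (Fin 63) (χ.1 : SUF → ℂ) * mc (cc k) = w k χ • proj SUF (Fin 63) (χ.1 : SUF → ℂ) := by
    intro k χ
    rw [← hw k, Finset.mul_sum, Finset.sum_eq_single χ (fun ψ _ hne => by
      rw [Matrix.mul_smul, proj_mul, if_neg (fun e => hne (Subtype.ext e.symm)), smul_zero]) (by simp),
      Matrix.mul_smul, proj_mul, if_pos rfl]
  have hpz : ∀ χ : S, proj SUF (Fin 63) (χ.1 : SUF → ℂ) ≠ 0 := fun χ => proj_ne_zero χ.2
  have hone : ∀ χ : S, ∑ k, w k χ = 1 := by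
    intro χ
    refine smul_left_injective ℂ (hpz χ) ?_
    simp only [Finset.sum_smul, ← hp, ← Finset.mul_sum, sum_cc, Matrix.mul_one, one_smul]
  have hzero : ∀ (χ : S) {j k : Fin 4}, j ≠ k → w j χ * w k χ = 0 := by
    intro χ j k hne
    refine smul_left_injective ℂ (hpz χ) ?_
    simp only [zero_smul]
    rw [mul_comm, mul_smul, ← hp, ← Matrix.smul_mul, ← hp, Matrix.mul_assoc, mc_orth]
    · simp
    · first | exact hne.symm | exact hne
  have hsel : ∀ χ : S, ∃ k, w k χ = 1 ∧ ∀ l, l ≠ k → w l χ = 0 := by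
    intro χ
    obtain ⟨k, hk⟩ : ∃ k, w k χ ≠ 0 := by
      by_contra hc
      push Not at hc
      simpa [hc] using hone χ
    have hz : ∀ l, l ≠ k → w l χ = 0 := fun l hl => (mul_eq_zero.1 (hzero χ hl)).resolve_right hk
    refine ⟨k, ?_, hz⟩
    have := hone χ
    rwa [Finset.sum_eq_single k (fun l _ hl => hz l hl) (by simp)] at this
  choose σ hσ1 hσ0 using hsel
  have hsurj : Function.Surjective σ := by
    intro k
    by_contra hc
    push Not at hc
    have h0 : mc (cc k) = 0 := by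
      rw [← hw k]
      exact Finset.sum_eq_zero fun χ _ => by rw [hσ0 χ k (Ne.symm (hc χ)), zero_smul]
    have := trace_mc (cc k)
    rw [h0, Matrix.trace_zero] at this
    exact cc_zero_ne k this.symm
  have hbij : Function.Bijective σ := by
    refine (Fintype.bijective_iff_surjective_and_card _).2 ⟨hsurj, le_antisymm ?_ ?_⟩
    · simpa using hS
    · exact Fintype.card_le_of_surjective σ hsurj
  obtain ⟨χ, rfl⟩ := hbij.2 j
  refine ⟨χ.1, ?_⟩
  rw [← trace_mc (cc (σ χ)), ← hw (σ χ), Finset.sum_eq_single χ (fun ψ _ hne => by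
    rw [hσ0 ψ (σ χ) (fun e => hne (hbij.1 e.symm)), zero_smul]) (by simp), hσ1, one_smul, trace_proj,
    (hfree χ.1).resolve_left χ.2, mul_one]

theorem mem_charDegrees_21 : 21 ∈ charDegrees SUF := by
  obtain ⟨χ, h⟩ := exists_degree (F := F) 1
  refine ⟨χ, ?_⟩
  have e : (χ : SUF → ℂ) 1 = ((21 : ℕ) : ℂ) := by
    rw [h, cc, show ccq 1 0 = 1/3 by decide +kernel]; norm_num
  simp [charDegree, e]

theorem mem_charDegrees_14 : 14 ∈ charDegrees SUF := by
  obtain ⟨χ, h⟩ := exists_degree (F := F) 3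
  refine ⟨χ, ?_⟩
  have e : (χ : SUF → ℂ) 1 = ((14 : ℕ) : ℂ) := by
    rw [h, cc, show ccq 3 0 = 2/9 by decide +kernel]; norm_num
  simp [charDegree, e]

theorem charDegree_dvd (χ : IrrCharacter SUF) : charDegree (χ : SUF → ℂ) ∣ 6048 := by
  haveI := Fintype.ofFinite SUF
  obtain ⟨n, -, hn⟩ := IsIrr.one_eq_pos χ.2
  have := IsIrr.degree_dvd_card χ.2 hn
  rw [card_SU33] at this
  simpa [charDegree, hn] using this

theorem exists_degree_six : ∃ d ∈ charDegrees SUF, 6 ∣ d := by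
  classical
  haveI : Fact (Nat.Prime 7) := ⟨by norm_num⟩
  haveI := Fintype.ofFinite SUF
  obtain ⟨M, hM⟩ := exists_isPModular 7 Fact.out
  have hna : ¬ IsMulCommutative SUF := by
    intro h
    have hz : Subgroup.center SUF = ⊤ :=
      eq_top_iff.2 fun x _ => Subgroup.mem_center_iff.2 fun y => h.is_comm.comm y x
    rw [center_eq_bot hF.out] at hz
    exact bot_ne_top hz
  obtain ⟨P⟩ : Nonempty (Sylow 7 SUF) := inferInstance
  have hcard : Nat.card SUF = 7 * 864 := by rw [card_SU33]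
  have hP : Nat.card P = 7 := OrdP.card_sylow_eq hcard (by norm_num) P
  obtain ⟨e, k, hk, hdvd, he, he1, hep, h7C, hprod⟩ := OrdP.exists_e hna hcard (by norm_num) P
  set C := Subgroup.centralizer ((P : Subgroup SUF) : Set SUF) with hC
  have hC7 : Nat.card C = 7 := by
    have hpp : ∀ r : ℕ, r.Prime → r ∣ Nat.card C → r = 7 := by
      intro r hr hrC
      by_contra hne
      haveI := Fact.mk hr
      obtain ⟨v, hv⟩ := exists_prime_orderOf_dvd_card' r hrC
      obtain ⟨u, hu⟩ := exists_prime_orderOf_dvd_card' (G := (P : Subgroup SUF)) 7 (by rw [hP])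
      have hcomm : Commute (u : SUF) (v : SUF) := Subgroup.mem_centralizer_iff.1 v.2 u u.2
      have ho : orderOf ((u : SUF) * v) = 7 * r := by
        rw [hcomm.orderOf_mul_eq_mul_orderOf_of_coprime, Subgroup.orderOf_coe, Subgroup.orderOf_coe, hu, hv]
        rw [Subgroup.orderOf_coe, Subgroup.orderOf_coe, hu, hv]
        exact (Nat.coprime_primes Fact.out hr).2 (Ne.symm hne)
      have hinj : Function.Injective (QuotientGroup.mk' (Subgroup.center SUF)) := by
        rw [← MonoidHom.ker_eq_bot_iff, QuotientGroup.ker_mk', center_eq_bot hF.out]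
      have hr' : 7 * r ∈ Set.range (orderOf : PSU 3 F 3 → ℕ) :=
        ⟨QuotientGroup.mk' _ ((u : SUF) * v), by rw [orderOf_injective _ hinj, ho]⟩
      rw [range_orderOf hF.out] at hr'
      simp only [Set.mem_insert_iff, Set.mem_singleton_iff] at hr'
      have := hr.two_le
      omega
    have h0 : Nat.card C ≠ 0 := Nat.card_pos.ne'
    have hpow := Nat.eq_prime_pow_of_unique_prime_dvd h0 (fun {d} hd hdc => hpp d hd hdc)
    have hd2 : Nat.card C ∣ 6048 := card_SU33 (F := F) ▸ Subgroup.card_subgroup_dvd_card C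
    generalize (Nat.card C).primeFactorsList.length = j at hpow
    rw [hpow] at hd2 h7C ⊢
    rcases j with _ | _ | j
    · norm_num at h7C
    · rfl
    · exact absurd ((Dvd.intro (7 ^ j) (by ring)).trans hd2 : 7 ^ 2 ∣ 6048) (by norm_num)
  rw [hC7] at hprod
  have he3 : e = 3 := by
    have : e ≤ 6 := Nat.le_of_dvd (by norm_num) hep
    interval_cases e <;> omega
  subst he3
  obtain ⟨X, y, s, ε, hXc, hX, hy1, hε, hyc, hrel, hcol⟩ :=
    OrdP.data hna hM (by norm_num) P hP he he1 hep (by norm_num)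
  obtain ⟨heq, hle⟩ := OrdP.degree_data hrel hcol
  obtain ⟨χ₁, χ₂, hne, rfl⟩ := Finset.card_eq_two.1 (show X.card = 2 by omega)
  obtain ⟨n1, s1, c1, -⟩ := hX χ₁ (by simp)
  obtain ⟨n2, s2, c2, -⟩ := hX χ₂ (by simp)
  rw [Finset.sum_pair hne] at heq hle
  rw [card_SU33] at hle
  have hL : ∀ χ : IrrCharacter SUF, χ ≠ trivialIrr SUF → charDegree (χ : SUF → ℂ) ^ 2 ≤ 6048 →
      charDegree (χ : SUF → ℂ) ∈ ((Finset.range 78).filter fun d => d ∣ 6048 ∧ 2 ≤ d) := by
    intro χ hχ hb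
    refine Finset.mem_filter.2 ⟨Finset.mem_range.2 ?_, charDegree_dvd χ, OrdP.two_le_deg hna hχ⟩
    nlinarith
  have key : ∀ a ∈ ((Finset.range 78).filter fun d => d ∣ 6048 ∧ 2 ≤ d),
      ∀ b ∈ ((Finset.range 78).filter fun d => d ∣ 6048 ∧ 2 ≤ d),
      ∀ c ∈ ((Finset.range 78).filter fun d => d ∣ 6048 ∧ 2 ≤ d),
      ∀ t ∈ [(1 : ℤ), -1], ∀ u ∈ [(1 : ℤ), -1], ∀ v ∈ [(1 : ℤ), -1],
      ((a : ℤ) - t) % 7 = 0 → ((b : ℤ) - u) % 7 = 0 → ((c : ℤ) - v * 3) % 7 = 0 →
      v * (c : ℤ) = 1 + (t * a + u * b) → 6 ∣ a ∨ 6 ∣ b ∨ 6 ∣ c := by decide +kernel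
  have hm : ∀ {z : ℤ}, z = 1 ∨ z = -1 → z ∈ [(1 : ℤ), -1] := fun h => by simpa using h
  have hk := key _ (hL χ₁ n1 (by omega)) _ (hL χ₂ n2 (by omega)) _ (hL y hy1 (by omega))
    _ (hm s1) _ (hm s2) _ (hm hε) (Int.emod_eq_zero_of_dvd (Int.modEq_iff_dvd.1 c1.symm))
    (Int.emod_eq_zero_of_dvd (Int.modEq_iff_dvd.1 c2.symm)) (Int.emod_eq_zero_of_dvd (Int.modEq_iff_dvd.1 hyc.symm)) heq
  rcases hk with h | h | h
  · exact ⟨_, ⟨χ₁, rfl⟩, h⟩
  · exact ⟨_, ⟨χ₂, rfl⟩, h⟩
  · exact ⟨_, ⟨y, rfl⟩, h⟩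

theorem charDegrees_equiv {A B : Type*} [Group A] [Finite A] [Group B] [Finite B] (e : A ≃* B) :
    charDegrees A = charDegrees B := by
  ext d
  constructor
  · rintro ⟨χ, rfl⟩
    exact ⟨⟨_, IsIrr.comp_surjective e.symm.toMonoidHom e.symm.surjective χ.2⟩, by simp [charDegree]⟩
  · rintro ⟨χ, rfl⟩
    exact ⟨⟨_, IsIrr.comp_surjective e.toMonoidHom e.surjective χ.2⟩, by simp [charDegree]⟩

/-- A degree set of a group whose order has primes 2, 3, 7 only, with all three products. -/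
theorem graph_of_edges {A : Type*} [Group A] (hd : ∀ d ∈ charDegrees A, d ∣ 6048)
    (h6 : ∃ d ∈ charDegrees A, 6 ∣ d) (h14 : ∃ d ∈ charDegrees A, 14 ∣ d)
    (h21 : ∃ d ∈ charDegrees A, 21 ∣ d) :
    degreePrimes A = {2, 3, 7} ∧
      ∀ p q : ℕ, (degreeGraph A).Adj p q ↔ p ≠ q ∧ p ∈ ({2, 3, 7} : Set ℕ) ∧ q ∈ ({2, 3, 7} : Set ℕ) := by
  have hp : ∀ p : ℕ, p.Prime → p ∣ 6048 → p ∈ ({2, 3, 7} : Set ℕ) := by
    intro p hp h
    rw [show 6048 = 2 ^ 5 * 3 ^ 3 * 7 by norm_num] at h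
    rcases hp.dvd_mul.1 h with h | h
    · rcases hp.dvd_mul.1 h with h | h
      · simp [(Nat.prime_dvd_prime_iff_eq hp Nat.prime_two).1 (hp.dvd_of_dvd_pow h)]
      · simp [(Nat.prime_dvd_prime_iff_eq hp Nat.prime_three).1 (hp.dvd_of_dvd_pow h)]
    · simp [(Nat.prime_dvd_prime_iff_eq hp (by norm_num)).1 h]
  obtain ⟨a, ha, ha'⟩ := h6
  obtain ⟨b, hb, hb'⟩ := h14
  obtain ⟨c, hc, hc'⟩ := h21
  refine ⟨Set.ext fun p => ⟨fun h => ?_, fun h => ?_⟩, fun p q => ⟨fun h => ?_, fun h => ?_⟩⟩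
  · obtain ⟨hpp, d, hdm, hpd⟩ := h
    exact hp p hpp (hpd.trans (hd d hdm))
  · rcases h with rfl | rfl | rfl
    · exact ⟨Nat.prime_two, a, ha, (show 2 ∣ 6 by norm_num).trans ha'⟩
    · exact ⟨Nat.prime_three, a, ha, (show 3 ∣ 6 by norm_num).trans ha'⟩
    · exact ⟨by norm_num, b, hb, (show 7 ∣ 14 by norm_num).trans hb'⟩
  · obtain ⟨hne, hpp, hqq, d, hdm, hpq⟩ := h
    exact ⟨hne, hp p hpp ((Dvd.intro q rfl).trans (hpq.trans (hd d hdm))),
      hp q hqq ((Dvd.intro_left p rfl).trans (hpq.trans (hd d hdm)))⟩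
  · obtain ⟨hne, h1, h2⟩ := h
    rcases h1 with rfl | rfl | rfl <;> rcases h2 with rfl | rfl | rfl <;>
      first
      | exact absurd rfl hne
      | exact ⟨hne, by norm_num, by norm_num, a, ha, by simpa using ha'⟩
      | exact ⟨hne, by norm_num, by norm_num, b, hb, by simpa using hb'⟩
      | exact ⟨hne, by norm_num, by norm_num, c, hc, by simpa using hc'⟩

/-- The degree data of `PSU(3, 3)`. -/
theorem psu33_graph :
    degreePrimes (PSU 3 F 3) = {2, 3, 7} ∧ ∀ p q : ℕ, (degreeGraph (PSU 3 F 3)).Adj p q ↔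
      p ≠ q ∧ p ∈ ({2, 3, 7} : Set ℕ) ∧ q ∈ ({2, 3, 7} : Set ℕ) := by
  have e : PSU 3 F 3 ≃* SUF :=
    (QuotientGroup.quotientMulEquivOfEq (center_eq_bot hF.out)).trans QuotientGroup.quotientBot
  have hc := charDegrees_equiv e
  refine graph_of_edges ?_ ?_ ?_ ?_
  · rw [hc]; rintro d ⟨χ, rfl⟩; exact charDegree_dvd χ
  · rw [hc]; exact exists_degree_six
  · rw [hc]; exact ⟨14, mem_charDegrees_14, dvd_rfl⟩
  · rw [hc]; exact ⟨21, mem_charDegrees_21, dvd_rfl⟩

end Cfsg.Agent.PSU33
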