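import Cfsg.Agent.Lib.Recog.PhanTrans
import Cfsg.Agent.Lib.Classical.UnitTwo
import Cfsg.Agent.Lib.Classical.PSLAutFrame
import Cfsg.Agent.Lib.Classical.SLGroup

/-!
`SU₂(q)` is conjugate to `SL₂(q)`; its automorphisms are semilinear.
-/

set_option autoImplicit false
set_option linter.unusedSectionVars false

namespace Cfsg.Agent.Recog.Phan

open Matrix Cfsg.Agent.Classical Cfsg.Agent.Classical.PSLAut

variable {F : Type*} [Field F] [Fintype F] {q : ℕ} (hF : Fintype.card F = q ^ 2)

include hF

/-- The fixed field. -/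
def fixK : Subfield F := RingHom.eqLocusField (qFrob hF) (RingHom.id F)

theorem mem_fixK {x : F} : x ∈ fixK hF ↔ qFrob hF x = x := Iff.rfl

theorem natCard_fixK : Nat.card (fixK hF) = q := by
  classical
  haveI : Fintype (fixK hF) := Fintype.ofFinite _
  have h2 := two_le_q hF
  let e : (fixK hF)ˣ ≃ (powMonoidHom (q - 1) : Fˣ →* Fˣ).ker :=
    { toFun := fun u => ⟨Units.map (fixK hF).subtype.toMonoidHom u, Units.ext (by
        have h : qFrob hF ((u : fixK hF) : F) = ((u : fixK hF) : F) := (u : fixK hF).2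
        rw [qFrob_apply] at h
        have h0 : ((u : fixK hF) : F) ≠ 0 := by simp [u.ne_zero]
        show ((u : fixK hF) : F) ^ (q - 1) = 1
        refine mul_right_cancel₀ h0 ?_
        rw [one_mul, ← pow_succ, Nat.sub_add_cancel (by omega), h])⟩
      invFun := fun u => Units.mk0 ⟨((u : Fˣ) : F), by
          have h : ((u : Fˣ) : F) ^ (q - 1) = 1 := by
            have h := MonoidHom.mem_ker.1 u.2
            simp only [powMonoidHom_apply] at h
            rw [← Units.val_pow_eq_pow_val, h, Units.val_one]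
          show qFrob hF ((u : Fˣ) : F) = ((u : Fˣ) : F)
          rw [qFrob_apply]
          calc ((u : Fˣ) : F) ^ q = ((u : Fˣ) : F) ^ (q - 1) * ((u : Fˣ) : F) := by
                rw [← pow_succ, Nat.sub_add_cancel (by omega)]
            _ = _ := by rw [h, one_mul]⟩
        (fun h => Units.ne_zero (u : Fˣ) (congrArg Subtype.val h))
      left_inv := fun u => Units.ext rfl
      right_inv := fun u => Subtype.ext (Units.ext rfl) }
  have h1 : Nat.card (fixK hF)ˣ = q - 1 := by
    rw [Nat.card_congr e, IsCyclic.card_powMonoidHom_ker, Nat.card_units, Nat.card_eq_fintype_card, hF]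
    refine Nat.gcd_eq_right ⟨q + 1, ?_⟩
    obtain ⟨r, rfl⟩ : ∃ r, q = r + 1 := ⟨q - 1, by omega⟩
    rw [Nat.add_sub_cancel, show (r + 1) ^ 2 = r * (r + 1 + 1) + 1 by ring, Nat.add_sub_cancel]
  rw [Nat.card_units] at h1
  have : 0 < Nat.card (fixK hF) := Nat.card_pos
  omega

theorem exists_conj :
    ∃ (P : GL (Fin 2) F) (ψ : SpecialLinearGroup (Fin 2) (fixK hF) ≃* SU 2 F q),
      ∀ A, (ψ A).1.1 = P.1 * A.1.map (fixK hF).subtype * (P⁻¹ : GL (Fin 2) F).1 := by
  classical
  haveI : Fintype (fixK hF) := Fintype.ofFinite _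
  obtain ⟨ν, hν⟩ : ∃ ν, ν * qFrob hF ν = -1 := exists_nm hF (t := -1) (by rw [map_neg, map_one])
  obtain ⟨ζ, hζ, hζ2⟩ : ∃ ζ, ζ * qFrob hF ζ = 1 ∧ ζ ^ 2 ≠ 1 := exists_circle hF
  obtain ⟨μ, hμ⟩ : ∃ μ, qFrob hF μ ≠ μ := by
    by_contra h
    push Not at h
    exact qFrob_ne_id hF (RingHom.ext fun x => h x)
  have hζ1 : 1 - ζ ≠ 0 := fun h => hζ2 (by rw [← sub_eq_zero.1 h, one_pow])
  set z := (μ - qFrob hF μ) / (1 - ζ) with hz
  have hz0 : z ≠ 0 := div_ne_zero (sub_ne_zero.2 (Ne.symm hμ)) hζ1
  set κ := qFrob hF z * (1 - qFrob hF ζ) with hκ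
  have hskew : z * (1 - ζ) = -κ := by
    rw [hκ, ← map_one (qFrob hF), ← map_sub, ← map_mul, map_one, hz, div_mul_cancel₀ _ hζ1, map_sub,
      qFrob_qFrob]
    ring
  have hν0 : ν ≠ 0 := by
    rintro rfl
    rw [zero_mul] at hν
    exact one_ne_zero (α := F) (by linear_combination hν)
  have hdet : (!![1, z; ν, z * ν * ζ] : Matrix (Fin 2) (Fin 2) F).det ≠ 0 := by
    rw [Matrix.det_fin_two]
    simp only [of_apply, cons_val', cons_val_zero, cons_val_one, empty_val', cons_val_fin_one]
    rw [show 1 * (z * ν * ζ) - z * ν = -(z * ν * (1 - ζ)) by ring]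
    exact neg_ne_zero.2 (mul_ne_zero (mul_ne_zero hz0 hν0) hζ1)
  set P : GL (Fin 2) F := GeneralLinearGroup.mkOfDetNeZero !![1, z; ν, z * ν * ζ] hdet with hP
  have key : ∀ u v : Fin 2 → F, hm hF (P.1 *ᵥ u) (P.1 *ᵥ v) =
      κ * (u 0 * qFrob hF (v 1) - u 1 * qFrob hF (v 0)) := by
    intro u v
    simp [hP, GeneralLinearGroup.mkOfDetNeZero, hm_eq, Fin.sum_univ_two, Matrix.mulVec, dotProduct, hκ]
    linear_combination (u 0 * qFrob hF (v 0) + u 0 * qFrob hF z * qFrob hF ζ * qFrob hF (v 1) +
      z * ζ * u 1 * qFrob hF (v 0) + z * ζ * u 1 * qFrob hF z * qFrob hF ζ * qFrob hF (v 1)) * hν -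
      (z * u 1 * qFrob hF z * qFrob hF (v 1)) * hζ + (u 1 * qFrob hF (v 0)) * hskew
  let m : SpecialLinearGroup (Fin 2) (fixK hF) → SU 2 F q := fun A =>
    ⟨⟨P.1 * A.1.map (fixK hF).subtype * (P⁻¹ : GL (Fin 2) F).1, by
      rw [det_mul_right_comm, ← Units.val_mul, mul_inv_cancel, Units.val_one, one_mul,
        ← RingHom.mapMatrix_apply, ← RingHom.map_det, A.2, map_one]⟩, fun u v => by
      show hm hF ((P.1 * A.1.map (fixK hF).subtype * (P⁻¹ : GL (Fin 2) F).1) *ᵥ u)
        ((P.1 * A.1.map (fixK hF).subtype * (P⁻¹ : GL (Fin 2) F).1) *ᵥ v) = hm hF u v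
      have hu : ∀ w : Fin 2 → F, P.1 *ᵥ ((P⁻¹ : GL (Fin 2) F).1 *ᵥ w) = w := fun w => by
        rw [mulVec_mulVec, ← Units.val_mul, mul_inv_cancel, Units.val_one, one_mulVec]
      conv_rhs => rw [← hu u, ← hu v]
      simp only [← mulVec_mulVec, key]
      set u' := (P⁻¹ : GL (Fin 2) F).1 *ᵥ u
      set v' := (P⁻¹ : GL (Fin 2) F).1 *ᵥ v
      have fx : ∀ i j, qFrob hF (A.1 i j : F) = (A.1 i j : F) := fun i j => (A.1 i j).2
      have hd : (A.1 0 0 : F) * A.1 1 1 - A.1 0 1 * A.1 1 0 = 1 := by
        have h := congrArg Subtype.val A.2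
        rw [det_fin_two] at h
        simpa using h
      simp only [Matrix.mulVec, dotProduct, Fin.sum_univ_two, Matrix.map_apply, Subfield.coe_subtype, map_add,
        map_mul, fx]
      linear_combination κ * (u' 0 * qFrob hF (v' 1) - u' 1 * qFrob hF (v' 0)) * hd⟩
  let f : SpecialLinearGroup (Fin 2) (fixK hF) →* SU 2 F q :=
    { toFun := m
      map_one' := Subtype.ext (Subtype.ext (by simp [m]))
      map_mul' := fun A B => Subtype.ext (Subtype.ext (by
        show P.1 * (A.1 * B.1).map (fixK hF).subtype * _ = (P.1 * _ * _) * (P.1 * _ * _)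
        rw [Matrix.map_mul]
        simp only [Matrix.mul_assoc]
        rw [← Matrix.mul_assoc (P⁻¹ : GL (Fin 2) F).1 P.1, ← Units.val_mul, inv_mul_cancel, Units.val_one,
          Matrix.one_mul])) }
  have hinj : Function.Injective f := by
    intro A B h
    have h' : P.1 * A.1.map (fixK hF).subtype * (P⁻¹ : GL (Fin 2) F).1 =
        P.1 * B.1.map (fixK hF).subtype * (P⁻¹ : GL (Fin 2) F).1 := congrArg (fun x : SU 2 F q => x.1.1) h
    rw [Units.mul_left_inj, Units.mul_right_inj] at h'
    exact Subtype.ext (Matrix.map_injective Subtype.val_injective h')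
  obtain ⟨e⟩ := UnitTwo.exists_iso (K := fixK hF) hF (by rw [← Nat.card_eq_fintype_card, natCard_fixK])
  have hbij : Function.Bijective f :=
    (Nat.bijective_iff_injective_and_card f).2 ⟨hinj, (Nat.card_congr e.toEquiv).symm⟩
  exact ⟨P, MulEquiv.ofBijective f hbij, fun A => rfl⟩

theorem perfect (hq : 3 < q) : commutator (SU 2 F q) = ⊤ := by
  haveI : Fintype (fixK hF) := Fintype.ofFinite _
  obtain ⟨P, ψ, -⟩ := exists_conj hF
  have h : commutator (SpecialLinearGroup (Fin 2) (fixK hF)) = ⊤ :=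
    SL_commutator_eq_top fun _ => exists_sq_ne_one_field (by rw [← Nat.card_eq_fintype_card, natCard_fixK]; omega)
  have h2 := congrArg (Subgroup.map ψ.toMonoidHom) h
  rw [commutator_def, Subgroup.map_commutator, Subgroup.map_top_of_surjective _ ψ.surjective] at h2
  exact h2

/-- Two commutative families generate; in characteristic two they consist of involutions. -/
theorem exists_gens :
    ∃ T : Bool → fixK hF → SU 2 F q, Subgroup.closure (Set.range (fun x : Bool × fixK hF => T x.1 x.2)) = ⊤ ∧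
      (∀ b a a', Commute (T b a) (T b a')) ∧ ((2 : F) = 0 → ∀ b a, T b a * T b a = 1) ∧
      ¬ Commute (T true 1) (T false 1) := by
  obtain ⟨P, ψ, -⟩ := exists_conj hF
  have h01 : (0 : Fin 2) ≠ 1 := by decide
  set tv : Bool → fixK hF → SpecialLinearGroup (Fin 2) (fixK hF) := fun b a =>
    if b then SpecialLinearGroup.transvection h01 a else SpecialLinearGroup.transvection h01.symm a with htv
  refine ⟨fun b a => ψ (tv b a), ?_, fun b a a' => ?_, fun h2 b a => ?_, fun h => ?_⟩
  · have hcl : Subgroup.closure (Set.range (fun x : Bool × fixK hF => tv x.1 x.2)) = ⊤ := by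
      refine top_unique ?_
      rw [← SL_closure_transvections, Subgroup.closure_le]
      rintro _ ⟨⟨i, j, hij, c⟩, rfl⟩
      refine Subgroup.subset_closure ?_
      match i, j, hij with
      | 0, 0, h => exact absurd rfl h
      | 0, 1, _ => exact ⟨(true, c), rfl⟩
      | 1, 0, _ => exact ⟨(false, c), rfl⟩
      | 1, 1, h => exact absurd rfl h
    have := congrArg (Subgroup.map ψ.toMonoidHom) hcl
    rw [MonoidHom.map_closure, ← Set.range_comp, Subgroup.map_top_of_surjective _ ψ.surjective] at this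
    exact this
  · refine Commute.map ?_ ψ.toMonoidHom
    cases b <;>
    · refine Subtype.ext ?_
      ext i j
      fin_cases i <;> fin_cases j <;>
        simp [htv, SpecialLinearGroup.transvection_coe, Matrix.transvection, Matrix.mul_apply,
          Fin.sum_univ_two, add_comm]
  · show ψ _ * ψ _ = 1
    rw [← map_mul]
    have haa : a + a = 0 := Subtype.ext (by
      show (a : F) + a = 0
      rw [← two_mul, h2, zero_mul])
    convert map_one ψ using 2
    cases b <;>
    · refine Subtype.ext ?_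
      ext i j
      fin_cases i <;> fin_cases j <;>
        simp [htv, SpecialLinearGroup.transvection_coe, Matrix.transvection, Matrix.mul_apply,
          Fin.sum_univ_two, haa]
  · have h' := congrArg ψ.symm h.eq
    simp only [map_mul, MulEquiv.symm_apply_apply] at h'
    have := congrFun (congrFun (congrArg Subtype.val h') 0) 0
    simp [htv, SpecialLinearGroup.transvection_coe, Matrix.transvection, Matrix.mul_apply,
      Fin.sum_univ_two] at this

theorem ringAut_extend (σ : fixK hF ≃+* fixK hF) :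
    ∃ τ : F ≃+* F, ∀ x : fixK hF, τ (x : F) = (σ x : F) := by
  obtain ⟨p, hp⟩ := CharP.exists F
  haveI : Fact p.Prime := ⟨CharP.char_is_prime F p⟩
  haveI : CharP (fixK hF) p := (fixK hF).subtype.charP Subtype.val_injective p
  letI : Algebra (ZMod p) (fixK hF) := ZMod.algebra _ p
  let χ : fixK hF ≃ₐ[ZMod p] fixK hF := AlgEquiv.ofRingEquiv (f := σ) fun x => by
    show σ.toRingHom.comp (algebraMap (ZMod p) (fixK hF)) x = algebraMap (ZMod p) (fixK hF) x
    rw [RingHom.ext_zmod (σ.toRingHom.comp (algebraMap (ZMod p) (fixK hF))) (algebraMap (ZMod p) (fixK hF))]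
  haveI : Module.Finite (ZMod p) (fixK hF) := Module.Finite.of_finite
  obtain ⟨j, hj⟩ := (FiniteField.bijective_frobeniusAlgEquivOfAlgebraic_pow (ZMod p) (fixK hF)).2 χ
  refine ⟨iterateFrobeniusEquiv F p j.1, fun x => ?_⟩
  have hx : (FiniteField.frobeniusAlgEquivOfAlgebraic (ZMod p) (fixK hF))^[j.1] x = σ x := by
    rw [← AlgEquiv.coe_pow]
    exact DFunLike.congr_fun hj x
  rw [FiniteField.coe_frobeniusAlgEquivOfAlgebraic_iterate, ZMod.card] at hx
  rw [← hx]
  simp [iterateFrobeniusEquiv_def, iterateFrobenius_def]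

theorem exists_semilinear (hq : 2 < q) (θ : MulAut (SU 2 F q)) :
    ∃ (h : GL (Fin 2) F) (τ : F ≃+* F), ∀ g : SU 2 F q,
      (θ g).1.1 = h.1 * g.1.1.map τ * (h⁻¹ : GL (Fin 2) F).1 := by
  haveI : Fintype (fixK hF) := Fintype.ofFinite _
  obtain ⟨P, ψ, hψ⟩ := exists_conj hF
  obtain ⟨p, hp⟩ := CharP.exists F
  haveI : Fact p.Prime := ⟨CharP.char_is_prime F p⟩
  haveI : CharP (fixK hF) p := (fixK hF).subtype.charP Subtype.val_injective p
  set θ' : MulAut (SpecialLinearGroup (Fin 2) (fixK hF)) := ψ.trans (θ.trans ψ.symm) with hθ'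
  let Z := Subgroup.center (SpecialLinearGroup (Fin 2) (fixK hF))
  obtain ⟨g, σ, ε, -, hε, hβ⟩ := exists_param (p := p) (F := fixK hF) le_rfl
    (QuotientGroup.congr Z Z θ' (Subgroup.characteristic_iff_map_eq.1 inferInstance _))
  rw [hε rfl, pow_zero, mul_one] at hβ
  set β := θ'.trans (slSemi g σ).symm with hβ'
  have hc : ∀ A, A⁻¹ * β A ∈ Z := by
    intro A
    have h1 := DFunLike.congr_fun hβ (QuotientGroup.mk A)
    change (QuotientGroup.mk (θ' A) : _ ⧸ Z) = QuotientGroup.mk (slSemi g σ A) at h1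
    obtain ⟨z, hz, hz'⟩ : ∃ z ∈ Z, θ' A = slSemi g σ A * z :=
      ⟨(slSemi g σ A)⁻¹ * θ' A, QuotientGroup.eq.1 h1.symm, by rw [mul_inv_cancel_left]⟩
    rw [hβ', MulEquiv.trans_apply, hz', map_mul, MulEquiv.symm_apply_apply, inv_mul_cancel_left]
    have hmap := Subgroup.characteristic_iff_map_eq.1 (inferInstance : Z.Characteristic) (slSemi g σ).symm
    rw [← hmap]
    exact ⟨z, hz, rfl⟩
  let χ : SpecialLinearGroup (Fin 2) (fixK hF) →* Z :=
    { toFun := fun A => ⟨A⁻¹ * β A, hc A⟩
      map_one' := Subtype.ext (by simp)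
      map_mul' := fun A B => Subtype.ext (by
        have hA := Subgroup.mem_center_iff.1 (hc A) B⁻¹
        show (A * B)⁻¹ * β (A * B) = A⁻¹ * β A * (B⁻¹ * β B)
        rw [_root_.mul_inv_rev, map_mul, ← mul_assoc, ← mul_assoc, ← hA]
        simp only [mul_assoc]) }
  have hθA : ∀ A, θ' A = slSemi g σ A := by
    intro A
    have h1 : A ∈ χ.ker := by
      rcases Nat.eq_or_lt_of_le (show 3 ≤ q by omega) with hq3 | hq4
      · have hgen : Subgroup.closure (Set.range (Matrix.TransvectionStruct.toSpecialLinearGroup :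
            Matrix.TransvectionStruct (Fin 2) (fixK hF) → _)) ≤ χ.ker := by
          refine (Subgroup.closure_le _).2 ?_
          rintro _ ⟨T, rfl⟩
          obtain ⟨i, j, hij, c⟩ := T
          have h3 : (3 : fixK hF) = 0 := by
            have := FiniteField.cast_card_eq_zero (fixK hF)
            rw [show Fintype.card (fixK hF) = 3 by rw [← Nat.card_eq_fintype_card, natCard_fixK]; omega] at this
            exact_mod_cast this
          set u := Matrix.TransvectionStruct.toSpecialLinearGroup (⟨i, j, hij, c⟩ : TransvectionStruct (Fin 2) (fixK hF)) with hu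
          have hu3 : u ^ 3 = 1 := by
            refine Subtype.ext ?_
            rw [pow_three, hu]
            show transvection i j c * (transvection i j c * transvection i j c) = 1
            rw [transvection_mul_transvection_same i j hij, transvection_mul_transvection_same i j hij,
              show c + (c + c) = 0 by linear_combination c * h3, transvection_zero]
          have hz2 : χ u ^ 2 = 1 := Subtype.ext (by
            rw [Subgroup.coe_pow, Subgroup.coe_one]
            obtain ⟨r, hr, hM⟩ := Matrix.SpecialLinearGroup.mem_center_iff.1 (χ u).2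
            rw [Fintype.card_fin] at hr
            refine Subtype.ext ?_
            rw [Matrix.SpecialLinearGroup.coe_pow, Matrix.SpecialLinearGroup.coe_one, ← hM, ← map_pow, hr, map_one])
          have hz3 : χ u ^ 3 = 1 := by rw [← map_pow, hu3, map_one]
          show χ u = 1
          rw [pow_succ, hz2, one_mul] at hz3
          exact hz3
        rw [SL_closure_transvections] at hgen
        exact hgen (Subgroup.mem_top A)
      · have hperf : commutator (SpecialLinearGroup (Fin 2) (fixK hF)) = ⊤ :=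
          SL_commutator_eq_top fun _ =>
            exists_sq_ne_one_field (by rw [← Nat.card_eq_fintype_card, natCard_fixK]; omega)
        have : commutator _ ≤ χ.ker := by
          rw [commutator_def, Subgroup.commutator_le]
          intro a _ b _
          rw [MonoidHom.mem_ker, map_commutatorElement, commutatorElement_eq_one_iff_mul_comm]
          exact Subtype.ext ((Subgroup.mem_center_iff.1 (χ b).2 _))
        exact this (by rw [hperf]; exact Subgroup.mem_top A)
    have h2 : A⁻¹ * β A = 1 := congrArg Subtype.val (MonoidHom.mem_ker.1 h1)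
    rw [inv_mul_eq_one] at h2
    calc θ' A = slSemi g σ (β A) := ((slSemi g σ).apply_symm_apply (θ' A)).symm
      _ = slSemi g σ A := by rw [← h2]
  obtain ⟨τ, hτ⟩ := ringAut_extend hF σ
  set gF : GL (Fin 2) F := GeneralLinearGroup.map (fixK hF).subtype g
  set Pτ : GL (Fin 2) F := GeneralLinearGroup.map τ.toRingHom P
  refine ⟨P * gF * Pτ⁻¹, τ, fun x => ?_⟩
  obtain ⟨A, rfl⟩ := ψ.surjective x
  have e : θ (ψ A) = ψ (θ' A) := by simp [hθ']
  rw [e, hθA, hψ, hψ, slSemi_coe]
  have hA : (A.1.map (fixK hF).subtype).map τ = (A.1.map σ).map (fixK hF).subtype := by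
    ext i j; exact hτ (A.1 i j)
  have hM : (P.1 * A.1.map (fixK hF).subtype * (P⁻¹ : GL (Fin 2) F).1).map τ =
      Pτ.1 * (A.1.map σ).map (fixK hF).subtype * (Pτ⁻¹ : GL (Fin 2) F).1 := by
    rw [Matrix.map_mul, Matrix.map_mul, hA]
    congr 1
  rw [hM, Matrix.map_mul, Matrix.map_mul, _root_.mul_inv_rev, inv_inv, _root_.mul_inv_rev,
    Units.val_mul, Units.val_mul, Units.val_mul, Units.val_mul]
  have e1 : (g.1.map (fixK hF).subtype) = gF.1 := rfl
  have e2 : ((g⁻¹ : GL (Fin 2) (fixK hF)).1.map (fixK hF).subtype) = (gF⁻¹ : GL (Fin 2) F).1 := by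
    rw [show gF⁻¹ = GeneralLinearGroup.map (fixK hF).subtype g⁻¹ from (map_inv _ _).symm]
    rfl
  rw [e1, e2]
  simp only [Matrix.mul_assoc, Units.inv_mul_cancel_left]

end Cfsg.Agent.Recog.Phan
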