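import Mathlib

/-!
A lifting of adjacency which respects triangles and quadrangles is trivial on a simply connected graph of
diameter two.
-/

set_option autoImplicit false
set_option linter.unusedSectionVars false

namespace Cfsg.Agent.Recog.Phan

variable {P X : Type*} (adj : P → P → Prop)

/-- Some point is adjacent to all three. -/
def Good (a c d : P) : Prop := ∃ z, adj a z ∧ adj z c ∧ adj z d

/-- The graph conditions. -/
structure Shape : Prop where
  symm : ∀ {a b}, adj a b → adj b a
  common : ∀ a c, ∃ b, adj a b ∧ adj b c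
  detour : ∀ a c d, adj c d →
    Good adj a c d ∨ ∃ g, adj c g ∧ adj g d ∧ Good adj a c g ∧ Good adj a g d

/-- The conditions on a lifting. -/
structure Lifting (π : X → P) (l : X → P → X) : Prop where
  lift : ∀ x p, adj (π x) p → π (l x p) = p
  back : ∀ x p, adj (π x) p → l (l x p) (π x) = x
  tri : ∀ x b c, adj (π x) b → adj (π x) c → adj b c → l (l x b) c = l x c
  sq : ∀ x b c d, adj (π x) b → adj b c → adj (π x) d → adj d c → l (l x b) c = l (l x d) c

/-- The lifting has a section through any point. -/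
theorem exists_section {π : X → P} {l : X → P → X} (hS : Shape adj) (hL : Lifting adj π l) (x₀ : X) :
    ∃ L : P → X, (∀ p, π (L p) = p) ∧ L (π x₀) = x₀ ∧ ∀ c d, adj c d → l (L c) d = L d := by
  choose β hβ using hS.common (π x₀)
  let L : P → X := fun p => l (l x₀ (β p)) p
  have hany : ∀ p b, adj (π x₀) b → adj b p → L p = l (l x₀ b) p := fun p b h1 h2 =>
    hL.sq x₀ _ p b (hβ p).1 (hβ p).2 h1 h2
  have hπ : ∀ p, π (L p) = p := fun p =>
    hL.lift _ _ (by rw [hL.lift _ _ (hβ p).1]; exact (hβ p).2)
  have good : ∀ c d, adj c d → Good adj (π x₀) c d → l (L c) d = L d := by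
    rintro c d hcd ⟨z, h1, h2, h3⟩
    rw [hany c z h1 h2, hany d z h1 h3]
    have e := hL.lift _ _ h1
    exact hL.tri _ c d (by rwa [e]) (by rwa [e]) hcd
  refine ⟨L, hπ, ?_, fun c d hcd => ?_⟩
  · exact hL.back _ _ (hβ (π x₀)).1
  · rcases hS.detour (π x₀) c d hcd with h | ⟨g, hcg, hgd, h1, h2⟩
    · exact good c d hcd h
    · rw [← hL.tri (L c) g d (by rw [hπ]; exact hcg) (by rw [hπ]; exact hcd) hgd, good c g hcg h1,
        good g d hgd h2]

end Cfsg.Agent.Recog.Phan
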