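import Cfsg.Agent.Lib.Recog.PhanTwoTrans
import Cfsg.Agent.Lib.Recog.PhanCover

/-!
The orthogonality graph of unit vectors in at least four dimensions.
-/

set_option autoImplicit false
set_option linter.unusedSectionVars false

namespace Cfsg.Agent.Recog.Phan

open Matrix Cfsg.Agent.Classical Cfsg.Agent.Lie.SpnPres

variable {F : Type*} [Field F] [Fintype F] {q : ℕ} (hF : Fintype.card F = q ^ 2)

/-- Unit vectors. -/
abbrev UV (n : ℕ) : Type _ := {v : Fin n → F // hm hF v v = 1}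

/-- Orthogonality of unit vectors. -/
def Orth {n : ℕ} (a b : UV hF n) : Prop := hm hF a.1 b.1 = 0

include hF

theorem hm_two_add {m n : ℕ} (hn : n = m + 2) (h : 2 + m ≤ n) (i0 i1 : Fin n) (h0 : (i0 : ℕ) = 0)
    (h1 : (i1 : ℕ) = 1) (u v : Fin n → F) :
    hm hF u v = u i0 * qFrob hF (v i0) + u i1 * qFrob hF (v i1) +
      hm hF (u ∘ sh 2 m n h) (v ∘ sh 2 m n h) := by
  subst hn
  rw [hm_eq, hm_eq, Fin.sum_univ_succ, Fin.sum_univ_succ, ← add_assoc]
  congr 1
  · rw [show i0 = 0 from Fin.ext h0, show i1 = Fin.succ 0 from Fin.ext (by simp [h1])]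
  · refine Finset.sum_congr rfl fun a _ => ?_
    have e : sh 2 m (m + 2) h a = a.succ.succ := Fin.ext (by simp [sh_val, Nat.add_comm, Nat.add_left_comm])
    simp [e]

/-- A padded vector pairs with the coordinates it occupies. -/
theorem hm_pad {m n : ℕ} (f : Fin m ↪ Fin n) (u : Fin m → F) (v : Fin n → F) :
    hm hF (Function.extend f u 0) v = hm hF u (v ∘ f) := by
  rw [hm_split hF f, Finset.sum_eq_zero, add_zero]
  · congr 1
    exact funext fun a => f.injective.extend_apply u 0 a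
  · intro i hi
    rw [Function.extend_apply' _ _ _ (by rintro ⟨a, ha⟩; simp [← ha] at hi), Pi.zero_apply, zero_mul]

theorem hm_pad_self {m n : ℕ} (f : Fin m ↪ Fin n) (u : Fin m → F) :
    hm hF (Function.extend f u 0) (Function.extend f u 0) = hm hF u u := by
  rw [hm_pad]
  congr 1
  exact funext fun a => f.injective.extend_apply u 0 a

theorem exists_frame {n : ℕ} (hn : 3 ≤ n) (i0 i1 : Fin n) (h0 : (i0 : ℕ) = 0) (h1 : (i1 : ℕ) = 1)
    {c d : Fin n → F} (hc : hm hF c c = 1) (hd : hm hF d d = 1) (hcd : hm hF d c = 0) :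
    ∃ g : SU n F q, mv g (bv F i0) = c ∧ mv g (bv F i1) = d := by
  obtain ⟨g, hg⟩ := exists_move_any hF (by omega) i0 h0 hc
  set f := sh 1 (n - 1) n (by omega) with hf
  set w := mv g⁻¹ d with hw
  have hw0 : w i0 = 0 := by
    rw [← hm_bv_right hF w i0, hw, ← mv_form hF g, mv_cancel_inv, hg, hcd]
  have hpad : Function.extend f (w ∘ f) 0 = w := by
    funext i
    by_cases hi : ∃ a, f a = i
    · obtain ⟨a, rfl⟩ := hi
      exact f.injective.extend_apply _ 0 a
    · rw [Function.extend_apply' _ _ _ hi, Pi.zero_apply]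
      push Not at hi
      have : i = i0 := by
        by_contra hne
        have h2 : (i : ℕ) ≠ 0 := fun h => hne (Fin.ext (h.trans h0.symm))
        refine hi ⟨(i : ℕ) - 1, by omega⟩ (Fin.ext ?_)
        simp [hf, sh_val]; omega
      rw [this, hw0]
  have hn1 : hm hF (w ∘ f) (w ∘ f) = 1 := by
    rw [← hm_pad_self hF f, hpad, hw, mv_form, hd]
  obtain ⟨y, hy⟩ := exists_move_any hF (M := n - 1) (by omega) ⟨0, by omega⟩ rfl hn1
  have hi1 : f ⟨0, by omega⟩ = i1 := Fin.ext (by simp [hf, sh_val, h1])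
  refine ⟨g * emb hF f y, ?_, ?_⟩
  · rw [mv_mul, emb_fix_bv hF f y (fun a h => ?_), hg]
    have := congrArg Fin.val h
    simp [hf, sh_val, h0] at this
  · rw [mv_mul]
    have e : mv (emb hF f y) (bv F i1) = w := by
      funext i
      by_cases hi : ∃ a, f a = i
      · obtain ⟨a, rfl⟩ := hi
        rw [emb_mv_in, ← hi1, bv_comp, hy]; rfl
      · rw [← hpad, Function.extend_apply' _ _ _ hi, Pi.zero_apply]
        push Not at hi
        rw [emb_mv_out hF f y _ hi, bv, Pi.single_eq_of_ne]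
        exact fun h => hi _ (hi1.trans h.symm)
    rw [e, hw, mv_cancel_inv]

theorem exists_good {n : ℕ} (hn : 4 ≤ n) {c d : Fin n → F} (a : Fin n → F)
    (hc : hm hF c c = 1) (hd : hm hF d d = 1) (hcd : hm hF d c = 0)
    (ha : hm hF a a - nm hF (hm hF a c) - nm hF (hm hF a d) ≠ 0 ∨
      a = hm hF a c • c + hm hF a d • d) :
    ∃ z, hm hF z z = 1 ∧ hm hF z a = 0 ∧ hm hF z c = 0 ∧ hm hF z d = 0 := by
  set i0 : Fin n := ⟨0, by omega⟩
  set i1 : Fin n := ⟨1, by omega⟩
  obtain ⟨g, hg0, hg1⟩ := exists_frame hF (by omega) i0 i1 rfl rfl hc hd hcd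
  set f := sh 2 (n - 2) n (by omega) with hf
  set a' := mv g⁻¹ a with ha'
  have e0 : a' i0 = hm hF a c := by rw [← hm_bv_right hF a', ha', ← mv_form hF g, mv_cancel_inv, hg0]
  have e1 : a' i1 = hm hF a d := by rw [← hm_bv_right hF a', ha', ← mv_form hF g, mv_cancel_inv, hg1]
  have hne : ∀ x, f x ≠ i0 ∧ f x ≠ i1 := fun x => ⟨fun h => by
    have := congrArg Fin.val h; simp [hf, sh_val, i0] at this, fun h => by
    have := congrArg Fin.val h; simp [hf, sh_val, i1] at this; omega⟩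
  have ht : a' ∘ f = 0 ∨ hm hF (a' ∘ f) (a' ∘ f) ≠ 0 := by
    rcases ha with ha | ha
    · refine Or.inr fun h => ha ?_
      have := hm_two_add hF (show n = n - 2 + 2 by omega) (by omega) i0 i1 rfl rfl a' a'
      rw [← hf, h, add_zero, ha', mv_form, ← ha', e0, e1] at this
      rw [this]; simp only [nm]; ring
    · refine Or.inl (funext fun x => ?_)
      have : a' = hm hF a c • bv F i0 + hm hF a d • bv F i1 := by
        rw [ha']
        conv_lhs => rw [ha]
        rw [mv_add, mv_smul, mv_smul, ← hg0, ← hg1, mv_inv_cancel, mv_inv_cancel]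
      rw [this]
      simp [bv, (hne x).1, (hne x).2]
  obtain ⟨z, hz, hza⟩ := perp_of hF (show 2 ≤ n - 2 by omega) _ ht
  refine ⟨mv g (Function.extend f z 0), by rw [mv_form, hm_pad_self, hz], ?_, ?_, ?_⟩
  · rw [← mv_cancel_inv g a, mv_form, hm_pad, ← ha', hza]
  · rw [← hg0, mv_form, hm_pad, comp_zero_of_out f (fun x => (hne x).1), hm_zero_right]
  · rw [← hg1, mv_form, hm_pad, comp_zero_of_out f (fun x => (hne x).2), hm_zero_right]

theorem exists_dual {n : ℕ} {r : Fin n → F} (hr : r ≠ 0) : ∃ w, hm hF w r = 1 := by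
  obtain ⟨j, hj⟩ := Function.ne_iff.1 hr
  exact ⟨(qFrob hF (r j))⁻¹ • bv F j, by
    rw [hm_smul_left, hm_bv_left, inv_mul_cancel₀ ((map_ne_zero _).2 hj)]⟩

theorem exists_common {n : ℕ} (hn : 4 ≤ n) {a : Fin n → F} (c : Fin n → F)
    (ha : hm hF a a = 1) : ∃ b, hm hF b b = 1 ∧ hm hF b a = 0 ∧ hm hF b c = 0 := by
  set i0 : Fin n := ⟨0, by omega⟩
  obtain ⟨g, hg⟩ := exists_move_any hF (by omega) i0 rfl ha
  set f := sh 1 (n - 1) n (by omega) with hf
  obtain ⟨z, hz, hzc⟩ := perp_three hF (show 3 ≤ n - 1 by omega) (mv g⁻¹ c ∘ f)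
  refine ⟨mv g (Function.extend f z 0), by rw [mv_form, hm_pad_self, hz], ?_, ?_⟩
  · rw [← hg, mv_form, hm_pad, comp_zero_of_out f, hm_zero_right]
    intro x h
    have := congrArg Fin.val h; simp [hf, sh_val, i0] at this
  · rw [← mv_cancel_inv g c, mv_form, hm_pad, hzc]

theorem detour (hq : 3 < q) {n : ℕ} (hn : 4 ≤ n) (a c d : UV hF n) (hcd : Orth hF c d) :
    Good (Orth hF) a c d ∨
      ∃ g, Orth hF c g ∧ Orth hF g d ∧ Good (Orth hF) a c g ∧ Good (Orth hF) a g d := by
  obtain ⟨a, ha⟩ := a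
  obtain ⟨c, hc⟩ := c
  obtain ⟨d, hd⟩ := d
  change hm hF c d = 0 at hcd
  have hdc := hm_zero_symm hF hcd
  have mk : ∀ {c d : Fin n → F} (hc : hm hF c c = 1) (hd : hm hF d d = 1), hm hF d c = 0 →
      (hm hF a a - nm hF (hm hF a c) - nm hF (hm hF a d) ≠ 0 ∨ a = hm hF a c • c + hm hF a d • d) →
      Good (Orth hF) ⟨a, ha⟩ ⟨c, hc⟩ ⟨d, hd⟩ := by
    intro c d hc hd h1 h2
    obtain ⟨z, z1, z2, z3, z4⟩ := exists_good hF hn a hc hd h1 h2
    exact ⟨⟨z, z1⟩, hm_zero_symm hF z2, z3, z4⟩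
  set α := hm hF a c with hα
  set β := hm hF a d with hβ
  by_cases h : hm hF a a - nm hF α - nm hF β ≠ 0 ∨ a = α • c + β • d
  · exact Or.inl (mk hc hd hdc h)
  push Not at h
  obtain ⟨hiso, hne⟩ := h
  refine Or.inr ?_
  set t := a + (-α) • c + (-β) • d with ht
  have htc : hm hF t c = 0 := by
    rw [ht, hm_add_left, hm_add_left, hm_smul_left, hm_smul_left, hc, hdc, ← hα]; ring
  have htd : hm hF t d = 0 := by
    rw [ht, hm_add_left, hm_add_left, hm_smul_left, hm_smul_left, hd, hcd, ← hβ]; ring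
  have htt : hm hF t t = 0 := by
    have hta : hm hF t a = 0 := by
      rw [ht, hm_add_left, hm_add_left, hm_smul_left, hm_smul_left, ← hm_symm hF a c, ← hm_symm hF a d,
        ← hα, ← hβ]
      simp only [nm] at hiso
      linear_combination hiso
    rw [ht, hm_add_right, hm_add_right, hm_smul_right, hm_smul_right, ← ht, hta, htc, htd]
    ring
  have hat : hm hF a t = 0 := by
    have e : a = t + α • c + β • d := by rw [ht]; module
    rw [e, hm_add_left, hm_add_left, hm_smul_left, hm_smul_left, htt, hm_zero_symm hF htc,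
      hm_zero_symm hF htd]
    ring
  have ht0 : t ≠ 0 := fun h0 => hne (by
    have e : a = t + α • c + β • d := by rw [ht]; module
    rwa [h0, zero_add] at e)
  obtain ⟨w0, hw0⟩ := exists_dual hF ht0
  set w := w0 + (-hm hF w0 c) • c + (-hm hF w0 d) • d with hw
  have hwc : hm hF w c = 0 := by
    rw [hw, hm_add_left, hm_add_left, hm_smul_left, hm_smul_left, hc, hdc]; ring
  have hwd : hm hF w d = 0 := by
    rw [hw, hm_add_left, hm_add_left, hm_smul_left, hm_smul_left, hd, hcd]; ring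
  have hwt : hm hF w t = 1 := by
    rw [hw, hm_add_left, hm_add_left, hm_smul_left, hm_smul_left, hm_zero_symm hF htc,
      hm_zero_symm hF htd, hw0]; ring
  obtain ⟨T, hTf, hT0, hTα, hTβ⟩ := avoid2 hF hq (nm hF α) (nm hF β)
  obtain ⟨τ, hτ⟩ := exists_nm hF hTf
  have hτ0 : qFrob hF τ ≠ 0 := by
    rw [Ne, map_eq_zero]; rintro rfl; rw [nm_zero] at hτ; exact hT0 hτ.symm
  obtain ⟨ν, hν⟩ := exists_trace hF (T := 1 - T * hm hF w w)
    (by rw [map_sub, map_one, map_mul, hTf, hm_self_fix])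
  set g := τ • w + (ν / qFrob hF τ) • t with hg
  have hgt : hm hF g t = τ := by rw [hg, hm_add_left, hm_smul_left, hm_smul_left, hwt, htt]; ring
  have hgg : hm hF g g = 1 := by
    have hgw : hm hF g w = τ * hm hF w w + ν / qFrob hF τ := by
      rw [hg, hm_add_left, hm_smul_left, hm_smul_left, ← hm_symm hF w t, hwt, map_one]; ring
    conv_lhs => arg 2; rw [hg]
    rw [hm_add_right, hm_smul_right, hm_smul_right, hgw, hgt, map_div₀, qFrob_qFrob]
    have hτ1 : τ ≠ 0 := fun h => hτ0 (by rw [h, map_zero])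
    field_simp
    simp only [nm] at hτ
    linear_combination hν + hm hF w w * hτ
  have hgc : hm hF g c = 0 := by rw [hg, hm_add_left, hm_smul_left, hm_smul_left, hwc, htc]; ring
  have hgd : hm hF g d = 0 := by rw [hg, hm_add_left, hm_smul_left, hm_smul_left, hwd, htd]; ring
  have hag : nm hF (hm hF a g) = T := by
    have e : a = t + α • c + β • d := by rw [ht]; module
    rw [e, hm_add_left, hm_add_left, hm_smul_left, hm_smul_left, hm_zero_symm hF hgc,
      hm_zero_symm hF hgd, mul_zero, mul_zero, add_zero, add_zero, ← hm_symm hF g t, hgt, nm_conj, hτ]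
  refine ⟨⟨g, hgg⟩, hm_zero_symm hF hgc, hgd, mk hc hgg hgc (Or.inl ?_), mk hgg hd (hm_zero_symm hF hgd) (Or.inl ?_)⟩
  · rw [hag, ← hα]
    intro hh; exact hTβ (by linear_combination hiso - hh)
  · rw [hag, ← hβ]
    intro hh; exact hTα (by linear_combination hiso - hh)

theorem shape (hq : 3 < q) {n : ℕ} (hn : 4 ≤ n) : Shape (Orth hF (n := n)) where
  symm h := hm_zero_symm hF h
  common a c := by
    obtain ⟨b, h1, h2, h3⟩ := exists_common hF hn c.1 a.2
    exact ⟨⟨b, h1⟩, hm_zero_symm hF h2, h3⟩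
  detour a c d h := detour hF hq hn a c d h

/-- The two auxiliary points for a tangent quadrangle. -/
theorem tangent (hq : 3 < q) {n : ℕ} (hn : 4 ≤ n) {a b c d : Fin n → F} (ha : hm hF a a = 1)
    (hb : hm hF b b = 1) (hc : hm hF c c = 1) (hd : hm hF d d = 1) (hab : hm hF b a = 0)
    (hcb : hm hF c b = 0) (hda : hm hF d a = 0) (hcd : hm hF c d = 0) (hδ : hm hF d b ≠ 0)
    (hca : nm hF (hm hF c a) = 1) (hne : c ≠ hm hF c a • a)
    (hB : ∀ κ : F, d + (-hm hF d b) • b = κ • (c + (-hm hF c a) • a) →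
      4 < q ∨ ((1 + 1 : F) = 0 ∧ (nm hF κ = 0 ∨ nm hF κ = nm hF (hm hF d b)))) :
    ∃ x y, hm hF x x = 1 ∧ hm hF y y = 1 ∧ hm hF x a = 0 ∧ hm hF x b = 0 ∧ hm hF x y = 0 ∧
      hm hF y c = 0 ∧ hm hF y d = 0 ∧ nm hF (hm hF y a) ≠ 1 ∧ nm hF (hm hF y b) ≠ 1 := by
  have hba := hm_zero_symm hF hab
  set γ := hm hF c a with hγ
  set δ := hm hF d b
  set r := c + (-γ) • a with hr
  set s := d + (-δ) • b with hs
  have hra : hm hF r a = 0 := by rw [hr, hm_add_left, hm_smul_left, ha, ← hγ]; ring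
  have hrb : hm hF r b = 0 := by rw [hr, hm_add_left, hm_smul_left, hba, hcb]; ring
  have hsa : hm hF s a = 0 := by rw [hs, hm_add_left, hm_smul_left, hab, hda]; ring
  have hsb : hm hF s b = 0 := by rw [hs, hm_add_left, hm_smul_left, hb]; ring
  have hrc : hm hF r c = 0 := by
    rw [hr, hm_add_left, hm_smul_left, hc, ← hm_symm hF c a, ← hγ]
    simp only [nm] at hca
    linear_combination -hca
  have hrr : hm hF r r = 0 := by
    conv_lhs => arg 2; rw [hr]
    rw [hm_add_right, hm_smul_right, hrc, hra]; ring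
  have hrs : hm hF r s = 0 := by
    rw [hs, hm_add_right, hm_smul_right, hrb, hr, hm_add_left, hm_smul_left, hcd, hm_zero_symm hF hda]
    ring
  have hr0 : r ≠ 0 := fun h => hne (by
    have e : c = r + γ • a := by rw [hr]; module
    rwa [h, zero_add] at e)
  obtain ⟨w0, hw0, hw0s⟩ : ∃ w0, hm hF w0 r = 1 ∧
      (4 < q ∨ ((1 + 1 : F) = 0 ∧ (nm hF (hm hF w0 s) = 0 ∨ nm hF (hm hF w0 s) = nm hF δ)) ∨
        hm hF w0 s = 0) := by
    obtain ⟨w1, hw1⟩ := exists_dual hF hr0
    by_cases hdep : ∃ κ : F, s = κ • r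
    · obtain ⟨κ, hκ⟩ := hdep
      refine ⟨w1, hw1, ?_⟩
      rw [hκ, hm_smul_right, hw1, mul_one, nm_conj]
      rcases hB κ hκ with h | h
      · exact Or.inl h
      · exact Or.inr (Or.inl h)
    · push Not at hdep
      set η := hm hF w1 s with hη
      have hs'0 : s + (-qFrob hF η) • r ≠ 0 := fun h => hdep (qFrob hF η) (by
        have e : s = (s + (-qFrob hF η) • r) + qFrob hF η • r := by module
        rwa [h, zero_add] at e)
      obtain ⟨w3, hw3⟩ := exists_dual hF hs'0
      have hw1' : hm hF w1 (s + (-qFrob hF η) • r) = 0 := by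
        rw [hm_add_right, hm_smul_right, hw1, map_neg, qFrob_qFrob, ← hη]; ring
      set w2 := w3 + (-hm hF w3 r) • w1 with hw2
      have h2r : hm hF w2 r = 0 := by rw [hw2, hm_add_left, hm_smul_left, hw1]; ring
      have h2s : hm hF w2 s = 1 := by
        have e : s = (s + (-qFrob hF η) • r) + qFrob hF η • r := by module
        rw [e, hm_add_right, hm_smul_right, h2r, hw2, hm_add_left, hm_smul_left, hw3, hw1']; ring
      refine ⟨w1 + (-η) • w2, by rw [hm_add_left, hm_smul_left, hw1, h2r]; ring, Or.inr (Or.inr ?_)⟩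
      rw [hm_add_left, hm_smul_left, h2s, ← hη]; ring
  set w := w0 + (-hm hF w0 a) • a + (-hm hF w0 b) • b with hw
  have hwa : hm hF w a = 0 := by
    rw [hw, hm_add_left, hm_add_left, hm_smul_left, hm_smul_left, ha, hab]; ring
  have hwb : hm hF w b = 0 := by
    rw [hw, hm_add_left, hm_add_left, hm_smul_left, hm_smul_left, hb, hba]; ring
  have hwr : hm hF w r = 1 := by
    rw [hw, hm_add_left, hm_add_left, hm_smul_left, hm_smul_left, hw0, hm_zero_symm hF hra,
      hm_zero_symm hF hrb]; ring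
  set u := hm hF w s
  set y1 := -u / qFrob hF δ with hy1
  set B := nm hF y1
  have hBf : qFrob hF B = B := nm_fix hF y1
  obtain ⟨T, hTf, hT0, hT1, hTB, hTS⟩ : ∃ T : F, qFrob hF T = T ∧ T ≠ 0 ∧ T ≠ -1 ∧ T ≠ -B ∧ T ≠ -1 - B := by
    rcases hw0s with h | h
    · exact avoid3 hF h (-1) (-B) (-1 - B)
    obtain ⟨T, t1, t2, t3, -⟩ := avoid2 hF hq (-1) (-1)
    have hu : hm hF w0 s = u := by
      rw [show u = hm hF w s from rfl, hw, hm_add_left, hm_add_left, hm_smul_left, hm_smul_left,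
        hm_zero_symm hF hsa, hm_zero_symm hF hsb]
      ring
    have hBu : B = nm hF u / nm hF δ := by
      simp only [B, hy1, div_eq_mul_inv, nm_mul, nm_inv, nm_neg, nm_conj]
    rcases h with ⟨two, h | h⟩ | h
    · rw [hu] at h
      rw [h, zero_div] at hBu
      exact ⟨T, t1, t2, t3, by rw [hBu, neg_zero]; exact t2, by rw [hBu, sub_zero]; exact t3⟩
    · rw [hu] at h
      rw [h, div_self (fun e => hδ ((nm_eq_zero hF).1 e))] at hBu
      exact ⟨T, t1, t2, t3, by rw [hBu]; exact t3,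
        by rw [hBu, show (-1 - 1 : F) = 0 by linear_combination -two]; exact t2⟩
    · rw [hu] at h
      rw [h, nm_zero, zero_div] at hBu
      exact ⟨T, t1, t2, t3, by rw [hBu, neg_zero]; exact t2, by rw [hBu, sub_zero]; exact t3⟩
  obtain ⟨μ, hμ⟩ := exists_trace hF (T := T - hm hF w w) (by rw [map_sub, hTf, hm_self_fix])
  set ym := w + μ • r with hym
  have hya : hm hF ym a = 0 := by rw [hym, hm_add_left, hm_smul_left, hwa, hra]; ring
  have hyb : hm hF ym b = 0 := by rw [hym, hm_add_left, hm_smul_left, hwb, hrb]; ring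
  have hyr : hm hF ym r = 1 := by rw [hym, hm_add_left, hm_smul_left, hwr, hrr]; ring
  have hys : hm hF ym s = u := by rw [hym, hm_add_left, hm_smul_left, hrs]; ring
  have hyy : hm hF ym ym = T := by
    have h1 : hm hF ym w = hm hF w w + μ := by
      rw [hym, hm_add_left, hm_smul_left, ← hm_symm hF w r, hwr, map_one]; ring
    conv_lhs => arg 2; rw [hym]
    rw [hm_add_right, hm_smul_right, h1, hyr]
    linear_combination hμ
  obtain ⟨x, hx, hxy, hxa, hxb⟩ := exists_good hF hn ym ha hb hab (Or.inl (by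
    rw [hyy, hya, hyb, nm_zero]; simpa using hT0))
  set y := (-γ) • a + y1 • b + ym with hy
  have hay : hm hF y a = -γ := by
    rw [hy, hm_add_left, hm_add_left, hm_smul_left, hm_smul_left, ha, hab, hya]; ring
  have hby : hm hF y b = y1 := by
    rw [hy, hm_add_left, hm_add_left, hm_smul_left, hm_smul_left, hb, hba, hyb]; ring
  have hymy : hm hF ym y = T := by
    rw [hy, hm_add_right, hm_add_right, hm_smul_right, hm_smul_right, hya, hyb, hyy]; ring
  have hyn : hm hF y y = 1 + B + T := by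
    conv_lhs => arg 2; rw [hy]
    rw [hm_add_left, hm_add_left, hm_smul_left, hm_smul_left, hymy, ← hm_symm hF y a, ← hm_symm hF y b,
      hay, hby, map_neg]
    simp only [nm, B] at hca ⊢
    linear_combination hca
  have hyc : hm hF y c = 0 := by
    rw [show c = γ • a + r by rw [hr]; module, hm_add_right, hm_smul_right, hay, hy, hm_add_left,
      hm_add_left, hm_smul_left, hm_smul_left, hm_zero_symm hF hra, hm_zero_symm hF hrb, hyr]
    simp only [nm] at hca
    linear_combination -hca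
  have hyd : hm hF y d = 0 := by
    have hδ' : qFrob hF δ ≠ 0 := (map_ne_zero _).2 hδ
    rw [show d = δ • b + s by rw [hs]; module, hm_add_right, hm_smul_right, hby, hy, hm_add_left,
      hm_add_left, hm_smul_left, hm_smul_left, hm_zero_symm hF hsa, hm_zero_symm hF hsb, hys, hy1]
    field_simp
    ring
  have hν0 : 1 + B + T ≠ 0 := fun h => hTS (by linear_combination h)
  obtain ⟨ν, hν⟩ := exists_nm hF (t := 1 + B + T) (by rw [← hyn, hm_self_fix])
  refine ⟨x, ν⁻¹ • y, hx, ?_, hxa, hxb, ?_, ?_, ?_, ?_, ?_⟩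
  · rw [hm_self_smul, nm_inv, hν, hyn, inv_mul_cancel₀ hν0]
  · rw [hm_smul_right, hy, hm_add_right, hm_add_right, hm_smul_right, hm_smul_right, hxa, hxb, hxy]
    ring
  · rw [hm_smul_left, hyc, mul_zero]
  · rw [hm_smul_left, hyd, mul_zero]
  · rw [hm_smul_left, hay, nm_mul, nm_inv, nm_neg, hν, hca, mul_one]
    intro h
    refine hTB ?_
    rw [inv_eq_one] at h
    linear_combination h
  · rw [hm_smul_left, hby, nm_mul, nm_inv, hν]
    intro h
    refine hT1 ?_
    rw [inv_mul_eq_one₀ hν0] at h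
    linear_combination h

/-- In five or more dimensions every orthogonal pair and vector have a common unit perpendicular. -/
theorem exists_good_five {n : ℕ} (hn : 5 ≤ n) {c d : Fin n → F} (a : Fin n → F)
    (hc : hm hF c c = 1) (hd : hm hF d d = 1) (hcd : hm hF d c = 0) :
    ∃ z, hm hF z z = 1 ∧ hm hF z a = 0 ∧ hm hF z c = 0 ∧ hm hF z d = 0 := by
  set i0 : Fin n := ⟨0, by omega⟩
  set i1 : Fin n := ⟨1, by omega⟩
  obtain ⟨g, hg0, hg1⟩ := exists_frame hF (by omega) i0 i1 rfl rfl hc hd hcd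
  set f := sh 2 (n - 2) n (by omega) with hf
  have hne : ∀ x, f x ≠ i0 ∧ f x ≠ i1 := fun x => ⟨fun h => by
    have := congrArg Fin.val h; simp [hf, sh_val, i0] at this, fun h => by
    have := congrArg Fin.val h; simp [hf, sh_val, i1] at this; omega⟩
  obtain ⟨z, hz, hza⟩ := perp_three hF (show 3 ≤ n - 2 by omega) (mv g⁻¹ a ∘ f)
  refine ⟨mv g (Function.extend f z 0), by rw [mv_form, hm_pad_self, hz], ?_, ?_, ?_⟩
  · rw [← mv_cancel_inv g a, mv_form, hm_pad, hza]
  · rw [← hg0, mv_form, hm_pad, comp_zero_of_out f (fun x => (hne x).1), hm_zero_right]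
  · rw [← hg1, mv_form, hm_pad, comp_zero_of_out f (fun x => (hne x).2), hm_zero_right]

theorem shape_five {n : ℕ} (hn : 5 ≤ n) : Shape (Orth hF (n := n)) where
  symm h := hm_zero_symm hF h
  common a c := by
    obtain ⟨b, h1, h2, h3⟩ := exists_common hF (by omega) c.1 a.2
    exact ⟨⟨b, h1⟩, hm_zero_symm hF h2, h3⟩
  detour a c d h := by
    obtain ⟨z, z1, z2, z3, z4⟩ := exists_good_five hF hn a.1 c.2 d.2 (hm_zero_symm hF h)
    exact Or.inl ⟨⟨z, z1⟩, hm_zero_symm hF z2, z3, z4⟩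

/-- The two auxiliary points for a tangent quadrangle, five or more dimensions, odd characteristic. -/
theorem tangent_five (hq : 2 < q) (h2 : (1 + 1 : F) ≠ 0) {n : ℕ} (hn : 5 ≤ n) {a b c d : Fin n → F}
    (ha : hm hF a a = 1) (hb : hm hF b b = 1) (hd : hm hF d d = 1) (hba : hm hF b a = 0)
    (hbc : hm hF b c = 0) (hda : hm hF d a = 0) (hdc : hm hF d c = 0) (hδ : hm hF b d ≠ 0) :
    ∃ x y, hm hF x x = 1 ∧ hm hF y y = 1 ∧ hm hF x a = 0 ∧ hm hF x b = 0 ∧ hm hF x y = 0 ∧
      hm hF y c = 0 ∧ hm hF y d = 0 ∧ nm hF (hm hF y a) ≠ 1 ∧ nm hF (hm hF y b) ≠ 1 := by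
  suffices H : ∃ y, hm hF y y = 1 ∧ hm hF y a = 0 ∧ hm hF y c = 0 ∧ hm hF y d = 0 ∧
      nm hF (hm hF y b) ≠ 1 by
    obtain ⟨y, hy, hya, hyc, hyd, hyb⟩ := H
    obtain ⟨x, hx, hxb, hxa, hxy⟩ := exists_good_five hF hn b ha hy hya
    exact ⟨x, y, hx, hy, hxa, hxb, hxy, hyc, hyd,
      by rw [hya, nm_zero]; exact zero_ne_one, hyb⟩
  obtain ⟨w, hw, hwc, hwa, hwd⟩ := exists_good_five hF hn c ha hd hda
  by_cases hwb : nm hF (hm hF w b) ≠ 1
  · exact ⟨w, hw, hwa, hwc, hwd, hwb⟩
  push Not at hwb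
  set η := hm hF b w with hη
  set δ := hm hF b d with hδ'
  have hηn : nm hF η = 1 := by rw [hη, ← hm_symm hF w b, nm_conj, hwb]
  set v := b + (-η) • w + (-δ) • d with hv
  have hva : hm hF v a = 0 := by
    rw [hv, hm_add_left, hm_add_left, hm_smul_left, hm_smul_left, hba, hwa, hda]; ring
  have hvc : hm hF v c = 0 := by
    rw [hv, hm_add_left, hm_add_left, hm_smul_left, hm_smul_left, hbc, hwc, hdc]; ring
  have hvd : hm hF v d = 0 := by
    rw [hv, hm_add_left, hm_add_left, hm_smul_left, hm_smul_left, hwd, hd, ← hδ']; ring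
  have hvw : hm hF v w = 0 := by
    rw [hv, hm_add_left, hm_add_left, hm_smul_left, hm_smul_left, hw, hm_zero_symm hF hwd, ← hη]; ring
  have hvb : hm hF v b = -nm hF δ := by
    rw [hv, hm_add_left, hm_add_left, hm_smul_left, hm_smul_left, hb, ← hm_symm hF b w, ← hm_symm hF b d,
      ← hη, ← hδ']
    simp only [nm] at hηn ⊢
    linear_combination -hηn
  have hvv : hm hF v v = -nm hF δ := by
    conv_lhs => arg 2; rw [hv]
    rw [hm_add_right, hm_add_right, hm_smul_right, hm_smul_right, hvw, hvd, hvb]; ring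
  have hδn : nm hF δ ≠ 0 := fun h => hδ ((nm_eq_zero hF).1 h)
  by_cases h1 : nm hF δ = -1
  · obtain ⟨ν, hν⟩ := exists_nm hF (t := (1 + 1 : F)) (by rw [map_add, map_one])
    set y0 := η • w + (-1 : F) • v with hy0
    have hy0y : hm hF y0 y0 = 1 + 1 := by
      rw [hy0, hm_add_left, hm_add_right, hm_add_right, hm_smul_left, hm_smul_left, hm_smul_left,
        hm_smul_left, hm_smul_right, hm_smul_right, hm_smul_right, hm_smul_right, hw, hvw,
        hm_zero_symm hF hvw, hvv, h1, map_neg, map_one]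
      simp only [nm] at hηn
      linear_combination hηn
    have hy0b : hm hF y0 b = 0 := by
      rw [hy0, hm_add_left, hm_smul_left, hm_smul_left, hvb, h1, ← hm_symm hF b w, ← hη]
      simp only [nm] at hηn
      linear_combination hηn
    refine ⟨ν⁻¹ • y0, by rw [hm_self_smul, nm_inv, hν, hy0y, inv_mul_cancel₀ h2], ?_, ?_, ?_, ?_⟩
    · rw [hm_smul_left, hy0, hm_add_left, hm_smul_left, hm_smul_left, hwa, hva]; ring
    · rw [hm_smul_left, hy0, hm_add_left, hm_smul_left, hm_smul_left, hwc, hvc]; ring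
    · rw [hm_smul_left, hy0, hm_add_left, hm_smul_left, hm_smul_left, hwd, hvd]; ring
    · rw [hm_smul_left, hy0b, mul_zero, nm_zero]; exact zero_ne_one
  · obtain ⟨ν, hν⟩ := exists_nm hF (t := -nm hF δ) (by rw [map_neg, nm_fix])
    have hne : -nm hF δ ≠ 0 := neg_ne_zero.2 hδn
    refine ⟨ν⁻¹ • v, by rw [hm_self_smul, nm_inv, hν, hvv, inv_mul_cancel₀ hne],
      by rw [hm_smul_left, hva, mul_zero], by rw [hm_smul_left, hvc, mul_zero],
      by rw [hm_smul_left, hvd, mul_zero], ?_⟩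
    rw [hm_smul_left, hvb, nm_mul, nm_inv, hν, nm_neg,
      show nm hF (nm hF δ) = nm hF δ * nm hF δ by conv_lhs => rw [nm, nm_fix]]
    intro h
    refine h1 ?_
    field_simp at h
    linear_combination -h

end Cfsg.Agent.Recog.Phan
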