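import Cfsg.Agent.Lib.Recog.PhanGeom

/-!
A special unitary group is glued from the stabiliser of a unit vector and a three-dimensional block.
-/

set_option autoImplicit false
set_option linter.unusedSectionVars false
set_option maxHeartbeats 1000000

namespace Cfsg.Agent.Recog.Phan

open Matrix Cfsg.Agent.Classical Cfsg.Agent.Lie.SpnPres

variable {F : Type*} [Field F] [Fintype F] {q : ℕ} {G : Type*} [Group G]

/-- What is given. -/
structure GlueData (hF : Fintype.card F = q ^ 2) (M : ℕ) (φ : SU M F q →* G) (Ψ : SU 3 F q →* G) : Prop where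
  le : 3 ≤ M
  compat : ∀ u : SU 2 F q, Ψ (emb hF (sh 1 2 3 (by omega)) u) = φ (emb hF (sh 0 2 M (by omega)) u)
  comm : ∀ (u : SU 2 F q) (y : SU (M - 1) F q),
    Commute (Ψ (emb hF (sh 0 2 3 (by omega)) u)) (φ (emb hF (sh 1 (M - 1) M (by omega)) y))

namespace GlueData

variable {hF : Fintype.card F = q ^ 2} {M : ℕ} {φ : SU M F q →* G} {Ψ : SU 3 F q →* G}
variable (D : GlueData hF M φ Ψ)

include D

/-- The tail. -/
abbrev fH : Fin M ↪ Fin (M + 1) := have _h := D.le; sh 1 M (M + 1) (by omega)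

/-- The block. -/
abbrev fB : Fin 3 ↪ Fin (M + 1) := sh 0 3 (M + 1) (by have := D.le; omega)

/-- The stabiliser with its image. -/
def jH : SU M F q →* SU (M + 1) F q × G := (emb hF D.fH).prod φ

/-- The block with its image. -/
def jB : SU 3 F q →* SU (M + 1) F q × G := (emb hF D.fB).prod Ψ

/-- The graph of the glued map. -/
def K : Subgroup (SU (M + 1) F q × G) := D.jH.range ⊔ D.jB.range

/-- The stabiliser in the graph. -/
def kH : SU M F q →* D.K := D.jH.codRestrict _ fun h => Subgroup.mem_sup_left ⟨h, rfl⟩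

/-- The block in the graph. -/
def kB : SU 3 F q →* D.K := D.jB.codRestrict _ fun h => Subgroup.mem_sup_right ⟨h, rfl⟩

theorem kH_fst (h : SU M F q) : (D.kH h).1.1 = emb hF D.fH h := rfl

theorem kB_fst (g : SU 3 F q) : (D.kB g).1.1 = emb hF D.fB g := rfl

/-- The sheets. -/
abbrev X : Type _ := D.K ⧸ D.kH.range

/-- The point under a sheet. -/
def π : D.X → UV hF (M + 1) :=
  Quotient.lift (fun k : D.K => ⟨mv k.1.1 (bv F 0), by rw [mv_form, hm_bv, if_pos rfl]⟩) (by
    intro a b hab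
    obtain ⟨h, hh⟩ := (QuotientGroup.leftRel_apply.1 hab : a⁻¹ * b ∈ D.kH.range)
    refine Subtype.ext ?_
    show mv a.1.1 (bv F 0) = mv b.1.1 (bv F 0)
    have : b = a * D.kH h := by rw [hh, mul_inv_cancel_left]
    rw [this]
    show _ = mv (a.1.1 * emb hF D.fH h) (bv F 0)
    rw [mv_mul, emb_fix_bv hF D.fH h]
    intro x hx
    have := congrArg Fin.val hx
    simp [fH, sh_val] at this)

theorem π_mk (k : D.K) : (D.π (QuotientGroup.mk k)).1 = mv k.1.1 (bv F 0) := rfl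

/-- The action on points. -/
def act (k : D.K) (p : UV hF (M + 1)) : UV hF (M + 1) := ⟨mv k.1.1 p.1, by rw [mv_form, p.2]⟩

theorem act_mul (k k' : D.K) (p : UV hF (M + 1)) : D.act (k * k') p = D.act k (D.act k' p) :=
  Subtype.ext (mv_mul _ _ _)

theorem act_inv (k : D.K) (p : UV hF (M + 1)) : D.act k⁻¹ (D.act k p) = p :=
  Subtype.ext (mv_inv_cancel _ _)

theorem act_inv' (k : D.K) (p : UV hF (M + 1)) : D.act k (D.act k⁻¹ p) = p :=
  Subtype.ext (mv_cancel_inv _ _)

theorem π_smul (k : D.K) (x : D.X) : D.π (k • x) = D.act k (D.π x) := by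
  induction x using QuotientGroup.induction_on with
  | _ z => exact Subtype.ext (mv_mul _ _ _)

theorem orth_act (k : D.K) (a b : UV hF (M + 1)) : Orth hF (D.act k a) (D.act k b) ↔ Orth hF a b := by
  show hm hF (mv _ _) (mv _ _) = 0 ↔ _
  rw [mv_form]; rfl

/-- The swapping element. -/
noncomputable def wB : SU 3 F q :=
  have _h := D.le
  emb hF (sh 0 2 3 (by omega)) (el2 hF (0 : F) 1 (by rw [nm_zero, nm_one, zero_add]))

theorem wB_mv : mv D.wB (bv F 0) = bv F 1 := by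
  funext i
  have h0 : (bv F (0 : Fin 3)) ∘ sh 0 2 3 (by omega) = bv F 0 := by
    have e0 : (0 : Fin 3) = sh 0 2 3 (by omega) (0 : Fin 2) := rfl
    rw [e0]; exact bv_comp _ 0
  fin_cases i
  · show mv (emb hF (sh 0 2 3 (by omega)) _) _ (sh 0 2 3 (by omega) (0 : Fin 2)) = _
    rw [emb_mv_in, h0, el2_mv_zero]; simp [bv]
  · show mv (emb hF (sh 0 2 3 (by omega)) _) _ (sh 0 2 3 (by omega) (1 : Fin 2)) = _
    rw [emb_mv_in, h0, el2_mv_zero]; simp [bv, sh]
  · rw [wB, emb_mv_out]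
    · simp [bv]
    · intro a; fin_cases a <;> simp [Fin.ext_iff, sh_val]

theorem kB_mv (g : SU 3 F q) (v : Fin 3 → F) (i : Fin 3) (hv : v = bv F i) :
    mv (D.kB g).1.1 (bv F (D.fB i)) = Function.extend D.fB (mv g v) 0 := by
  rw [kB_fst]
  funext x
  by_cases hx : ∃ a, D.fB a = x
  · obtain ⟨a, rfl⟩ := hx
    rw [emb_mv_in, bv_comp, D.fB.injective.extend_apply, hv]
  · rw [Function.extend_apply' _ _ _ hx]
    push Not at hx
    rw [emb_mv_out hF _ g _ hx]
    simp [bv, (hx i).symm]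

theorem kH_mv_zero (h : SU M F q) : mv (D.kH h).1.1 (bv F 0) = bv F 0 := by
  rw [kH_fst, emb_fix_bv]
  intro x hx
  have := congrArg Fin.val hx
  simp [fH, sh_val] at this

theorem commB (u : SU 2 F q) (y : SU (M - 1) F q) :
    Commute (D.kB (emb hF (sh 0 2 3 (by omega)) u))
      (D.kH (emb hF (sh 1 (M - 1) M (by have := D.le; omega)) y)) := by
  have h := D.comm u y
  refine Subtype.ext (Prod.ext ?_ h)
  show emb hF D.fB (emb hF _ u) * emb hF D.fH (emb hF _ y) = emb hF D.fH (emb hF _ y) * emb hF D.fB (emb hF _ u)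
  rw [emb_trans, emb_trans]
  refine emb_commute hF _ _ (fun a b hab => ?_) u y
  have := congrArg Fin.val hab
  simp [Function.Embedding.trans_apply, fH, fB, sh_val] at this
  omega

theorem kB_tail (u : SU 2 F q) :
    D.kB (emb hF (sh 1 2 3 (by omega)) u) = D.kH (emb hF (sh 0 2 M (by have := D.le; omega)) u) := by
  refine Subtype.ext (Prod.ext ?_ (D.compat u))
  show emb hF D.fB (emb hF _ u) = emb hF D.fH (emb hF _ u)
  rw [emb_trans, emb_trans]
  congr 1

/-- The sheet of a block element. -/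
abbrev Bl (g : SU 3 F q) : D.X := QuotientGroup.mk (D.kB g)

theorem Bl_eq {g g' : SU 3 F q} (h : mv g (bv F 0) = mv g' (bv F 0)) : D.Bl g = D.Bl g' := by
  refine QuotientGroup.eq.2 ?_
  rw [← map_inv, ← map_mul]
  obtain ⟨u, hu⟩ := mem_range_emb hF (sh 1 2 3 (by omega)) (g⁻¹ * g') fun i hi => by
    obtain rfl : i = 0 := by
      by_contra hne
      have : (i : ℕ) ≠ 0 := fun h => hne (Fin.ext h)
      exact hi ⟨(i : ℕ) - 1, by omega⟩ (Fin.ext (by simp [sh_val]; omega))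
    rw [mv_mul, ← h, mv_inv_cancel]
  exact ⟨emb hF (sh 0 2 M (by have := D.le; omega)) u, by rw [← hu, kB_tail]⟩

/-- The lift of an edge. -/
noncomputable def l (x : D.X) (p : UV hF (M + 1)) : D.X :=
  open scoped _root_.Classical in
  if h : ∃ k : D.K, QuotientGroup.mk k = x ∧ mv k.1.1 (bv F 1) = p.1
  then QuotientGroup.mk (h.choose * D.kB D.wB) else x

theorem l_eq {x : D.X} {p : UV hF (M + 1)} (k : D.K) (hx : QuotientGroup.mk k = x)
    (hp : mv k.1.1 (bv F 1) = p.1) : D.l x p = QuotientGroup.mk (k * D.kB D.wB) := by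
  have hex : ∃ k : D.K, QuotientGroup.mk k = x ∧ mv k.1.1 (bv F 1) = p.1 := ⟨k, hx, hp⟩
  rw [l, dif_pos hex]
  obtain ⟨hx', hp'⟩ := hex.choose_spec
  set k' := hex.choose
  obtain ⟨h, hh⟩ := (QuotientGroup.eq.1 (hx.trans hx'.symm) : k⁻¹ * k' ∈ D.kH.range)
  have hk' : k' = k * D.kH h := by rw [hh, mul_inv_cancel_left]
  have hle := D.le
  have hfix : mv (emb hF D.fH h) (bv F 1) = bv F 1 := by
    have e1 : mv k'.1.1 (bv F 1) = mv k.1.1 (bv F 1) := hp'.trans hp.symm
    rw [hk'] at e1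
    change mv (k.1.1 * emb hF D.fH h) (bv F 1) = _ at e1
    rw [mv_mul] at e1
    have := congrArg (mv k.1.1⁻¹) e1
    rwa [mv_inv_cancel, mv_inv_cancel] at this
  obtain ⟨y, hy⟩ := mem_range_emb hF (sh 1 (M - 1) M (by omega)) h fun i hi => by
    have hi0 : (i : ℕ) = 0 := by
      by_contra hne
      exact hi ⟨(i : ℕ) - 1, by omega⟩ (Fin.ext (by simp [sh_val]; omega))
    have hfi : D.fH i = 1 := Fin.ext (by simp [fH, sh_val, hi0, Nat.mod_eq_of_lt (show 1 < M + 1 by omega)])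
    rw [← hfi] at hfix
    funext z
    have := congrFun hfix (D.fH z)
    rw [emb_mv_in, bv_comp] at this
    rw [this]
    simp [bv, Pi.single_apply, D.fH.injective.eq_iff]
  refine QuotientGroup.eq.2 ⟨(emb hF (sh 1 (M - 1) M (by omega)) y)⁻¹, ?_⟩
  have hc : Commute (D.kB D.wB) (D.kH h) := by rw [← hy]; exact D.commB _ _
  rw [hk', map_inv, hy]
  calc (D.kH h)⁻¹ = (D.kB D.wB)⁻¹ * (D.kB D.wB * (D.kH h)⁻¹) := by rw [inv_mul_cancel_left]
    _ = (D.kB D.wB)⁻¹ * ((D.kH h)⁻¹ * D.kB D.wB) := by rw [hc.inv_right.eq]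
    _ = _ := by group

theorem l_smul (k : D.K) (x : D.X) (p : UV hF (M + 1)) : D.l (k • x) (D.act k p) = k • D.l x p := by
  by_cases h : ∃ k₁ : D.K, QuotientGroup.mk k₁ = x ∧ mv k₁.1.1 (bv F 1) = p.1
  · obtain ⟨k₁, h1, h2⟩ := h
    have e1 : D.l (k • x) (D.act k p) = QuotientGroup.mk (k * k₁ * D.kB D.wB) := by
      refine D.l_eq (k * k₁) ?_ ?_
      · rw [← h1]; rfl
      · show mv (k.1.1 * k₁.1.1) (bv F 1) = mv k.1.1 p.1
        rw [mv_mul, h2]
    rw [e1, D.l_eq k₁ h1 h2, mul_assoc]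
    rfl
  · have h' : ¬ ∃ k₁ : D.K, QuotientGroup.mk k₁ = k • x ∧ mv k₁.1.1 (bv F 1) = (D.act k p).1 := by
      rintro ⟨k₁, h1, h2⟩
      refine h ⟨k⁻¹ * k₁, ?_, ?_⟩
      · show k⁻¹ • (QuotientGroup.mk k₁ : D.X) = x
        rw [h1, inv_smul_smul]
      · show mv (k.1.1⁻¹ * k₁.1.1) (bv F 1) = p.1
        rw [mv_mul, h2]; exact mv_inv_cancel _ _
    rw [l, dif_neg h', l, dif_neg h]

/-- A vector vanishing at the base is moved from the second one by the stabiliser. -/
theorem tail_pad {v : Fin (M + 1) → F} (hv0 : v 0 = 0) : Function.extend D.fH (v ∘ D.fH) 0 = v := by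
  funext i
  refine Fin.cases ?_ (fun a => ?_) i
  · rw [Function.extend_apply', Pi.zero_apply, hv0]
    rintro ⟨a, ha⟩
    have := congrArg Fin.val ha
    simp [fH, sh_val] at this
  · have : D.fH a = a.succ := Fin.ext (by simp [fH, sh_val, Nat.add_comm])
    rw [← this, D.fH.injective.extend_apply]; rfl

theorem fH_apply_ne (a : Fin M) : D.fH a ≠ 0 := fun h => by
  have := congrArg Fin.val h
  simp [fH, sh_val] at this

theorem exists_rep {k₀ : D.K} {p : UV hF (M + 1)}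
    (hp : Orth hF (D.π (QuotientGroup.mk k₀)) p) :
    ∃ k : D.K, (QuotientGroup.mk k : D.X) = QuotientGroup.mk k₀ ∧ mv k.1.1 (bv F 1) = p.1 := by
  have hle := D.le
  set v := mv k₀.1.1⁻¹ p.1 with hv
  have hv0 : v 0 = 0 := by
    rw [← hm_bv_right hF v 0, hv, ← mv_form hF k₀.1.1, mv_cancel_inv]
    exact hm_zero_symm hF hp
  obtain ⟨h, hh⟩ := exists_move_any hF (M := M) (by omega) ⟨0, by omega⟩ rfl
    (v := v ∘ D.fH) (by rw [← hm_pad_self hF D.fH, D.tail_pad hv0, hv, mv_form, p.2])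
  refine ⟨k₀ * D.kH h, QuotientGroup.mk_mul_of_mem _ ⟨h, rfl⟩, ?_⟩
  show mv (k₀.1.1 * emb hF D.fH h) (bv F 1) = p.1
  rw [mv_mul]
  have : mv (emb hF D.fH h) (bv F 1) = v := by
    have h1 : D.fH ⟨0, by omega⟩ = 1 := Fin.ext (by simp [fH, sh_val, Nat.mod_eq_of_lt (show 1 < M + 1 by omega)])
    funext i
    refine Fin.cases ?_ (fun a => ?_) i
    · rw [emb_mv_out hF _ _ _ D.fH_apply_ne, hv0, ← h1]
      simp [bv, D.fH_apply_ne]
    · have e : D.fH a = a.succ := Fin.ext (by simp [fH, sh_val, Nat.add_comm])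
      rw [← e, emb_mv_in, ← h1, bv_comp, hh]; rfl
  rw [this, hv, mv_cancel_inv]

theorem lift_π (x : D.X) (p : UV hF (M + 1)) (h : Orth hF (D.π x) p) : D.π (D.l x p) = p := by
  induction x using QuotientGroup.induction_on with
  | _ k₀ =>
    obtain ⟨k, hk, hp⟩ := D.exists_rep h
    rw [D.l_eq k hk hp]
    refine Subtype.ext ?_
    rw [π_mk]
    show mv (k.1.1 * (D.kB D.wB).1.1) (bv F 0) = p.1
    rw [mv_mul]
    have := D.kB_mv D.wB (bv F 0) 0 rfl
    rw [D.wB_mv, show D.fB 0 = 0 from Fin.ext (by simp [fB, sh_val])] at this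
    rw [this, ← hp]
    congr 1
    have h1 : D.fB 1 = 1 := Fin.ext (by
      have := D.le; simp [fB, sh_val, Nat.mod_eq_of_lt (show 1 < M + 1 by omega)])
    funext i
    by_cases hi : ∃ a, D.fB a = i
    · obtain ⟨a, rfl⟩ := hi
      rw [D.fB.injective.extend_apply, ← h1]
      simp [bv, Pi.single_apply, D.fB.injective.eq_iff]
    · rw [Function.extend_apply' _ _ _ hi]
      push Not at hi
      rw [← h1]; simp [bv, (hi 1).symm]

/-- A vector of the block. -/
noncomputable def pad (v : Fin 3 → F) : Fin (M + 1) → F := Function.extend D.fB v 0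

theorem Bl_point (g : SU 3 F q) : (D.π (D.Bl g)).1 = D.pad (mv g (bv F 0)) := by
  rw [π_mk, pad, ← D.kB_mv g (bv F 0) 0 rfl]
  congr 2

theorem Bl_pad (g : SU 3 F q) (v : Fin 3 → F) : mv (D.kB g).1.1 (D.pad v) = D.pad (mv g v) := by
  rw [kB_fst]
  funext x
  by_cases hx : ∃ a, D.fB a = x
  · obtain ⟨a, rfl⟩ := hx
    rw [emb_mv_in, pad, pad, D.fB.injective.extend_apply,
      show Function.extend D.fB v 0 ∘ D.fB = v from funext fun b => D.fB.injective.extend_apply v 0 b]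
  · rw [pad, pad, Function.extend_apply' _ _ _ hx, emb_mv_out hF _ g _ (by simpa using hx),
      Function.extend_apply' _ _ _ hx]

/-- Edges inside the block. -/
theorem adj_block {g g' : SU 3 F q} {p : UV hF (M + 1)} (hp : p.1 = D.pad (mv g' (bv F 0)))
    (h : hm hF (mv g' (bv F 0)) (mv g (bv F 0)) = 0) : D.l (D.Bl g) p = D.Bl g' := by
  set v := mv g⁻¹ (mv g' (bv F 0)) with hv
  have hv0 : v 0 = 0 := by
    rw [← hm_bv_right hF v 0, hv, ← mv_form hF g, mv_cancel_inv]; exact h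
  have hv1 : nm hF (v 1) + nm hF (v 2) = 1 := by
    have : hm hF v v = 1 := by rw [hv, mv_form, mv_form, hm_bv, if_pos rfl]
    simpa [hm_eq, Fin.sum_univ_three, hv0, nm] using this
  set u := emb hF (sh 1 2 3 (by omega)) (el2 hF (v 1) (v 2) hv1) with hu
  have hu1 : mv u (bv F 1) = v := by
    funext i
    have e : (bv F (1 : Fin 3)) ∘ sh 1 2 3 (by omega) = bv F 0 := by
      have e1 : (1 : Fin 3) = sh 1 2 3 (by omega) (0 : Fin 2) := rfl
      rw [e1]; exact bv_comp _ 0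
    fin_cases i
    · rw [hu, emb_mv_out]
      · simp [bv, hv0]
      · intro a; fin_cases a <;> simp [Fin.ext_iff, sh_val]
    · show mv (emb hF (sh 1 2 3 (by omega)) _) _ (sh 1 2 3 (by omega) (0 : Fin 2)) = _
      rw [emb_mv_in, e, el2_mv_zero]; rfl
    · show mv (emb hF (sh 1 2 3 (by omega)) _) _ (sh 1 2 3 (by omega) (1 : Fin 2)) = _
      rw [emb_mv_in, e, el2_mv_zero]; rfl
  have hu0 : mv u (bv F 0) = bv F 0 :=
    emb_fix_bv hF _ _ fun a => by fin_cases a <;> simp [Fin.ext_iff, sh_val]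
  rw [D.l_eq (D.kB (g * u)) (D.Bl_eq (by rw [mv_mul, hu0])) ?_]
  · rw [← map_mul]
    refine D.Bl_eq ?_
    rw [mv_mul, mv_mul, D.wB_mv, hu1, hv, mv_cancel_inv]
  · have h1 : bv F (1 : Fin (M + 1)) = D.pad (bv F 1) := by
      have h1 : D.fB 1 = 1 := Fin.ext (by
        have := D.le; simp [fB, sh_val, Nat.mod_eq_of_lt (show 1 < M + 1 by omega)])
      rw [← h1, pad]
      funext i
      by_cases hi : ∃ a, D.fB a = i
      · obtain ⟨a, rfl⟩ := hi
        rw [D.fB.injective.extend_apply]; simp [bv, Pi.single_apply, D.fB.injective.eq_iff]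
      · rw [Function.extend_apply' _ _ _ hi]; push Not at hi; simp [bv, (hi 1).symm]
    rw [h1, D.Bl_pad, hp, mv_mul, hu1, hv, mv_cancel_inv]

end GlueData

end Cfsg.Agent.Recog.Phan
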