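import Cfsg.Agent.Lib.Recog.PhanGlue

/-!
The glued homomorphism.
-/

set_option autoImplicit false
set_option linter.unusedSectionVars false
set_option maxHeartbeats 1000000

namespace Cfsg.Agent.Recog.Phan

open Matrix Cfsg.Agent.Classical Cfsg.Agent.Lie.SpnPres

variable {F : Type*} [Field F] [Fintype F] {q : ℕ} {G : Type*} [Group G]

namespace GlueData

variable {hF : Fintype.card F = q ^ 2} {M : ℕ} {φ : SU M F q →* G} {Ψ : SU 3 F q →* G}
variable (D : GlueData hF M φ Ψ)

include D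

/-- The base sheet. -/
noncomputable abbrev x₀ : D.X := D.Bl 1

/-- The basic points of the block. -/
def E (i : Fin 3) : UV hF (M + 1) := ⟨bv F (D.fB i), by rw [hm_bv, if_pos rfl]⟩

theorem pad_bv (i : Fin 3) : D.pad (bv F i) = bv F (D.fB i) := by
  funext x
  by_cases hx : ∃ a, D.fB a = x
  · obtain ⟨a, rfl⟩ := hx
    rw [pad, D.fB.injective.extend_apply]
    simp [bv, Pi.single_apply, D.fB.injective.eq_iff]
  · rw [pad, Function.extend_apply' _ _ _ hx]
    push Not at hx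
    simp [bv, (hx i).symm]

theorem fB_zero : D.fB 0 = 0 := Fin.ext (by simp [fB, sh_val])

theorem π_base : D.π D.x₀ = D.E 0 := Subtype.ext (by rw [Bl_point, mv_one, pad_bv]; rfl)

theorem mk_eq_smul (k : D.K) : (QuotientGroup.mk k : D.X) = k • D.x₀ := by
  show _ = QuotientGroup.mk (k * D.kB 1)
  rw [map_one, mul_one]

theorem kH_smul_base (h : SU M F q) : D.kH h • D.x₀ = D.x₀ := by
  rw [← mk_eq_smul]
  refine QuotientGroup.eq.2 ⟨h⁻¹, ?_⟩
  rw [map_one, mul_one, map_inv]

theorem act_kH_E0 (h : SU M F q) : D.act (D.kH h) (D.E 0) = D.E 0 :=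
  Subtype.ext (by
    show mv _ (bv F (D.fB 0)) = bv F (D.fB 0)
    rw [D.fB_zero]; exact D.kH_mv_zero h)

theorem act_kH_in (h : SU M F q) (i : Fin 3) (z : Fin M) (hz : D.fH z = D.fB i) {p : UV hF (M + 1)}
    (hp0 : p.1 0 = 0) (hh : mv h (bv F z) = p.1 ∘ D.fH) : D.act (D.kH h) (D.E i) = p := by
  refine Subtype.ext ?_
  show mv (D.kH h).1.1 (bv F (D.fB i)) = p.1
  rw [kH_fst, ← hz]
  funext x
  refine Fin.cases ?_ (fun a => ?_) x
  · rw [emb_mv_out hF _ _ _ D.fH_apply_ne, hp0]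
    simp [bv, D.fH_apply_ne]
  · have e : D.fH a = a.succ := Fin.ext (by simp [fH, sh_val, Nat.add_comm])
    rw [← e, emb_mv_in, bv_comp, hh]; rfl

theorem orth_base {p : UV hF (M + 1)} : Orth hF (D.E 0) p ↔ p.1 0 = 0 := by
  show hm hF (bv F (D.fB 0)) p.1 = 0 ↔ _
  rw [hm_bv_left, D.fB_zero, map_eq_zero]

theorem hm_tail {u v : Fin (M + 1) → F} (hu : u 0 = 0) :
    hm hF (u ∘ D.fH) (v ∘ D.fH) = hm hF u v := by
  rw [hm_zero_add hF (by have := D.le; omega) u v, hu, zero_mul, zero_add]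

theorem l_block {g g' : SU 3 F q} {p : UV hF (M + 1)} (hp : p.1 = D.pad (mv g' (bv F 0)))
    (h : hm hF (mv g' (bv F 0)) (mv g (bv F 0)) = 0) : D.l (D.Bl g) p = D.Bl g' :=
  D.adj_block hp h

theorem exists_to (i : Fin 3) : ∃ g : SU 3 F q, mv g (bv F 0) = bv F i :=
  exists_move_any hF (by norm_num) 0 rfl (by rw [hm_bv, if_pos rfl])

theorem l_base (g : SU 3 F q) (i : Fin 3) (hg : mv g (bv F 0) = bv F i) (hi : i ≠ 0) :
    D.l D.x₀ (D.E i) = D.Bl g :=
  D.l_block (by show bv F (D.fB i) = _; rw [hg, pad_bv]) (by rw [hg, mv_one, hm_bv, if_neg hi])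

theorem l2_smul (k : D.K) (x : D.X) (b c : UV hF (M + 1)) :
    D.l (D.l (k • x) (D.act k b)) (D.act k c) = k • D.l (D.l x b) c := by
  rw [l_smul, l_smul]

theorem orth_π_smul (k : D.K) {b : UV hF (M + 1)} :
    Orth hF (D.π (k • D.x₀)) (D.act k b) ↔ Orth hF (D.E 0) b := by
  rw [π_smul, π_base, orth_act]

theorem lift_back (x : D.X) (p : UV hF (M + 1)) (h : Orth hF (D.π x) p) :
    D.l (D.l x p) (D.π x) = x := by
  induction x using QuotientGroup.induction_on with
  | _ k₀ =>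
    obtain ⟨k, hk, hp⟩ := D.exists_rep h
    have hx : (QuotientGroup.mk k₀ : D.X) = k • D.x₀ := by rw [← mk_eq_smul, hk]
    have hp' : p = D.act k (D.E 1) := Subtype.ext (by
      show p.1 = mv k.1.1 (bv F (D.fB 1))
      rw [show D.fB 1 = 1 from Fin.ext (by
        have := D.le; simp [fB, sh_val, Nat.mod_eq_of_lt (show 1 < M + 1 by omega)]), hp])
    rw [hx, hp', π_smul, π_base, l2_smul]
    congr 1
    obtain ⟨g, hg⟩ := D.exists_to 1
    rw [D.l_base g 1 hg (by decide)]
    exact D.l_block (by show bv F (D.fB 0) = _; rw [mv_one, pad_bv])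
      (by rw [mv_one, hg, hm_bv, if_neg (by decide)])

theorem lift_tri (x : D.X) (b c : UV hF (M + 1)) (h1 : Orth hF (D.π x) b) (h2 : Orth hF (D.π x) c)
    (h3 : Orth hF b c) : D.l (D.l x b) c = D.l x c := by
  induction x using QuotientGroup.induction_on with
  | _ k₀ =>
    have hle := D.le
    rw [mk_eq_smul] at h1 h2 ⊢
    obtain ⟨b, rfl⟩ : ∃ b', b = D.act k₀ b' := ⟨_, (D.act_inv' k₀ b).symm⟩
    obtain ⟨c, rfl⟩ : ∃ c', c = D.act k₀ c' := ⟨_, (D.act_inv' k₀ c).symm⟩
    rw [orth_π_smul, orth_base] at h1 h2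
    rw [orth_act] at h3
    rw [l2_smul, l_smul]
    congr 1
    obtain ⟨h, hb, hc⟩ := exists_frame hF hle ⟨0, by omega⟩ ⟨1, by omega⟩ rfl rfl
      (c := b.1 ∘ D.fH) (d := c.1 ∘ D.fH) (by rw [D.hm_tail h1, b.2]) (by rw [D.hm_tail h2, c.2])
      (by rw [D.hm_tail h2]; exact hm_zero_symm hF h3)
    rw [← D.act_kH_in h 1 ⟨0, by omega⟩ (Fin.ext (by simp [fH, fB, sh_val])) h1 hb,
      ← D.act_kH_in h 2 ⟨1, by omega⟩ (Fin.ext (by simp [fH, fB, sh_val])) h2 hc]
    conv_lhs => rw [← D.kH_smul_base h]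
    conv_rhs => rw [← D.kH_smul_base h]
    rw [l2_smul, l_smul]
    congr 1
    obtain ⟨g1, hg1⟩ := D.exists_to 1
    obtain ⟨g2, hg2⟩ := D.exists_to 2
    rw [D.l_base g1 1 hg1 (by decide), D.l_base g2 2 hg2 (by decide)]
    exact D.l_block (by show bv F (D.fB 2) = _; rw [hg2, pad_bv])
      (by rw [hg1, hg2, hm_bv, if_neg (by decide)])

/-- A block vector with two coordinates. -/
noncomputable def two (γ s : F) : Fin (M + 1) → F := D.pad ![γ, s, 0]

theorem el_vec (γ s : F) (h : nm hF γ + nm hF s = 1) :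
    mv (emb hF (sh 0 2 3 (by omega)) (el2 hF γ s h)) (bv F 0) = ![γ, s, 0] := by
  have h0 : (bv F (0 : Fin 3)) ∘ sh 0 2 3 (by omega) = bv F 0 := by
    have e0 : (0 : Fin 3) = sh 0 2 3 (by omega) (0 : Fin 2) := rfl
    rw [e0]; exact bv_comp _ 0
  funext i
  fin_cases i
  · show mv (emb hF (sh 0 2 3 (by omega)) _) _ (sh 0 2 3 (by omega) (0 : Fin 2)) = _
    rw [emb_mv_in, h0, el2_mv_zero]; rfl
  · show mv (emb hF (sh 0 2 3 (by omega)) _) _ (sh 0 2 3 (by omega) (1 : Fin 2)) = _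
    rw [emb_mv_in, h0, el2_mv_zero]; rfl
  · rw [emb_mv_out]
    · simp [bv]
    · intro a; fin_cases a <;> simp [Fin.ext_iff, sh_val]

theorem square_std (γ s : F) (hs : s ≠ 0) (h : nm hF γ + nm hF s = 1) (c b : UV hF (M + 1))
    (hc : c.1 = D.two γ s) (h1 : Orth hF (D.E 0) b) (h2 : Orth hF b c) :
    D.l (D.l D.x₀ b) c = D.Bl (emb hF (sh 0 2 3 (by omega)) (el2 hF γ s h)) := by
  have hle := D.le
  rw [orth_base] at h1
  have hb1 : b.1 (D.fB 1) = 0 := by
    have h3 := hm_zero_symm hF h2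
    rw [hc, two, pad, hm_pad] at h3
    simpa [hm_eq, Fin.sum_univ_three, D.fB_zero, h1, hs] using h3
  set t := sh 1 (M - 1) M (by omega) with ht
  set v := b.1 ∘ D.fH with hv
  have hv0 : v ⟨0, by omega⟩ = 0 := by
    rw [hv, Function.comp_apply, show D.fH ⟨0, by omega⟩ = D.fB 1 from Fin.ext (by simp [fH, fB, sh_val]), hb1]
  have hpad : Function.extend t (v ∘ t) 0 = v := by
    funext i
    by_cases hi : ∃ a, t a = i
    · obtain ⟨a, rfl⟩ := hi
      exact t.injective.extend_apply _ 0 a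
    · rw [Function.extend_apply' _ _ _ hi, Pi.zero_apply]
      rcases Nat.eq_zero_or_pos (i : ℕ) with h0 | h0
      · rw [show i = ⟨0, by omega⟩ from Fin.ext h0, hv0]
      · exact absurd ⟨⟨(i : ℕ) - 1, by omega⟩, Fin.ext (by simp [ht, sh_val]; omega)⟩ hi
  obtain ⟨y, hy⟩ := exists_move_any hF (M := M - 1) (by omega) ⟨0, by omega⟩ rfl (v := v ∘ t)
    (by rw [← hm_pad_self hF t, hpad, hv, D.hm_tail h1, b.2])
  have hb : D.act (D.kH (emb hF t y)) (D.E 2) = b := by
    refine D.act_kH_in _ 2 ⟨1, by omega⟩ (Fin.ext (by simp [fH, fB, sh_val])) h1 ?_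
    rw [show (⟨1, by omega⟩ : Fin M) = t ⟨0, by omega⟩ from Fin.ext (by simp [ht, sh_val])]
    rw [← hv, ← hpad]
    funext i
    by_cases hi : ∃ a, t a = i
    · obtain ⟨a, rfl⟩ := hi
      rw [emb_mv_in, bv_comp, hy, t.injective.extend_apply]
    · rw [Function.extend_apply' _ _ _ hi]
      push Not at hi
      rw [emb_mv_out hF t y _ hi]
      simp [bv, (hi ⟨0, by omega⟩).symm]
  have hcfix : D.act (D.kH (emb hF t y)) c = c := by
    refine Subtype.ext ?_
    show mv (D.kH (emb hF t y)).1.1 c.1 = c.1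
    rw [kH_fst, emb_trans, emb_fix]
    intro a
    rw [hc, two, pad]
    by_cases hx : ∃ z, D.fB z = (t.trans D.fH) a
    · obtain ⟨z, hz⟩ := hx
      rw [← hz, D.fB.injective.extend_apply]
      have := congrArg Fin.val hz
      simp [Function.Embedding.trans_apply, fH, fB, ht, sh_val] at this
      rw [show z = 2 from Fin.ext (by simp only [Fin.val_two]; omega)]
      rfl
    · rw [Function.extend_apply' _ _ _ hx]; rfl
  conv_lhs => rw [← hb, ← hcfix, ← D.kH_smul_base (emb hF t y)]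
  rw [l2_smul]
  obtain ⟨g2, hg2⟩ := D.exists_to 2
  rw [D.l_base g2 2 hg2 (by decide),
    D.l_block (g' := emb hF (sh 0 2 3 (by omega)) (el2 hF γ s h)) (by rw [hc, el_vec D, two])
      (by rw [el_vec D γ s h, hg2, hm_bv_right]; rfl)]
  show QuotientGroup.mk (D.kH (emb hF t y) * D.kB _) = QuotientGroup.mk (D.kB _)
  rw [← (D.commB (el2 hF γ s h) y).eq]
  exact QuotientGroup.mk_mul_of_mem _ ⟨_, rfl⟩

theorem square_far (c b d : UV hF (M + 1)) (hc : nm hF (c.1 0) ≠ 1) (h1 : Orth hF (D.E 0) b)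
    (h2 : Orth hF b c) (h3 : Orth hF (D.E 0) d) (h4 : Orth hF d c) :
    D.l (D.l D.x₀ b) c = D.l (D.l D.x₀ d) c := by
  have hle := D.le
  set t := c.1 ∘ D.fH
  have ht : hm hF t t ≠ 0 := by
    have := hm_zero_add hF (show 1 + M ≤ M + 1 by omega) c.1 c.1
    rw [c.2] at this
    intro h
    refine hc ?_
    rw [nm]
    linear_combination -this - h
  obtain ⟨s, hs⟩ := exists_nm hF (hm_self_fix hF t)
  have hs0 : s ≠ 0 := fun h => ht (by rw [← hs, h, nm_zero])
  obtain ⟨y, hy⟩ := exists_move_any hF (M := M) (by omega) ⟨0, by omega⟩ rfl (v := s⁻¹ • t)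
    (by rw [hm_self_smul, nm_inv, hs, inv_mul_cancel₀ ht])
  have hn : nm hF (c.1 0) + nm hF s = 1 := by
    have := hm_zero_add hF (show 1 + M ≤ M + 1 by omega) c.1 c.1
    rw [c.2] at this
    rw [hs, nm]
    exact this.symm
  have hc1 : (D.act (D.kH y)⁻¹ c).1 = D.two (c.1 0) s := by
    show mv (D.kH y).1.1⁻¹ c.1 = _
    rw [kH_fst, ← map_inv]
    funext x
    refine Fin.cases ?_ (fun a => ?_) x
    · rw [emb_mv_out hF _ _ _ D.fH_apply_ne, two, pad]
      conv_rhs => rw [← D.fB_zero]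
      rw [D.fB.injective.extend_apply, D.fB_zero]
      rfl
    · have e : D.fH a = a.succ := Fin.ext (by simp [fH, sh_val, Nat.add_comm])
      rw [← e, emb_mv_in, show c.1 ∘ D.fH = s • mv y (bv F ⟨0, by omega⟩) by rw [hy, smul_inv_smul₀ hs0],
        mv_smul, mv_inv_cancel, two, pad]
      by_cases hz : ∃ z, D.fB z = D.fH a
      · obtain ⟨z, hz⟩ := hz
        rw [← hz, D.fB.injective.extend_apply]
        have := congrArg Fin.val hz
        simp [fH, fB, sh_val] at this
        by_cases ha : (a : ℕ) = 0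
        · rw [show z = 1 from Fin.ext (by simp only [Fin.val_one]; omega),
            show a = ⟨0, by omega⟩ from Fin.ext ha]
          simp [bv]
        · rw [show z = 2 from Fin.ext (by simp only [Fin.val_two]; omega)]
          simp [bv, Fin.ext_iff, ha]
      · rw [Function.extend_apply' _ _ _ hz]
        push Not at hz
        have ha : (a : ℕ) ≠ 0 := fun h => hz 1 (Fin.ext (by simp [fH, fB, sh_val, h]))
        simp [bv, Fin.ext_iff, ha]
  have key : ∀ b', Orth hF (D.E 0) b' → Orth hF b' c → D.l (D.l D.x₀ b') c =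
      D.kH y • D.Bl (emb hF (sh 0 2 3 (by omega)) (el2 hF (c.1 0) s hn)) := by
    intro b' e1 e2
    have e1' : Orth hF (D.E 0) (D.act (D.kH y)⁻¹ b') := by
      rw [← orth_act D (D.kH y), act_inv', act_kH_E0]; exact e1
    have e2' : Orth hF (D.act (D.kH y)⁻¹ b') (D.act (D.kH y)⁻¹ c) := (D.orth_act _ _ _).2 e2
    conv_lhs => rw [← D.act_inv' (D.kH y) b', ← D.act_inv' (D.kH y) c, ← D.kH_smul_base y]
    rw [l2_smul, D.square_std _ s hs0 hn _ _ hc1 e1' e2']
  rw [key b h1 h2, key d h3 h4]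

theorem square_scalar (hq : 2 < q) (c b d : UV hF (M + 1)) (γ : F) (hc : c.1 = γ • bv F 0)
    (h1 : Orth hF (D.E 0) b) (h3 : Orth hF (D.E 0) d) :
    D.l (D.l D.x₀ b) c = D.l (D.l D.x₀ d) c := by
  have hle := D.le
  have hn : nm hF γ + nm hF (0 : F) = 1 := by
    have := c.2
    rw [hc, hm_self_smul, hm_bv, if_pos rfl, mul_one] at this
    rw [nm_zero, add_zero, this]
  set g := emb hF (sh 0 2 3 (by omega)) (el2 hF γ 0 hn) with hg
  have hg0 : mv g (bv F 0) = γ • bv F 0 := by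
    rw [hg, el_vec D γ 0 hn]
    funext i; fin_cases i <;> simp [bv]
  have hC : ∀ h : SU M F q, D.kH h • D.Bl g = D.Bl g := by
    have top : (MulAction.stabilizer D.K (D.Bl g)).comap D.kH = ⊤ := by
      refine closure_blocks hF hq (by omega) fun i hi => ?_
      rintro _ ⟨u, rfl⟩
      show D.kH (emb hF (sh i 2 M hi) u) • D.Bl g = D.Bl g
      rcases Nat.eq_zero_or_pos i with rfl | hpos
      · rw [← D.kB_tail u]
        show QuotientGroup.mk (D.kB _ * D.kB g) = _
        rw [← map_mul]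
        refine D.Bl_eq ?_
        rw [mv_mul, hg0, mv_smul, emb_fix_bv]
        intro a h; have := congrArg Fin.val h; simp [sh_val] at this
      · have e : sh i 2 M hi = (sh (i - 1) 2 (M - 1) (by omega)).trans (sh 1 (M - 1) M (by omega)) :=
          Function.Embedding.ext fun a => Fin.ext (by
            simp [Function.Embedding.trans_apply, sh_val]; omega)
        rw [e, ← emb_trans]
        show QuotientGroup.mk (D.kH _ * D.kB g) = _
        rw [hg, ← (D.commB _ _).eq]
        exact QuotientGroup.mk_mul_of_mem _ ⟨_, rfl⟩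
    intro h
    exact (show h ∈ (MulAction.stabilizer D.K (D.Bl g)).comap D.kH by rw [top]; exact Subgroup.mem_top h)
  have key : ∀ b', Orth hF (D.E 0) b' → D.l (D.l D.x₀ b') c = D.Bl g := by
    intro b' e1
    rw [orth_base] at e1
    obtain ⟨h, hh⟩ := exists_move_any hF (M := M) (by omega) ⟨0, by omega⟩ rfl (v := b'.1 ∘ D.fH)
      (by rw [D.hm_tail e1, b'.2])
    have hcfix : D.act (D.kH h) c = c := Subtype.ext (by
      show mv (D.kH h).1.1 c.1 = c.1
      rw [hc, mv_smul, kH_mv_zero])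
    conv_lhs => rw [← D.act_kH_in h 1 ⟨0, by omega⟩ (Fin.ext (by simp [fH, fB, sh_val])) e1 hh, ← hcfix,
      ← D.kH_smul_base h]
    obtain ⟨g1, hg1⟩ := D.exists_to 1
    rw [l2_smul, D.l_base g1 1 hg1 (by decide), D.l_block (g' := g)
      (by rw [hc, hg0, show (γ • bv F (0 : Fin 3)) = ![γ, 0, 0] from by
            funext i; fin_cases i <;> simp [bv]]
          funext x
          by_cases hx : ∃ z, D.fB z = x
          · obtain ⟨z, rfl⟩ := hx
            rw [pad, D.fB.injective.extend_apply, ← D.fB_zero]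
            fin_cases z <;> simp [bv, D.fB.injective.eq_iff]
          · rw [pad, Function.extend_apply' _ _ _ hx]
            push Not at hx
            simp [bv, show x ≠ 0 from fun h => hx 0 (D.fB_zero.trans h.symm)])
      (by rw [hg0, hg1, hm_smul_left, hm_bv, if_neg (by decide), mul_zero]), hC]
  rw [key b h1, key d h3]

theorem sq_far (x : D.X) (b c d : UV hF (M + 1)) (hn : nm hF (hm hF c.1 (D.π x).1) ≠ 1)
    (h1 : Orth hF (D.π x) b) (h2 : Orth hF b c) (h3 : Orth hF (D.π x) d) (h4 : Orth hF d c) :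
    D.l (D.l x b) c = D.l (D.l x d) c := by
  induction x using QuotientGroup.induction_on with
  | _ k =>
    rw [mk_eq_smul] at h1 h3 hn ⊢
    obtain ⟨b, rfl⟩ : ∃ b', b = D.act k b' := ⟨_, (D.act_inv' k b).symm⟩
    obtain ⟨c, rfl⟩ : ∃ c', c = D.act k c' := ⟨_, (D.act_inv' k c).symm⟩
    obtain ⟨d, rfl⟩ : ∃ d', d = D.act k d' := ⟨_, (D.act_inv' k d).symm⟩
    rw [orth_π_smul] at h1 h3
    rw [orth_act] at h2 h4
    rw [l2_smul, l2_smul, D.square_far c b d ?_ h1 h2 h3 h4]
    rw [π_smul, π_base] at hn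
    change nm hF (hm hF (mv k.1.1 c.1) (mv k.1.1 (bv F (D.fB 0)))) ≠ 1 at hn
    rwa [mv_form, hm_bv_right, D.fB_zero] at hn

theorem lift_sq (hq : 2 < q) (room : 3 < q ∨ (q = 3 ∧ 5 ≤ M + 1)) (x : D.X) (b c d : UV hF (M + 1)) (h1 : Orth hF (D.π x) b) (h2 : Orth hF b c)
    (h3 : Orth hF (D.π x) d) (h4 : Orth hF d c) : D.l (D.l x b) c = D.l (D.l x d) c := by
  have hle := D.le
  by_cases hn : nm hF (hm hF c.1 (D.π x).1) = 1
  swap
  · exact D.sq_far x b c d hn h1 h2 h3 h4
  by_cases hsc : c.1 = hm hF c.1 (D.π x).1 • (D.π x).1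
  · induction x using QuotientGroup.induction_on with
    | _ k =>
      rw [mk_eq_smul] at h1 h3 hsc ⊢
      obtain ⟨b, rfl⟩ : ∃ b', b = D.act k b' := ⟨_, (D.act_inv' k b).symm⟩
      obtain ⟨c, rfl⟩ : ∃ c', c = D.act k c' := ⟨_, (D.act_inv' k c).symm⟩
      obtain ⟨d, rfl⟩ : ∃ d', d = D.act k d' := ⟨_, (D.act_inv' k d).symm⟩
      rw [orth_π_smul] at h1 h3
      rw [l2_smul, l2_smul, D.square_scalar hq c b d (c.1 0) ?_ h1 h3]
      rw [π_smul, π_base] at hsc
      change mv k.1.1 c.1 = hm hF (mv k.1.1 c.1) (mv k.1.1 (bv F (D.fB 0))) • mv k.1.1 (bv F (D.fB 0)) at hsc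
      rw [mv_form, hm_bv_right, D.fB_zero, ← mv_smul] at hsc
      have := congrArg (mv k.1.1⁻¹) hsc
      rwa [mv_inv_cancel, mv_inv_cancel] at this
  have πl : ∀ p, Orth hF (D.π x) p → D.π (D.l x p) = p := fun p hp => D.lift_π x p hp
  have core : ∀ b d : UV hF (M + 1), Orth hF (D.π x) b → Orth hF b c → Orth hF (D.π x) d → Orth hF d c →
      hm hF d.1 b.1 ≠ 0 → (3 < q → ∀ κ : F, d.1 + (-hm hF d.1 b.1) • b.1 =
        κ • (c.1 + (-hm hF c.1 (D.π x).1) • (D.π x).1) →
          4 < q ∨ ((1 + 1 : F) = 0 ∧ (nm hF κ = 0 ∨ nm hF κ = nm hF (hm hF d.1 b.1)))) →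
      D.l (D.l x b) c = D.l (D.l x d) c := by
    intro b d h1 h2 h3 h4 hbd hκ
    have πl : ∀ p, Orth hF (D.π x) p → D.π (D.l x p) = p := fun p hp => D.lift_π x p hp
    obtain ⟨x', y', hx, hy, hxa, hxb, hxy, hyc, hyd, hya, hyb⟩ :
        ∃ u y, hm hF u u = 1 ∧ hm hF y y = 1 ∧ hm hF u (D.π x).1 = 0 ∧ hm hF u b.1 = 0 ∧ hm hF u y = 0 ∧
          hm hF y c.1 = 0 ∧ hm hF y d.1 = 0 ∧ nm hF (hm hF y (D.π x).1) ≠ 1 ∧ nm hF (hm hF y b.1) ≠ 1 := by
      rcases room with h | ⟨h, h5⟩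
      · exact tangent hF h (by omega) (D.π x).2 b.2 c.2 d.2
          (hm_zero_symm hF h1) (hm_zero_symm hF h2) (hm_zero_symm hF h3) (hm_zero_symm hF h4) hbd hn hsc (hκ h)
      · refine tangent_five hF hq (fun h2' => ?_) h5 (D.π x).2 b.2 d.2 (hm_zero_symm hF h1) h2
          (hm_zero_symm hF h3) h4 fun e => hbd ?_
        · have h3' := three_zero_of_three hF h
          exact one_ne_zero (α := F) (by linear_combination h3' - h2')
        · exact hm_zero_symm hF e
    set X' : UV hF (M + 1) := ⟨x', hx⟩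
    set Y' : UV hF (M + 1) := ⟨y', hy⟩
    have ax : Orth hF (D.π x) X' := hm_zero_symm hF hxa
    have bx : Orth hF b X' := hm_zero_symm hF hxb
    have xy : Orth hF X' Y' := hxy
    have cy : Orth hF c Y' := hm_zero_symm hF hyc
    have dy : Orth hF d Y' := hm_zero_symm hF hyd
    have eY : D.l (D.l x X') Y' = D.l (D.l x d) Y' := D.sq_far x X' Y' d hya ax xy h3 dy
    have e1 : D.l (D.l (D.l x b) X') Y' = D.l (D.l (D.l x b) c) Y' :=
      D.sq_far (D.l x b) X' Y' c (by rw [πl b h1]; exact hyb) (by rw [πl b h1]; exact bx) xy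
        (by rw [πl b h1]; exact h2) cy
    rw [D.lift_tri x b X' h1 ax bx, eY] at e1
    have πb : D.π (D.l (D.l x b) c) = c := D.lift_π _ _ (by rw [πl b h1]; exact h2)
    have e2 := D.lift_back (D.l (D.l x b) c) Y' (by rw [πb]; exact cy)
    rw [πb, ← e1] at e2
    rw [← e2]
    exact D.lift_tri (D.l x d) Y' c (by rw [πl d h3]; exact dy) (by rw [πl d h3]; exact h4)
      (hm_zero_symm hF cy)
  by_cases hbd : hm hF d.1 b.1 = 0
  · have hbd' : Orth hF b d := hm_zero_symm hF hbd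
    rw [← D.lift_tri (D.l x b) d c (by rw [πl b h1]; exact hbd') (by rw [πl b h1]; exact h2) h4,
      D.lift_tri x b d h1 h3 hbd']
  rcases room with hq3 | ⟨hq3, -⟩
  swap
  · exact core b d h1 h2 h3 h4 hbd fun h => absurd h (by omega)
  rcases Nat.lt_or_ge 4 q with hq5 | hq4
  · exact core b d h1 h2 h3 h4 hbd fun _ κ _ => Or.inl hq5
  have hq' : q = 4 := by omega
  have two := two_zero_of_four hF hq'
  by_cases hdep : ∀ κ : F, d.1 + (-hm hF d.1 b.1) • b.1 ≠ κ • (c.1 + (-hm hF c.1 (D.π x).1) • (D.π x).1)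
  · exact core b d h1 h2 h3 h4 hbd fun _ κ h => absurd h (hdep κ)
  push Not at hdep
  obtain ⟨κ, hκ⟩ := hdep
  set a := D.π x with ha
  set γ := hm hF c.1 a.1 with hγ
  set δ := hm hF d.1 b.1 with hδ
  set r := c.1 + (-γ) • a.1 with hr
  have hba : hm hF b.1 a.1 = 0 := hm_zero_symm hF h1
  have hbc : hm hF b.1 c.1 = 0 := h2
  have hra : hm hF r a.1 = 0 := by rw [hr, hm_add_left, hm_smul_left, a.2, ← hγ]; ring
  have hrb : hm hF r b.1 = 0 := by
    rw [hr, hm_add_left, hm_smul_left, hm_zero_symm hF hba, hm_zero_symm hF hbc]; ring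
  have hrc : hm hF r c.1 = 0 := by
    rw [hr, hm_add_left, hm_smul_left, c.2, ← hm_symm hF c.1 a.1, ← hγ]
    simp only [nm] at hn
    linear_combination -hn
  have hrr : hm hF r r = 0 := by
    conv_lhs => arg 2; rw [hr]
    rw [hm_add_right, hm_smul_right, hrc, hra]; ring
  have hr0 : r ≠ 0 := fun h => hsc (by
    have e : c.1 = r + γ • a.1 := by rw [hr]; module
    rwa [h, zero_add] at e)
  have hP : ∀ t : F, hm hF (b.1 + t • r) (b.1 + t • r) = 1 := fun t => by
    rw [hm_add_left, hm_add_right, hm_add_right, hm_smul_left, hm_smul_left, hm_smul_right, hm_smul_right,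
      b.2, hrb, hrr, hm_zero_symm hF hrb]
    ring
  let P : F → UV hF (M + 1) := fun t => ⟨b.1 + t • r, hP t⟩
  have hPa : ∀ t, Orth hF a (P t) := fun t => hm_zero_symm hF (by
    show hm hF (b.1 + t • r) a.1 = 0
    rw [hm_add_left, hm_smul_left, hba, hra]; ring)
  have hPc : ∀ t, Orth hF (P t) c := fun t => by
    show hm hF (b.1 + t • r) c.1 = 0
    rw [hm_add_left, hm_smul_left, hbc, hrc]; ring
  have hPP : ∀ s t, hm hF (P s).1 (P t).1 = 1 := fun s t => by
    show hm hF (b.1 + s • r) (b.1 + t • r) = 1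
    rw [hm_add_left, hm_add_right, hm_add_right, hm_smul_left, hm_smul_left, hm_smul_right, hm_smul_right,
      b.2, hrb, hrr, hm_zero_symm hF hrb]
    ring
  let f : F → D.X := fun t => D.l (D.l x (P t)) c
  let H : AddSubgroup F :=
    { carrier := {z | ∀ t, f (t + z) = f t}
      zero_mem' := fun t => by rw [add_zero]
      add_mem' := fun {u v} hu hv t => by rw [← add_assoc, hv, hu]
      neg_mem' := fun {u} hu t => by
        have e := hu (t + -u)
        rwa [neg_add_cancel_right, eq_comm] at e }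
  have hH : ∀ z, z ∈ H := circle_span hF hq' H fun ζ hζ t => by
    refine core (P (t + ζ)) (P t) (hPa _) (hPc _) (hPa _) (hPc _) (by rw [hPP]; exact one_ne_zero) ?_
    intro _ μ hμ
    rw [hPP] at hμ ⊢
    have e : (-ζ) • r = μ • r := by rw [← hμ]; simp only [P]; module
    refine Or.inr ⟨two, Or.inr ?_⟩
    rw [← smul_left_injective F hr0 e, nm_neg, hζ, nm_one]
  have hδn : nm hF δ = 1 := by
    have h := d.2
    rw [show d.1 = δ • b.1 + κ • r by rw [← hκ]; module, hm_add_left, hm_add_right, hm_add_right,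
      hm_smul_left, hm_smul_left, hm_smul_left, hm_smul_left, hm_smul_right, hm_smul_right, hm_smul_right,
      hm_smul_right, b.2, hrb, hrr, hm_zero_symm hF hrb] at h
    rw [nm]
    linear_combination h
  have hδ0 : δ ≠ 0 := hbd
  have hd : d.1 = δ • (P (κ / δ)).1 := by
    show d.1 = δ • (b.1 + (κ / δ) • r)
    rw [smul_add, smul_smul, mul_div_cancel₀ _ hδ0, ← hκ]; module
  have last : f (κ / δ) = D.l (D.l x d) c := by
    refine core (P (κ / δ)) d (hPa _) (hPc _) h3 h4 (by rw [hd, hm_smul_left, (P _).2, mul_one]; exact hδ0) ?_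
    intro _ μ hμ
    rw [hd, hm_smul_left, (P _).2, mul_one] at hμ ⊢
    have e : μ • r = (0 : F) • r := by rw [← hμ]; module
    exact Or.inr ⟨two, Or.inl (by rw [smul_left_injective F hr0 e, nm_zero])⟩
  have first : b = P 0 := Subtype.ext (by show b.1 = b.1 + (0 : F) • r; module)
  rw [← last, first]
  show f 0 = f (κ / δ)
  rw [← hH (κ / δ) 0, zero_add]

theorem lifting (hq : 2 < q) (room : 3 < q ∨ (q = 3 ∧ 5 ≤ M + 1)) : Lifting (Orth hF) D.π D.l where
  lift := D.lift_π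
  back := D.lift_back
  tri := D.lift_tri
  sq := D.lift_sq hq room

theorem shape_room (room : 3 < q ∨ (q = 3 ∧ 5 ≤ M + 1)) : Shape (Orth hF (n := M + 1)) := by
  rcases room with h | ⟨-, h⟩
  · exact shape hF h (by have := D.le; omega)
  · exact shape_five hF h

theorem exists_hom (hq : 2 < q) (room : 3 < q ∨ (q = 3 ∧ 5 ≤ M + 1)) :
    ∃ Φ : SU (M + 1) F q →* G, (∀ h, Φ (emb hF D.fH h) = φ h) ∧ ∀ g, Φ (emb hF D.fB g) = Ψ g := by
  have hle := D.le
  obtain ⟨L, hπ, hL0, hstep⟩ := exists_section (Orth hF) (D.shape_room room) (D.lifting hq room) D.x₀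
  rw [π_base] at hL0
  let Z : Subgroup D.K :=
    { carrier := {k | ∀ p, k • L p = L (D.act k p)}
      one_mem' := fun p => by
        rw [one_smul, show D.act 1 p = p from Subtype.ext (mv_one _)]
      mul_mem' := fun {a b} ha hb p => by rw [mul_smul, hb, ha, act_mul]
      inv_mem' := fun {a} ha p => by
        rw [inv_smul_eq_iff, ha, act_inv'] }
  have crit : ∀ k : D.K, k • D.x₀ = L (D.act k (D.E 0)) → k ∈ Z := by
    intro k hk p
    obtain ⟨b, h1, h2⟩ := (D.shape_room room).common (D.E 0) p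
    rw [← hstep b p h2, ← hstep _ _ h1, hL0, ← l2_smul, hk, hstep _ _ ((D.orth_act _ _ _).2 h1),
      hstep _ _ ((D.orth_act _ _ _).2 h2)]
  have hH : ∀ h, D.kH h ∈ Z := fun h => crit _ (by rw [kH_smul_base, act_kH_E0, hL0])
  have hB : ∀ g, D.kB g ∈ Z := by
    have top : Z.comap D.kB = ⊤ := by
      refine closure_blocks hF hq (by norm_num) fun i hi => ?_
      rintro _ ⟨u, rfl⟩
      show D.kB (emb hF (sh i 2 3 hi) u) ∈ Z
      rcases (show i = 0 ∨ i = 1 by omega) with rfl | rfl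
      · set g := emb hF (sh 0 2 3 hi) u with hg
        refine crit _ ?_
        obtain ⟨g2, hg2⟩ := D.exists_to 2
        have h1 : Orth hF (D.E 0) (D.E 2) := by
          rw [orth_base]; simp [E, bv, Fin.ext_iff, fB, sh_val]
        have hp : (D.act (D.kB g) (D.E 0)).1 = D.pad (mv g (bv F 0)) := by
          show mv (D.kB g).1.1 (bv F (D.fB 0)) = _
          rw [← pad_bv, Bl_pad]
        have hz : mv g (bv F 0) 2 = 0 := by
          rw [hg, emb_mv_out]
          · simp [bv]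
          · intro a; fin_cases a <;> simp [Fin.ext_iff, sh_val]
        have h2 : Orth hF (D.E 2) (D.act (D.kB g) (D.E 0)) := by
          show hm hF (bv F (D.fB 2)) _ = 0
          rw [hm_bv_left, hp, pad, D.fB.injective.extend_apply, hz, map_zero]
        rw [← hstep _ _ h2, ← hstep _ _ h1, hL0, D.l_base g2 2 hg2 (by decide),
          D.l_block hp (by rw [hg2, hm_bv_right, hz])]
        show QuotientGroup.mk (D.kB g * D.kB 1) = _
        rw [map_one, mul_one]
      · rw [D.kB_tail]; exact hH _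
    intro g
    exact (show g ∈ Z.comap D.kB by rw [top]; exact Subgroup.mem_top g)
  have hall : ∀ k : D.K, k ∈ Z := by
    have : D.K ≤ Z.map D.K.subtype := sup_le
      (by rintro _ ⟨h, rfl⟩; exact ⟨D.kH h, hH h, rfl⟩)
      (by rintro _ ⟨g, rfl⟩; exact ⟨D.kB g, hB g, rfl⟩)
    intro k
    obtain ⟨z, hz, e⟩ := this k.2
    rwa [← Subtype.ext e]
  let pr : D.K →* SU (M + 1) F q := (MonoidHom.fst _ _).comp D.K.subtype
  have hinj : Function.Injective pr := by
    refine (injective_iff_map_eq_one pr).2 fun k hk => ?_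
    have hk' : k.1.1 = 1 := hk
    have e := hall k (D.E 0)
    rw [show D.act k (D.E 0) = D.E 0 from Subtype.ext (by
      show mv k.1.1 _ = _; rw [hk', mv_one]; ), hL0, ← mk_eq_smul] at e
    have hmem : (1 : D.K)⁻¹ * k ∈ D.kH.range := by
      refine QuotientGroup.eq.1 ?_
      rw [e, mk_eq_smul, one_smul]
    rw [inv_one, one_mul] at hmem
    obtain ⟨h, rfl⟩ := hmem
    have : emb hF D.fH h = emb hF D.fH 1 := by rw [map_one]; exact hk'
    rw [emb_injective hF _ this, map_one]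
  have hsurj : Function.Surjective pr := by
    rw [← MonoidHom.range_eq_top]
    refine closure_blocks hF hq (by omega) fun i hi => ?_
    rintro _ ⟨u, rfl⟩
    rcases Nat.eq_zero_or_pos i with rfl | hpos
    · refine ⟨D.kB (emb hF (sh 0 2 3 (by omega)) u), ?_⟩
      show emb hF D.fB (emb hF _ u) = _
      rw [emb_trans]
      congr 1
    · refine ⟨D.kH (emb hF (sh (i - 1) 2 M (by omega)) u), ?_⟩
      show emb hF D.fH (emb hF _ u) = _
      rw [emb_trans]
      congr 1
      refine congrArg _ (Function.Embedding.ext fun a => Fin.ext ?_)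
      simp [Function.Embedding.trans_apply, fH, sh_val]; omega
  let eq := MulEquiv.ofBijective pr ⟨hinj, hsurj⟩
  have hval : ∀ k : D.K, eq.symm (k.1.1) = k := fun k => eq.symm_apply_apply k
  refine ⟨((MonoidHom.snd _ _).comp D.K.subtype).comp eq.symm.toMonoidHom, fun h => ?_, fun g => ?_⟩
  · show (eq.symm (D.kH h).1.1).1.2 = _
    rw [hval]; rfl
  · show (eq.symm (D.kB g).1.1).1.2 = _
    rw [hval]; rfl

end GlueData

end Cfsg.Agent.Recog.Phan
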