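import Cfsg.Agent.Lib.Classical.Unit
import Cfsg.Agent.Lib.Lie.SpnPresBase

/-!
The standard Hermitian space and block embeddings of special unitary groups.
-/

set_option autoImplicit false
set_option linter.unusedSectionVars false

namespace Cfsg.Agent.Recog.Phan

open Matrix Cfsg.Agent.Classical Cfsg.Agent.Lie.SpnPres

variable {F : Type*} [Field F] [Fintype F] {q : ℕ} (hF : Fintype.card F = q ^ 2)

include hF

/-- The norm to the fixed field. -/
def nm (x : F) : F := x * qFrob hF x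

theorem nm_mul (x y : F) : nm hF (x * y) = nm hF x * nm hF y := by
  simp only [nm, map_mul]; ring

theorem nm_inv (x : F) : nm hF x⁻¹ = (nm hF x)⁻¹ := by
  simp only [nm, map_inv₀, _root_.mul_inv]

theorem nm_neg (x : F) : nm hF (-x) = nm hF x := by simp [nm]

theorem nm_zero : nm hF (0 : F) = 0 := by simp [nm]

theorem nm_one : nm hF (1 : F) = 1 := by simp [nm]

theorem nm_eq_zero {x : F} : nm hF x = 0 ↔ x = 0 := by
  refine ⟨fun h => ?_, fun h => by rw [h, nm_zero]⟩
  rcases mul_eq_zero.1 h with h | h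
  · exact h
  · exact (map_eq_zero _).1 h

theorem nm_fix (x : F) : qFrob hF (nm hF x) = nm hF x := by
  rw [nm, map_mul, qFrob_qFrob, mul_comm]

theorem nm_conj (x : F) : nm hF (qFrob hF x) = nm hF x := by
  rw [nm, qFrob_qFrob, mul_comm, nm]

omit hF in
/-- The form. -/
def hm (_ : Fintype.card F = q ^ 2) {n : ℕ} (u v : Fin n → F) : F := hermForm n F q u v

theorem hm_eq {n : ℕ} (u v : Fin n → F) : hm hF u v = ∑ i, u i * qFrob hF (v i) := rfl

theorem hm_add_left {n : ℕ} (u u' v : Fin n → F) : hm hF (u + u') v = hm hF u v + hm hF u' v :=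
  hermForm_add_left n u u' v

theorem hm_smul_left {n : ℕ} (c : F) (u v : Fin n → F) : hm hF (c • u) v = c * hm hF u v :=
  hermForm_smul_left n c u v

theorem hm_symm {n : ℕ} (u v : Fin n → F) : qFrob hF (hm hF u v) = hm hF v u :=
  hermForm_symm hF n u v

theorem hm_zero_symm {n : ℕ} {u v : Fin n → F} (h : hm hF u v = 0) : hm hF v u = 0 := by
  rw [← hm_symm, h, map_zero]

theorem hm_add_right {n : ℕ} (u v v' : Fin n → F) : hm hF u (v + v') = hm hF u v + hm hF u v' := by
  simp only [hm_eq, Pi.add_apply, map_add, mul_add, Finset.sum_add_distrib]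

theorem hm_smul_right {n : ℕ} (c : F) (u v : Fin n → F) :
    hm hF u (c • v) = qFrob hF c * hm hF u v := by
  simp only [hm_eq, Pi.smul_apply, smul_eq_mul, map_mul, Finset.mul_sum]
  exact Finset.sum_congr rfl fun i _ => by ring

theorem hm_zero_left {n : ℕ} (v : Fin n → F) : hm hF 0 v = 0 := by simp [hm_eq]

theorem hm_zero_right {n : ℕ} (v : Fin n → F) : hm hF v 0 = 0 := by simp [hm_eq]

theorem hm_neg_right {n : ℕ} (u v : Fin n → F) : hm hF u (-v) = -hm hF u v := by
  simp [hm_eq, Finset.sum_neg_distrib]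

theorem hm_self_smul {n : ℕ} (c : F) (v : Fin n → F) :
    hm hF (c • v) (c • v) = nm hF c * hm hF v v := by
  rw [hm_smul_left, hm_smul_right, nm]; ring

theorem hm_self_fix {n : ℕ} (v : Fin n → F) : qFrob hF (hm hF v v) = hm hF v v := hm_symm hF v v

/-- The basis vectors. -/
abbrev bv (F : Type*) [Field F] {n : ℕ} (i : Fin n) : Fin n → F := Pi.single i 1

theorem hm_bv_right {n : ℕ} (u : Fin n → F) (i : Fin n) : hm hF u (bv F i) = u i :=
  hermForm_single_right hF n u i

theorem hm_bv_left {n : ℕ} (u : Fin n → F) (i : Fin n) : hm hF (bv F i) u = qFrob hF (u i) := by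
  rw [← hm_symm, hm_bv_right]

theorem hm_bv {n : ℕ} (i j : Fin n) : hm hF (bv F i) (bv F j) = if i = j then 1 else 0 := by
  rw [hm_bv_right, bv, Pi.single_apply]
  simp [eq_comm]

theorem hm_split {m n : ℕ} (f : Fin m ↪ Fin n) (u v : Fin n → F) :
    hm hF u v = hm hF (u ∘ f) (v ∘ f) + ∑ i ∈ (Finset.univ.map f)ᶜ, u i * qFrob hF (v i) := by
  rw [hm_eq, hm_eq, ← Finset.sum_add_sum_compl (Finset.univ.map f), Finset.sum_map]
  rfl

/-- The action of a special unitary matrix on vectors. -/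
def mv {n : ℕ} (g : SU n F q) (v : Fin n → F) : Fin n → F := g.1.1 *ᵥ v

omit hF in
theorem mv_mul {n : ℕ} (g g' : SU n F q) (v : Fin n → F) : mv (g * g') v = mv g (mv g' v) := by
  simp only [mv, Subgroup.coe_mul, Matrix.SpecialLinearGroup.coe_mul, Matrix.mulVec_mulVec]

omit hF in
theorem mv_one {n : ℕ} (v : Fin n → F) : mv (1 : SU n F q) v = v := by
  simp [mv]

omit hF in
theorem mv_inv_cancel {n : ℕ} (g : SU n F q) (v : Fin n → F) : mv g⁻¹ (mv g v) = v := by
  rw [← mv_mul, inv_mul_cancel, mv_one]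

omit hF in
theorem mv_cancel_inv {n : ℕ} (g : SU n F q) (v : Fin n → F) : mv g (mv g⁻¹ v) = v := by
  rw [← mv_mul, mul_inv_cancel, mv_one]

omit hF in
theorem mv_add {n : ℕ} (g : SU n F q) (u v : Fin n → F) : mv g (u + v) = mv g u + mv g v :=
  Matrix.mulVec_add _ _ _

omit hF in
theorem mv_smul {n : ℕ} (g : SU n F q) (c : F) (v : Fin n → F) : mv g (c • v) = c • mv g v :=
  Matrix.mulVec_smul _ _ _

theorem mv_form {n : ℕ} (g : SU n F q) (u v : Fin n → F) :
    hm hF (mv g u) (mv g v) = hm hF u v := g.2 u v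

omit hF in
theorem su_ext {n : ℕ} {g g' : SU n F q} (h : ∀ i, mv g (bv F i) = mv g' (bv F i)) : g = g' :=
  Subtype.ext (Subtype.ext (Matrix.ext_of_mulVec_single fun i => h i))

omit hF in
theorem ext_apply_in {m n : ℕ} (f : Fin m ↪ Fin n) (A : Matrix (Fin m) (Fin m) F) (v : Fin n → F)
    (a : Fin m) : (extM f A *ᵥ v) (f a) = (A *ᵥ (v ∘ f)) a := by
  rw [extM, Matrix.add_mulVec, Matrix.one_mulVec, ← Matrix.mulVec_mulVec, ← Matrix.mulVec_mulVec,
    Matrix.sub_mulVec, Matrix.one_mulVec]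
  have h : (incM F f)ᵀ *ᵥ v = v ∘ f := by
    ext b
    simp [incM, Matrix.mulVec, dotProduct]
  rw [h]
  simp [incM, Matrix.mulVec, dotProduct, f.injective.eq_iff]

omit hF in
theorem ext_apply_out {m n : ℕ} (f : Fin m ↪ Fin n) (A : Matrix (Fin m) (Fin m) F) (v : Fin n → F)
    {i : Fin n} (hi : ∀ a, f a ≠ i) : (extM f A *ᵥ v) i = v i := by
  rw [extM, Matrix.add_mulVec, Matrix.one_mulVec, ← Matrix.mulVec_mulVec, ← Matrix.mulVec_mulVec]
  simp [-Matrix.mulVec_mulVec, incM, Matrix.mulVec, dotProduct, fun a => Ne.symm (hi a)]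

theorem ext_mem {m n : ℕ} (f : Fin m ↪ Fin n) (g : SU m F q) : extSL f g.1 ∈ SU n F q := by
  intro u v
  show hm hF (extM f g.1.1 *ᵥ u) (extM f g.1.1 *ᵥ v) = hm hF u v
  rw [hm_split hF f, hm_split hF f u v]
  congr 1
  · have hu : ∀ w, (extM f g.1.1 *ᵥ w) ∘ f = mv g (w ∘ f) := fun w => funext fun a => ext_apply_in f _ w a
    rw [hu, hu, mv_form]
  · refine Finset.sum_congr rfl fun i hi => ?_
    have h : ∀ a, f a ≠ i := by simpa using hi
    rw [ext_apply_out f _ u h, ext_apply_out f _ v h]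

/-- The block embedding on a set of coordinates. -/
def emb {m n : ℕ} (f : Fin m ↪ Fin n) : SU m F q →* SU n F q :=
  ((extSL f).comp (SU m F q).subtype).codRestrict _ (ext_mem hF f)

theorem emb_mv_in {m n : ℕ} (f : Fin m ↪ Fin n) (g : SU m F q) (v : Fin n → F) (a : Fin m) :
    mv (emb hF f g) v (f a) = mv g (v ∘ f) a := ext_apply_in f _ v a

theorem emb_mv_out {m n : ℕ} (f : Fin m ↪ Fin n) (g : SU m F q) (v : Fin n → F) {i : Fin n}
    (hi : ∀ a, f a ≠ i) : mv (emb hF f g) v i = v i := ext_apply_out f _ v hi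

theorem emb_mv_comp {m n : ℕ} (f : Fin m ↪ Fin n) (g : SU m F q) (v : Fin n → F) :
    mv (emb hF f g) v ∘ f = mv g (v ∘ f) := funext fun a => emb_mv_in hF f g v a

theorem emb_trans {k m n : ℕ} (f : Fin k ↪ Fin m) (f' : Fin m ↪ Fin n) (g : SU k F q) :
    emb hF f' (emb hF f g) = emb hF (f.trans f') g := by
  refine su_ext fun i => funext fun x => ?_
  by_cases hx : ∃ b, f' b = x
  · obtain ⟨b, rfl⟩ := hx
    rw [emb_mv_in]
    by_cases hb : ∃ c, f c = b
    · obtain ⟨c, rfl⟩ := hb
      rw [emb_mv_in, show f' (f c) = (f.trans f') c from rfl, emb_mv_in]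
      rfl
    · push Not at hb
      rw [emb_mv_out hF f g _ hb, emb_mv_out hF _ g _ (fun c hc => hb c (f'.injective hc))]
      rfl
  · push Not at hx
    rw [emb_mv_out hF f' _ _ hx, emb_mv_out hF _ g _ (fun c => hx (f c))]

theorem emb_injective {m n : ℕ} (f : Fin m ↪ Fin n) : Function.Injective (emb hF f) := by
  intro g g' h
  refine su_ext fun a => funext fun b => ?_
  have h1 := congrFun (congrArg (fun x => mv x (bv F (f a))) h) (f b)
  simp only [emb_mv_in] at h1
  have h2 : bv F (f a) ∘ f = bv F a := funext fun c => by simp [bv, Pi.single_apply, f.injective.eq_iff]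
  rwa [h2] at h1

theorem emb_fix {m n : ℕ} (f : Fin m ↪ Fin n) (g : SU m F q) {v : Fin n → F} (hv : ∀ a, v (f a) = 0) :
    mv (emb hF f g) v = v := by
  have hc : v ∘ f = 0 := funext hv
  funext i
  by_cases hi : ∃ a, f a = i
  · obtain ⟨a, rfl⟩ := hi
    rw [emb_mv_in, hc, hv, mv, Matrix.mulVec_zero, Pi.zero_apply]
  · push Not at hi
    exact emb_mv_out hF f g v hi

theorem emb_fix_bv {m n : ℕ} (f : Fin m ↪ Fin n) (g : SU m F q) {i : Fin n} (hi : ∀ a, f a ≠ i) :
    mv (emb hF f g) (bv F i) = bv F i :=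
  emb_fix hF f g fun a => by simp [bv, hi a]

theorem emb_commute {m m' n : ℕ} (f : Fin m ↪ Fin n) (f' : Fin m' ↪ Fin n) (hd : ∀ a b, f a ≠ f' b)
    (g : SU m F q) (g' : SU m' F q) : Commute (emb hF f g) (emb hF f' g') := by
  refine su_ext fun i => funext fun x => ?_
  rw [mv_mul, mv_mul]
  have h1 : ∀ v : Fin n → F, mv (emb hF f' g') v ∘ f = v ∘ f := fun v => funext fun c =>
    emb_mv_out hF f' g' v (fun b h => hd c b h.symm)
  have h2 : ∀ v : Fin n → F, mv (emb hF f g) v ∘ f' = v ∘ f' := fun v => funext fun c =>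
    emb_mv_out hF f g v (fun a => hd a c)
  by_cases hx : ∃ a, f a = x
  · obtain ⟨a, rfl⟩ := hx
    rw [emb_mv_in, emb_mv_out hF f' g' _ (fun b h => hd a b h.symm), emb_mv_in, h1]
  push Not at hx
  rw [emb_mv_out hF f g _ hx]
  by_cases hy : ∃ b, f' b = x
  · obtain ⟨b, rfl⟩ := hy
    rw [emb_mv_in, emb_mv_in, h2]
  · push Not at hy
    rw [emb_mv_out hF f' g' _ hy, emb_mv_out hF f' g' _ hy, emb_mv_out hF f g _ hx]

theorem mem_range_emb {m n : ℕ} (f : Fin m ↪ Fin n) (g : SU n F q)
    (hg : ∀ i, (∀ a, f a ≠ i) → mv g (bv F i) = bv F i) : g ∈ (emb hF f).range := by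
  have hcol : ∀ i, (∀ a, f a ≠ i) → ∀ x, g.1.1 x i = if x = i then 1 else 0 := fun i hi x => by
    have h := congrFun (hg i hi) x
    simpa [mv, bv, Matrix.mulVec_single_one, Pi.single_apply] using h
  have hrow : ∀ i, (∀ a, f a ≠ i) → ∀ j, g.1.1 i j = if i = j then 1 else 0 := fun i hi j => by
    have h := mv_form hF g (bv F j) (bv F i)
    rw [hg i hi, hm_bv_right, hm_bv] at h
    simpa [mv, Matrix.mulVec_single_one, eq_comm] using h
  set A : Matrix (Fin m) (Fin m) F := g.1.1.submatrix f f with hA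
  have hEq : g.1.1 = extM f A := by
    refine Matrix.ext_of_mulVec_single fun j => funext fun x => ?_
    by_cases hx : ∃ a, f a = x
    · obtain ⟨a, rfl⟩ := hx
      rw [ext_apply_in]
      by_cases hj : ∃ b, f b = j
      · obtain ⟨b, rfl⟩ := hj
        have h2 : (Pi.single (f b) 1 : Fin n → F) ∘ f = Pi.single b 1 :=
          funext fun c => by simp [Pi.single_apply, f.injective.eq_iff]
        rw [h2]
        simp [hA]
      · push Not at hj
        have h2 : (Pi.single j 1 : Fin n → F) ∘ f = 0 := funext fun c => by simp [hj c]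
        rw [h2, Matrix.mulVec_zero, Matrix.mulVec_single_one]
        simpa [hj a] using hcol j hj (f a)
    · push Not at hx
      rw [ext_apply_out f A _ hx, Matrix.mulVec_single_one, Pi.single_apply]
      exact hrow x hx j
  have hdet : A.det = 1 := by rw [← extM_det f A, ← hEq]; exact g.1.2
  have hmem : (⟨A, hdet⟩ : Matrix.SpecialLinearGroup (Fin m) F) ∈ SU m F q := by
    intro u v
    show hm hF (A *ᵥ u) (A *ᵥ v) = hm hF u v
    set pu : Fin n → F := Function.extend f u 0 with hpu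
    set pv : Fin n → F := Function.extend f v 0 with hpv
    have eu : pu ∘ f = u := funext fun a => f.injective.extend_apply u 0 a
    have ev : pv ∘ f = v := funext fun a => f.injective.extend_apply v 0 a
    have key := mv_form hF g pu pv
    rw [hm_split hF f, hm_split hF f pu pv, eu, ev] at key
    have hz : ∀ i ∈ (Finset.univ.map f)ᶜ, pu i = 0 ∧ mv g pu i = 0 := by
      intro i hi
      have h : ∀ a, f a ≠ i := by simpa using hi
      have h0 : pu i = 0 := Function.extend_apply' _ _ _ (by rintro ⟨a, ha⟩; exact h a ha)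
      refine ⟨h0, ?_⟩
      rw [mv, hEq, ext_apply_out f A pu h, h0]
    rw [Finset.sum_eq_zero (fun i hi => by rw [(hz i hi).2, zero_mul]),
      Finset.sum_eq_zero (fun i hi => by rw [(hz i hi).1, zero_mul]), add_zero, add_zero] at key
    have hu : mv g pu ∘ f = A *ᵥ u := funext fun a => by
      rw [Function.comp_apply, mv, hEq, ext_apply_in, eu]
    have hv : mv g pv ∘ f = A *ᵥ v := funext fun a => by
      rw [Function.comp_apply, mv, hEq, ext_apply_in, ev]
    rwa [hu, hv] at key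
  exact ⟨⟨⟨A, hdet⟩, hmem⟩, Subtype.ext (Subtype.ext hEq.symm)⟩

/-- The two-dimensional elements. -/
def el2 (a b : F) (h : nm hF a + nm hF b = 1) : SU 2 F q :=
  ⟨⟨!![a, -qFrob hF b; b, qFrob hF a], by
    simp only [nm] at h
    rw [Matrix.det_fin_two]; simp; linear_combination h⟩, fun u v => by
    show hm hF (!![a, -qFrob hF b; b, qFrob hF a] *ᵥ u) (!![a, -qFrob hF b; b, qFrob hF a] *ᵥ v) = hm hF u v
    simp only [nm] at h
    simp [hm_eq, Fin.sum_univ_two, Matrix.mulVec, dotProduct, qFrob_qFrob]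
    linear_combination (u 0 * qFrob hF (v 0) + u 1 * qFrob hF (v 1)) * h⟩

theorem el2_mv_zero (a b : F) (h : nm hF a + nm hF b = 1) : mv (el2 hF a b h) (bv F 0) = ![a, b] := by
  funext i
  fin_cases i <;> simp [mv, el2, bv]

end Cfsg.Agent.Recog.Phan
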