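import Cfsg.Agent.Lib.Recog.PhanAut
import Cfsg.Agent.Lib.Recog.PhanGeom
import Mathlib.RingTheory.Polynomial.Cyclotomic.Basic

/-!
Two copies of `SU₂(q)` in `SU₃(q)` with commuting tori form a standard pair.
-/

set_option autoImplicit false
set_option linter.unusedSectionVars false
set_option maxHeartbeats 1000000

namespace Cfsg.Agent.Recog.Phan

open Matrix Cfsg.Agent.Classical Cfsg.Agent.Lie.SpnPres

variable {F : Type*} [Field F] [Fintype F] {q : ℕ} (hF : Fintype.card F = q ^ 2)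

/-- The stabiliser of a vector. -/
def fixer {n : ℕ} (c : Fin n → F) : Subgroup (SU n F q) where
  carrier := {g | mv g c = c}
  one_mem' := mv_one c
  mul_mem' := fun {a b} (ha : mv a c = c) (hb : mv b c = c) => by
    show mv (a * b) c = c
    rw [mv_mul, hb, ha]
  inv_mem' := fun {a} (ha : mv a c = c) => by
    show mv a⁻¹ c = c
    conv_lhs => rw [← ha]
    exact mv_inv_cancel a c

theorem mem_fixer {n : ℕ} {c : Fin n → F} {g : SU n F q} : g ∈ fixer c ↔ mv g c = c := Iff.rfl

theorem fixer_smul {n : ℕ} {c : Fin n → F} {κ : F} (hκ : κ ≠ 0) :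
    (fixer (κ • c) : Subgroup (SU n F q)) = fixer c := by
  ext g
  rw [mem_fixer, mem_fixer, mv_smul]
  exact (smul_right_injective _ hκ).eq_iff

theorem mem_fixer_conj {n : ℕ} {c : Fin n → F} (g a : SU n F q) :
    g⁻¹ * a * g ∈ fixer c ↔ a ∈ fixer (mv g c) := by
  rw [mem_fixer, mem_fixer, mv_mul, mv_mul]
  refine ⟨fun h => ?_, fun h => by rw [h, mv_inv_cancel]⟩
  have := congrArg (mv g) h
  rwa [mv_cancel_inv] at this

/-- Diagonal elements. -/
def IsDiag {n : ℕ} (g : SU n F q) : Prop := ∀ i, ∃ κ : F, mv g (bv F i) = κ • bv F i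

include hF

theorem fixer_zero : (fixer (bv F (0 : Fin 3)) : Subgroup (SU 3 F q)) =
    (emb hF (sh 1 2 3 (by omega))).range := by
  refine le_antisymm (fun g hg => mem_range_emb hF _ g fun i hi => ?_) ?_
  · obtain rfl : i = 0 := by
      by_contra hne
      have : (i : ℕ) ≠ 0 := fun h => hne (Fin.ext h)
      exact hi ⟨(i : ℕ) - 1, by omega⟩ (Fin.ext (by simp [sh_val]; omega))
    exact hg
  · rintro _ ⟨u, rfl⟩
    exact emb_fix_bv hF _ _ fun a => by fin_cases a <;> simp [Fin.ext_iff, sh_val]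

theorem fixer_two : (fixer (bv F (2 : Fin 3)) : Subgroup (SU 3 F q)) =
    (emb hF (sh 0 2 3 (by omega))).range := by
  refine le_antisymm (fun g hg => mem_range_emb hF _ g fun i hi => ?_) ?_
  · obtain rfl : i = 2 := by
      fin_cases i
      · exact absurd rfl (hi 0)
      · exact absurd rfl (hi 1)
      · rfl
    exact hg
  · rintro _ ⟨u, rfl⟩
    exact emb_fix_bv hF _ _ fun a => by fin_cases a <;> simp [Fin.ext_iff, sh_val]

theorem range_eq_fixer (hq : 3 < q) (α : SU 2 F q →* SU 3 F q) (hα : Function.Injective α)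
    {c : Fin 3 → F} (hc : hm hF c c = 1) (hle : ∀ u, mv (α u) c = c) : α.range = fixer c := by
  obtain ⟨g, hg⟩ := exists_move hF (show 2 < q by omega) (M := 3) (by omega) 0 rfl hc
  have hmap : (fixer c : Subgroup (SU 3 F q)) =
      (fixer (bv F (0 : Fin 3))).map (MulAut.conj g).toMonoidHom := by
    ext a
    constructor
    · intro ha
      refine ⟨g⁻¹ * a * g, (mem_fixer_conj g a).2 (by rw [hg]; exact ha), ?_⟩
      simp [MulAut.conj_apply, mul_assoc]
    · rintro ⟨b, hb, rfl⟩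
      show mv (g * b * g⁻¹) c = c
      rw [← hg, mv_mul, mv_mul, mv_inv_cancel, show mv b (bv F 0) = bv F 0 from hb]
  refine Subgroup.eq_of_le_of_card_ge (by rintro _ ⟨u, rfl⟩; exact hle u) (le_of_eq ?_)
  rw [hmap, Nat.card_congr ((fixer (bv F (0 : Fin 3))).equivMapOfInjective _
      (MulAut.conj g).injective).toEquiv.symm, fixer_zero hF,
    Nat.card_congr (MonoidHom.ofInjective (emb_injective hF _)).toEquiv.symm,
    Nat.card_congr (MonoidHom.ofInjective hα).toEquiv.symm]

theorem iso_dep (hq : 3 < q) {r s : Fin 3 → F} (hr0 : r ≠ 0) (hrr : hm hF r r = 0) (hss : hm hF s s = 0)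
    (hsr : hm hF s r = 0) : ∃ l : F, s = l • r := by
  obtain ⟨c, hc, hcr⟩ := perp_three hF (m := 3) le_rfl r
  obtain ⟨g, hg⟩ := exists_move hF (show 2 < q by omega) (M := 3) (by omega) 0 rfl hc
  set r' := mv g⁻¹ r
  set s' := mv g⁻¹ s
  have e0 : r' 0 = 0 := by
    rw [← hm_bv_right hF r' 0, ← mv_form hF g, mv_cancel_inv, hg, hm_zero_symm hF hcr]
  have hr : hm hF r' r' = 0 := by rw [mv_form, hrr]
  have hs : hm hF s' s' = 0 := by rw [mv_form, hss]
  have hsr' : hm hF s' r' = 0 := by rw [mv_form, hsr]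
  simp only [hm_eq, Fin.sum_univ_three, e0, map_zero, mul_zero, zero_add, zero_mul] at hr hsr' hs
  have h1 : r' 1 ≠ 0 := fun h => by
    rw [h, zero_mul, zero_add] at hr
    have h2 : r' 2 = 0 := (nm_eq_zero hF).1 hr
    refine hr0 ?_
    have hz : r' = 0 := funext fun i => by fin_cases i <;> assumption
    rw [← mv_cancel_inv g r, show mv g⁻¹ r = 0 from hz]
    exact Matrix.mulVec_zero _
  have hr1 : qFrob hF (r' 1) ≠ 0 := (map_ne_zero _).2 h1
  have h2 : r' 2 ≠ 0 := fun h => h1 ((nm_eq_zero hF).1 (by rw [nm]; simpa [h] using hr))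
  have hr2 : qFrob hF (r' 2) ≠ 0 := (map_ne_zero _).2 h2
  set l := s' 1 / r' 1 with hl
  have hs1 : s' 1 = l * r' 1 := by rw [hl, div_mul_cancel₀ _ h1]
  have hs2 : s' 2 = l * r' 2 := by
    have : (s' 2 - l * r' 2) * qFrob hF (r' 2) = 0 := by
      rw [hs1] at hsr'
      linear_combination hsr' - l * hr
    exact sub_eq_zero.1 ((mul_eq_zero.1 this).resolve_right hr2)
  have hs0 : s' 0 = 0 := by
    refine (nm_eq_zero hF).1 ?_
    rw [hs1, hs2, map_mul, map_mul] at hs
    rw [nm]
    linear_combination hs - l * qFrob hF l * hr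
  refine ⟨l, ?_⟩
  have hz : s' = l • r' := funext fun i => by fin_cases i <;> simp [e0, hs0, hs1, hs2]
  rw [← mv_cancel_inv g s, show mv g⁻¹ s = l • mv g⁻¹ r from hz, mv_smul, mv_cancel_inv]

theorem involution_center (hq : 3 < q) (h2 : (2 : F) = 0) {z : SU 3 F q} (hz : z * z = 1) (h1 : z ≠ 1) :
    ∃ r : Fin 3 → F, r ≠ 0 ∧ hm hF r r = 0 ∧ mv z r = r ∧ (∀ v, ∃ l : F, mv z v = v + l • r) ∧
      (∀ v, hm hF v r = 0 → mv z v = v) ∧ ∃ u, r = mv z u + u := by
  have hzz : ∀ v, mv z (mv z v) = v := fun v => by rw [← mv_mul, hz, mv_one]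
  have hneg : ∀ v : Fin 3 → F, v + v = 0 := fun v => by rw [← two_smul F v, h2, zero_smul]
  have hsa : ∀ u v, hm hF (mv z u) v = hm hF u (mv z v) := fun u v => by
    conv_lhs => rw [← hzz v, mv_form]
  have hN : ∀ u v, hm hF (mv z u + u) (mv z v + v) = 0 := fun u v => by
    rw [hm_add_left, hm_add_right, hm_add_right, mv_form, hsa]
    linear_combination (hm hF u v + hm hF u (mv z v)) * h2
  obtain ⟨u, hu⟩ : ∃ u, mv z u + u ≠ 0 := by
    by_contra hne
    push Not at hne
    refine h1 (su_ext fun i => ?_)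
    rw [mv_one]
    calc mv z (bv F i) = mv z (bv F i) + (bv F i + bv F i) := by rw [hneg, add_zero]
      _ = (mv z (bv F i) + bv F i) + bv F i := by rw [add_assoc]
      _ = bv F i := by rw [hne, zero_add]
  set r := mv z u + u with hr
  have hl : ∀ v, ∃ l : F, mv z v + v = l • r := fun v =>
    iso_dep hF hq hu (hN u u) (hN v v) (hN v u)
  have hback : ∀ v, ∀ x : Fin 3 → F, mv z v + v = x → mv z v = v + x := fun v x h => by
    rw [← h, add_left_comm, hneg, add_zero]
  refine ⟨r, hu, hN u u, by rw [hr, mv_add, hzz, add_comm], fun v => ?_, fun v hv => ?_, u, rfl⟩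
  · obtain ⟨l, hl⟩ := hl v
    exact ⟨l, hback v _ hl⟩
  · rw [hback v 0 ?_, add_zero]
    funext i
    obtain ⟨l, hl⟩ := hl (bv F i)
    rw [← hm_bv_right hF (mv z v + v) i, hm_add_left, hsa, ← hm_add_right, hl, hm_smul_right, hv, mul_zero]
    rfl

theorem exists_axis_even (hq : 3 < q) (h2 : (2 : F) = 0) (α : SU 2 F q →* SU 3 F q) (hα : Function.Injective α) :
    ∃ c, hm hF c c = 1 ∧ ∀ u, mv (α u) c = c := by
  obtain ⟨T, hcl, hcomm, hsq, hnc⟩ := exists_gens hF
  have hinv : ∀ b a, α (T b a) * α (T b a) = 1 := fun b a => by rw [← map_mul, hsq h2, map_one]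
  have hne : ∀ b, α (T b 1) ≠ 1 := fun b h => hnc (by
    have := hα (h.trans α.map_one.symm)
    cases b
    · rw [this]; exact Commute.one_right _
    · rw [this]; exact Commute.one_left _)
  choose r hr0 hrr hzr hl hfix hu using fun b => involution_center hF hq h2 (hinv b 1) (hne b)
  have hall : ∀ b a v, hm hF v (r b) = 0 → mv (α (T b a)) v = v := by
    intro b a v hv
    by_cases h1 : α (T b a) = 1
    · rw [h1, mv_one]
    obtain ⟨r', hr'0, hr'r, -, -, hfix', u', hu'⟩ := involution_center hF hq h2 (hinv b a) h1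
    suffices h : ∃ l : F, r' = l • r b by
      obtain ⟨l, hl'⟩ := h
      exact hfix' v (by rw [hl', hm_smul_right, hv, mul_zero])
    obtain ⟨κ, hκ⟩ : ∃ κ : F, mv (α (T b 1)) r' = κ • r' := by
      have hc := ((hcomm b 1 a).map α).eq
      rw [hu', mv_add, ← mv_mul, hc, mv_mul]
      obtain ⟨r'', hr''0, hr''r, -, hl'', -, -⟩ := involution_center hF hq h2 (hinv b a) h1
      have hz : ∀ w, hm hF (mv (α (T b a)) w + w) (mv (α (T b a)) u' + u') = 0 := fun w => by
        rw [hm_add_left, hm_add_right, hm_add_right, mv_form]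
        have hsa : hm hF (mv (α (T b a)) w) u' = hm hF w (mv (α (T b a)) u') := by
          conv_rhs => rw [← mv_form hF (α (T b a)), ← mv_mul, hinv, mv_one]
        rw [hsa]
        linear_combination (hm hF w u' + hm hF w (mv (α (T b a)) u')) * h2
      refine iso_dep hF hq (by rw [← hu']; exact hr'0) (by rw [← hu']; exact hr'r) ?_ (hz _)
      rw [← mv_mul, ← hc, mv_mul, ← mv_add, mv_form, ← hu', hr'r]
    obtain ⟨l, hl'⟩ := hl b r'
    by_cases hl0 : l = 0
    · rw [hl0, zero_smul, add_zero] at hl'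
      refine iso_dep hF hq (hr0 b) (hrr b) hr'r ?_
      obtain ⟨u, hu⟩ := hu b
      have e : hm hF r' (mv (α (T b 1)) u) = hm hF r' u := by
        conv_lhs => rw [← hl', mv_form]
      rw [hu, hm_add_right, e]
      linear_combination hm hF r' u * h2
    · rw [hκ] at hl'
      have e : l • r b = (κ - 1) • r' := by rw [sub_smul, one_smul, hl', add_sub_cancel_left]
      have hk : κ - 1 ≠ 0 := fun h => by
        rw [h, zero_smul] at e
        exact (smul_ne_zero hl0 (hr0 b)) e
      exact ⟨(κ - 1)⁻¹ * l, by rw [mul_smul, e, smul_smul, inv_mul_cancel₀ hk, one_smul]⟩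
  have hindep : ∀ l : F, r false ≠ l • r true := by
    intro l hlr
    refine hnc ?_
    suffices h : α (T true 1) * α (T false 1) = α (T false 1) * α (T true 1) by
      rw [← map_mul, ← map_mul] at h
      exact hα h
    refine su_ext fun i => ?_
    rw [mv_mul, mv_mul]
    obtain ⟨a, ha⟩ := hl true (bv F i)
    obtain ⟨c, hc⟩ := hl false (bv F i)
    rw [ha, hc, mv_add, mv_add, mv_smul, mv_smul, ha, hc, hlr, mv_smul, hzr true]
    have e : mv (α (T false 1)) (r true) = r true := hall false 1 _ (by rw [hlr, hm_smul_right, hrr, mul_zero])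
    rw [e]
    abel
  let L : (Fin 3 → F) →ₗ[F] (Fin 2 → F) :=
    { toFun := fun v => ![hm hF v (r true), hm hF v (r false)]
      map_add' := fun u v => by ext i; fin_cases i <;> simp [hm_add_left]
      map_smul' := fun k v => by ext i; fin_cases i <;> simp [hm_smul_left] }
  obtain ⟨c₀, hc₀, hc₀0⟩ := Submodule.exists_mem_ne_zero_of_ne_bot
    (LinearMap.ker_ne_bot_of_finrank_lt (f := L) (by simp))
  have hct : hm hF c₀ (r true) = 0 := congrFun (LinearMap.mem_ker.1 hc₀) 0
  have hcf : hm hF c₀ (r false) = 0 := congrFun (LinearMap.mem_ker.1 hc₀) 1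
  have hcc : hm hF c₀ c₀ ≠ 0 := fun h => by
    obtain ⟨a, ha⟩ := iso_dep hF hq (hr0 true) (hrr true) h hct
    obtain ⟨b, hb⟩ := iso_dep hF hq (hr0 false) (hrr false) h hcf
    have hb0 : b ≠ 0 := fun h0 => hc₀0 (by rw [hb, h0, zero_smul])
    exact hindep (b⁻¹ * a) (by rw [mul_smul, ← ha, hb, smul_smul, inv_mul_cancel₀ hb0, one_smul])
  obtain ⟨d, hd⟩ := exists_nm hF (hm_self_fix hF c₀)
  refine ⟨d⁻¹ • c₀, by rw [hm_self_smul, nm_inv, hd, inv_mul_cancel₀ hcc], fun u => ?_⟩
  have top : (fixer (d⁻¹ • c₀) : Subgroup (SU 3 F q)).comap α = ⊤ := by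
    rw [eq_top_iff, ← hcl, Subgroup.closure_le]
    rintro _ ⟨⟨b, a⟩, rfl⟩
    refine hall b a _ ?_
    cases b <;> simp [hm_smul_left, hct, hcf]
  exact (show u ∈ (fixer (d⁻¹ • c₀)).comap α by rw [top]; exact Subgroup.mem_top u)

theorem exists_axis_odd (hq : 3 < q) (h2 : (2 : F) ≠ 0) (α : SU 2 F q →* SU 3 F q) (hα : Function.Injective α) :
    ∃ c, hm hF c c = 1 ∧ ∀ u, mv (α u) c = c := by
  set m := el2 hF (-1 : F) 0 (by rw [nm_neg, nm_one, nm_zero, add_zero]) with hm'
  set z := α m with hz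
  have hmv : ∀ w : Fin 2 → F, mv m w = -w := fun w => by
    funext i; fin_cases i <;> simp [hm', mv, el2, Matrix.vecHead, Matrix.vecTail]
  have hmc : ∀ u, Commute m u := fun u => su_ext fun i => by
    rw [mv_mul, mv_mul, hmv, hmv, show -bv F i = (-1 : F) • bv F i by simp, mv_smul]; simp
  have hzz : z * z = 1 := by
    rw [hz, ← map_mul, show m * m = 1 from su_ext fun i => by rw [mv_mul, hmv, hmv, mv_one, neg_neg],
      map_one]
  have hzc : ∀ u v, mv z (mv (α u) v) = mv (α u) (mv z v) := fun u v => by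
    rw [← mv_mul, hz, ((hmc u).map α).eq, mv_mul]
  have hz1 : z ≠ 1 := fun h => by
    have e := hα (h.trans α.map_one.symm)
    have := congrFun (congrArg (fun g => mv g (bv F (0 : Fin 2))) e) 0
    simp only [hmv, mv_one] at this
    simp [bv] at this
    exact h2 (by linear_combination -this)
  have hzz' : ∀ v, mv z (mv z v) = v := fun v => by rw [← mv_mul, hzz, mv_one]
  obtain ⟨v, hv⟩ : ∃ v, mv z v + v ≠ 0 := by
    by_contra hne
    push Not at hne
    have hM : z.1.1 = -1 := Matrix.ext_of_mulVec_single fun i => by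
      rw [Matrix.neg_mulVec, Matrix.one_mulVec]
      exact eq_neg_of_add_eq_zero_left (hne (bv F i))
    have hd := z.1.2
    rw [hM, Matrix.det_neg, Matrix.det_one, Fintype.card_fin] at hd
    exact h2 (by linear_combination -hd)
  set w := mv z v + v with hw
  have hzw : mv z w = w := by rw [hw, mv_add, hzz', add_comm]
  clear_value w
  obtain ⟨c₀, hc₀, hzc₀⟩ : ∃ c₀, hm hF c₀ c₀ ≠ 0 ∧ mv z c₀ = c₀ := by
    by_cases hww : hm hF w w = 0
    swap; · exact ⟨w, hww, hzw⟩
    obtain ⟨u, hu⟩ := exists_dual hF hv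
    set u' := mv z u + u with hu'
    have hzu' : mv z u' = u' := by rw [hu', mv_add, hzz', add_comm]
    have huw : hm hF u' w = 2 := by
      rw [hu', hm_add_left, hu]
      conv_lhs => enter [1]; rw [← hzw, mv_form, hu]
      norm_num
    clear_value u'
    by_cases huu : hm hF u' u' = 0
    swap; · exact ⟨u', huu, hzu'⟩
    obtain ⟨μ, hμ⟩ := exists_trace hF (T := 1) (map_one _)
    refine ⟨w + μ • u', ?_, by rw [mv_add, mv_smul, hzw, hzu']⟩
    have h22 : qFrob hF (2 : F) = 2 := map_ofNat _ 2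
    simp only [hm_add_left, hm_add_right, hm_smul_left, hm_smul_right, hww, huu, huw, ← hm_symm hF u' w, h22]
    intro h
    exact h2 (by linear_combination h - 2 * hμ)
  obtain ⟨d, hd⟩ := exists_nm hF (hm_self_fix hF c₀)
  set c := d⁻¹ • c₀
  have hc : hm hF c c = 1 := by rw [hm_self_smul, nm_inv, hd, inv_mul_cancel₀ hc₀]
  have hzcc : mv z c = c := by rw [mv_smul, hzc₀]
  refine ⟨c, hc, ?_⟩
  obtain ⟨g, hg⟩ := exists_move hF (show 2 < q by omega) (M := 3) (by omega) 0 rfl hc
  have hz' : g⁻¹ * z * g ∈ fixer (bv F (0 : Fin 3)) :=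
    (mem_fixer_conj g z).2 (by rw [hg]; exact hzcc)
  rw [fixer_zero hF] at hz'
  obtain ⟨k, hk⟩ := hz'
  have hkk : k * k = 1 := emb_injective hF _ (by
    rw [map_mul, hk, map_one]
    calc g⁻¹ * z * g * (g⁻¹ * z * g) = g⁻¹ * (z * z) * g := by group
      _ = 1 := by rw [hzz, mul_one, inv_mul_cancel])
  have hk1 : k ≠ 1 := fun h => hz1 (by
    rw [h, map_one] at hk
    have := congrArg (fun x => g * x * g⁻¹) hk
    simpa [mul_assoc] using this.symm)
  have hkneg : ∀ v : Fin 2 → F, mv k v = -v := by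
    have hd : k.1.1 0 0 * k.1.1 1 1 - k.1.1 0 1 * k.1.1 1 0 = 1 := by
      rw [← det_fin_two]; exact k.1.2
    have hs := congrArg (fun x : SU 2 F q => x.1.1) hkk
    have e00 := congrFun (congrFun hs 0) 0
    have e01 := congrFun (congrFun hs 0) 1
    have e10 := congrFun (congrFun hs 1) 0
    have e11 := congrFun (congrFun hs 1) 1
    simp [Matrix.mul_apply, Fin.sum_univ_two] at e00 e01 e10 e11
    have ht : k.1.1 0 0 + k.1.1 1 1 ≠ 0 := fun h => h2 (by
      linear_combination k.1.1 0 0 * h - e00 - hd)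
    have hb : k.1.1 0 1 = 0 := (mul_eq_zero.1 (show k.1.1 0 1 * (k.1.1 0 0 + k.1.1 1 1) = 0 by
      linear_combination e01)).resolve_right ht
    have hc' : k.1.1 1 0 = 0 := (mul_eq_zero.1 (show k.1.1 1 0 * (k.1.1 0 0 + k.1.1 1 1) = 0 by
      linear_combination e10)).resolve_right ht
    have hda : k.1.1 1 1 = k.1.1 0 0 := by
      linear_combination (k.1.1 0 0) * hd - (k.1.1 1 1) * e00 + (k.1.1 0 1 * k.1.1 1 1 + k.1.1 0 0 * k.1.1 0 1) * hc'
    have ha : k.1.1 0 0 = -1 := by
      have : (k.1.1 0 0 - 1) * (k.1.1 0 0 + 1) = 0 := by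
        linear_combination e00 - k.1.1 1 0 * hb
      rcases mul_eq_zero.1 this with e | e
      · refine absurd (su_ext fun i => ?_) hk1
        funext x
        rw [mv_one]
        have e' := sub_eq_zero.1 e
        fin_cases i <;> fin_cases x <;> simp [mv, bv, hb, hc', hda, e']
      · linear_combination e
    intro v
    funext x
    fin_cases x <;> simp [mv, Matrix.mulVec, dotProduct, Fin.sum_univ_two, hb, hc', hda, ha]
  have hline : ∀ u, mv (α u) c = hm hF (mv (α u) c) c • c := by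
    intro u
    set v' := mv g⁻¹ (mv (α u) c)
    have hv' : mv (emb hF (sh 1 2 3 (by omega)) k) v' = v' := by
      rw [hk, mv_mul, mv_mul, mv_cancel_inv, hzc, hzcc]
    have htail : ∀ a, v' (sh 1 2 3 (by omega) a) = 0 := fun a => by
      have e := congrFun hv' (sh 1 2 3 (by omega) a)
      rw [emb_mv_in, hkneg] at e
      simp at e
      exact (mul_eq_zero.1 (show (2 : F) * v' (sh 1 2 3 (by omega) a) = 0 by linear_combination -e)).resolve_left h2
    have hv0 : v' = v' 0 • bv F 0 := funext fun i => by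
      fin_cases i
      · simp [bv]
      · have t1 : v' 1 = 0 := htail 0
        simpa [bv] using t1
      · have t2 : v' 2 = 0 := htail 1
        simpa [bv] using t2
    have e : v' 0 = hm hF (mv (α u) c) c := by
      rw [← hm_bv_right hF v' 0, ← mv_form hF g, mv_cancel_inv, hg]
    conv_lhs => rw [← mv_cancel_inv g (mv (α u) c)]
    rw [show mv g⁻¹ (mv (α u) c) = v' from rfl, hv0, mv_smul, hg, e]
  let χ : SU 2 F q →* F :=
    { toFun := fun u => hm hF (mv (α u) c) c
      map_one' := by rw [map_one, mv_one, hc]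
      map_mul' := fun u v => by
        rw [map_mul, mv_mul, hline v, mv_smul, hm_smul_left, hm_smul_left, hc, mul_one, mul_comm] }
  intro u
  have h1 : u ∈ (χ.toHomUnits).ker := by
    have : commutator (SU 2 F q) ≤ χ.toHomUnits.ker := by
      rw [commutator_def, Subgroup.commutator_le]
      intro a _ b _
      rw [MonoidHom.mem_ker, map_commutatorElement, commutatorElement_eq_one_iff_mul_comm]
      exact mul_comm _ _
    exact this (by rw [perfect hF hq]; exact Subgroup.mem_top u)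
  have h2' : χ u = 1 := congrArg Units.val (MonoidHom.mem_ker.1 h1)
  rw [hline u, show hm hF (mv (α u) c) c = 1 from h2', one_smul]

theorem exists_axis (hq : 3 < q) (α : SU 2 F q →* SU 3 F q) (hα : Function.Injective α) :
    ∃ c, hm hF c c = 1 ∧ α.range = fixer c := by
  obtain ⟨c, hc, hu⟩ : ∃ c, hm hF c c = 1 ∧ ∀ u, mv (α u) c = c := by
    by_cases h2 : (2 : F) = 0
    · exact exists_axis_even hF hq h2 α hα
    · exact exists_axis_odd hF hq h2 α hα
  exact ⟨c, hc, range_eq_fixer hF hq α hα hc hu⟩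

theorem el2_surj (u : SU 2 F q) : ∃ a b, ∃ h : nm hF a + nm hF b = 1, u = el2 hF a b h := by
  have h : nm hF (mv u (bv F 0) 0) + nm hF (mv u (bv F 0) 1) = 1 := by
    have := mv_form hF u (bv F 0) (bv F 0)
    rw [hm_bv, if_pos rfl] at this
    simpa [hm_eq, Fin.sum_univ_two, nm] using this
  set e := el2 hF _ _ h
  refine ⟨_, _, h, ?_⟩
  obtain ⟨y, hy⟩ := mem_range_emb hF (sh 1 1 2 (by omega)) (e⁻¹ * u) fun i hi => by
    obtain rfl : i = 0 := by
      fin_cases i
      · rfl
      · exact absurd rfl (hi 0)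
    rw [mv_mul]
    have h1 : mv e (bv F 0) = mv u (bv F 0) := by
      rw [el2_mv_zero]; funext x; fin_cases x <;> rfl
    rw [← h1, mv_inv_cancel]
  have hy1 : y = 1 := su_ext fun i => funext fun x => by
    rw [mv_one]
    have hd : y.1.1 0 0 = 1 := by have := y.1.2; rwa [det_fin_one] at this
    fin_cases i; fin_cases x
    simp [mv, bv, hd]
  rw [hy1, map_one] at hy
  exact (inv_mul_eq_one.1 hy.symm).symm

theorem exists_eigen2 (u : SU 2 F q) (hu : orderOf u = q + 1) :
    ∃ (e : Fin 2 → F) (l : F), hm hF e e = 1 ∧ mv u e = l • e ∧ l ≠ 1 ∧ l ^ 2 ≠ 1 ∧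
      mv u ![-qFrob hF (e 1), qFrob hF (e 0)] = qFrob hF l • ![-qFrob hF (e 1), qFrob hF (e 0)] ∧
      l * qFrob hF l = 1 := by
  have h2q := two_le_q hF
  have hpow : u.1.1 ^ (q + 1) = 1 := by
    have h := congrArg (fun g : SU 2 F q => g.1.1) (pow_orderOf_eq_one u)
    rw [hu] at h
    simpa using h
  obtain ⟨w, hw⟩ := IsCyclic.exists_ofOrder_eq_natCard (α := Fˣ)
  rw [Nat.card_units, Nat.card_eq_fintype_card, hF] at hw
  have hq2 : q ^ 2 - 1 = (q - 1) * (q + 1) := by
    obtain ⟨r, rfl⟩ : ∃ r, q = r + 1 := ⟨q - 1, by omega⟩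
    rw [Nat.add_sub_cancel, show (r + 1) ^ 2 = r * (r + 1 + 1) + 1 by ring, Nat.add_sub_cancel]
  have hprim : IsPrimitiveRoot (((w ^ (q - 1) : Fˣ)) : F) (q + 1) := by
    refine IsPrimitiveRoot.coe_units_iff.2 (IsPrimitiveRoot.iff_orderOf.2 ?_)
    rw [orderOf_pow' _ (by omega), hw, hq2, Nat.gcd_eq_right (dvd_mul_right _ _),
      Nat.mul_div_cancel_left _ (by omega)]
  set D : Polynomial F →* F := (Matrix.detMonoidHom).comp
    (Polynomial.aeval u.1.1 : Polynomial F →ₐ[F] Matrix (Fin 2) (Fin 2) F).toMonoidHom with hD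
  have hprod := congrArg D (Polynomial.X_pow_sub_one_eq_prod (by omega) hprim)
  rw [map_prod, show D (Polynomial.X ^ (q + 1) - 1) = 0 by
    simp [hD, hpow, Matrix.detMonoidHom]] at hprod
  obtain ⟨l, -, hl⟩ := Finset.prod_eq_zero_iff.1 hprod.symm
  have hdet : (u.1.1 - algebraMap F _ l).det = 0 := by simpa [hD, Matrix.detMonoidHom] using hl
  obtain ⟨v, hv0, hv⟩ := Matrix.exists_mulVec_eq_zero_iff.2 hdet
  have huv : mv u v = l • v := by
    rw [Matrix.sub_mulVec, sub_eq_zero, Matrix.algebraMap_eq_diagonal] at hv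
    rw [mv, hv]
    funext i; simp [Matrix.mulVec_diagonal]
  obtain ⟨a, b, hab, rfl⟩ := el2_surj hF u
  have hJ : ∀ (v : Fin 2 → F) (l : F), mv (el2 hF a b hab) v = l • v →
      mv (el2 hF a b hab) ![-qFrob hF (v 1), qFrob hF (v 0)] =
        qFrob hF l • ![-qFrob hF (v 1), qFrob hF (v 0)] := by
    intro v l h
    have e0 := congrArg (qFrob hF) (congrFun h 0)
    have e1 := congrArg (qFrob hF) (congrFun h 1)
    simp [mv, el2, qFrob_qFrob, Matrix.mulVec, dotProduct, Fin.sum_univ_two] at e0 e1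
    funext i
    fin_cases i <;> simp [mv, el2, qFrob_qFrob, Matrix.mulVec, dotProduct, Fin.sum_univ_two]
    · linear_combination -e1
    · linear_combination e0
  have hl0 : l ^ (q + 1) = 1 := by
    have h : ∀ k : ℕ, ((el2 hF a b hab).1.1 ^ k) *ᵥ v = l ^ k • v := fun k => by
      induction k with
      | zero => simp
      | succ k ih =>
        rw [pow_succ, ← Matrix.mulVec_mulVec, show (el2 hF a b hab).1.1 *ᵥ v = l • v from huv,
          Matrix.mulVec_smul, ih, smul_smul, pow_succ]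
        ring_nf
    have := h (q + 1)
    rw [hpow, Matrix.one_mulVec] at this
    obtain ⟨i, hi⟩ := Function.ne_iff.1 hv0
    have e := congrFun this i
    simp at e
    exact mul_right_cancel₀ hi (by rw [one_mul]; exact e.symm)
  have hll : l * qFrob hF l = 1 := by rw [qFrob_apply, ← pow_succ']; exact hl0
  have hl2 : l ^ 2 ≠ 1 := by
    intro hl2
    have hcl : qFrob hF l = l := by linear_combination l * hll - qFrob hF l * hl2
    set U := (el2 hF a b hab).1.1 with hU
    set N := U - Matrix.diagonal (fun _ => l) with hN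
    have htr : a + qFrob hF a = 2 * l := by
      have hd : (a - l) * (qFrob hF a - l) + qFrob hF b * b = 0 := by
        have := hdet
        rw [Matrix.algebraMap_eq_diagonal, det_fin_two] at this
        simpa [hU, el2] using this
      simp only [nm] at hab
      linear_combination (-l) * hd + l * hab + (l - a - qFrob hF a) * hl2
    have hN' : N = !![a - l, -qFrob hF b; b, qFrob hF a - l] := by
      ext i j; fin_cases i <;> fin_cases j <;> simp [hN, hU, el2]
    have hNN : N * N = 0 := by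
      simp only [nm] at hab
      rw [hN', Matrix.mul_fin_two]
      ext i j
      fin_cases i <;> fin_cases j <;> simp
      · linear_combination a * htr - hab + hl2
      · linear_combination (-qFrob hF b) * htr
      · linear_combination b * htr
      · linear_combination qFrob hF a * htr - hab + hl2
    obtain ⟨p, hcp⟩ := CharP.exists F
    obtain ⟨j, hp, hj⟩ := FiniteField.card F p
    obtain ⟨k, -, hk⟩ := (Nat.dvd_prime_pow hp).1 (show q ∣ p ^ (j : ℕ) from
      hj ▸ hF ▸ dvd_pow_self q two_ne_zero)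
    haveI := Fact.mk hp
    have hUN : U = algebraMap F _ l + N := by
      rw [hN, Matrix.algebraMap_eq_diagonal]
      simp [Pi.algebraMap_def]
    have hUq : U ^ q = algebraMap F _ (l ^ q) := by
      rw [hUN, hk, add_pow_char_pow_of_commute p k (Algebra.commutes l N), ← hk, ← map_pow]
      have : N ^ q = 0 := by
        rw [show q = 2 + (q - 2) by omega, pow_add, sq, hNN, zero_mul]
      rw [this, add_zero]
    have hfin : U = algebraMap F _ l := by
      have h1 : algebraMap F (Matrix (Fin 2) (Fin 2) F) (l ^ q) * U = 1 := by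
        rw [← hUq, ← pow_succ]; exact hpow
      calc U = algebraMap F _ l * (algebraMap F _ (l ^ q) * U) := by
            rw [← mul_assoc, ← map_mul, ← pow_succ', hl0, map_one, one_mul]
        _ = _ := by rw [h1, mul_one]
    have hsq : el2 hF a b hab ^ 2 = 1 := Subtype.ext (Subtype.ext (by
      show U ^ 2 = 1
      rw [hfin, ← map_pow, hl2, map_one]))
    have := Nat.le_of_dvd (by norm_num) (hu ▸ orderOf_dvd_of_pow_eq_one hsq)
    omega
  have hvv : hm hF v v ≠ 0 := by
    intro h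
    simp [hm_eq, Fin.sum_univ_two] at h
    have hv00 : v 0 ≠ 0 := fun h0 => by
      rw [h0, zero_mul, zero_add] at h
      exact hv0 (funext fun i => by fin_cases i; exacts [h0, (nm_eq_zero hF).1 h])
    have hJv : ![-qFrob hF (v 1), qFrob hF (v 0)] = (-qFrob hF (v 1) / v 0) • v := by
      funext i; fin_cases i <;> simp [div_mul_eq_mul_div, mul_div_assoc, hv00]
      field_simp
      linear_combination h
    have e := hJ v l huv
    rw [hJv, mv_smul, huv, smul_comm] at e
    have hne : (-qFrob hF (v 1) / v 0) • v ≠ 0 := by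
      rw [← hJv]
      intro h0
      exact hv00 ((map_eq_zero _).1 (congrFun h0 1))
    have := smul_left_injective F hne e
    exact hl2 (by rw [sq]; conv_lhs => arg 2; rw [this]
                  exact hll)
  obtain ⟨d, hd⟩ := exists_nm hF (hm_self_fix hF v)
  have he : mv (el2 hF a b hab) (d⁻¹ • v) = l • (d⁻¹ • v) := by rw [mv_smul, huv, smul_comm]
  refine ⟨d⁻¹ • v, l, by rw [hm_self_smul, nm_inv, hd, inv_mul_cancel₀ hvv], he, ?_, hl2, hJ _ l he, hll⟩
  rintro rfl
  exact hl2 (one_pow 2)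

omit hF [Fintype F] in
theorem vec_three (v : Fin 3 → F) : v = v 0 • bv F 0 + v 1 • bv F 1 + v 2 • bv F 2 := by
  funext i; fin_cases i <;> simp [bv]

omit hF in
theorem IsDiag.conj {n : ℕ} {d p : SU n F q} (hd : IsDiag d)
    (hp : ∀ i, ∃ (ε : F) (j : Fin n), mv p (bv F i) = ε • bv F j) : IsDiag (p⁻¹ * d * p) := by
  intro i
  obtain ⟨ε, j, hij⟩ := hp i
  obtain ⟨κ, hκ⟩ := hd j
  refine ⟨κ, ?_⟩
  rw [mv_mul, mv_mul, hij, mv_smul d, hκ, smul_comm, mv_smul, ← hij, mv_inv_cancel]

theorem split_two {e : Fin 2 → F} (he : hm hF e e = 1) (v : Fin 2 → F) :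
    v = hm hF v e • e + hm hF v ![-qFrob hF (e 1), qFrob hF (e 0)] • ![-qFrob hF (e 1), qFrob hF (e 0)] := by
  simp [hm_eq, Fin.sum_univ_two] at he ⊢
  funext i
  fin_cases i <;> simp [qFrob_qFrob, Matrix.vecHead, Matrix.vecTail]
  · linear_combination (-(v 0)) * he
  · linear_combination (-(v 1)) * he

/-- A frame in which an element of order `q + 1` of a point stabiliser is diagonal. -/
theorem exists_torus_frame (hq : 3 < q) {c : Fin 3 → F} (hc : hm hF c c = 1) {x : SU 3 F q}
    (hx : x ∈ fixer c) (ho : orderOf x = q + 1) :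
    ∃ (g : SU 3 F q) (l : F), mv g (bv F 0) = c ∧
      mv (g⁻¹ * x * g) (bv F 0) = bv F 0 ∧
      mv (g⁻¹ * x * g) (bv F 1) = l • bv F 1 ∧
      mv (g⁻¹ * x * g) (bv F 2) = qFrob hF l • bv F 2 ∧
      l ≠ 1 ∧ qFrob hF l ≠ 1 ∧ l ≠ qFrob hF l := by
  obtain ⟨g₁, hg₁⟩ := exists_move hF (show 2 < q by omega) (M := 3) (by omega) 0 rfl hc
  have hx' : g₁⁻¹ * x * g₁ ∈ fixer (bv F (0 : Fin 3)) :=
    (mem_fixer_conj g₁ x).2 (by rw [hg₁]; exact hx)
  rw [fixer_zero hF] at hx'
  obtain ⟨u, hu⟩ := hx'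
  have hou : orderOf u = q + 1 := by
    rw [← orderOf_injective _ (emb_injective hF _) u, hu, ← ho]
    exact orderOf_injective (MulAut.conj g₁⁻¹).toMonoidHom (MulAut.conj g₁⁻¹).injective x ▸
      (congrArg orderOf (by simp [MulAut.conj_apply]))
  obtain ⟨e, l, he, hue, hl1, hl2, huf, hll⟩ := exists_eigen2 hF u hou
  have hn : nm hF (e 0) + nm hF (e 1) = 1 := by simpa [hm_eq, Fin.sum_univ_two, nm] using he
  set h := el2 hF (e 0) (e 1) hn with hh
  have h0 : mv h (bv F 0) = e := by rw [hh, el2_mv_zero]; funext i; fin_cases i <;> rfl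
  have h1 : mv h (bv F 1) = ![-qFrob hF (e 1), qFrob hF (e 0)] := by
    funext i; fin_cases i <;> simp [hh, mv, el2, bv]
  have hd0 : mv (h⁻¹ * u * h) (bv F 0) = l • bv F 0 := by
    rw [mv_mul, mv_mul, h0, hue, mv_smul, ← h0, mv_inv_cancel]
  have hd1 : mv (h⁻¹ * u * h) (bv F 1) = qFrob hF l • bv F 1 := by
    rw [mv_mul, mv_mul, h1, huf, mv_smul, ← h1, mv_inv_cancel]
  refine ⟨g₁ * emb hF (sh 1 2 3 (by omega)) h, l, ?_, ?_⟩
  · rw [mv_mul, emb_fix_bv hF _ _ (fun a => by fin_cases a <;> simp [Fin.ext_iff, sh_val]), hg₁]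
  have hconj : (g₁ * emb hF (sh 1 2 3 (by omega)) h)⁻¹ * x * (g₁ * emb hF (sh 1 2 3 (by omega)) h) =
      emb hF (sh 1 2 3 (by omega)) (h⁻¹ * u * h) := by
    rw [map_mul, map_mul, hu, map_inv]; group
  rw [hconj]
  refine ⟨emb_fix_bv hF _ _ (fun a => by fin_cases a <;> simp [Fin.ext_iff, sh_val]),
    emb_mv_bv hF (sh 1 2 3 (by omega)) _ 0 0 l hd0, emb_mv_bv hF (sh 1 2 3 (by omega)) _ 1 1 _ hd1, hl1, fun h => hl1 ?_, fun h => hl2 ?_⟩
  · rw [← qFrob_qFrob hF l, h, map_one]
  · rw [sq]; conv_lhs => arg 2; rw [h]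
    exact hll

/-- The fixed points of an element of order `q + 1` of a point stabiliser form a line. -/
theorem fix_line (hq : 3 < q) {c : Fin 3 → F} (hc : hm hF c c = 1) {y : SU 3 F q} (hy : y ∈ fixer c)
    (ho : orderOf y = q + 1) {v : Fin 3 → F} (hv : mv y v = v) : ∃ κ : F, v = κ • c := by
  obtain ⟨g, l, hg, h0, h1, h2, hl1, hl2, -⟩ := exists_torus_frame hF hq hc hy ho
  set v' := mv g⁻¹ v with hv'
  have hfix : mv (g⁻¹ * y * g) v' = v' := by rw [hv', mv_mul, mv_cancel_inv, mv_mul, hv]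
  conv_lhs at hfix => rw [vec_three v', mv_add, mv_add, mv_smul, mv_smul, mv_smul, h0, h1, h2]
  have e1 := congrFun hfix 1
  have e2 := congrFun hfix 2
  simp [bv] at e1 e2
  have z1 : v' 1 = 0 := (mul_eq_zero.1 (show v' 1 * (l - 1) = 0 by linear_combination e1)).resolve_right
    (sub_ne_zero.2 hl1)
  have z2 : v' 2 = 0 := (mul_eq_zero.1 (show v' 2 * (qFrob hF l - 1) = 0 by
    linear_combination e2)).resolve_right (sub_ne_zero.2 hl2)
  refine ⟨v' 0, ?_⟩
  have hz : v' = v' 0 • bv F 0 := funext fun i => by fin_cases i <;> simp [bv, z1, z2]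
  calc v = mv g v' := by rw [hv', mv_cancel_inv]
    _ = _ := by rw [hz, mv_smul, hg]; simp [bv]

/-- Two copies of `SU₂` with commuting tori that generate `SU₃` form a standard pair. -/
theorem std_pair (hq : 3 < q) (α β : SU 2 F q →* SU 3 F q) (hα : Function.Injective α)
    (hβ : Function.Injective β) (hgen : α.range ⊔ β.range = ⊤) {x y : SU 3 F q} (hx : x ∈ α.range)
    (hy : y ∈ β.range) (hxy : Commute x y) (hxo : orderOf x = q + 1) (hyo : orderOf y = q + 1) :
    ∃ g : SU 3 F q, α.range = fixer (mv g (bv F 2)) ∧ β.range = fixer (mv g (bv F 0)) ∧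
      IsDiag (g⁻¹ * x * g) ∧ IsDiag (g⁻¹ * y * g) := by
  obtain ⟨cA, hcA, hA⟩ := exists_axis hF hq α hα
  obtain ⟨cB, hcB, hB⟩ := exists_axis hF hq β hβ
  rw [hA] at hx
  rw [hB] at hy
  obtain ⟨g, l, hg, h0, h1, h2, hl1, hl2, hl3⟩ := exists_torus_frame hF hq hcA hx hxo
  set d := g⁻¹ * x * g with hd
  set y' := g⁻¹ * y * g with hy'
  have hcomm : ∀ w, mv d (mv y' w) = mv y' (mv d w) := fun w => by
    rw [← mv_mul, ← mv_mul]
    exact congrArg (fun a => mv a w) (by
      rw [hd, hy']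
      calc g⁻¹ * x * g * (g⁻¹ * y * g) = g⁻¹ * (x * y) * g := by group
        _ = g⁻¹ * (y * x) * g := by rw [hxy.eq]
        _ = _ := by group)
  have hsupp : ∀ (w : Fin 3 → F) (κ : F), mv d w = κ • w →
      (w 0 = 0 ∨ κ = 1) ∧ (w 1 = 0 ∨ κ = l) ∧ (w 2 = 0 ∨ κ = qFrob hF l) := by
    intro w κ hw
    conv_lhs at hw => rw [vec_three w, mv_add, mv_add, mv_smul, mv_smul, mv_smul, h0, h1, h2]
    have e0 := congrFun hw 0
    have e1 := congrFun hw 1
    have e2 := congrFun hw 2
    simp [bv] at e0 e1 e2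
    refine ⟨?_, ?_, ?_⟩
    · exact (mul_eq_zero.1 (show w 0 * (κ - 1) = 0 by linear_combination -e0)).imp_right sub_eq_zero.1
    · exact (mul_eq_zero.1 (show w 1 * (κ - l) = 0 by linear_combination -e1)).imp_right sub_eq_zero.1
    · exact (mul_eq_zero.1 (show w 2 * (κ - qFrob hF l) = 0 by linear_combination -e2)).imp_right sub_eq_zero.1
  have hydiag : IsDiag y' := by
    intro i
    fin_cases i
    · refine ⟨mv y' (bv F 0) 0, ?_⟩
      obtain ⟨-, a, b⟩ := hsupp (mv y' (bv F 0)) 1 (by rw [hcomm, h0, one_smul])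
      have a' := a.resolve_right hl1.symm
      have b' := b.resolve_right hl2.symm
      funext j; fin_cases j <;> simp [bv, a', b']
    · refine ⟨mv y' (bv F 1) 1, ?_⟩
      obtain ⟨a, -, b⟩ := hsupp (mv y' (bv F 1)) l (by rw [hcomm, h1, mv_smul])
      have a' := a.resolve_right hl1
      have b' := b.resolve_right hl3
      funext j; fin_cases j <;> simp [bv, a', b']
    · refine ⟨mv y' (bv F 2) 2, ?_⟩
      obtain ⟨a, b, -⟩ := hsupp (mv y' (bv F 2)) (qFrob hF l) (by rw [hcomm, h2, mv_smul])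
      have a' := a.resolve_right hl2
      have b' := b.resolve_right hl3.symm
      funext j; fin_cases j <;> simp [bv, a', b']
  have hddiag : IsDiag d := by
    intro i
    fin_cases i
    exacts [⟨1, by rw [one_smul]; exact h0⟩, ⟨l, h1⟩, ⟨_, h2⟩]
  set c' := mv g⁻¹ cB with hc'
  have hc'' : mv g c' = cB := mv_cancel_inv g cB
  obtain ⟨κ, hκ⟩ := fix_line hF hq hcB hy hyo (v := mv g (mv d c')) (by
    have e : mv y' c' = c' := by rw [hy', mv_mul, mv_mul, hc'', hy, hc']
    have hyg : ∀ w, mv g (mv y' w) = mv y (mv g w) := fun w => by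
      rw [← mv_mul, ← mv_mul]
      exact congrArg (fun a => mv a w) (by rw [hy']; group)
    rw [← hyg, ← hcomm, e])
  have hdc : mv d c' = κ • c' := by
    rw [← mv_inv_cancel g (mv d c'), hκ, mv_smul]
  obtain ⟨s0, s1, s2⟩ := hsupp c' κ hdc
  have hc'0 : c' ≠ 0 := fun h => by
    rw [h] at hc''
    rw [← hc'', mv, Matrix.mulVec_zero, hm_zero_left] at hcB
    exact zero_ne_one hcB
  have hne : α.range ≠ β.range := fun h => by
    rw [← h, sup_idem, hA] at hgen
    have hall : ∀ (k : SU 3 F q) (i : Fin 3), mv k (bv F 0) = bv F i → bv F (0 : Fin 3) = bv F i := fun k i hk => by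
      have : g * k * g⁻¹ ∈ fixer cA := by rw [hgen]; exact Subgroup.mem_top _
      rw [mem_fixer, ← hg, mv_mul, mv_mul, mv_inv_cancel, hk] at this
      rw [← mv_inv_cancel g (bv F i), this, mv_inv_cancel]
    obtain ⟨k, hk⟩ := exists_move hF (show 2 < q by omega) (M := 3) (by omega) 0 rfl (v := bv F 1) (by rw [hm_bv, if_pos rfl])
    have e := congrFun (hall k 1 hk) 0
    simp [bv] at e
  have hkey : ∀ i : Fin 3, (∀ j, j ≠ i → c' j = 0) → ∃ μ : F, μ ≠ 0 ∧ cB = μ • mv g (bv F i) := by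
    intro i hi
    have e : c' = c' i • bv F i := funext fun j => by
      by_cases h : j = i
      · simp [h, bv]
      · simp [bv, h, hi j h]
    refine ⟨c' i, fun h => hc'0 (by rw [e, h, zero_smul]), ?_⟩
    rw [← hc'', ← mv_smul, ← e]
  set a := emb hF (sh 0 2 3 (by omega)) (el2 hF 0 1 (by rw [nm_zero, nm_one, zero_add])) with ha
  set b := emb hF (sh 1 2 3 (by omega)) (el2 hF 0 1 (by rw [nm_zero, nm_one, zero_add])) with hb
  set w := el2 hF (0 : F) 1 (by rw [nm_zero, nm_one, zero_add]) with hw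
  have w0 : mv w (bv F 0) = (1 : F) • bv F 1 := by
    funext j; fin_cases j <;> simp [hw, mv, el2, bv]
  have w1 : mv w (bv F 1) = (-1 : F) • bv F 0 := by
    funext j; fin_cases j <;> simp [hw, mv, el2, bv]
  have a0 : mv a (bv F 0) = bv F 1 := by
    rw [← one_smul F (bv F (1 : Fin 3))]
    exact emb_mv_bv hF (sh 0 2 3 (by omega)) w 0 1 1 w0
  have a1 : mv a (bv F 1) = (-1 : F) • bv F 0 := emb_mv_bv hF (sh 0 2 3 (by omega)) w 1 0 _ w1
  have a2 : mv a (bv F 2) = bv F 2 := emb_fix_bv hF _ _ fun z => by fin_cases z <;> simp [Fin.ext_iff, sh_val]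
  have b0 : mv b (bv F 0) = bv F 0 := emb_fix_bv hF _ _ fun z => by fin_cases z <;> simp [Fin.ext_iff, sh_val]
  have b1 : mv b (bv F 1) = bv F 2 := by
    rw [← one_smul F (bv F (2 : Fin 3))]
    exact emb_mv_bv hF (sh 1 2 3 (by omega)) w 0 1 1 w0
  have b2 : mv b (bv F 2) = (-1 : F) • bv F 1 := emb_mv_bv hF (sh 1 2 3 (by omega)) w 1 0 _ w1
  have finish : ∀ (p : SU 3 F q) (i : Fin 3), mv p (bv F 2) = bv F 0 → mv p (bv F 0) = bv F i →
      (∃ (ε : F) (j : Fin 3), mv p (bv F 1) = ε • bv F j) → (∀ j, j ≠ i → c' j = 0) →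
      ∃ g : SU 3 F q, α.range = fixer (mv g (bv F 2)) ∧ β.range = fixer (mv g (bv F 0)) ∧
        IsDiag (g⁻¹ * x * g) ∧ IsDiag (g⁻¹ * y * g) := by
    intro p i p2 p0 p1 hi
    have hp : ∀ z, ∃ (ε : F) (j : Fin 3), mv p (bv F z) = ε • bv F j := fun z => by
      fin_cases z
      exacts [⟨1, i, by rw [one_smul]; exact p0⟩, p1, ⟨1, 0, by rw [one_smul]; exact p2⟩]
    obtain ⟨μ, hμ, hμc⟩ := hkey i hi
    refine ⟨g * p, by rw [mv_mul, p2, hg, hA], by rw [mv_mul, p0, hB, hμc, fixer_smul hμ], ?_, ?_⟩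
    · rw [show (g * p)⁻¹ * x * (g * p) = p⁻¹ * d * p by rw [hd]; group]; exact hddiag.conj hp
    · rw [show (g * p)⁻¹ * y * (g * p) = p⁻¹ * y' * p by rw [hy']; group]; exact hydiag.conj hp
  rcases eq_or_ne (c' 1) 0 with k1 | k1
  · rcases eq_or_ne (c' 2) 0 with k2 | k2
    · exfalso
      obtain ⟨μ, hμ, hμc⟩ := hkey 0 fun j hj => by
        fin_cases j
        exacts [absurd rfl hj, k1, k2]
      exact hne (by rw [hA, hB, hμc, fixer_smul hμ, hg])
    · have hk := s2.resolve_left k2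
      have k0 := s0.resolve_right (by rw [hk]; exact hl2)
      refine finish (a * b * a) 2 ?_ ?_ ⟨-1, 1, ?_⟩ fun j hj => by
        fin_cases j
        exacts [k0, k1, absurd rfl hj]
      · rw [mv_mul, mv_mul, a2, b2, mv_smul, a1, smul_smul]; norm_num
      · rw [mv_mul, mv_mul, a0, b1, a2]
      · rw [mv_mul, mv_mul, a1, mv_smul, b0, mv_smul, a0]
  · have hk := s1.resolve_left k1
    have k0 := s0.resolve_right (by rw [hk]; exact hl1)
    have k2 := s2.resolve_right (by rw [hk]; exact hl3)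
    refine finish (a * b) 1 ?_ ?_ ⟨1, 2, ?_⟩ fun j hj => by
      fin_cases j
      exacts [k0, absurd rfl hj, k2]
    · rw [mv_mul, b2, mv_smul, a1, smul_smul]; norm_num
    · rw [mv_mul, b0, a0]
    · rw [mv_mul, b1, a2, one_smul]

end Cfsg.Agent.Recog.Phan
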