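import Cfsg.Agent.Lib.Recog.PhanTwist
import Cfsg.Agent.Lib.Recog.PhanGlueHom

/-!
Phan systems of type `A` are images of special unitary groups.
-/

set_option autoImplicit false
set_option linter.unusedSectionVars false

namespace Cfsg.Agent.Recog.Phan

open Matrix Cfsg.Agent.Classical Cfsg.Agent.Lie.SpnPres

variable {F : Type*} [Field F] [Fintype F] {q : ℕ} {G : Type*} [Group G]

/-- A standard model of one pair. -/
structure PairData (hF : Fintype.card F = q ^ 2) (A B : Subgroup G) (dA dB : G) (Ψ : SU 3 F q →* G) : Prop where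
  inj : Function.Injective Ψ
  left : (Ψ.comp (emb hF (sh 0 2 3 (by omega)))).range = A
  right : (Ψ.comp (emb hF (sh 1 2 3 (by omega)))).range = B
  diagA : ∃ a, IsDiag a ∧ Ψ a = dA
  diagB : ∃ b, IsDiag b ∧ Ψ b = dB

variable (hF : Fintype.card F = q ^ 2)

include hF

theorem emb_refl {n : ℕ} (h : 0 + n ≤ n) (g : SU n F q) : emb hF (sh 0 n n h) g = g := by
  refine su_ext fun j => funext fun i => ?_
  rw [sh_refl]
  exact emb_mv_in hF (Function.Embedding.refl (Fin n)) g (bv F j) i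

theorem exists_pairData (hq : 3 < q) {A B : Subgroup G} (eA : SU 2 F q ≃* A) (eB : SU 2 F q ≃* B)
    (ε : ↥(A ⊔ B) ≃* SU 3 F q) {dA dB : G} (hdA : dA ∈ A) (hdB : dB ∈ B) (hoA : orderOf dA = q + 1)
    (hoB : orderOf dB = q + 1) (hd : Commute dA dB) : ∃ Ψ, PairData hF A B dA dB Ψ := by
  set ψ : SU 3 F q →* G := (A ⊔ B).subtype.comp ε.symm.toMonoidHom with hψ
  have hψinj : Function.Injective ψ := Subtype.val_injective.comp ε.symm.injective
  set α : SU 2 F q →* SU 3 F q := ε.toMonoidHom.comp ((Subgroup.inclusion le_sup_left).comp eA.toMonoidHom) with hα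
  set β : SU 2 F q →* SU 3 F q := ε.toMonoidHom.comp ((Subgroup.inclusion le_sup_right).comp eB.toMonoidHom) with hβ
  have hαi : Function.Injective α :=
    ε.injective.comp ((Subgroup.inclusion_injective (le_sup_left : A ≤ A ⊔ B)).comp eA.injective)
  have hβi : Function.Injective β :=
    ε.injective.comp ((Subgroup.inclusion_injective (le_sup_right : B ≤ A ⊔ B)).comp eB.injective)
  have hA : α.range.map ψ = A := by
    refine le_antisymm ?_ fun x hx => ?_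
    · rintro _ ⟨_, ⟨u, rfl⟩, rfl⟩; simp [hα, hψ]
    · exact ⟨_, ⟨eA.symm ⟨x, hx⟩, rfl⟩, by simp [hα, hψ]⟩
  have hB : β.range.map ψ = B := by
    refine le_antisymm ?_ fun x hx => ?_
    · rintro _ ⟨_, ⟨u, rfl⟩, rfl⟩; simp [hβ, hψ]
    · exact ⟨_, ⟨eB.symm ⟨x, hx⟩, rfl⟩, by simp [hβ, hψ]⟩
  have hgen : α.range ⊔ β.range = ⊤ := by
    refine Subgroup.map_injective hψinj ?_
    rw [Subgroup.map_sup, hA, hB, ← MonoidHom.range_eq_map, hψ, MonoidHom.range_comp,
      MonoidHom.range_eq_top.2 ε.symm.surjective, ← MonoidHom.range_eq_map, Subgroup.range_subtype]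
  obtain ⟨x, hx, hψx⟩ : dA ∈ α.range.map ψ := by rw [hA]; exact hdA
  obtain ⟨y, hy, hψy⟩ : dB ∈ β.range.map ψ := by rw [hB]; exact hdB
  have hxy : Commute x y := hψinj (by rw [map_mul, map_mul, hψx, hψy]; exact hd.eq)
  obtain ⟨g, hg2, hg0, hgx, hgy⟩ := std_pair hF hq α β hαi hβi hgen hx hy hxy
    (by rw [← orderOf_injective ψ hψinj, hψx, hoA]) (by rw [← orderOf_injective ψ hψinj, hψy, hoB])
  have hconj : ∀ (v : Fin 3 → F), (fixer v : Subgroup (SU 3 F q)).map (MulAut.conj g).toMonoidHom =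
      fixer (mv g v) := fun v => by
    ext a
    constructor
    · rintro ⟨b, hb, rfl⟩
      show mv (g * b * g⁻¹) (mv g v) = mv g v
      rw [mv_mul, mv_inv_cancel, mv_mul, show mv b v = v from hb]
    · exact fun ha => ⟨g⁻¹ * a * g, (mem_fixer_conj g a).2 ha, by simp [MulAut.conj_apply, mul_assoc]⟩
  refine ⟨ψ.comp (MulAut.conj g).toMonoidHom, hψinj.comp (MulAut.conj g).injective, ?_, ?_,
    ⟨_, hgx, ?_⟩, ⟨_, hgy, ?_⟩⟩
  · rw [MonoidHom.range_comp, ← fixer_two hF, ← Subgroup.map_map, hconj, ← hg2, hA]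
  · rw [MonoidHom.range_comp, ← fixer_zero hF, ← Subgroup.map_map, hconj, ← hg0, hB]
  · simp [MulAut.conj_apply, mul_assoc] at hψx ⊢
    exact hψx
  · simp [MulAut.conj_apply, mul_assoc] at hψy ⊢
    exact hψy

theorem diag_of_mem (f : Fin 2 ↪ Fin 3) {b : SU 2 F q} (h : IsDiag (emb hF f b)) : IsDiag b := by
  rw [isDiag_iff] at h ⊢
  intro i j hij
  have := h (f i) (f j) (fun e => hij (f.injective e))
  rwa [← mv_bv, emb_mv_in, bv_comp, mv_bv] at this

theorem exists_adjust (hq : 3 < q) {A B C : Subgroup G} {dA dB dC : G} {Ψ Ψ' : SU 3 F q →* G}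
    (P : PairData hF A B dA dB Ψ) (P' : PairData hF B C dB dC Ψ') (hdB : dB ∈ B) (ho : orderOf dB = q + 1) :
    ∃ Ψ'', PairData hF B C dB dC Ψ'' ∧
      ∀ u, Ψ (emb hF (sh 1 2 3 (by omega)) u) = Ψ'' (emb hF (sh 0 2 3 (by omega)) u) := by
  set p := Ψ.comp (emb hF (sh 1 2 3 (show 1 + 2 ≤ 3 by omega))) with hp
  set p' := Ψ'.comp (emb hF (sh 0 2 3 (show 0 + 2 ≤ 3 by omega))) with hp'
  have hpi : Function.Injective p := P.inj.comp (emb_injective hF _)
  have hpi' : Function.Injective p' := P'.inj.comp (emb_injective hF _)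
  set θ : MulAut (SU 2 F q) := (MonoidHom.ofInjective hpi).trans
    ((MulEquiv.subgroupCongr (P.right.trans P'.left.symm)).trans (MonoidHom.ofInjective hpi').symm) with hθ
  have hθp : ∀ u, p' (θ u) = p u := fun u => by
    rw [hθ, MulEquiv.trans_apply, MulEquiv.trans_apply, MonoidHom.apply_ofInjective_symm hpi']
    rfl
  obtain ⟨b, hb, hΨb⟩ := P.diagB
  obtain ⟨b', hb', hΨb'⟩ := P'.diagA
  obtain ⟨u, hu⟩ : dB ∈ p.range := by rw [P.right]; exact hdB
  obtain ⟨u', hu'⟩ : dB ∈ p'.range := by rw [P'.left]; exact hdB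
  have hdu : IsDiag u := diag_of_mem hF (sh 1 2 3 (by omega)) (by
    rw [show emb hF (sh 1 2 3 (by omega)) u = b from P.inj (hu.trans hΨb.symm)]; exact hb)
  have hdu' : IsDiag (θ u) := diag_of_mem hF (sh 0 2 3 (by omega)) (by
    rw [show emb hF (sh 0 2 3 (by omega)) (θ u) = b' from P'.inj (((hθp u).trans hu).trans hΨb'.symm)]
    exact hb')
  obtain ⟨τ, c, hc, hc1, hθτ⟩ := exists_tw hF (show 2 < q by omega) θ hdu (by rw [← orderOf_injective p hpi, hu, ho]) hdu'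
  set c3 : Fin 3 → F := ![c 0, 1, 1] with hc3
  have hn : ∀ i, nm hF (c3 i) = 1 := fun i => by
    fin_cases i
    exacts [hc 0, nm_one hF, nm_one hF]
  have e0 : c3 ∘ sh 0 2 3 (show 0 + 2 ≤ 3 by omega) = c := funext fun a => by
    fin_cases a
    exacts [rfl, hc1.symm]
  have e1 : c3 ∘ sh 1 2 3 (show 1 + 2 ≤ 3 by omega) = fun _ => 1 := funext fun a => by
    fin_cases a <;> rfl
  have hin : ∀ (f : Fin 2 ↪ Fin 3),
      ((Ψ'.comp (tw hF τ c3 hn)).comp (emb hF f)).range = (Ψ'.comp (emb hF f)).range := by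
    intro f
    ext x
    constructor
    · rintro ⟨v, rfl⟩
      exact ⟨_, congrArg Ψ' (tw_emb hF τ c3 hn f v).symm⟩
    · rintro ⟨v, rfl⟩
      obtain ⟨w, rfl⟩ := tw_surjective hF τ (c3 ∘ f) (fun a => hn (f a)) v
      exact ⟨w, congrArg Ψ' (tw_emb hF τ c3 hn f w)⟩
  refine ⟨Ψ'.comp (tw hF τ c3 hn), ⟨P'.inj.comp (tw_injective hF τ c3 hn), ?_, ?_, ?_, ?_⟩, fun v => ?_⟩
  · rw [hin]; exact P'.left
  · rw [hin]; exact P'.right
  · obtain ⟨w, rfl⟩ := tw_surjective hF τ c3 hn b'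
    exact ⟨w, tw_isDiag hF τ c3 hn hb', hΨb'⟩
  · obtain ⟨z, hz, hΨz⟩ := P'.diagB
    obtain ⟨w, rfl⟩ := tw_surjective hF τ c3 hn z
    exact ⟨w, tw_isDiag hF τ c3 hn hz, hΨz⟩
  · rw [MonoidHom.comp_apply, tw_emb]
    show p v = p' _
    have key : ∀ (c' : Fin 2 → F) (hc' : ∀ i, nm hF (c' i) = 1), c' = c →
        tw hF τ c' hc' v = tw hF τ c hc v := fun c' hc' h => by subst h; rfl
    rw [← hθp, hθτ, key _ _ e0]

theorem exists_chain (hq : 3 < q) (n : ℕ) (U : ℕ → Subgroup G) (d : ℕ → G)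
    (hd : ∀ i, i < n → d i ∈ U i ∧ orderOf (d i) = q + 1)
    (hp : ∀ i, i + 1 < n → ∃ Ψ, PairData hF (U i) (U (i + 1)) (d i) (d (i + 1)) Ψ) :
    ∃ Φ : ℕ → SU 3 F q →* G, (∀ i, i + 1 < n → PairData hF (U i) (U (i + 1)) (d i) (d (i + 1)) (Φ i)) ∧
      ∀ i, i + 2 < n → ∀ u, Φ i (emb hF (sh 1 2 3 (by omega)) u) = Φ (i + 1) (emb hF (sh 0 2 3 (by omega)) u) := by
  have h0 : ∃ Ψ, 1 < n → PairData hF (U 0) (U 1) (d 0) (d 1) Ψ := by
    by_cases h : 1 < n
    · obtain ⟨Ψ, hΨ⟩ := hp 0 h; exact ⟨Ψ, fun _ => hΨ⟩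
    · exact ⟨1, fun h' => absurd h' h⟩
  have step : ∀ (k : ℕ) (Ψ : SU 3 F q →* G), ∃ Ψ' : SU 3 F q →* G,
      (k + 1 < n → PairData hF (U k) (U (k + 1)) (d k) (d (k + 1)) Ψ) → k + 2 < n →
        PairData hF (U (k + 1)) (U (k + 2)) (d (k + 1)) (d (k + 2)) Ψ' ∧
        ∀ u, Ψ (emb hF (sh 1 2 3 (by omega)) u) = Ψ' (emb hF (sh 0 2 3 (by omega)) u) := by
    intro k Ψ
    by_cases h : (k + 1 < n → PairData hF (U k) (U (k + 1)) (d k) (d (k + 1)) Ψ) ∧ k + 2 < n
    · obtain ⟨hP, hk⟩ := h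
      obtain ⟨Ψ₁, hΨ₁⟩ := hp (k + 1) hk
      obtain ⟨Ψ', h'⟩ := exists_adjust hF hq (hP (by omega)) hΨ₁ (hd (k + 1) (by omega)).1 (hd (k + 1) (by omega)).2
      exact ⟨Ψ', fun _ _ => h'⟩
    · exact ⟨Ψ, fun a b => absurd ⟨a, b⟩ h⟩
  choose next hnext using step
  obtain ⟨Ψ₀, hΨ₀⟩ := h0
  let Φ : ℕ → SU 3 F q →* G := fun i => Nat.rec Ψ₀ next i
  have hall : ∀ i, i + 1 < n → PairData hF (U i) (U (i + 1)) (d i) (d (i + 1)) (Φ i) := by
    intro i
    induction i with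
    | zero => exact hΨ₀
    | succ k ih => exact fun h => (hnext k (Φ k) ih h).1
  exact ⟨Φ, hall, fun i hi => (hnext i (Φ i) (hall i) hi).2⟩

/-- One step of the gluing. -/
theorem glue_step (hq : 2 < q) (n : ℕ) (U : ℕ → Subgroup G)
    (hcomm : ∀ i j, i + 2 ≤ j → j < n → ∀ x ∈ U i, ∀ y ∈ U j, Commute x y)
    (Φ : ℕ → SU 3 F q →* G)
    (hleft : ∀ i, i + 1 < n → ∀ u, Φ i (emb hF (sh 0 2 3 (by omega)) u) ∈ U i)
    (hright : ∀ i, i + 1 < n → ∀ u, Φ i (emb hF (sh 1 2 3 (by omega)) u) ∈ U (i + 1))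
    (hcompat : ∀ i, i + 2 < n → ∀ u,
      Φ i (emb hF (sh 1 2 3 (by omega)) u) = Φ (i + 1) (emb hF (sh 0 2 3 (by omega)) u))
    {M : ℕ} (room : 3 < q ∨ (q = 3 ∧ 5 ≤ M + 1)) (hM : 3 ≤ M) (k : ℕ) (hk : k + (M + 1) ≤ n + 1)
    (φ : SU M F q →* G)
    (hφ : ∀ i (h : i + 3 ≤ M) (g : SU 3 F q), φ (emb hF (sh i 3 M h) g) = Φ (k + 1 + i) g) :
    ∃ φ : SU (M + 1) F q →* G,
      ∀ i (h : i + 3 ≤ M + 1) (g : SU 3 F q), φ (emb hF (sh i 3 (M + 1) h) g) = Φ (k + i) g := by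
    have D : GlueData hF M φ (Φ k) := by
      refine ⟨hM, fun u => ?_, fun u y => ?_⟩
      · rw [hcompat k (by omega), ← show k + 1 + 0 = k + 1 from add_zero _, ← hφ 0 (by omega), emb_trans, sh_trans]
      · have top : (Subgroup.centralizer ((U k : Subgroup G) : Set G)).comap
            (φ.comp (emb hF (sh 1 (M - 1) M (by omega)))) = ⊤ := by
          refine closure_blocks hF hq (by omega) fun j hj => ?_
          rintro _ ⟨v, rfl⟩
          show φ (emb hF (sh 1 (M - 1) M (by omega)) (emb hF (sh j 2 (M - 1) hj) v)) ∈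
            Subgroup.centralizer ((U k : Subgroup G) : Set G)
          have hmem : φ (emb hF (sh 1 (M - 1) M (by omega)) (emb hF (sh j 2 (M - 1) hj) v)) ∈
              U (k + (j + 2)) := by
            rw [emb_trans, sh_trans]
            by_cases hlt : 1 + j + 3 ≤ M
            · have e := hφ (1 + j) hlt (emb hF (sh 0 2 3 (by omega)) v)
              rw [emb_trans, sh_trans] at e
              simp only [add_zero] at e
              rw [e, show k + 1 + (1 + j) = k + (j + 2) by omega]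
              exact hleft _ (by omega) v
            · have e := hφ j (by omega) (emb hF (sh 1 2 3 (by omega)) v)
              rw [emb_trans, sh_trans] at e
              simp only [add_comm j 1] at e
              rw [e, show k + (j + 2) = k + 1 + j + 1 by omega]
              exact hright _ (by omega) v
          rw [Subgroup.mem_centralizer_iff]
          intro x hx
          exact hcomm k (k + (j + 2)) (by omega) (by omega) x hx _ hmem
        have hy : y ∈ (Subgroup.centralizer ((U k : Subgroup G) : Set G)).comap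
            (φ.comp (emb hF (sh 1 (M - 1) M (by omega)))) := by rw [top]; exact Subgroup.mem_top y
        exact (Subgroup.mem_centralizer_iff.1 hy) _ (hleft k (by omega) u)
    obtain ⟨Φ', hΦH, hΦB⟩ := D.exists_hom hq room
    refine ⟨Φ', fun i h g => ?_⟩
    rcases i with _ | i
    · rw [add_zero]; exact hΦB g
    · have e := hΦH (emb hF (sh i 3 M (by omega)) g)
      rw [hφ, emb_trans, sh_trans] at e
      simp only [add_comm 1 i] at e
      rw [e, show k + (i + 1) = k + 1 + i by omega]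

theorem exists_glued (hq : 3 < q) (n : ℕ) (U : ℕ → Subgroup G)
    (hcomm : ∀ i j, i + 2 ≤ j → j < n → ∀ x ∈ U i, ∀ y ∈ U j, Commute x y)
    (Φ : ℕ → SU 3 F q →* G)
    (hleft : ∀ i, i + 1 < n → ∀ u, Φ i (emb hF (sh 0 2 3 (by omega)) u) ∈ U i)
    (hright : ∀ i, i + 1 < n → ∀ u, Φ i (emb hF (sh 1 2 3 (by omega)) u) ∈ U (i + 1))
    (hcompat : ∀ i, i + 2 < n → ∀ u,
      Φ i (emb hF (sh 1 2 3 (by omega)) u) = Φ (i + 1) (emb hF (sh 0 2 3 (by omega)) u)) :
    ∀ M, 3 ≤ M → ∀ k, k + M ≤ n + 1 →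
      ∃ φ : SU M F q →* G, ∀ i (h : i + 3 ≤ M) (g : SU 3 F q), φ (emb hF (sh i 3 M h) g) = Φ (k + i) g := by
  intro M hM
  induction M, hM using Nat.le_induction with
  | base =>
    intro k _
    refine ⟨Φ k, fun i h g => ?_⟩
    obtain rfl : i = 0 := by omega
    rw [emb_refl hF, add_zero]
  | succ M hM ih =>
    intro k hk
    obtain ⟨φ, hφ⟩ := ih (k + 1) (by omega)
    exact glue_step hF (by omega) n U hcomm Φ hleft hright hcompat (Or.inl hq) hM k hk φ hφ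


/-- Gluing from four-dimensional models in the case of nine elements. -/
theorem exists_glued_four (hq : q = 3) (n : ℕ) (U : ℕ → Subgroup G)
    (hcomm : ∀ i j, i + 2 ≤ j → j < n → ∀ x ∈ U i, ∀ y ∈ U j, Commute x y)
    (Φ : ℕ → SU 3 F q →* G)
    (hleft : ∀ i, i + 1 < n → ∀ u, Φ i (emb hF (sh 0 2 3 (by omega)) u) ∈ U i)
    (hright : ∀ i, i + 1 < n → ∀ u, Φ i (emb hF (sh 1 2 3 (by omega)) u) ∈ U (i + 1))
    (hcompat : ∀ i, i + 2 < n → ∀ u,
      Φ i (emb hF (sh 1 2 3 (by omega)) u) = Φ (i + 1) (emb hF (sh 0 2 3 (by omega)) u))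
    (hbase : ∀ k, k + 4 ≤ n + 1 → ∃ φ : SU 4 F q →* G,
      ∀ i (h : i + 3 ≤ 4) (g : SU 3 F q), φ (emb hF (sh i 3 4 h) g) = Φ (k + i) g) :
    ∀ M, 4 ≤ M → ∀ k, k + M ≤ n + 1 →
      ∃ φ : SU M F q →* G, ∀ i (h : i + 3 ≤ M) (g : SU 3 F q), φ (emb hF (sh i 3 M h) g) = Φ (k + i) g := by
  intro M hM
  induction M, hM using Nat.le_induction with
  | base => exact hbase
  | succ M hM ih =>
    intro k hk
    obtain ⟨φ, hφ⟩ := ih (k + 1) (by omega)
    exact glue_step hF (by omega) n U hcomm Φ hleft hright hcompat (Or.inr ⟨hq, by omega⟩) (by omega) k hk φ hφ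

end Cfsg.Agent.Recog.Phan
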