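import Cfsg.Agent.Lib.Recog.PhanSystem
import Cfsg.Prelude.Def_PhanSystems
import Mathlib.RingTheory.RootsOfUnity.PrimitiveRoots

/-!
Weak Phan systems: neighbouring standard pairs single out the same torus.
-/

set_option autoImplicit false
set_option linter.unusedSectionVars false

namespace Cfsg.Agent.Recog.Phan

open Matrix Cfsg.Agent.Classical Cfsg.Agent.Lie.SpnPres

variable {F : Type*} [Field F] [Fintype F] {q : ℕ} {G : Type*} [Group G]

/-- A model of a standard pair, possibly with central kernel. -/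
structure WeakPair (hF : Fintype.card F = q ^ 2) (V A B : Subgroup G) (Ψ : SU 3 F q →* G) : Prop where
  full : Ψ.range = V
  left : (Ψ.comp (emb hF (sh 0 2 3 (by omega)))).range = A
  right : (Ψ.comp (emb hF (sh 1 2 3 (by omega)))).range = B
  ker : ∀ z, Ψ z = 1 → ∀ g, Commute z g

variable (hF : Fintype.card F = q ^ 2)

include hF

theorem exists_torus : ∃ d : SU 2 F q, IsDiag d ∧ orderOf d = q + 1 ∧
    ∃ ω, nm hF ω = 1 ∧ ω ^ 2 ≠ 1 ∧ mv d (bv F 0) = ω • bv F 0 ∧ mv d (bv F 1) = qFrob hF ω • bv F 1 := by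
  have h2 := two_le_q hF
  obtain ⟨w, hw⟩ := IsCyclic.exists_ofOrder_eq_natCard (α := Fˣ)
  rw [Nat.card_units, Nat.card_eq_fintype_card, hF] at hw
  have hq2 : q ^ 2 - 1 = (q - 1) * (q + 1) := by
    obtain ⟨r, rfl⟩ : ∃ r, q = r + 1 := ⟨q - 1, by omega⟩
    rw [Nat.add_sub_cancel, show (r + 1) ^ 2 = r * (r + 1 + 1) + 1 by ring, Nat.add_sub_cancel]
  have hprim : IsPrimitiveRoot (((w ^ (q - 1) : Fˣ)) : F) (q + 1) := by
    refine IsPrimitiveRoot.coe_units_iff.2 (IsPrimitiveRoot.iff_orderOf.2 ?_)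
    rw [orderOf_pow' _ (by omega), hw, hq2, Nat.gcd_eq_right (dvd_mul_right _ _),
      Nat.mul_div_cancel_left _ (by omega)]
  set ω := (((w ^ (q - 1) : Fˣ)) : F)
  have hn : nm hF ω = 1 := by rw [nm, qFrob_apply, ← pow_succ', hprim.pow_eq_one]
  set d := el2 hF ω 0 (by rw [hn, nm_zero, add_zero]) with hd
  have h0 : mv d (bv F 0) = ω • bv F 0 := by
    rw [hd, el2_mv_zero]; funext i; fin_cases i <;> simp [bv]
  have h1 : mv d (bv F 1) = qFrob hF ω • bv F 1 := by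
    funext i; fin_cases i <;> simp [hd, mv, el2, bv]
  have hpow : ∀ k : ℕ, mv (d ^ k) (bv F 0) = ω ^ k • bv F 0 ∧
      mv (d ^ k) (bv F 1) = qFrob hF ω ^ k • bv F 1 := fun k => by
    induction k with
    | zero => simp [mv_one]
    | succ k ih =>
      simp only [pow_succ', mv_mul, ih.1, ih.2, mv_smul, h0, h1, smul_smul, mul_comm, and_self]
  refine ⟨d, fun i => ?_, ?_, ω, hn, fun h => ?_, h0, h1⟩
  · fin_cases i
    exacts [⟨_, h0⟩, ⟨_, h1⟩]
  · refine (orderOf_eq_iff (by omega)).2 ⟨su_ext fun i => ?_, fun k hk hk0 he => ?_⟩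
    · rw [mv_one]
      fin_cases i
      · exact (hpow (q + 1)).1.trans (by rw [hprim.pow_eq_one, one_smul]; rfl)
      · exact (hpow (q + 1)).2.trans (by rw [← map_pow, hprim.pow_eq_one, map_one, one_smul]; rfl)
    · have e := congrFun (hpow k).1 0
      rw [he, mv_one] at e
      simp [bv] at e
      exact hprim.pow_ne_one_of_pos_of_lt (Nat.pos_iff_ne_zero.1 hk0) hk e.symm
  · exact hprim.pow_ne_one_of_pos_of_lt (by norm_num) (by omega) h

theorem diag_mv {n : ℕ} {g : SU n F q} {κ : Fin n → F} (h : ∀ i, mv g (bv F i) = κ i • bv F i)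
    (v : Fin n → F) (i : Fin n) : mv g v i = κ i * v i := by
  have e : ∀ j, g.1.1 i j = if j = i then κ i else 0 := fun j => by
    rw [← mv_bv, h]
    by_cases hji : j = i
    · subst hji; simp [bv]
    · simp [bv, hji, Ne.symm hji]
  simp [mv, Matrix.mulVec, dotProduct, e]

theorem conj_eq_tw {n : ℕ} {g : SU n F q} {κ : Fin n → F} (h : ∀ i, mv g (bv F i) = κ i • bv F i)
    (hκ : ∀ i, nm hF (κ i) = 1) (a : SU n F q) : g * a * g⁻¹ = tw hF (RingEquiv.refl F) κ hκ a := by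
  have h0 : ∀ i, κ i ≠ 0 := fun i e => by simpa [e, nm_zero hF] using hκ i
  refine su_ext fun j => funext fun i => ?_
  rw [tw_mv_bv, mv_mul, mv_mul, diag_mv hF h]
  have e : mv g⁻¹ (bv F j) = (κ j)⁻¹ • bv F j := by
    conv_lhs => rw [← inv_smul_smul₀ (h0 j) (bv F j), ← h j, mv_smul, mv_inv_cancel]
  rw [e, mv_smul, Pi.smul_apply, smul_eq_mul, RingEquiv.refl_apply]
  ring

theorem isDiag_inv {n : ℕ} {g : SU n F q} (h : IsDiag g) : IsDiag g⁻¹ := by
  intro i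
  obtain ⟨κ, hκ⟩ := h i
  have h0 : κ ≠ 0 := fun e => by
    rw [e, zero_smul] at hκ
    have := congrArg (mv g⁻¹) hκ
    rw [mv_inv_cancel, mv, Matrix.mulVec_zero] at this
    simpa [bv] using congrFun this i
  exact ⟨κ⁻¹, by conv_lhs => rw [← inv_smul_smul₀ h0 (bv F i), ← hκ, mv_smul, mv_inv_cancel]⟩

theorem central_scalar {z : SU 3 F q} (hz : ∀ g, Commute z g) :
    ∃ κ : F, ∀ i, mv z (bv F i) = κ • bv F i := by
  obtain ⟨d, -, -, ω, hn, hω2, h0, h1⟩ := exists_torus hF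
  have hω1 : ω - 1 ≠ 0 := fun h => hω2 (by rw [sub_eq_zero.1 h, one_pow])
  have hσ1 : qFrob hF ω - 1 ≠ 0 := fun h => hω1 (by
    rw [sub_eq_zero] at h ⊢
    rw [← qFrob_qFrob hF ω, h, map_one])
  set v := mv z (bv F (2 : Fin 3)) with hv
  set e := emb hF (sh 0 2 3 (by omega)) d
  have hfix : mv e v = v := by
    rw [hv, ← mv_mul, ← (hz e).eq, mv_mul,
      emb_fix_bv hF _ _ (fun a => by fin_cases a <;> simp [Fin.ext_iff, sh_val])]
  have hk : ∀ i : Fin 3, mv e (bv F i) = ![ω, qFrob hF ω, 1] i • bv F i := fun i => by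
    fin_cases i
    · exact emb_mv_bv hF (sh 0 2 3 (by omega)) d 0 0 ω h0
    · exact emb_mv_bv hF (sh 0 2 3 (by omega)) d 1 1 _ h1
    · show _ = (1 : F) • bv F (2 : Fin 3)
      rw [one_smul]
      exact emb_fix_bv hF _ _ (fun a => by fin_cases a <;> simp [Fin.ext_iff, sh_val])
  have c0 := congrFun hfix 0
  have c1 := congrFun hfix 1
  rw [diag_mv hF hk] at c0 c1
  simp at c0 c1
  have v0 : v 0 = 0 := (mul_eq_zero.1 (show v 0 * (ω - 1) = 0 by linear_combination c0)).resolve_right hω1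
  have v1 : v 1 = 0 := (mul_eq_zero.1 (show v 1 * (qFrob hF ω - 1) = 0 by linear_combination c1)).resolve_right hσ1
  have hv2 : v = v 2 • bv F 2 := funext fun i => by fin_cases i <;> simp [bv, v0, v1]
  have move : ∀ i : Fin 3, ∃ g : SU 3 F q, mv g (bv F 0) = bv F i := fun i =>
    exists_move_any hF (M := 3) (by omega) 0 rfl (by rw [hm_bv, if_pos rfl])
  obtain ⟨g2, hg2⟩ := move 2
  refine ⟨v 2, fun i => ?_⟩
  obtain ⟨g, hg⟩ := move i
  have e : mv (g * g2⁻¹) (bv F 2) = bv F i := by rw [mv_mul, ← hg2, mv_inv_cancel, hg]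
  rw [← e, ← mv_mul, (hz _).eq, mv_mul, ← hv]
  conv_lhs => rw [hv2]
  rw [mv_smul]

theorem WeakPair.inj {V A B : Subgroup G} {Ψ : SU 3 F q →* G} (P : WeakPair hF V A B Ψ)
    (f : Fin 2 ↪ Fin 3) : Function.Injective (Ψ.comp (emb hF f)) := by
  refine (injective_iff_map_eq_one _).2 fun u hu => emb_injective hF f ?_
  obtain ⟨κ, hκ⟩ := central_scalar hF (P.ker _ hu)
  rw [map_one]
  obtain ⟨k, hk⟩ : ∃ k, ∀ a, f a ≠ k := by
    by_contra h
    push Not at h
    have := Fintype.card_le_of_surjective f h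
    simp at this
  have hκ1 : κ = 1 := by
    have e := congrFun (hκ k) k
    rw [emb_fix_bv hF f u hk] at e
    simpa [bv] using e.symm
  exact su_ext fun i => by rw [hκ, hκ1, one_smul, mv_one]

theorem suBlock_eq (s : Set (Fin 3)) (f : Fin 2 ↪ Fin 3) (hs : ∀ i, i ∈ s ↔ ∃ a, f a = i) :
    Cfsg.suBlock 3 F q s = (emb hF f).range := by
  refine le_antisymm ((Subgroup.closure_le _).2 fun A hA => mem_range_emb hF f A fun i hi => ?_) ?_
  · obtain ⟨h1, h2⟩ := hA i (fun h => by obtain ⟨a, ha⟩ := (hs i).1 h; exact hi a ha)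
    funext j
    rw [mv_bv]
    by_cases hji : j = i
    · subst hji; simpa [bv] using h1
    · simpa [bv, hji] using (h2 j hji).2
  · rintro _ ⟨u, rfl⟩
    refine Subgroup.subset_closure fun k hk => ?_
    have hk' : ∀ a, f a ≠ k := fun a h => hk ((hs k).2 ⟨a, h⟩)
    have row : ∀ l, (emb hF f u).1.1 k l = if k = l then 1 else 0 := fun l => by
      rw [← mv_bv, emb_mv_out hF f u _ hk']
      simp [bv, Pi.single_apply]
    have col : ∀ l, (emb hF f u).1.1 l k = if l = k then 1 else 0 := fun l => by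
      rw [← mv_bv, emb_fix_bv hF f u hk']
      simp [bv, Pi.single_apply]
    exact ⟨by simpa using row k, fun l hl => ⟨by simpa [Ne.symm hl] using row l, by simpa [hl] using col l⟩⟩

theorem exists_weakPair {V A B : Subgroup G} (h : Cfsg.IsStandardUnitaryPair V A B F q) :
    ∃ Ψ, WeakPair hF V A B Ψ := by
  have a0 : sh 0 2 3 (show 0 + 2 ≤ 3 by omega) (0 : Fin 2) = (0 : Fin 3) := rfl
  have a1 : sh 0 2 3 (show 0 + 2 ≤ 3 by omega) (1 : Fin 2) = (1 : Fin 3) := rfl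
  have b0 : sh 1 2 3 (show 1 + 2 ≤ 3 by omega) (0 : Fin 2) = (1 : Fin 3) := rfl
  have b1 : sh 1 2 3 (show 1 + 2 ≤ 3 by omega) (1 : Fin 2) = (2 : Fin 3) := rfl
  have s0 : ∀ i : Fin 3, i ∈ ({0, 1} : Set (Fin 3)) ↔ ∃ a, sh 0 2 3 (show 0 + 2 ≤ 3 by omega) a = i := fun i => by
    simp only [Set.mem_insert_iff, Set.mem_singleton_iff, Fin.exists_fin_two, a0, a1, eq_comm]
  have s1 : ∀ i : Fin 3, i ∈ ({1, 2} : Set (Fin 3)) ↔ ∃ a, sh 1 2 3 (show 1 + 2 ≤ 3 by omega) a = i := fun i => by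
    simp only [Set.mem_insert_iff, Set.mem_singleton_iff, Fin.exists_fin_two, b0, b1, eq_comm]
  rcases h with ⟨ψ, hA, hB⟩ | ⟨ψ, hA, hB⟩
  · rw [suBlock_eq hF _ _ s0, ← MonoidHom.range_comp] at hA
    rw [suBlock_eq hF _ _ s1, ← MonoidHom.range_comp] at hB
    refine ⟨V.subtype.comp ψ.toMonoidHom, ?_, hA, hB, fun z hz g => ?_⟩
    · rw [MonoidHom.range_comp, MonoidHom.range_eq_top.2 ψ.surjective, ← MonoidHom.range_eq_map,
        Subgroup.range_subtype]
    · rw [show z = 1 from ψ.injective (by rw [map_one]; exact Subtype.ext hz)]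
      exact Commute.one_left g
  · rw [suBlock_eq hF _ _ s0, ← MonoidHom.range_comp] at hA
    rw [suBlock_eq hF _ _ s1, ← MonoidHom.range_comp] at hB
    refine ⟨V.subtype.comp (ψ.toMonoidHom.comp (QuotientGroup.mk' _)), ?_, hA, hB, fun z hz g => ?_⟩
    · rw [MonoidHom.range_comp, MonoidHom.range_eq_top.2 (ψ.surjective.comp (QuotientGroup.mk'_surjective _)),
        ← MonoidHom.range_eq_map, Subgroup.range_subtype]
    · have h1 : QuotientGroup.mk' (Subgroup.center (SU 3 F q)) z = 1 :=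
        ψ.injective (by rw [map_one]; exact Subtype.ext hz)
      exact (Subgroup.mem_center_iff.1 ((QuotientGroup.eq_one_iff z).1 h1) g).symm

theorem weak_adjust (hq : 2 < q) {V W A B C : Subgroup G} {Ψ Ψ' : SU 3 F q →* G}
    (P : WeakPair hF V A B Ψ) (P' : WeakPair hF W B C Ψ') (hAC : ∀ a ∈ A, ∀ c ∈ C, Commute a c) :
    ∃ Ψ'', WeakPair hF W B C Ψ'' ∧
      ∀ u, Ψ (emb hF (sh 1 2 3 (by omega)) u) = Ψ'' (emb hF (sh 0 2 3 (by omega)) u) := by
  set f0 := sh 0 2 3 (show 0 + 2 ≤ 3 by omega) with hf0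
  set f1 := sh 1 2 3 (show 1 + 2 ≤ 3 by omega) with hf1
  set p := Ψ.comp (emb hF f1) with hp
  set p' := Ψ'.comp (emb hF f0) with hp'
  have hpi : Function.Injective p := P.inj hF _
  have hpi' : Function.Injective p' := P'.inj hF _
  set θ : MulAut (SU 2 F q) := (MonoidHom.ofInjective hpi).trans
    ((MulEquiv.subgroupCongr (P.right.trans P'.left.symm)).trans (MonoidHom.ofInjective hpi').symm) with hθ
  have hθp : ∀ u, p' (θ u) = p u := fun u => by
    rw [hθ, MulEquiv.trans_apply, MulEquiv.trans_apply, MonoidHom.apply_ofInjective_symm hpi']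
    rfl
  obtain ⟨t, htd, hto, ω, hn, hω2, ht0, ht1⟩ := exists_torus hF
  obtain ⟨d, hd⟩ : ∃ d, θ d = t := ⟨θ.symm t, θ.apply_symm_apply t⟩
  have hκ : ∀ i : Fin 3, mv (emb hF f0 t) (bv F i) = ![ω, qFrob hF ω, 1] i • bv F i := fun i => by
    fin_cases i
    · exact emb_mv_bv hF f0 t 0 0 ω ht0
    · exact emb_mv_bv hF f0 t 1 1 _ ht1
    · show _ = (1 : F) • bv F (2 : Fin 3)
      rw [one_smul]
      exact emb_fix_bv hF _ _ (fun a => by fin_cases a <;> simp [hf0, Fin.ext_iff, sh_val])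
  have hn3 : ∀ i : Fin 3, nm hF (![ω, qFrob hF ω, 1] i) = 1 := fun i => by
    fin_cases i
    exacts [hn, (nm_conj hF ω).trans hn, nm_one hF]
  have hconj : ∀ v, emb hF f0 t * emb hF f1 v * (emb hF f0 t)⁻¹ =
      emb hF f1 (tw hF (RingEquiv.refl F) (![ω, qFrob hF ω, 1] ∘ f1) (fun a => hn3 _) v) := fun v => by
    rw [conj_eq_tw hF hκ hn3, tw_emb]
  set d2 := tw hF (RingEquiv.refl F) (![ω, qFrob hF ω, 1] ∘ f1) (fun a => hn3 _) d with hd2
  set X := Ψ (emb hF f0 t) with hX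
  have hS : X * p d * X⁻¹ = p' (θ d2) := by
    rw [hθp, hX, hp, MonoidHom.comp_apply, MonoidHom.comp_apply, ← map_inv, ← map_mul, ← map_mul, hconj]
  have hnormC : ∀ c ∈ C, p' (θ d2) * c * (p' (θ d2))⁻¹ ∈ C := fun c hc => by
    have hXA : X ∈ A := P.left.le ⟨t, rfl⟩
    have comm : ∀ x ∈ C, X * x = x * X := fun x hx => (hAC X hXA x hx).eq
    have hT : p d = Ψ' (emb hF f0 t) := by rw [← hθp, hd]; rfl
    obtain ⟨v, rfl⟩ := P'.right.ge hc
    have hc' : Ψ' (emb hF f1 v) ∈ C := P'.right.le ⟨v, rfl⟩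
    have h1 : p d * Ψ' (emb hF f1 v) * (p d)⁻¹ ∈ C := by
      rw [hT, ← map_inv, ← map_mul, ← map_mul, hconj]
      exact P'.right.le ⟨_, rfl⟩
    have e : X * p d * X⁻¹ * Ψ' (emb hF f1 v) * (X * p d * X⁻¹)⁻¹ =
        p d * Ψ' (emb hF f1 v) * (p d)⁻¹ :=
      calc _ = X * (p d * (X⁻¹ * (Ψ' (emb hF f1 v) * X)) * (p d)⁻¹) * X⁻¹ := by group
        _ = X * (p d * Ψ' (emb hF f1 v) * (p d)⁻¹) * X⁻¹ := by rw [← comm _ hc', inv_mul_cancel_left]
        _ = _ := by rw [comm _ h1, mul_inv_cancel_right]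
    rw [← hS]
    show X * p d * X⁻¹ * Ψ' (emb hF f1 v) * (X * p d * X⁻¹)⁻¹ ∈ C
    rw [e]; exact h1
  set s := θ d2 with hs
  have hsd : IsDiag s := by
    set w := el2 hF (0 : F) 1 (by rw [nm_zero, nm_one, zero_add]) with hw
    obtain ⟨v', hv'⟩ := P'.right.ge (hnormC _ (P'.right.le ⟨w, rfl⟩))
    change Ψ' (emb hF f1 v') = Ψ' (emb hF f0 s) * Ψ' (emb hF f1 w) * (Ψ' (emb hF f0 s))⁻¹ at hv'
    obtain ⟨κ, hκ'⟩ := central_scalar hF
      (P'.ker ((emb hF f1 v')⁻¹ * (emb hF f0 s * emb hF f1 w * (emb hF f0 s)⁻¹))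
        (by rw [map_mul, map_inv, map_mul, map_mul, map_inv, ← hv', inv_mul_cancel]))
    have h := hκ' 0
    set y := mv (emb hF f0 s⁻¹) (bv F (0 : Fin 3)) with hy
    have e : mv (emb hF f1 w) y = κ • y := by
      have h' := congrArg (mv (emb hF f1 v')) h
      rw [← mv_mul, mul_inv_cancel_left, mv_mul, mv_mul, ← map_inv, ← hy, mv_smul,
        emb_fix_bv hF f1 v' (fun a => by fin_cases a <;> simp [hf1, Fin.ext_iff, sh_val])] at h'
      have h'' := congrArg (mv (emb hF f0 s⁻¹)) h'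
      rwa [map_inv, mv_inv_cancel, ← map_inv, mv_smul, ← hy] at h''
    have y2 : y 2 = 0 := by
      rw [hy, emb_mv_out hF _ _ _ (fun a => by fin_cases a <;> simp [hf0, Fin.ext_iff, sh_val])]
      simp [bv]
    have e2 := congrFun e (f1 1)
    rw [emb_mv_in, show (f1 1 : Fin 3) = 2 from rfl, Pi.smul_apply, y2, smul_zero] at e2
    simp [hw, mv, el2, Matrix.mulVec, dotProduct, Fin.sum_univ_two] at e2
    have y1 : y (f0 1) = 0 := e2
    rw [hy, emb_mv_in, show (bv F (0 : Fin 3)) ∘ f0 = bv F 0 from bv_comp f0 0] at y1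
    obtain ⟨a, b, hab, hsab⟩ := el2_surj hF s⁻¹
    rw [hsab, el2_mv_zero] at y1
    simp at y1
    rw [← inv_inv s]
    refine isDiag_inv hF ?_
    rw [hsab, isDiag_iff]
    intro i j hij
    fin_cases i <;> fin_cases j <;> simp [el2, y1] at hij ⊢
  have hcomm : Commute d2 d := θ.injective (by
    rw [map_mul, map_mul, hd]
    refine su_ext fun i => ?_
    obtain ⟨k, hk⟩ := hsd i
    obtain ⟨l, hl⟩ := htd i
    rw [mv_mul, mv_mul, ← hs, hl, hk, mv_smul, mv_smul, hk, hl, smul_comm])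
  have hdd : IsDiag d := by
    obtain ⟨a, b, hab, hdab⟩ := el2_surj hF d
    have e := congrFun (congrFun (congrArg (fun x : SU 2 F q => x.1.1) hcomm.eq) 0) 0
    change (d2.1.1 * d.1.1) 0 0 = (d.1.1 * d2.1.1) 0 0 at e
    rw [Matrix.mul_apply, Matrix.mul_apply, Fin.sum_univ_two, Fin.sum_univ_two, hd2, tw_apply, tw_apply,
      tw_apply] at e
    have c0 : (![ω, qFrob hF ω, 1] ∘ f1) 0 = qFrob hF ω := rfl
    have c1 : (![ω, qFrob hF ω, 1] ∘ f1) 1 = 1 := rfl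
    rw [c0, c1, hdab] at e
    simp [el2] at e
    have hn' : ω * qFrob hF ω = 1 := hn
    rw [show (qFrob hF ω)⁻¹ = ω from inv_eq_of_mul_eq_one_left hn'] at e
    have hb : b * qFrob hF b * (ω - qFrob hF ω) = 0 := by
      linear_combination e
    have hb0 : b = 0 := by
      rcases mul_eq_zero.1 hb with h | h
      · exact (nm_eq_zero hF).1 h
      · exact absurd (by linear_combination hn' + ω * h) hω2
    rw [hdab, isDiag_iff]
    intro i j hij
    fin_cases i <;> fin_cases j <;> simp [el2, hb0] at hij ⊢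
  obtain ⟨τ, c, hc, hc1, hθτ⟩ := exists_tw hF hq θ hdd
    (by rw [← hto, ← hd]; exact (orderOf_injective θ.toMonoidHom θ.injective d).symm) (by rw [hd]; exact htd)
  set c3 : Fin 3 → F := ![c 0, 1, 1] with hc3
  have hnc : ∀ i, nm hF (c3 i) = 1 := fun i => by
    fin_cases i
    exacts [hc 0, nm_one hF, nm_one hF]
  have e0 : c3 ∘ f0 = c := funext fun a => by
    fin_cases a
    exacts [rfl, hc1.symm]
  have hin : ∀ (f : Fin 2 ↪ Fin 3),
      ((Ψ'.comp (tw hF τ c3 hnc)).comp (emb hF f)).range = (Ψ'.comp (emb hF f)).range := by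
    intro f
    ext x
    constructor
    · rintro ⟨v, rfl⟩
      exact ⟨_, congrArg Ψ' (tw_emb hF τ c3 hnc f v).symm⟩
    · rintro ⟨v, rfl⟩
      obtain ⟨w, rfl⟩ := tw_surjective hF τ (c3 ∘ f) (fun a => hnc (f a)) v
      exact ⟨w, congrArg Ψ' (tw_emb hF τ c3 hnc f w)⟩
  refine ⟨Ψ'.comp (tw hF τ c3 hnc), ⟨?_, ?_, ?_, fun z hz g => ?_⟩, fun v => ?_⟩
  · rw [MonoidHom.range_comp, MonoidHom.range_eq_top.2 (tw_surjective hF τ c3 hnc),
      ← MonoidHom.range_eq_map, P'.full]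
  · rw [hin]; exact P'.left
  · rw [hin]; exact P'.right
  · refine tw_injective hF τ c3 hnc ?_
    rw [map_mul, map_mul]
    exact P'.ker _ hz _
  · rw [MonoidHom.comp_apply, tw_emb]
    show p v = p' _
    have key : ∀ (c' : Fin 2 → F) (hc' : ∀ i, nm hF (c' i) = 1), c' = c →
        tw hF τ c' hc' v = tw hF τ c hc v := fun c' hc' h => by subst h; rfl
    rw [← hθp, hθτ, key _ _ e0]

theorem weak_system (hq : 3 < q) {n : ℕ} (hn : 2 ≤ n) (U : ℕ → Subgroup G) (V : ℕ → Subgroup G)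
    (hcomm : ∀ i j, i + 2 ≤ j → j < n → ∀ x ∈ U i, ∀ y ∈ U j, Commute x y)
    (hp : ∀ i, i + 1 < n → ∃ Ψ, WeakPair hF (V i) (U i) (U (i + 1)) Ψ) :
    ∃ φ : SU (n + 1) F q →* G, (∀ i, i < n → U i ≤ φ.range) ∧ ∀ i, i + 1 < n → V i ≤ φ.range := by
  obtain ⟨Ψ₀, hΨ₀⟩ := hp 0 (by omega)
  have step : ∀ (k : ℕ) (Ψ : SU 3 F q →* G), ∃ Ψ' : SU 3 F q →* G,
      (k + 1 < n → WeakPair hF (V k) (U k) (U (k + 1)) Ψ) → k + 2 < n →
        WeakPair hF (V (k + 1)) (U (k + 1)) (U (k + 2)) Ψ' ∧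
        ∀ u, Ψ (emb hF (sh 1 2 3 (by omega)) u) = Ψ' (emb hF (sh 0 2 3 (by omega)) u) := by
    intro k Ψ
    by_cases h : (k + 1 < n → WeakPair hF (V k) (U k) (U (k + 1)) Ψ) ∧ k + 2 < n
    · obtain ⟨hP, hk⟩ := h
      obtain ⟨Ψ₁, hΨ₁⟩ := hp (k + 1) hk
      obtain ⟨Ψ', h'⟩ := weak_adjust hF (show 2 < q by omega) (hP (by omega)) hΨ₁ (hcomm k (k + 2) le_rfl hk)
      exact ⟨Ψ', fun _ _ => h'⟩
    · exact ⟨Ψ, fun a b => absurd ⟨a, b⟩ h⟩
  choose next hnext using step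
  let Φ : ℕ → SU 3 F q →* G := fun i => Nat.rec Ψ₀ next i
  have hall : ∀ i, i + 1 < n → WeakPair hF (V i) (U i) (U (i + 1)) (Φ i) := by
    intro i
    induction i with
    | zero => exact fun _ => hΨ₀
    | succ k ih => exact fun h => (hnext k (Φ k) ih h).1
  obtain ⟨φ, hφ⟩ := exists_glued hF hq n U hcomm Φ
    (fun i hi u => (hall i hi).left.le ⟨u, rfl⟩) (fun i hi u => (hall i hi).right.le ⟨u, rfl⟩)
    (fun i hi => (hnext i (Φ i) (hall i) hi).2) (n + 1) (by omega) 0 (by omega)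
  have hV : ∀ i, i + 1 < n → V i ≤ φ.range := fun i hi x hx => by
    obtain ⟨g, rfl⟩ := (hall i hi).full.ge hx
    exact ⟨emb hF (sh i 3 (n + 1) (by omega)) g, by rw [hφ i (by omega), zero_add]⟩
  refine ⟨φ, fun i hi => ?_, hV⟩
  by_cases h : i + 1 < n
  · intro x hx
    obtain ⟨u, rfl⟩ := (hall i h).left.ge hx
    exact hV i h ((hall i h).full.le ⟨_, rfl⟩)
  · obtain ⟨j, rfl⟩ : ∃ j, i = j + 1 := ⟨i - 1, by omega⟩
    intro x hx
    obtain ⟨u, rfl⟩ := (hall j (by omega)).right.ge hx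
    exact hV j (by omega) ((hall j (by omega)).full.le ⟨_, rfl⟩)

end Cfsg.Agent.Recog.Phan
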