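import Cfsg.Agent.Lib.Recog.PhanThreeRigid
import Cfsg.Agent.Lib.Recog.PhanWeak
import Cfsg.Agent.Lib.Fus.UnitTransvection

/-!
Weak Phan systems over nine elements: two neighbouring pairs inside an image of `SU₄(3)` glue.
-/

set_option autoImplicit false
set_option linter.unusedSectionVars false

namespace Cfsg.Agent.Recog.Phan

open Matrix Cfsg.Agent.Classical Cfsg.Agent.Lie.SpnPres

variable {F : Type*} [Field F] [Fintype F] {q : ℕ} (hF : Fintype.card F = q ^ 2)

include hF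

variable (hq : q = 3) {ω : F} (hω : ω * ω = -1)

include hq hω

/-- The two blocks of a pair do not commute, not even modulo the centre. -/
theorem weak_noncentral {G : Type*} [Group G] {V A B : Subgroup G} {Ψ : SU 3 F q →* G}
    (P : WeakPair hF V A B Ψ) :
    ¬ Commute (Ψ (emb hF (sh 0 2 3 (by omega)) (zz hF hq hω)))
      (Ψ (emb hF (sh 1 2 3 (by omega)) (jj hF hq hω))) := by
  intro hcom
  set f0 := sh 0 2 3 (show 0 + 2 ≤ 3 by omega) with hf0
  set f1 := sh 1 2 3 (show 1 + 2 ≤ 3 by omega) with hf1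
  have hk : ∀ i : Fin 3, mv (emb hF f0 (zz hF hq hω)) (bv F i) = (![-1, -1, 1] : Fin 3 → F) i • bv F i := fun i => by
    fin_cases i
    · exact emb_mv_bv hF f0 _ 0 0 _ (zz_mv hF hq hω 0)
    · exact emb_mv_bv hF f0 _ 1 1 _ (zz_mv hF hq hω 1)
    · show _ = (1 : F) • bv F (2 : Fin 3)
      rw [one_smul]
      exact emb_fix_bv hF _ _ (fun a => by fin_cases a <;> simp [hf0, Fin.ext_iff, sh_val])
  have hn : ∀ i : Fin 3, nm hF ((![-1, -1, 1] : Fin 3 → F) i) = 1 := fun i => by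
    fin_cases i
    exacts [(nm_neg hF 1).trans (nm_one hF), (nm_neg hF 1).trans (nm_one hF), nm_one hF]
  set w := tw hF (RingEquiv.refl F) ((![-1, -1, 1] : Fin 3 → F) ∘ f1) (fun a => hn _) (jj hF hq hω) with hw
  have e : Ψ (emb hF f1 w) = Ψ (emb hF f1 (jj hF hq hω)) := by
    rw [hw, ← tw_emb hF (RingEquiv.refl F) _ hn f1, ← conj_eq_tw hF hk hn, map_mul, map_mul, map_inv,
      hcom.eq, mul_inv_cancel_right]
  have hinj := P.inj hF f1
  have e' := congrArg (fun x : SU 2 F q => x.1.1 1 0) (hinj e : w = jj hF hq hω)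
  simp only [hw, tw_apply] at e'
  simp [hf1, jj, el2, Function.comp_apply, show sh 1 2 3 (show 1 + 2 ≤ 3 by omega) (0 : Fin 2) = (1 : Fin 3) from rfl,
    show sh 1 2 3 (show 1 + 2 ≤ 3 by omega) (1 : Fin 2) = (2 : Fin 3) from rfl] at e'
  exact two_ne_three hF hq (by linear_combination -e')

/-- Whatever an epimorphism from `SU₄(3)` kills is central of exponent four. -/
theorem ker_four {G : Type*} [Group G] (g : SU 4 F q →* G) (hne : ∃ x, g x ≠ 1) (k : SU 4 F q)
    (hk : g k = 1) : (∀ x, Commute k x) ∧ k ^ 4 = 1 := by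
  have hle : g.ker ≤ Subgroup.center (SU 4 F q) := by
    by_contra h
    have htop := Cfsg.Agent.Fus.UnitTv.eq_top_of_not_central hF (by norm_num)
      (fun h' => absurd h'.1 (by norm_num)) g.normal_ker h
    obtain ⟨x, hx⟩ := hne
    exact hx (MonoidHom.mem_ker.1 (by rw [htop]; exact Subgroup.mem_top x))
  have hc : ∀ x, Commute k x := fun x => (Subgroup.mem_center_iff.1 (hle hk) x).symm
  refine ⟨hc, ?_⟩
  obtain ⟨μ, hμn, hμ⟩ := block_scalar hF hq hω b01 (hc _) (hc _)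
  obtain ⟨ν, -, hν⟩ := block_scalar hF hq hω b12 (hc _) (hc _)
  obtain ⟨ρ, -, hρ⟩ := block_scalar hF hq hω b23 (hc _) (hc _)
  have s1 : mv k (bv F 1) = μ • bv F 1 := hμ 1
  have s1' : mv k (bv F 1) = ν • bv F 1 := hν 0
  have s2 : mv k (bv F 2) = ν • bv F 2 := hν 1
  have s2' : mv k (bv F 2) = ρ • bv F 2 := hρ 0
  have m1 : ν = μ := by simpa [bv] using congrFun (s1'.symm.trans s1) 1
  have m2 : ρ = ν := by simpa [bv] using congrFun (s2'.symm.trans s2) 2
  subst m2 m1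
  have hall : ∀ i : Fin 4, mv k (bv F i) = ρ • bv F i := fun i => by
    fin_cases i
    exacts [hμ 0, hμ 1, s2, hρ 1]
  have h4 : ρ ^ 4 = 1 := by
    have := hμn
    rw [nm, qFrob_three hF hq] at this
    linear_combination this
  refine su_ext fun i => ?_
  rw [show (k ^ 4 : SU 4 F q) = k * k * k * k by simp [pow_succ, mul_assoc], mv_one]
  simp only [mv_mul, hall, mv_smul, smul_smul]
  rw [show ρ * (ρ * (ρ * ρ)) = 1 by linear_combination h4, one_smul]

set_option maxHeartbeats 800000 in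
/-- Two neighbouring pairs inside an image of `SU₄(3)` extend to a homomorphism from `SU₄(3)`. -/
theorem triple_glue {G : Type*} [Group G] {V W A B C : Subgroup G} {Φ Φ' : SU 3 F q →* G}
    (P : WeakPair hF V A B Φ) (P' : WeakPair hF W B C Φ') (hAC : ∀ a ∈ A, ∀ c ∈ C, Commute a c)
    (compat : ∀ u, Φ (emb hF (sh 1 2 3 (by omega)) u) = Φ' (emb hF (sh 0 2 3 (by omega)) u))
    (g : SU 4 F q →* G) (hg : g.range = V ⊔ W) :
    ∃ χ : SU 4 F q →* G, (∀ x, χ (emb hF (sh 0 3 4 (by omega)) x) = Φ x) ∧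
      ∀ x, χ (emb hF (sh 1 3 4 (by omega)) x) = Φ' x := by
  set f0 := sh 0 2 3 (show 0 + 2 ≤ 3 by omega) with hf0
  set f1 := sh 1 2 3 (show 1 + 2 ≤ 3 by omega) with hf1
  set t := tt hF hq hω with ht
  set j := jj hF hq hω with hj
  set z := zz hF hq hω with hz
  have hq2 : 2 < q := by omega
  have hzne : z ≠ 1 := fun e => two_ne_three hF hq (by
    have := congrArg (fun x : SU 2 F q => x.1.1 0 0) e
    simp [hz, zz, el2] at this
    linear_combination -this)
  have injA := P.inj hF f0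
  have injB := P.inj hF f1
  have injC := P'.inj hF f1
  have hVg : ∀ x, Φ x ∈ g.range := fun x => hg.ge (Subgroup.mem_sup_left (P.full.le ⟨x, rfl⟩))
  have hWg : ∀ x, Φ' x ∈ g.range := fun x => hg.ge (Subgroup.mem_sup_right (P'.full.le ⟨x, rfl⟩))
  have hker : ∀ k, g k = 1 → (∀ x, Commute k x) ∧ k ^ 4 = 1 := ker_four hF hq hω g (by
    obtain ⟨x, hx⟩ := hVg (emb hF f0 z)
    exact ⟨x, fun e => hzne (injA ((hx.symm.trans e).trans (map_one _).symm))⟩)
  obtain ⟨α, hα⟩ := exists_lift hF hq hω g hker (Φ.comp (emb hF f0))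
    (by rintro _ ⟨u, rfl⟩; exact hVg _) injA
  obtain ⟨β, hβ⟩ := exists_lift hF hq hω g hker (Φ.comp (emb hF f1))
    (by rintro _ ⟨u, rfl⟩; exact hVg _) injB
  obtain ⟨γ, hγ⟩ := exists_lift hF hq hω g hker (Φ'.comp (emb hF f1))
    (by rintro _ ⟨u, rfl⟩; exact hWg _) injC
  have ga : ∀ u, g (α u) = Φ (emb hF f0 u) := fun u => DFunLike.congr_fun hα u
  have gb : ∀ u, g (β u) = Φ (emb hF f1 u) := fun u => DFunLike.congr_fun hβ u
  have gc : ∀ u, g (γ u) = Φ' (emb hF f1 u) := fun u => DFunLike.congr_fun hγ u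
  have gb' : ∀ u, g (β u) = Φ' (emb hF f0 u) := fun u => (gb u).trans (compat u)
  have scal : ∀ (x : SU 4 F q) (κ : F), (∀ i, mv x (bv F i) = κ • bv F i) → ∀ y, Commute (g x) (g y) := by
    intro x κ hx y
    refine Commute.map ?_ g
    refine su_ext fun i => ?_
    rw [mv_mul, mv_mul, hx, mv_smul]
    conv_lhs => rw [vec_four hF (mv y (bv F i))]
    conv_rhs => rw [vec_four hF (mv y (bv F i))]
    rw [mv_add, mv_add, mv_add, mv_smul, mv_smul, mv_smul, mv_smul, hx, hx, hx, hx]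
    module
  have nsα : ∀ κ : F, ∃ i, mv (α z) (bv F i) ≠ κ • bv F i := fun κ => by
    by_contra h
    push Not at h
    have e := scal _ κ h (β j)
    rw [ga, gb] at e
    exact weak_noncentral hF hq hω P e
  have nsβ : ∀ κ : F, ∃ i, mv (β z) (bv F i) ≠ κ • bv F i := fun κ => by
    by_contra h
    push Not at h
    have e := scal _ κ h (γ j)
    rw [gb', gc] at e
    exact weak_noncentral hF hq hω P' e
  have hγz : γ z ≠ 1 := fun e => hzne (injC (by
    show Φ' (emb hF f1 z) = Φ' (emb hF f1 1)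
    rw [← gc, e, map_one, map_one, map_one]))
  have hc : ∀ u v, Commute (α u) (γ v) := by
    intro u v
    have e : (MulAut.conj (γ v)).toMonoidHom.comp α = α := lift_unique hF hq hω g hker (MonoidHom.ext fun w => by
      show g (γ v * α w * (γ v)⁻¹) = g (α w)
      rw [map_mul, map_mul, map_inv, gc, ga,
        ← (hAC (Φ (emb hF f0 w)) (P.left.le ⟨w, rfl⟩) (Φ' (emb hF f1 v)) (P'.right.le ⟨v, rfl⟩)).eq,
        mul_inv_cancel_right])
    exact (mul_inv_eq_iff_eq_mul.1 (DFunLike.congr_fun e u)).symm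
  have hωn : nm hF ω = 1 := omega_nm hF hq hω
  have hωn' : nm hF (-ω) = 1 := (nm_neg hF ω).trans hωn
  have k1 : ∀ i : Fin 3, mv (emb hF f1 t) (bv F i) = ![1, ω, -ω] i • bv F i := fun i => by
    fin_cases i
    · show _ = (1 : F) • bv F (0 : Fin 3)
      rw [one_smul]
      exact emb_fix_bv hF _ _ (fun a => by fin_cases a <;> simp [hf1, Fin.ext_iff, sh_val])
    · exact emb_mv_bv hF f1 t 0 0 _ (tt_mv_zero hF hq hω)
    · exact emb_mv_bv hF f1 t 1 1 _ (tt_mv_one hF hq hω)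
  have k1n : ∀ i : Fin 3, nm hF (![1, ω, -ω] i) = 1 := fun i => by
    fin_cases i
    exacts [nm_one hF, hωn, hωn']
  have k0 : ∀ i : Fin 3, mv (emb hF f0 t) (bv F i) = ![ω, -ω, 1] i • bv F i := fun i => by
    fin_cases i
    · exact emb_mv_bv hF f0 t 0 0 _ (tt_mv_zero hF hq hω)
    · exact emb_mv_bv hF f0 t 1 1 _ (tt_mv_one hF hq hω)
    · show _ = (1 : F) • bv F (2 : Fin 3)
      rw [one_smul]
      exact emb_fix_bv hF _ _ (fun a => by fin_cases a <;> simp [hf0, Fin.ext_iff, sh_val])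
  have k0n : ∀ i : Fin 3, nm hF (![ω, -ω, 1] i) = 1 := fun i => by
    fin_cases i
    exacts [hωn, hωn', nm_one hF]
  have key : ∀ (d d' : Fin 2 → F) (hd : ∀ i, nm hF (d i) = 1) (hd' : ∀ i, nm hF (d' i) = 1) (u : SU 2 F q),
      d = d' → tw hF (RingEquiv.refl F) d hd u = tw hF (RingEquiv.refl F) d' hd' u :=
    fun d d' hd hd' u e => by subst e; rfl
  have Rα : ∀ (d : Fin 2 → F) (hd : ∀ i, nm hF (d i) = 1), d = ![1, ω] → ∀ u,
      β t * α u * (β t)⁻¹ = α (tw hF (RingEquiv.refl F) d hd u) := by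
    intro d hd de u
    refine DFunLike.congr_fun (lift_unique hF hq hω g hker
      (f := (MulAut.conj (β t)).toMonoidHom.comp α) (f' := α.comp (tw hF (RingEquiv.refl F) d hd))
      (MonoidHom.ext fun w => ?_)) u
    show g (β t * α w * (β t)⁻¹) = g (α _)
    rw [map_mul, map_mul, map_inv, gb, ga, ga, ← map_inv, ← map_mul, ← map_mul,
      conj_eq_tw hF k1 k1n, tw_emb]
    exact congrArg (fun x => Φ (emb hF f0 x))
      (key _ _ _ _ w (de ▸ funext fun a => by fin_cases a <;> rfl))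
  have Rγ : ∀ (d : Fin 2 → F) (hd : ∀ i, nm hF (d i) = 1), d = ![-ω, 1] → ∀ u,
      β t * γ u * (β t)⁻¹ = γ (tw hF (RingEquiv.refl F) d hd u) := by
    intro d hd de u
    refine DFunLike.congr_fun (lift_unique hF hq hω g hker
      (f := (MulAut.conj (β t)).toMonoidHom.comp γ) (f' := γ.comp (tw hF (RingEquiv.refl F) d hd))
      (MonoidHom.ext fun w => ?_)) u
    show g (β t * γ w * (β t)⁻¹) = g (γ _)
    rw [map_mul, map_mul, map_inv, gb', gc, gc, ← map_inv, ← map_mul, ← map_mul,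
      conj_eq_tw hF k0 k0n, tw_emb]
    exact congrArg (fun x => Φ' (emb hF f1 x))
      (key _ _ _ _ w (de ▸ funext fun a => by fin_cases a <;> rfl))
  have R2 : ∀ u, α z * β u * (α z)⁻¹ = β (t * u * t⁻¹) := by
    intro u
    refine DFunLike.congr_fun (lift_unique hF hq hω g hker
      (f := (MulAut.conj (α z)).toMonoidHom.comp β) (f' := β.comp (MulAut.conj t).toMonoidHom)
      (MonoidHom.ext fun w => ?_)) u
    show g (α z * β w * (α z)⁻¹) = g (β (t * w * t⁻¹))
    have kz : ∀ i : Fin 3, mv (emb hF f0 z) (bv F i) = (![-1, -1, 1] : Fin 3 → F) i • bv F i := fun i => by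
      fin_cases i
      · exact emb_mv_bv hF f0 _ 0 0 _ (zz_mv hF hq hω 0)
      · exact emb_mv_bv hF f0 _ 1 1 _ (zz_mv hF hq hω 1)
      · show _ = (1 : F) • bv F (2 : Fin 3)
        rw [one_smul]
        exact emb_fix_bv hF _ _ (fun a => by fin_cases a <;> simp [hf0, Fin.ext_iff, sh_val])
    have kzn : ∀ i : Fin 3, nm hF ((![-1, -1, 1] : Fin 3 → F) i) = 1 := fun i => by
      fin_cases i
      exacts [(nm_neg hF 1).trans (nm_one hF), (nm_neg hF 1).trans (nm_one hF), nm_one hF]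
    have kt : ∀ i : Fin 2, mv t (bv F i) = ![ω, -ω] i • bv F i := fun i => by
      fin_cases i
      exacts [tt_mv_zero hF hq hω, tt_mv_one hF hq hω]
    have ktn : ∀ i : Fin 2, nm hF (![ω, -ω] i) = 1 := fun i => by
      fin_cases i
      exacts [hωn, hωn']
    rw [map_mul, map_mul, map_inv, ga, gb, gb, ← map_inv, ← map_mul, ← map_mul,
      conj_eq_tw hF kz kzn, tw_emb, conj_eq_tw hF kt ktn]
    refine congrArg (fun x => Φ (emb hF f1 x)) ?_
    refine Subtype.ext (Subtype.ext (Matrix.ext fun a b => ?_))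
    rw [tw_apply, tw_apply]
    have hω0 := omega_ne hF hq hω
    fin_cases a <;> fin_cases b <;>
      simp [Function.comp_apply, show f1 (0 : Fin 2) = (1 : Fin 3) from rfl,
        show f1 (1 : Fin 2) = (2 : Fin 3) from rfl] <;> field_simp
  obtain ⟨Θ, hΘα, hΘβ, hΘγ⟩ := triple_frame hF hq hω α β γ nsα nsβ hγz hc Rα Rγ R2
  refine ⟨g.comp Θ.toMonoidHom, fun x => ?_, fun x => ?_⟩
  · have top : (g.comp (Θ.toMonoidHom.comp (emb hF (sh 0 3 4 (by omega))))).eqLocus Φ = ⊤ :=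
      closure_blocks hF hq2 (by omega) fun i hi => by
        rintro _ ⟨u, rfl⟩
        show g (Θ (emb hF (sh 0 3 4 (by omega)) (emb hF (sh i 2 3 hi) u))) = Φ (emb hF (sh i 2 3 hi) u)
        rw [emb_trans, sh_trans]
        obtain rfl | rfl : i = 0 ∨ i = 1 := by omega
        · exact (congrArg g (hΘα u).symm).trans (ga u)
        · exact (congrArg g (hΘβ u).symm).trans (gb u)
    exact (show x ∈ _ from top.ge (Subgroup.mem_top x))
  · have top : (g.comp (Θ.toMonoidHom.comp (emb hF (sh 1 3 4 (by omega))))).eqLocus Φ' = ⊤ :=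
      closure_blocks hF hq2 (by omega) fun i hi => by
        rintro _ ⟨u, rfl⟩
        show g (Θ (emb hF (sh 1 3 4 (by omega)) (emb hF (sh i 2 3 hi) u))) = Φ' (emb hF (sh i 2 3 hi) u)
        rw [emb_trans, sh_trans]
        obtain rfl | rfl : i = 0 ∨ i = 1 := by omega
        · exact (congrArg g (hΘβ u).symm).trans (gb' u)
        · exact (congrArg g (hΘγ u).symm).trans (gc u)
    exact (show x ∈ _ from top.ge (Subgroup.mem_top x))

omit hq hω in
/-- A weak Phan system over nine elements, with images of `SU₄(3)` on consecutive triples. -/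
theorem weak_system_three (hq : q = 3) {G : Type*} [Group G] {n : ℕ} (hn : 4 ≤ n) (U : ℕ → Subgroup G)
    (V : ℕ → Subgroup G) (hcomm : ∀ i j, i + 2 ≤ j → j < n → ∀ x ∈ U i, ∀ y ∈ U j, Commute x y)
    (hp : ∀ i, i + 1 < n → ∃ Ψ, WeakPair hF (V i) (U i) (U (i + 1)) Ψ)
    (htri : ∀ i, i + 2 < n → ∃ g : SU 4 F q →* G, g.range = V i ⊔ V (i + 1)) :
    ∃ φ : SU (n + 1) F q →* G, (∀ i, i < n → U i ≤ φ.range) ∧ ∀ i, i + 1 < n → V i ≤ φ.range := by
  obtain ⟨ω, hω⟩ := exists_omega hF hq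
  have hq2 : 2 < q := by omega
  obtain ⟨Ψ₀, hΨ₀⟩ := hp 0 (by omega)
  have step : ∀ (k : ℕ) (Ψ : SU 3 F q →* G), ∃ Ψ' : SU 3 F q →* G,
      (k + 1 < n → WeakPair hF (V k) (U k) (U (k + 1)) Ψ) → k + 2 < n →
        WeakPair hF (V (k + 1)) (U (k + 1)) (U (k + 2)) Ψ' ∧
        ∀ u, Ψ (emb hF (sh 1 2 3 (by omega)) u) = Ψ' (emb hF (sh 0 2 3 (by omega)) u) := by
    intro k Ψ
    by_cases h : (k + 1 < n → WeakPair hF (V k) (U k) (U (k + 1)) Ψ) ∧ k + 2 < n
    · obtain ⟨hP, hk⟩ := h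
      obtain ⟨Ψ₁, hΨ₁⟩ := hp (k + 1) hk
      obtain ⟨Ψ', h'⟩ := weak_adjust hF hq2 (hP (by omega)) hΨ₁ (hcomm k (k + 2) le_rfl hk)
      exact ⟨Ψ', fun _ _ => h'⟩
    · exact ⟨Ψ, fun a b => absurd ⟨a, b⟩ h⟩
  choose next hnext using step
  let Φ : ℕ → SU 3 F q →* G := fun i => Nat.rec Ψ₀ next i
  have hall : ∀ i, i + 1 < n → WeakPair hF (V i) (U i) (U (i + 1)) (Φ i) := by
    intro i
    induction i with
    | zero => exact fun _ => hΨ₀
    | succ k ih => exact fun h => (hnext k (Φ k) ih h).1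
  obtain ⟨φ, hφ⟩ := exists_glued_four hF hq n U hcomm Φ
    (fun i hi u => (hall i hi).left.le ⟨u, rfl⟩) (fun i hi u => (hall i hi).right.le ⟨u, rfl⟩)
    (fun i hi => (hnext i (Φ i) (hall i) hi).2)
    (fun k hk => by
      obtain ⟨g, hg⟩ := htri k (by omega)
      obtain ⟨χ, h0, h1⟩ := triple_glue hF hq hω (hall k (by omega)) (hall (k + 1) (by omega))
        (hcomm k (k + 2) le_rfl (by omega)) (hnext k (Φ k) (hall k) (by omega)).2 g hg
      refine ⟨χ, fun i h x => ?_⟩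
      obtain rfl | rfl : i = 0 ∨ i = 1 := by omega
      · exact h0 x
      · exact h1 x)
    (n + 1) (by omega) 0 (by omega)
  have hV : ∀ i, i + 1 < n → V i ≤ φ.range := fun i hi x hx => by
    obtain ⟨g, rfl⟩ := (hall i hi).full.ge hx
    exact ⟨emb hF (sh i 3 (n + 1) (by omega)) g, by rw [hφ i (by omega), zero_add]⟩
  refine ⟨φ, fun i hi => ?_, hV⟩
  by_cases h : i + 1 < n
  · intro x hx
    obtain ⟨u, rfl⟩ := (hall i h).left.ge hx
    exact hV i h ((hall i h).full.le ⟨_, rfl⟩)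
  · obtain ⟨j, rfl⟩ : ∃ j, i = j + 1 := ⟨i - 1, by omega⟩
    intro x hx
    obtain ⟨u, rfl⟩ := (hall j (by omega)).right.ge hx
    exact hV j (by omega) ((hall j (by omega)).full.le ⟨_, rfl⟩)

end Cfsg.Agent.Recog.Phan
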