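import Cfsg.Agent.Lib.Recog.PhanThreeTwo

/-!
Frames for homomorphisms from `SU₂(3)` into larger unitary groups.
-/

set_option autoImplicit false
set_option linter.unusedSectionVars false

namespace Cfsg.Agent.Recog.Phan

open Matrix Cfsg.Agent.Classical Cfsg.Agent.Lie.SpnPres

variable {F : Type*} [Field F] [Fintype F] {q : ℕ} (hF : Fintype.card F = q ^ 2)

include hF

theorem mv_sub {n : ℕ} (g : SU n F q) (u v : Fin n → F) : mv g (u - v) = mv g u - mv g v := by
  have _ := hF
  exact Matrix.mulVec_sub _ _ _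

/-- A mulEquiv from a diagonal twist. -/
noncomputable def twE {n : ℕ} (τ : F ≃+* F) (c : Fin n → F) (hc : ∀ i, nm hF (c i) = 1) :
    MulAut (SU n F q) :=
  MulEquiv.ofBijective (tw hF τ c hc) ⟨tw_injective hF τ c hc, tw_surjective hF τ c hc⟩

theorem twE_apply {n : ℕ} (τ : F ≃+* F) (c : Fin n → F) (hc : ∀ i, nm hF (c i) = 1) (g : SU n F q) :
    twE hF τ c hc g = tw hF τ c hc g := rfl

theorem tw_scalar {n : ℕ} (c : Fin n → F) (hc : ∀ i, nm hF (c i) = 1) (hcc : ∀ i j, c i = c j)
    (g : SU n F q) : tw hF (RingEquiv.refl F) c hc g = g := by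
  refine su_ext fun j => funext fun i => ?_
  rw [tw_mv_bv, RingEquiv.refl_apply, hcc i j,
    mul_comm (c j), mul_assoc, mul_inv_cancel₀ (fun e => ?_), mul_one]
  have := hc j
  rw [e, nm_zero] at this
  exact zero_ne_one this

variable (hq : q = 3) {ω : F} (hω : ω * ω = -1)

include hq hω

theorem tt_mv_zero : mv (tt hF hq hω) (bv F 0) = ω • bv F 0 := by
  rw [tt, el2_mv_zero]; funext i; fin_cases i <;> simp [bv]

theorem tt_mv_one : mv (tt hF hq hω) (bv F 1) = (-ω) • bv F 1 := by
  funext i; fin_cases i <;> simp [mv, tt, el2, bv, omega_conj hF hq hω]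

theorem jj_mv_zero : mv (jj hF hq hω) (bv F 0) = (1 : F) • bv F 1 := by
  rw [jj, el2_mv_zero]; funext i; fin_cases i <;> simp [bv]

theorem jj_mv_one : mv (jj hF hq hω) (bv F 1) = (-1 : F) • bv F 0 := by
  funext i; fin_cases i <;> simp [mv, jj, el2, bv]

theorem zz_mv (i : Fin 2) : mv (zz hF hq hω) (bv F i) = (-1 : F) • bv F i := by
  funext x; fin_cases i <;> fin_cases x <;> simp [mv, zz, el2, bv]

theorem omega_ne_one : ω ≠ 1 := fun e => two_ne_three hF hq (by rw [e] at hω; linear_combination hω)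

theorem tt_jj_tt : tt hF hq hω * jj hF hq hω * tt hF hq hω = jj hF hq hω := by
  have htn : nm hF (0 : F) + nm hF (-ω) = 1 := by rw [nm_zero, nm_neg, omega_nm hF hq hω, zero_add]
  rw [tt, jj, el2_mul' hF (e := (0 : F)) (f := -ω) (h'' := htn) (by rw [map_zero]; ring)
    (by rw [omega_conj hF hq hω]; ring)]
  exact el2_mul' hF (by rw [map_neg, omega_conj hF hq hω]; ring) (by linear_combination -hω)

/-- The involution is the only one. -/
theorem eq_zz_of_sq {u : SU 2 F q} (h : u * u = 1) : u = 1 ∨ u = zz hF hq hω := by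
  obtain ⟨a, b, hab, rfl⟩ := el2_surj hF u
  have e0 := congrArg (fun x => mv x (bv F (0 : Fin 2))) h
  simp only [mv_mul, mv_one, el2_mv_zero] at e0
  have h0 := congrFun e0 0
  have h1 := congrFun e0 1
  simp [mv, el2, Matrix.mulVec, dotProduct, Fin.sum_univ_two, bv] at h0 h1
  simp only [nm] at hab
  have hb : b = 0 := by
    have e : b * (a + qFrob hF a) = 0 := by linear_combination h1
    rcases mul_eq_zero.1 e with e | e
    · exact e
    · exfalso
      exact two_ne_three hF hq (by linear_combination -h0 - hab + a * e)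
  subst hb
  simp at h0
  have : a = 1 ∨ a = -1 := mul_self_eq_one_iff.1 h0
  rcases this with rfl | rfl
  · left
    refine Subtype.ext (Subtype.ext ?_)
    show !![(1 : F), -qFrob hF 0; 0, qFrob hF 1] = 1
    simp [Matrix.one_fin_two]
  · right; rfl

/-- An eigenvalue `ω` of an element of exponent four has a unit eigenvector. -/
theorem exists_unit_eigen {n : ℕ} (T : SU n F q) (hT : T ^ 4 = 1) {v : Fin n → F} (hv : v ≠ 0)
    (hev : mv T v = ω • v) : ∃ f, hm hF f f = 1 ∧ mv T f = ω • f := by
  have two := two_ne_three hF hq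
  have scale : ∀ w, mv T w = ω • w → hm hF w w ≠ 0 → ∃ f, hm hF f f = 1 ∧ mv T f = ω • f := by
    intro w hw hne
    obtain ⟨c, hc⟩ := exists_nm hF (hm_self_fix hF w)
    exact ⟨c⁻¹ • w, by rw [hm_self_smul, nm_inv, hc, inv_mul_cancel₀ hne],
      by rw [mv_smul, hw, smul_comm]⟩
  by_cases hvv : hm hF v v = 0
  swap; · exact scale v hev hvv
  obtain ⟨y, hy⟩ := exists_dual hF hv
  have hy' : hm hF v y = 1 := by rw [← hm_symm hF y v, hy, map_one]
  have hs : qFrob hF ω = -ω := omega_conj hF hq hω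
  have hpow : ∀ k : ℕ, mv (T ^ k) v = ω ^ k • v := by
    intro k
    induction k with
    | zero => rw [pow_zero, pow_zero, mv_one, one_smul]
    | succ k ih => rw [pow_succ', mv_mul, ih, mv_smul, hev, smul_smul, pow_succ]
  have key : ∀ k : ℕ, hm hF v (mv (T ^ k) y) * ω ^ k = 1 := fun k => by
    have e := mv_form hF (T ^ k) v y
    rw [hpow, hm_smul_left, hy'] at e
    linear_combination e
  have k1 := key 1
  have k2 := key 2
  have k3 := key 3
  rw [pow_one, pow_one] at k1
  obtain ⟨p, hp⟩ : ∃ p, p = y + (-ω) • mv T y + (-1 : F) • mv (T ^ 2) y + ω • mv (T ^ 3) y := ⟨_, rfl⟩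
  have hpev : mv T p = ω • p := by
    have e4 : mv T (mv (T ^ 3) y) = y := by rw [← mv_mul, ← pow_succ', hT, mv_one]
    have e2 : mv T (mv T y) = mv (T ^ 2) y := by rw [pow_two, mv_mul]
    have e3 : mv T (mv (T ^ 2) y) = mv (T ^ 3) y := by rw [← mv_mul, ← pow_succ']
    rw [hp, mv_add, mv_add, mv_add, mv_smul, mv_smul, mv_smul, e4, e2, e3]
    funext i
    simp only [Pi.add_apply, Pi.smul_apply, smul_eq_mul]
    linear_combination (mv T y i) * hω - (mv (T ^ 3) y i) * hω
  have hvp : hm hF v p = 1 := by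
    have h3 := three_zero_of_three hF hq
    rw [hp, hm_add_right, hm_add_right, hm_add_right, hm_smul_right, hm_smul_right, hm_smul_right, hy',
      map_neg, hs, map_neg, map_one]
    linear_combination k1 + k2 + k3 + h3 + (-(hm hF v (mv (T ^ 2) y)) - ω * hm hF v (mv (T ^ 3) y)) * hω
  by_cases hpp : hm hF p p = 0
  swap; · exact scale p hpev hpp
  refine scale (v + p) (by rw [mv_add, hev, hpev, smul_add]) ?_
  rw [hm_add_left, hm_add_right, hm_add_right, hvv, hpp, hvp, ← hm_symm hF v p, hvp, map_one, zero_add,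
    add_zero, one_add_one_eq_two]
  exact two

/-- A unit eigenvector for the diagonal generator. -/
theorem exists_unit_tt {n : ℕ} (α : SU 2 F q →* SU n F q) (hne : α (zz hF hq hω) ≠ 1) :
    ∃ f, hm hF f f = 1 ∧ mv (α (tt hF hq hω)) f = ω • f ∧
      hm hF (mv (α (jj hF hq hω)) f) f = 0 := by
  set T := α (tt hF hq hω) with hT
  set J := α (jj hF hq hω) with hJ
  set z := α (zz hF hq hω) with hz
  have hzz : z * z = 1 := by rw [hz, ← map_mul, zz_sq, map_one]
  have hTT : T * T = z := by rw [hT, hz, ← map_mul, tt_sq]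
  have hT4 : T ^ 4 = 1 := by
    rw [show 4 = 2 + 2 from rfl, pow_add, pow_two, hTT, hzz]
  obtain ⟨u, hu0, hu⟩ : ∃ u, u ≠ 0 ∧ mv z u = -u := by
    obtain ⟨i, hi⟩ : ∃ i, mv z (bv F i) ≠ bv F i := by
      by_contra h
      push Not at h
      exact hne (su_ext fun i => by rw [h, mv_one])
    refine ⟨bv F i - mv z (bv F i), sub_ne_zero.2 hi.symm, ?_⟩
    rw [mv_sub hF, ← mv_mul, hzz, mv_one, neg_sub]
  have hTu : mv T (mv T u) = -u := by rw [← mv_mul, hTT, hu]
  obtain ⟨v, hv0, hv⟩ : ∃ v, v ≠ 0 ∧ mv T v = ω • v := by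
    by_cases h : mv T u + ω • u = 0
    · refine ⟨mv J u, fun e => hu0 ?_, ?_⟩
      · have := congrArg (mv J⁻¹) e
        rw [mv_inv_cancel, mv, Matrix.mulVec_zero] at this
        exact this
      · have e1 : mv T u = (-ω) • u := by rw [eq_neg_of_add_eq_zero_left h, neg_smul]
        have h1 : T * J * T = J := by rw [hT, hJ, ← map_mul, ← map_mul, tt_jj_tt]
        have h2 := congrArg (fun x => mv x u) h1
        simp only [mv_mul] at h2
        rw [e1, mv_smul, mv_smul] at h2
        have hω0 := omega_ne hF hq hω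
        have h3 : mv T (mv J u) = (-ω)⁻¹ • mv J u := by
          conv_rhs => rw [← h2]
          rw [inv_smul_smul₀ (neg_ne_zero.2 hω0)]
        rw [h3]
        congr 1
        exact inv_eq_of_mul_eq_one_right (by linear_combination -hω)
    · refine ⟨_, h, ?_⟩
      rw [mv_add, hTu, mv_smul]
      funext i
      simp only [Pi.add_apply, Pi.smul_apply, Pi.neg_apply, smul_eq_mul]
      linear_combination (-(u i)) * hω
  obtain ⟨f, hf, hTf⟩ := exists_unit_eigen hF hq hω T hT4 hv0 hv
  refine ⟨f, hf, hTf, ?_⟩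
  have h1 : T * J * T = J := by rw [hT, hJ, ← map_mul, ← map_mul, tt_jj_tt]
  have h2 := congrArg (fun x => mv x f) h1
  simp only [mv_mul] at h2
  rw [hTf, mv_smul, mv_smul] at h2
  have h3 := mv_form hF T (mv J f) f
  rw [hTf, hm_smul_right, omega_conj hF hq hω] at h3
  have h4 : ω * hm hF (mv T (mv J f)) f = hm hF (mv J f) f := by rw [← hm_smul_left, h2]
  have : (1 + 1 : F) * hm hF (mv J f) f = 0 := by linear_combination -h3 - h4
  exact (mul_eq_zero.1 this).resolve_left (by rw [one_add_one_eq_two]; exact two_ne_three hF hq)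

/-- Whatever commutes with two generators of a block is scalar on the block. -/
theorem block_scalar {n : ℕ} (f : Fin 2 ↪ Fin n) {x : SU n F q}
    (ht : Commute x (emb hF f (tt hF hq hω))) (hj : Commute x (emb hF f (jj hF hq hω))) :
    ∃ κ : F, nm hF κ = 1 ∧ ∀ a, mv x (bv F (f a)) = κ • bv F (f a) := by
  set v := mv x (bv F (f 0)) with hv
  have et : mv (emb hF f (tt hF hq hω)) v = ω • v := by
    rw [hv, ← mv_mul, ← ht.eq, mv_mul, emb_mv_bv hF f _ 0 0 ω (tt_mv_zero hF hq hω), mv_smul]
  have hw : v = v (f 0) • bv F (f 0) := by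
    funext i
    by_cases hi : i = f 0
    · subst hi; simp [bv]
    have e := congrFun et i
    rw [Pi.smul_apply, smul_eq_mul] at e
    have : v i = 0 := by
      by_cases hr : ∃ a, f a = i
      · obtain ⟨a, rfl⟩ := hr
        have ha : a = 1 := by
          fin_cases a
          · exact absurd rfl hi
          · rfl
        subst ha
        rw [emb_mv_in] at e
        have e' : mv (tt hF hq hω) (v ∘ f) 1 = -ω * v (f 1) := by
          simp [mv, tt, el2, Matrix.mulVec, dotProduct, Fin.sum_univ_two, omega_conj hF hq hω]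
        rw [e'] at e
        have : (1 + 1 : F) * (ω * v (f 1)) = 0 := by linear_combination -e
        rcases mul_eq_zero.1 this with h | h
        · exact absurd (by rwa [one_add_one_eq_two] at h) (two_ne_three hF hq)
        · exact (mul_eq_zero.1 h).resolve_left (omega_ne hF hq hω)
      · push Not at hr
        rw [emb_mv_out hF f _ _ hr] at e
        have : (ω - 1) * v i = 0 := by linear_combination -e
        exact (mul_eq_zero.1 this).resolve_left (sub_ne_zero.2 (omega_ne_one hF hq hω))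
    simp [bv, hi, this]
  refine ⟨v (f 0), ?_, fun a => ?_⟩
  · have e := mv_form hF x (bv F (f 0)) (bv F (f 0))
    rw [← hv, hw, hm_self_smul, hm_bv, if_pos rfl, mul_one] at e
    exact e
  · fin_cases a
    · exact hw
    · have e1 : bv F (f 1) = mv (emb hF f (jj hF hq hω)) (bv F (f 0)) := by
        rw [emb_mv_bv hF f _ 0 1 1 (jj_mv_zero hF hq hω), one_smul]
      show mv x (bv F (f 1)) = v (f 0) • bv F (f 1)
      rw [e1, ← mv_mul, hj.eq, mv_mul, ← hv]
      conv_lhs => rw [hw]
      rw [mv_smul]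

/-- A homomorphism commuting with a block fixes the block. -/
theorem fix_block {n : ℕ} (f : Fin 2 ↪ Fin n) (γ : SU 2 F q →* SU n F q)
    (ht : ∀ u, Commute (γ u) (emb hF f (tt hF hq hω))) (hj : ∀ u, Commute (γ u) (emb hF f (jj hF hq hω)))
    (u : SU 2 F q) (a : Fin 2) : mv (γ u) (bv F (f a)) = bv F (f a) := by
  choose κ hκn hκ using fun u => block_scalar hF hq hω f (ht u) (hj u)
  have h0 : ∀ u, κ u ≠ 0 := fun u e => by
    have := hκn u; rw [e, nm_zero] at this; exact zero_ne_one this
  have hinj : ∀ {x y : F}, x • bv F (f 0) = y • bv F (f 0) → x = y := fun e => by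
    simpa [bv] using congrFun e (f 0)
  let k : SU 2 F q →* Fˣ :=
    { toFun := fun u => Units.mk0 (κ u) (h0 u)
      map_one' := Units.ext (hinj (by
        show κ 1 • _ = (1 : F) • _
        rw [← hκ 1 0, map_one, mv_one, one_smul]))
      map_mul' := fun u v => Units.ext (hinj (by
        rw [Units.val_mk0, ← hκ (u * v) 0, map_mul, mv_mul, hκ v 0, mv_smul, hκ u 0, smul_smul, mul_comm]
        rfl)) }
  have hk := hom_four hF hq hω k (fun u => Units.ext (by
    have e := hκn u
    rw [nm, qFrob_three hF hq] at e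
    rw [Units.val_pow_eq_pow_val, Units.val_one]
    show κ u ^ 4 = 1
    linear_combination e)) u
  rw [hκ u a, show κ u = 1 from congrArg Units.val hk, one_smul]

/-- An endomorphism fixing two generators is trivial. -/
theorem endo_fix (θ : SU 2 F q →* SU 2 F q) (ht : θ (tt hF hq hω) = tt hF hq hω)
    (hj : θ (jj hF hq hω) = jj hF hq hω) : θ = MonoidHom.id _ := by
  set r := rr hF hq hω with hr
  set t := tt hF hq hω with htd
  set j := jj hF hq hω with hjd
  obtain ⟨x, hx⟩ : ∃ x, x = r⁻¹ * θ r := ⟨_, rfl⟩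
  have e1 : θ r * t = j * θ r := by
    conv_lhs => rw [← ht]
    rw [← map_mul, hr, htd, rr_tt, map_mul, ← hjd, hj]
  have e2 : θ r * j = t * j * θ r := by
    conv_lhs => rw [← hj]
    rw [← map_mul, hr, hjd, rr_jj, map_mul, map_mul, ← hjd, hj, ← htd, ht]
  have c1 : Commute x t := by
    rw [hx]
    show r⁻¹ * θ r * t = t * (r⁻¹ * θ r)
    rw [mul_assoc, e1, show t * (r⁻¹ * θ r) = r⁻¹ * (r * t) * r⁻¹ * θ r by group, hr, htd, rr_tt]
    rw [← hjd]; group
  have c2 : Commute x j := by
    rw [hx]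
    show r⁻¹ * θ r * j = j * (r⁻¹ * θ r)
    rw [mul_assoc, e2, show j * (r⁻¹ * θ r) = r⁻¹ * (r * j) * r⁻¹ * θ r by group, hr, hjd, rr_jj]
    rw [← htd]; group
  have emb_id : ∀ u : SU 2 F q, emb hF (Function.Embedding.refl (Fin 2)) u = u := fun u =>
    su_ext fun i => funext fun y => emb_mv_in hF (Function.Embedding.refl (Fin 2)) u (bv F i) y
  obtain ⟨κ, -, hκ⟩ := block_scalar hF hq hω (Function.Embedding.refl (Fin 2)) (x := x)
    (by rw [emb_id]; exact c1) (by rw [emb_id]; exact c2)
  have cr : Commute r x := su_ext fun i => by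
    rw [mv_mul, mv_mul, show mv x (bv F i) = κ • bv F i from hκ i, mv_smul]
    funext y
    rw [show mv r (bv F i) = ∑ z, mv r (bv F i) z • bv F z from funext fun w => by
      simp [Finset.sum_apply, bv, Pi.single_apply]]
    rw [show ∀ g : Fin 2 → F, mv x (∑ z, g z • bv F z) = ∑ z, g z • mv x (bv F z) from fun g => by
      simp only [Fin.sum_univ_two, mv_add, mv_smul]]
    simp only [Fin.sum_univ_two, show ∀ z, mv x (bv F z) = κ • bv F z from hκ, smul_smul, Pi.add_apply,
      Pi.smul_apply, smul_eq_mul]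
    ring
  have hθ : θ r = r * x := by rw [hx, mul_inv_cancel_left]
  have h3 : θ r * θ r * θ r = 1 := by rw [← map_mul, ← map_mul, hr, rr_cube, map_one]
  rw [hθ] at h3
  have hr3 : r * r * r = 1 := by rw [hr, rr_cube]
  have x3 : x * x * x = 1 := by
    calc x * x * x = r * r * r * (x * x * x) := by rw [hr3, one_mul]
      _ = r * x * (r * x) * (r * x) := by
        rw [show r * x * (r * x) = r * r * (x * x) by
          rw [mul_assoc r x, ← mul_assoc x r, ← cr.eq]; group]
        have c2 : Commute (x * x) r := (cr.symm.mul_left cr.symm)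
        rw [mul_assoc (r * r) (x * x), ← mul_assoc (x * x) r x, c2.eq]
        group
      _ = 1 := h3
  have x4 : x ^ 4 = 1 := by
    obtain ⟨a, b, hab, he⟩ := el2_surj hF x
    have hb : b = 0 := by
      have := congrFun (hκ 0) 1
      rw [Function.Embedding.refl_apply, he, el2_mv_zero] at this
      simpa [bv] using this
    subst hb
    refine su_ext fun i => ?_
    have hpow : ∀ k : ℕ, mv (x ^ k) (bv F i) = κ ^ k • bv F i := by
      intro k
      induction k with
      | zero => rw [pow_zero, pow_zero, mv_one, one_smul]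
      | succ k ih => rw [pow_succ', mv_mul, ih, mv_smul, show mv x (bv F i) = κ • bv F i from hκ i,
          smul_smul, pow_succ]
    rw [hpow, mv_one]
    have hn : nm hF κ = 1 := by
      have e := mv_form hF x (bv F 0) (bv F 0)
      rw [show mv x (bv F 0) = κ • bv F 0 from hκ 0, hm_self_smul, hm_bv, if_pos rfl, mul_one] at e
      exact e
    rw [nm, qFrob_three hF hq] at hn
    rw [show κ ^ 4 = 1 by linear_combination hn, one_smul]
  have hx1 : x = 1 := by
    have : x ^ 4 = x * x * x * x := by simp [pow_succ]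
    rw [x3, one_mul] at this
    rw [← this, x4]
  refine hom_ext3 hF hq hω ?_ ?_ ?_
  · exact ht
  · exact hj
  · show θ r = r
    rw [hθ, hx1, mul_one]

/-- An endomorphism not killing the involution is a twist. -/
theorem endo_twist (θ : SU 2 F q →* SU 2 F q) (hne : θ (zz hF hq hω) ≠ 1) :
    ∃ (h : SU 2 F q) (c : F) (hc : ∀ i, nm hF (![1, c] i) = 1),
      ∀ u, θ u = h * tw hF (RingEquiv.refl F) ![1, c] hc u * h⁻¹ := by
  obtain ⟨f, hf, hTf, -⟩ := exists_unit_tt hF hq hω θ hne
  have hn : nm hF (f 0) + nm hF (f 1) = 1 := by simpa [hm_eq, Fin.sum_univ_two, nm] using hf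
  set h := el2 hF (f 0) (f 1) hn with hh
  have h0 : mv h (bv F 0) = f := by
    rw [hh, el2_mv_zero]; funext i; fin_cases i <;> rfl
  set θ' : SU 2 F q →* SU 2 F q := (MulAut.conj h⁻¹).toMonoidHom.comp θ with hθ'
  have hθ'a : ∀ u, θ' u = h⁻¹ * θ u * h := fun u => by
    show h⁻¹ * θ u * (h⁻¹)⁻¹ = _
    rw [inv_inv]
  have ht : θ' (tt hF hq hω) = tt hF hq hω := by
    obtain ⟨a, b, hab, he⟩ := el2_surj hF (θ' (tt hF hq hω))
    have e : mv (θ' (tt hF hq hω)) (bv F 0) = ω • bv F 0 := by
      rw [hθ'a, mv_mul, mv_mul, h0, hTf, mv_smul, ← h0, mv_inv_cancel]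
    rw [he, el2_mv_zero] at e
    have ea := congrFun e 0
    have eb := congrFun e 1
    simp [bv] at ea eb
    rw [he]
    exact el2_congr hF ea eb
  obtain ⟨c, hc1, hj⟩ : ∃ c, ∃ hc : nm hF c = 1,
      θ' (jj hF hq hω) = el2 hF 0 c (by rw [nm_zero, hc, zero_add]) := by
    obtain ⟨a, b, hab, he⟩ := el2_surj hF (θ' (jj hF hq hω))
    have h1 := congrArg θ' (tt_jj_tt hF hq hω)
    rw [map_mul, map_mul, ht, he] at h1
    have e := congrArg (fun x => mv x (bv F (0 : Fin 2)) 0) h1
    simp only [mv_mul, tt_mv_zero, mv_smul, el2_mv_zero] at e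
    simp [mv, tt, el2, Matrix.mulVec, dotProduct, Fin.sum_univ_two] at e
    have ha : a = 0 := by
      have : (1 + 1 : F) * a = 0 := by linear_combination -e + a * hω
      exact (mul_eq_zero.1 this).resolve_left (by rw [one_add_one_eq_two]; exact two_ne_three hF hq)
    subst ha
    exact ⟨b, by rwa [nm_zero, zero_add] at hab, he⟩
  have hc : ∀ i, nm hF (![1, c] i) = 1 := fun i => by
    fin_cases i
    exacts [nm_one hF, hc1]
  have htt : tw hF (RingEquiv.refl F) ![1, c] hc (tt hF hq hω) = tt hF hq hω := by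
    refine su_ext fun j => funext fun i => ?_
    rw [tw_mv_bv]
    have c0 : c ≠ 0 := fun e => by rw [e, nm_zero] at hc1; exact zero_ne_one hc1
    fin_cases j <;> fin_cases i <;>
      simp [tt_mv_zero hF hq hω, tt_mv_one hF hq hω, bv, c0] <;> field_simp
  have hjj : tw hF (RingEquiv.refl F) ![1, c] hc (jj hF hq hω) = el2 hF 0 c (by rw [nm_zero, hc1, zero_add]) := by
    refine Subtype.ext (Subtype.ext (Matrix.ext fun i j => ?_))
    rw [tw_apply]
    have hci : c⁻¹ = qFrob hF c := inv_eq_of_mul_eq_one_right hc1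
    fin_cases j <;> fin_cases i <;> simp [jj, el2, hci]
  set W := twE hF (RingEquiv.refl F) ![1, c] hc with hW
  have := endo_fix hF hq hω (W.symm.toMonoidHom.comp θ')
    (by show W.symm (θ' _) = _; rw [ht, MulEquiv.symm_apply_eq, hW, twE_apply, htt])
    (by show W.symm (θ' _) = _; rw [hj, MulEquiv.symm_apply_eq, hW, twE_apply, hjj])
  refine ⟨h, c, hc, fun u => ?_⟩
  have e : W.symm (θ' u) = u := DFunLike.congr_fun this u
  rw [MulEquiv.symm_apply_eq, hθ'a] at e
  rw [← twE_apply hF _ _ hc u, ← hW, ← e]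
  group

end Cfsg.Agent.Recog.Phan
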