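import Cfsg.Agent.Lib.Recog.PhanThreeFrame

/-!
Three copies of `SU₂(3)` in `SU₄(3)` with the torus relations of a standard chain are standard.
-/

set_option autoImplicit false
set_option linter.unusedSectionVars false

namespace Cfsg.Agent.Recog.Phan

open Matrix Cfsg.Agent.Classical Cfsg.Agent.Lie.SpnPres

/-- The first block. -/
def b01 : Fin 2 ↪ Fin 4 := sh 0 2 4 (by omega)

/-- The middle block. -/
def b12 : Fin 2 ↪ Fin 4 := sh 1 2 4 (by omega)

/-- The last block. -/
def b23 : Fin 2 ↪ Fin 4 := sh 2 2 4 (by omega)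

theorem b01_out (a : Fin 2) : b01 a ≠ 2 ∧ b01 a ≠ 3 := by
  fin_cases a <;> simp [b01, Fin.ext_iff, sh_val]

theorem b12_out (a : Fin 2) : b12 a ≠ 0 ∧ b12 a ≠ 3 := by
  fin_cases a <;> simp [b12, Fin.ext_iff, sh_val]

theorem b23_out (a : Fin 2) : b23 a ≠ 0 ∧ b23 a ≠ 1 := by
  fin_cases a <;> simp [b23, Fin.ext_iff, sh_val]

theorem b01_0 : b01 0 = 0 := rfl
theorem b01_1 : b01 1 = 1 := rfl
theorem b12_0 : b12 0 = 1 := rfl
theorem b12_1 : b12 1 = 2 := rfl
theorem b23_0 : b23 0 = 2 := rfl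
theorem b23_1 : b23 1 = 3 := rfl

variable {F : Type*} [Field F] [Fintype F] {q : ℕ} (hF : Fintype.card F = q ^ 2)

include hF

theorem vec_four (v : Fin 4 → F) : v = v 0 • bv F 0 + v 1 • bv F 1 + v 2 • bv F 2 + v 3 • bv F 3 := by
  have _ := hF
  funext i; fin_cases i <;> simp [bv]

theorem commute_01_23 (u v : SU 2 F q) : Commute (emb hF b01 u) (emb hF b23 v) :=
  emb_commute hF b01 b23 (fun a b => by fin_cases a <;> fin_cases b <;> simp [b01, b23, Fin.ext_iff, sh_val]) u v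

/-- An element agreeing with a block on its coordinates. -/
theorem split_emb {x : SU 4 F q} {u : SU 2 F q}
    (h0 : mv x (bv F 0) = mv (emb hF b01 u) (bv F 0)) (h1 : mv x (bv F 1) = mv (emb hF b01 u) (bv F 1)) :
    ∃ M, x = emb hF b01 u * emb hF b23 M := by
  obtain ⟨M, hM⟩ := mem_range_emb hF b23 ((emb hF b01 u)⁻¹ * x) fun i hi => by
    have hi' : i = 0 ∨ i = 1 := by
      fin_cases i
      · exact Or.inl rfl
      · exact Or.inr rfl
      · exact absurd b23_0 (hi 0)
      · exact absurd b23_1 (hi 1)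
    rcases hi' with rfl | rfl
    · rw [mv_mul, h0, mv_inv_cancel]
    · rw [mv_mul, h1, mv_inv_cancel]
  exact ⟨M, by rw [hM, mul_inv_cancel_left]⟩

theorem trace_conj {n : ℕ} (P x : SU n F q) : (P * x * P⁻¹).1.1.trace = x.1.1.trace := by
  have _ := hF
  have h : (P⁻¹).1.1 * P.1.1 = 1 := congrArg (fun z : SU n F q => z.1.1) (inv_mul_cancel P)
  show (P.1.1 * x.1.1 * (P⁻¹).1.1).trace = _
  rw [Matrix.trace_mul_cycle, h, one_mul]

variable (hq : q = 3) {ω : F} (hω : ω * ω = -1)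

include hq hω

theorem zz_rr : zz hF hq hω * rr hF hq hω = rr hF hq hω * zz hF hq hω := by
  conv_rhs => rw [← tt_sq, ← mul_assoc, rr_tt, mul_assoc, rr_tt, ← mul_assoc, jj_sq]

theorem emb_zz_sign {m : ℕ} (f : Fin 2 ↪ Fin m) {M : SU 2 F q} (hM : M = 1 ∨ M = zz hF hq hω) :
    ∃ ε : F, (ε = 1 ∨ ε = -1) ∧ (ε = 1 → M = 1) ∧ ∀ a, mv (emb hF f M) (bv F (f a)) = ε • bv F (f a) := by
  rcases hM with rfl | rfl
  · exact ⟨1, Or.inl rfl, fun _ => rfl, fun a => by rw [map_one, mv_one, one_smul]⟩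
  · refine ⟨-1, Or.inr rfl, fun e => ?_, fun a => emb_mv_bv hF f _ a a _ (zz_mv hF hq hω a)⟩
    exact absurd (by linear_combination -e) (two_ne_three hF hq)

/-- The standard position of one block. -/
theorem alpha_frame (α : SU 2 F q →* SU 4 F q)
    (hns : ∀ κ : F, ∃ i, mv (α (zz hF hq hω)) (bv F i) ≠ κ • bv F i) :
    (∃ P : SU 4 F q, α (tt hF hq hω) = P * emb hF b01 (tt hF hq hω) * P⁻¹ ∧
      α (jj hF hq hω) = P * emb hF b01 (jj hF hq hω) * P⁻¹) ∧
    ∀ v, mv (α (zz hF hq hω)) v = v →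
      mv (α (tt hF hq hω)) v = v ∧ mv (α (jj hF hq hω)) v = v := by
  set t := tt hF hq hω with ht
  set j := jj hF hq hω with hj
  set r := rr hF hq hω with hr
  set z := zz hF hq hω with hz
  have two := two_ne_three hF hq
  have hne : α z ≠ 1 := fun e => by
    obtain ⟨i, hi⟩ := hns 1
    exact hi (by rw [e, mv_one, one_smul])
  obtain ⟨f, hf, hTf, hJf⟩ := exists_unit_tt hF hq hω α hne
  obtain ⟨P, hP0, hP1⟩ := exists_frame hF (show 3 ≤ 4 by omega) 0 1 rfl rfl hf
    (show hm hF (mv (α j) f) (mv (α j) f) = 1 by rw [mv_form, hf]) hJf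
  set α' : SU 2 F q →* SU 4 F q := (MulAut.conj P⁻¹).toMonoidHom.comp α with hα'
  have ha : ∀ u, α' u = P⁻¹ * α u * P := fun u => by
    show P⁻¹ * α u * (P⁻¹)⁻¹ = _
    rw [inv_inv]
  have hT0 : mv (α' t) (bv F 0) = ω • bv F 0 := by
    rw [ha, mv_mul, mv_mul, hP0, hTf, mv_smul, ← hP0, mv_inv_cancel]
  have hJ0 : mv (α' j) (bv F 0) = bv F 1 := by
    rw [ha, mv_mul, mv_mul, hP0, ← hP1, mv_inv_cancel]
  have hZ0 : mv (α' z) (bv F 0) = (-1 : F) • bv F 0 := by
    rw [hz, ← tt_sq, map_mul, mv_mul, ← ht, hT0, mv_smul, hT0, smul_smul, hω]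
  have hJ1 : mv (α' j) (bv F 1) = (-1 : F) • bv F 0 := by
    conv_lhs => rw [← hJ0]
    rw [← mv_mul, ← map_mul, hj, jj_sq, ← hz, hZ0]
  have hT1 : mv (α' t) (bv F 1) = (-ω) • bv F 1 := by
    have e := congrArg (fun x => mv x (bv F 0)) (congrArg α' (tt_jj_tt hF hq hω))
    rw [← ht, ← hj, map_mul, map_mul] at e
    simp only [mv_mul, hT0, mv_smul, hJ0] at e
    have e' := congrArg (fun v => (-ω) • v) e
    simp only [smul_smul] at e'
    rwa [show (-ω) * ω = 1 by linear_combination -hω, one_smul] at e'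
  have hZ1 : mv (α' z) (bv F 1) = (-1 : F) • bv F 1 := by
    rw [hz, ← tt_sq, map_mul, mv_mul, ← ht, hT1, mv_smul, hT1, smul_smul,
      show (-ω) * (-ω) = -1 by linear_combination hω]
  obtain ⟨M, hM⟩ := split_emb hF (x := α' t) (u := t)
    (by rw [hT0, ← b01_0, emb_mv_bv hF b01 _ 0 0 ω (tt_mv_zero hF hq hω)])
    (by rw [hT1, ← b01_1, emb_mv_bv hF b01 _ 1 1 _ (tt_mv_one hF hq hω)])
  obtain ⟨N, hN⟩ := split_emb hF (x := α' j) (u := j)
    (by rw [hJ0, ← b01_0, emb_mv_bv hF b01 _ 0 1 1 (jj_mv_zero hF hq hω), one_smul, b01_1])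
    (by rw [hJ1, ← b01_1, emb_mv_bv hF b01 _ 1 0 _ (jj_mv_one hF hq hω), b01_0])
  obtain ⟨K, hK⟩ := split_emb hF (x := α' z) (u := z)
    (by rw [hZ0, ← b01_0, emb_mv_bv hF b01 _ 0 0 _ (zz_mv hF hq hω 0)])
    (by rw [hZ1, ← b01_1, emb_mv_bv hF b01 _ 1 1 _ (zz_mv hF hq hω 1)])
  have cancel : ∀ (u : SU 2 F q) (A B : SU 2 F q),
      emb hF b01 u * emb hF b23 A = emb hF b01 u * emb hF b23 B → A = B :=
    fun u A B h => emb_injective hF b23 (mul_left_cancel h)
  have sqr : ∀ (u : SU 2 F q) (A : SU 2 F q),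
      emb hF b01 u * emb hF b23 A * (emb hF b01 u * emb hF b23 A) =
        emb hF b01 (u * u) * emb hF b23 (A * A) := fun u A => by
    rw [map_mul, map_mul]
    calc _ = emb hF b01 u * (emb hF b23 A * emb hF b01 u) * emb hF b23 A := by group
      _ = emb hF b01 u * (emb hF b01 u * emb hF b23 A) * emb hF b23 A := by rw [(commute_01_23 hF u A).eq]
      _ = _ := by group
  have hKK : K * K = 1 := cancel (z * z) _ _ (by
    rw [← sqr, ← hK, ← map_mul, hz, zz_sq, map_one, map_one, map_one, mul_one])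
  have hMM : M * M = K := cancel z _ _ (by
    rw [← hK, hz, ← tt_sq hF hq hω, ← ht, map_mul α', hM, sqr])
  have hNN : N * N = K := cancel z _ _ (by
    rw [← hK, hz, ← jj_sq hF hq hω, ← hj, map_mul α', hN, sqr])
  have hK1 : K = 1 := by
    rcases eq_zz_of_sq hF hq hω hKK with h | h
    · exact h
    exfalso
    obtain ⟨i, hi⟩ := hns (-1)
    have all : ∀ v : Fin 4 → F, mv (α' z) v = (-1 : F) • v := by
      have e2 : mv (α' z) (bv F 2) = (-1 : F) • bv F 2 := by
        rw [hK, h, mv_mul, ← b23_0, emb_mv_bv hF b23 _ 0 0 _ (zz_mv hF hq hω 0), mv_smul, b23_0,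
          emb_fix_bv hF b01 _ (fun a => (b01_out a).1)]
      have e3 : mv (α' z) (bv F 3) = (-1 : F) • bv F 3 := by
        rw [hK, h, mv_mul, ← b23_1, emb_mv_bv hF b23 _ 1 1 _ (zz_mv hF hq hω 1), mv_smul, b23_1,
          emb_fix_bv hF b01 _ (fun a => (b01_out a).2)]
      intro v
      conv_lhs => rw [vec_four hF v]
      rw [mv_add, mv_add, mv_add, mv_smul, mv_smul, mv_smul, mv_smul, hZ0, hZ1, e2, e3]
      conv_rhs => rw [vec_four hF v]
      module
    refine hi ?_
    have e := congrArg (mv P) (all (mv P⁻¹ (bv F i)))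
    rw [ha, mv_mul, mv_mul, mv_cancel_inv, mv_cancel_inv, mv_smul, mv_cancel_inv] at e
    exact e
  subst hK1
  rw [map_one, mul_one] at hK
  obtain ⟨εM, -, hεM1, hεM⟩ := emb_zz_sign hF hq hω b23 (eq_zz_of_sq hF hq hω hMM)
  obtain ⟨εN, hεN0, hεN1, hεN⟩ := emb_zz_sign hF hq hω b23 (eq_zz_of_sq hF hq hω hNN)
  have zfix : ∀ v, mv (α' z) v = v → v 0 = 0 ∧ v 1 = 0 := by
    intro v hv
    rw [hK] at hv
    constructor
    · have e := congrFun hv (b01 0)
      rw [emb_mv_in] at e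
      simp [mv, hz, zz, el2, Matrix.mulVec, dotProduct, Fin.sum_univ_two, b01_0] at e
      exact (mul_eq_zero.1 (show (1 + 1 : F) * v 0 = 0 by linear_combination -e)).resolve_left
        (by rwa [one_add_one_eq_two])
    · have e := congrFun hv (b01 1)
      rw [emb_mv_in] at e
      simp [mv, hz, zz, el2, Matrix.mulVec, dotProduct, Fin.sum_univ_two, b01_1] at e
      exact (mul_eq_zero.1 (show (1 + 1 : F) * v 1 = 0 by linear_combination -e)).resolve_left
        (by rwa [one_add_one_eq_two])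
  have fix01 : ∀ (u : SU 2 F q) v, v 0 = 0 → v 1 = 0 → mv (emb hF b01 u) v = v := fun u v h0 h1 =>
    emb_fix hF b01 u fun a => by fin_cases a <;> assumption
  have act23 : ∀ (A : SU 2 F q) (ε : F), (∀ a, mv (emb hF b23 A) (bv F (b23 a)) = ε • bv F (b23 a)) →
      ∀ v, v 0 = 0 → v 1 = 0 → mv (emb hF b23 A) v = ε • v := by
    intro A ε hA v h0 h1
    have hv := vec_four hF v
    rw [h0, h1, zero_smul, zero_smul, zero_add, zero_add] at hv
    rw [hv, mv_add, mv_smul, mv_smul, ← b23_0, ← b23_1, hA, hA]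
    module
  have onT : ∀ v, mv (α' z) v = v → mv (α' t) v = εM • v := fun v hv => by
    obtain ⟨h0, h1⟩ := zfix v hv
    rw [hM, mv_mul, act23 M εM hεM v h0 h1, mv_smul, fix01 t v h0 h1]
  have onJ : ∀ v, mv (α' z) v = v → mv (α' j) v = εN • v := fun v hv => by
    obtain ⟨h0, h1⟩ := zfix v hv
    rw [hN, mv_mul, act23 N εN hεN v h0 h1, mv_smul, fix01 j v h0 h1]
  set e2 : Fin 4 → F := bv F 2
  have he2 : mv (α' z) e2 = e2 := by rw [hK]; exact fix01 z _ (by simp [e2, bv]) (by simp [e2, bv])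
  set w := mv (α' r)⁻¹ e2
  have hw : mv (α' z) w = w := by
    have hc : α' z * (α' r)⁻¹ = (α' r)⁻¹ * α' z :=
      ((show Commute (α' r) (α' z) from (Commute.map (show Commute r z from (zz_rr hF hq hω).symm) α')).inv_left).symm.eq
    rw [← mv_mul, hc, mv_mul, he2]
  have hNM : εN = εM := by
    have e := congrArg (fun x => mv x w) (congrArg α' (rr_tt hF hq hω))
    rw [← ht, ← hj, ← hr, map_mul, map_mul] at e
    simp only [mv_mul, onT w hw, mv_smul] at e
    rw [show mv (α' r) w = e2 from mv_cancel_inv _ _, onJ e2 he2] at e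
    simpa [e2, bv] using (congrFun e 2).symm
  have hM1 : εM = 1 := by
    have e := congrArg (fun x => mv x w) (congrArg α' (rr_jj hF hq hω))
    rw [← ht, ← hj, ← hr, map_mul, map_mul, map_mul] at e
    simp only [mv_mul, onJ w hw, mv_smul] at e
    rw [show mv (α' r) w = e2 from mv_cancel_inv _ _, onJ e2 he2, mv_smul, onT e2 he2, smul_smul, hNM] at e
    have e' : εM = εM * εM := by simpa [e2, bv] using congrFun e 2
    rcases hεN0 with h | h <;> rw [hNM] at h
    · exact h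
    · rw [h] at e'; exact absurd (by linear_combination -e') two
  rw [hεM1 hM1, map_one, mul_one] at hM
  rw [hεN1 (hNM.trans hM1), map_one, mul_one] at hN
  have back : ∀ u, α u = P * α' u * P⁻¹ := fun u => by rw [ha]; group
  refine ⟨⟨P, by rw [back, hM], by rw [back, hN]⟩, fun v hv => ?_⟩
  have hv' : mv (α' z) (mv P⁻¹ v) = mv P⁻¹ v := by
    rw [ha, mv_mul, mv_mul, mv_cancel_inv, hv]
  constructor
  · rw [back, mv_mul, mv_mul, onT _ hv', hM1, one_smul, mv_cancel_inv]
  · rw [back, mv_mul, mv_mul, onJ _ hv', hNM, hM1, one_smul, mv_cancel_inv]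

/-- A homomorphism into a block comes from an endomorphism. -/
theorem factor_block {n : ℕ} (f : Fin 2 ↪ Fin n) (γ : SU 2 F q →* SU n F q)
    (h : ∀ u i, (∀ a, f a ≠ i) → mv (γ u) (bv F i) = bv F i) :
    ∃ θ : SU 2 F q →* SU 2 F q, ∀ u, γ u = emb hF f (θ u) := by
  choose θ hθ using fun u => mem_range_emb hF f (γ u) (h u)
  refine ⟨{ toFun := θ, map_one' := emb_injective hF f (by rw [hθ, map_one, map_one]),
            map_mul' := fun u v => emb_injective hF f (by rw [hθ, map_mul, map_mul, hθ, hθ]) },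
    fun u => (hθ u).symm⟩

/-- Two commuting blocks in standard position. -/
theorem pair_frame (α γ : SU 2 F q →* SU 4 F q)
    (hns : ∀ κ : F, ∃ i, mv (α (zz hF hq hω)) (bv F i) ≠ κ • bv F i)
    (hγ : γ (zz hF hq hω) ≠ 1) (hc : ∀ u v, Commute (α u) (γ v)) :
    ∃ Θ : MulAut (SU 4 F q), (∀ u, α u = Θ (emb hF b01 u)) ∧ ∀ u, γ u = Θ (emb hF b23 u) := by
  set t := tt hF hq hω with ht
  set j := jj hF hq hω with hj
  obtain ⟨⟨P, hPt, hPj⟩, -⟩ := alpha_frame hF hq hω α hns
  set C : MulAut (SU 4 F q) := MulAut.conj P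
  set α' : SU 2 F q →* SU 4 F q := C.symm.toMonoidHom.comp α
  set γ' : SU 2 F q →* SU 4 F q := C.symm.toMonoidHom.comp γ
  have hαt : α' t = emb hF b01 t := by
    show C.symm (α t) = _
    rw [MulEquiv.symm_apply_eq]; exact hPt
  have hαj : α' j = emb hF b01 j := by
    show C.symm (α j) = _
    rw [MulEquiv.symm_apply_eq]; exact hPj
  have hc' : ∀ u v, Commute (α' u) (γ' v) := fun u v => (hc u v).map C.symm.toMonoidHom
  obtain ⟨γ0, hγ0⟩ := factor_block hF hq hω b23 γ' fun u i hi => by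
    obtain ⟨a, rfl⟩ : ∃ a, b01 a = i := by
      fin_cases i
      · exact ⟨0, b01_0⟩
      · exact ⟨1, b01_1⟩
      · exact absurd b23_0 (hi 0)
      · exact absurd b23_1 (hi 1)
    exact fix_block hF hq hω b01 γ' (fun v => by rw [← hαt]; exact (hc' t v).symm)
      (fun v => by rw [← hαj]; exact (hc' j v).symm) u a
  have hne : γ0 (zz hF hq hω) ≠ 1 := fun e => hγ (C.symm.injective (by
    show γ' _ = C.symm 1
    rw [hγ0, e, map_one, map_one]))
  obtain ⟨h, c, hcn, htw⟩ := endo_twist hF hq hω γ0 hne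
  set c4 : Fin 4 → F := ![1, 1, 1, c] with hc4
  have hc4n : ∀ i, nm hF (c4 i) = 1 := fun i => by
    fin_cases i
    exacts [nm_one hF, nm_one hF, nm_one hF, hcn 1]
  set W := twE hF (RingEquiv.refl F) c4 hc4n with hW
  set H : MulAut (SU 4 F q) := MulAut.conj (emb hF b23 h) with hH
  have e23 : ∀ u, γ' u = H (W (emb hF b23 u)) := by
    intro u
    have key : ∀ (d : Fin 2 → F) (hd : ∀ i, nm hF (d i) = 1), d = ![1, c] →
        tw hF (RingEquiv.refl F) d hd u = tw hF (RingEquiv.refl F) ![1, c] hcn u :=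
      fun d hd e => by subst e; rfl
    have hcomp : c4 ∘ b23 = ![1, c] := funext fun a => by fin_cases a <;> rfl
    rw [hW, twE_apply, tw_emb, key _ _ hcomp, hH, MulAut.conj_apply, hγ0, htw, map_mul, map_mul, map_inv]
  have surj : ∀ v : SU 2 F q, ∃ u, γ0 u = v := fun v => by
    obtain ⟨w, hw⟩ := tw_surjective hF (RingEquiv.refl F) ![1, c] hcn (h⁻¹ * v * h)
    exact ⟨w, by rw [htw, hw]; group⟩
  obtain ⟨α0, hα0⟩ := factor_block hF hq hω b01 α' fun u i hi => by
    obtain ⟨a, rfl⟩ : ∃ a, b23 a = i := by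
      fin_cases i
      · exact absurd b01_0 (hi 0)
      · exact absurd b01_1 (hi 1)
      · exact ⟨0, b23_0⟩
      · exact ⟨1, b23_1⟩
    refine fix_block hF hq hω b23 α' (fun v => ?_) (fun v => ?_) u a
    · obtain ⟨w, hw⟩ := surj (tt hF hq hω)
      rw [← hw, ← hγ0]; exact hc' v w
    · obtain ⟨w, hw⟩ := surj (jj hF hq hω)
      rw [← hw, ← hγ0]; exact hc' v w
  have hid := endo_fix hF hq hω α0 (emb_injective hF b01 (by rw [← hα0]; exact hαt))
    (emb_injective hF b01 (by rw [← hα0]; exact hαj))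
  have e01 : ∀ u, α' u = H (W (emb hF b01 u)) := by
    intro u
    rw [hW, twE_apply, tw_emb, tw_scalar hF _ _ (fun a b => by fin_cases a <;> fin_cases b <;> rfl), hH,
      MulAut.conj_apply, ← (commute_01_23 hF u h).eq, mul_inv_cancel_right, hα0, hid]
    rfl
  refine ⟨C * H * W, fun u => ?_, fun u => ?_⟩
  · show α u = C (H (W _))
    rw [← e01]; exact (C.apply_symm_apply _).symm
  · show γ u = C (H (W _))
    rw [← e23]; exact (C.apply_symm_apply _).symm

/-- An element commuting with the two outer diagonal generators is diagonal. -/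
theorem diag_of_commute {x : SU 4 F q} (h1 : Commute x (emb hF b01 (tt hF hq hω)))
    (h2 : Commute x (emb hF b23 (tt hF hq hω))) (i : Fin 4) :
    mv x (bv F i) = (mv x (bv F i) i) • bv F i := by
  have hs := omega_conj hF hq hω
  set v := mv x (bv F i) with hv
  obtain ⟨μ, ν, hμ, hν, hcase⟩ : ∃ μ ν : F, mv (emb hF b01 (tt hF hq hω)) v = μ • v ∧
      mv (emb hF b23 (tt hF hq hω)) v = ν • v ∧
      ((i = 0 ∧ μ = ω ∧ ν = 1) ∨ (i = 1 ∧ μ = -ω ∧ ν = 1) ∨ (i = 2 ∧ μ = 1 ∧ ν = ω) ∨ (i = 3 ∧ μ = 1 ∧ ν = -ω)) := by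
    have base : ∀ μ ν : F, mv (emb hF b01 (tt hF hq hω)) (bv F i) = μ • bv F i →
        mv (emb hF b23 (tt hF hq hω)) (bv F i) = ν • bv F i →
        mv (emb hF b01 (tt hF hq hω)) v = μ • v ∧ mv (emb hF b23 (tt hF hq hω)) v = ν • v :=
      fun μ ν e1 e2 => ⟨by rw [hv, ← mv_mul, ← h1.eq, mv_mul, e1, mv_smul],
        by rw [hv, ← mv_mul, ← h2.eq, mv_mul, e2, mv_smul]⟩
    fin_cases i
    · exact ⟨ω, 1, (base ω 1 (emb_mv_bv hF b01 _ 0 0 ω (tt_mv_zero hF hq hω))
        (by rw [one_smul]; exact emb_fix_bv hF b23 _ fun a => (b23_out a).1)).1,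
        (base ω 1 (emb_mv_bv hF b01 _ 0 0 ω (tt_mv_zero hF hq hω))
        (by rw [one_smul]; exact emb_fix_bv hF b23 _ fun a => (b23_out a).1)).2, Or.inl ⟨rfl, rfl, rfl⟩⟩
    · obtain ⟨p, r⟩ := base (-ω) 1 (emb_mv_bv hF b01 _ 1 1 _ (tt_mv_one hF hq hω))
        (by rw [one_smul]; exact emb_fix_bv hF b23 _ fun a => (b23_out a).2)
      exact ⟨_, _, p, r, Or.inr (Or.inl ⟨rfl, rfl, rfl⟩)⟩
    · obtain ⟨p, r⟩ := base 1 ω (by rw [one_smul]; exact emb_fix_bv hF b01 _ fun a => (b01_out a).1)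
        (emb_mv_bv hF b23 _ 0 0 ω (tt_mv_zero hF hq hω))
      exact ⟨_, _, p, r, Or.inr (Or.inr (Or.inl ⟨rfl, rfl, rfl⟩))⟩
    · obtain ⟨p, r⟩ := base 1 (-ω) (by rw [one_smul]; exact emb_fix_bv hF b01 _ fun a => (b01_out a).2)
        (emb_mv_bv hF b23 _ 1 1 _ (tt_mv_one hF hq hω))
      exact ⟨_, _, p, r, Or.inr (Or.inr (Or.inr ⟨rfl, rfl, rfl⟩))⟩
  have two := two_ne_three hF hq
  have hω1 := omega_ne_one hF hq hω
  have hω0 := omega_ne hF hq hω
  have d1 : ω + 1 ≠ 0 := fun e => two (by linear_combination -(ω - 1) * e + hω)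
  have c0 := congrFun hμ (b01 0)
  have c1 := congrFun hμ (b01 1)
  have c2 := congrFun hν (b23 0)
  have c3 := congrFun hν (b23 1)
  rw [emb_mv_in] at c0 c1 c2 c3
  simp [mv, tt, el2, Matrix.mulVec, dotProduct, Fin.sum_univ_two, hs, b01_0, b01_1, b23_0, b23_1, -mul_eq_mul_right_iff, -mul_eq_mul_left_iff] at c0 c1 c2 c3
  have d2 : (-ω) - 1 ≠ 0 := fun e => d1 (by linear_combination -e)
  have d3 : ω - 1 ≠ 0 := sub_ne_zero.2 hω1
  have d4 : ω - -ω ≠ 0 := fun e => two ((mul_eq_zero.1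
    (show (2 : F) * ω = 0 by linear_combination e)).resolve_right hω0)
  have d5 : -ω - ω ≠ 0 := fun e => d4 (by linear_combination -e)
  funext k
  by_cases hk : k = i
  · subst hk; simp [bv]
  rw [Pi.smul_apply, bv, Pi.single_eq_of_ne hk, smul_zero]
  rcases hcase with ⟨rfl, e1, e2⟩ | ⟨rfl, e1, e2⟩ | ⟨rfl, e1, e2⟩ | ⟨rfl, e1, e2⟩ <;>
    rw [e1] at c0 c1 <;> rw [e2] at c2 c3 <;> fin_cases k <;> try exact absurd rfl hk
  all_goals simp only [Fin.zero_eta, Fin.mk_one, Fin.reduceFinMk, Fin.isValue] at *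
  all_goals
    first
      | exact (mul_eq_zero.1 (show (ω - 1) * _ = 0 by linear_combination c0)).resolve_left d3
      | exact (mul_eq_zero.1 (show (-ω - 1) * _ = 0 by linear_combination c1)).resolve_left d2
      | exact (mul_eq_zero.1 (show (ω - 1) * _ = 0 by linear_combination c2)).resolve_left d3
      | exact (mul_eq_zero.1 (show (-ω - 1) * _ = 0 by linear_combination c3)).resolve_left d2
      | exact (mul_eq_zero.1 (show (ω - -ω) * _ = 0 by linear_combination c0)).resolve_left d4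
      | exact (mul_eq_zero.1 (show (-ω - ω) * _ = 0 by linear_combination c1)).resolve_left d5
      | exact (mul_eq_zero.1 (show (ω - -ω) * _ = 0 by linear_combination c2)).resolve_left d4
      | exact (mul_eq_zero.1 (show (-ω - ω) * _ = 0 by linear_combination c3)).resolve_left d5

/-- The middle block with its torus already standard. -/
theorem middle_frame (β : SU 2 F q →* SU 4 F q) (ht : β (tt hF hq hω) = emb hF b12 (tt hF hq hω))
    (hfix : ∀ v, mv (β (zz hF hq hω)) v = v → mv (β (jj hF hq hω)) v = v)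
    (R2 : ∀ u, emb hF b01 (zz hF hq hω) * β u * (emb hF b01 (zz hF hq hω))⁻¹ =
      β (tt hF hq hω * u * (tt hF hq hω)⁻¹)) :
    ∃ Θ : MulAut (SU 4 F q), (∀ u, Θ (emb hF b01 u) = emb hF b01 u) ∧
      (∀ u, Θ (emb hF b23 u) = emb hF b23 u) ∧ ∀ u, β u = Θ (emb hF b12 u) := by
  set t := tt hF hq hω with htd
  set j := jj hF hq hω with hjd
  set r := rr hF hq hω with hrd
  set z := zz hF hq hω with hzd
  have two := two_ne_three hF hq
  have hz : β z = emb hF b12 z := by rw [hzd, ← tt_sq, map_mul, map_mul, ← htd, ht]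
  obtain ⟨M, hM⟩ := mem_range_emb hF b12 (β j) fun i hi => by
    refine hfix _ ?_
    rw [hz]
    exact emb_fix_bv hF b12 _ hi
  have hMt : t * M * t = M := by
    refine emb_injective hF b12 ?_
    rw [map_mul, map_mul, hM, ← ht, ← map_mul, ← map_mul, htd, hjd, tt_jj_tt]
  obtain ⟨c, hc1, hMc⟩ : ∃ c, ∃ hc : nm hF c = 1,
      M = el2 hF 0 c (by rw [nm_zero, hc, zero_add]) := by
    obtain ⟨a, b, hab, he⟩ := el2_surj hF M
    rw [he] at hMt
    have e := congrArg (fun x => mv x (bv F (0 : Fin 2)) 0) hMt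
    rw [htd] at e
    simp only [mv_mul, tt_mv_zero, mv_smul, el2_mv_zero] at e
    simp [mv, tt, el2, Matrix.mulVec, dotProduct, Fin.sum_univ_two] at e
    have ha : a = 0 := by
      have : (1 + 1 : F) * a = 0 := by linear_combination -e + a * hω
      exact (mul_eq_zero.1 this).resolve_left (by rwa [one_add_one_eq_two])
    subst ha
    exact ⟨b, by rwa [nm_zero, zero_add] at hab, he⟩
  set c4 : Fin 4 → F := ![1, 1, c, c] with hc4
  have hc4n : ∀ i, nm hF (c4 i) = 1 := fun i => by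
    fin_cases i
    exacts [nm_one hF, nm_one hF, hc1, hc1]
  set W := twE hF (RingEquiv.refl F) c4 hc4n with hW
  have W01 : ∀ u, W (emb hF b01 u) = emb hF b01 u := fun u => by
    rw [hW, twE_apply, tw_emb, tw_scalar hF _ _ (fun a b => by fin_cases a <;> fin_cases b <;> rfl)]
  have W23 : ∀ u, W (emb hF b23 u) = emb hF b23 u := fun u => by
    rw [hW, twE_apply, tw_emb, tw_scalar hF _ _ (fun a b => by fin_cases a <;> fin_cases b <;> rfl)]
  have Wt : W (emb hF b12 t) = emb hF b12 t := by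
    rw [hW, twE_apply, tw_emb]
    congr 1
    refine Subtype.ext (Subtype.ext (Matrix.ext fun i k => ?_))
    rw [tw_apply]
    have c0 : c ≠ 0 := fun e => by rw [e, nm_zero] at hc1; exact zero_ne_one hc1
    fin_cases i <;> fin_cases k <;> simp [htd, tt, el2, hc4, b12_0, b12_1, c0] <;> field_simp
  have Wj : W (emb hF b12 j) = β j := by
    rw [hW, twE_apply, tw_emb, ← hM, hMc]
    congr 1
    refine Subtype.ext (Subtype.ext (Matrix.ext fun i k => ?_))
    rw [tw_apply]
    have hci : c⁻¹ = qFrob hF c := inv_eq_of_mul_eq_one_right hc1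
    fin_cases i <;> fin_cases k <;> simp [hjd, jj, el2, hc4, b12_0, b12_1, hci]
  set β' : SU 2 F q →* SU 4 F q := W.symm.toMonoidHom.comp β
  have ht' : β' t = emb hF b12 t := by
    show W.symm (β t) = _
    rw [MulEquiv.symm_apply_eq, Wt, ht]
  have hj' : β' j = emb hF b12 j := by
    show W.symm (β j) = _
    rw [MulEquiv.symm_apply_eq, Wj]
  have R2' : ∀ u, emb hF b01 z * β' u * (emb hF b01 z)⁻¹ = β' (t * u * t⁻¹) := fun u => by
    show _ = W.symm (β _)
    rw [← R2, map_mul, map_mul, map_inv, (MulEquiv.symm_apply_eq W).2 (W01 z).symm]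
    rfl
  set x := β' r with hx
  have cz : Commute x (emb hF b12 z) := by
    have : β' z = emb hF b12 z := by rw [hzd, ← tt_sq, map_mul, map_mul, ← htd, ht']
    rw [← this]
    exact Commute.map (show Commute r z from (zz_rr hF hq hω).symm) β'
  have hout : ∀ i, (∀ a, b12 a ≠ i) → mv x (bv F i) 1 = 0 ∧ mv x (bv F i) 2 = 0 := by
    intro i hi
    have e : mv (emb hF b12 z) (mv x (bv F i)) = mv x (bv F i) := by
      rw [← mv_mul, ← cz.eq, mv_mul, emb_fix_bv hF b12 _ hi]
    generalize mv x (bv F i) = v at e ⊢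
    have e0 := congrFun e (b12 0)
    have e1 := congrFun e (b12 1)
    rw [emb_mv_in] at e0 e1
    simp [mv, hzd, zz, el2, Matrix.mulVec, dotProduct, Fin.sum_univ_two, b12_0, b12_1] at e0 e1
    exact ⟨(mul_eq_zero.1 (show (1 + 1 : F) * _ = 0 by linear_combination -e0)).resolve_left
        (by rwa [one_add_one_eq_two]),
      (mul_eq_zero.1 (show (1 + 1 : F) * _ = 0 by linear_combination -e1)).resolve_left
        (by rwa [one_add_one_eq_two])⟩
  have key : ∀ i, (∀ a, b12 a ≠ i) → mv x (bv F i) = (mv x (bv F i) i) • bv F i := by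
    intro i hi
    have e := congrArg (fun y => mv y (bv F i)) (R2' r)
    simp only [map_mul, map_inv, ← hx, ht', mv_mul] at e
    have zinv : (emb hF b01 z)⁻¹ = emb hF b01 z :=
      inv_eq_of_mul_eq_one_right (by rw [← map_mul, hzd, zz_sq, map_one])
    have tinv : mv (emb hF b12 t)⁻¹ (bv F i) = bv F i := by
      conv_lhs => rw [← emb_fix_bv hF b12 t hi]
      rw [mv_inv_cancel]
    rw [zinv, tinv] at e
    obtain ⟨v1, v2⟩ := hout i hi
    have hv := vec_four hF (mv x (bv F i))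
    rw [v1, v2, zero_smul, zero_smul, add_zero, add_zero] at hv
    set v := mv x (bv F i) with hvd
    have f12 : mv (emb hF b12 t) v = v := emb_fix hF b12 t fun a => by fin_cases a <;> assumption
    rw [f12] at e
    have z0 : mv (emb hF b01 z) (bv F 0) = (-1 : F) • bv F 0 := by
      rw [← b01_0, emb_mv_bv hF b01 _ 0 0 _ (zz_mv hF hq hω 0)]
    have z3 : mv (emb hF b01 z) (bv F 3) = bv F 3 := emb_fix_bv hF b01 _ fun a => (b01_out a).2
    obtain rfl | rfl : i = 0 ∨ i = 3 := by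
      fin_cases i
      · exact Or.inl rfl
      · exact absurd b12_0 (hi 0)
      · exact absurd b12_1 (hi 1)
      · exact Or.inr rfl
    · rw [z0, mv_smul, mv_smul, ← hvd, hv, mv_add, mv_smul, mv_smul, z0, z3] at e
      have e3 := congrFun e 3
      simp [bv] at e3
      have : v 3 = 0 := (mul_eq_zero.1 (show (1 + 1 : F) * v 3 = 0 by linear_combination -e3)).resolve_left
        (by rwa [one_add_one_eq_two])
      rw [this, zero_smul, add_zero] at hv
      exact hv
    · rw [z3, ← hvd, hv, mv_add, mv_smul, mv_smul, z0, z3] at e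
      have e0 := congrFun e 0
      simp [bv] at e0
      have : v 0 = 0 := (mul_eq_zero.1 (show (1 + 1 : F) * v 0 = 0 by linear_combination -e0)).resolve_left
        (by rwa [one_add_one_eq_two])
      rw [this, zero_smul, zero_add] at hv
      exact hv
  obtain ⟨x0, hx0⟩ := mem_range_emb hF b12 x fun i hi => by
    have e := key i hi
    generalize mv x (bv F i) i = p at e
    have e3 : mv (x * x * x) (bv F i) = (p * p * p) • bv F i := by
      rw [mv_mul, mv_mul, e, mv_smul, mv_smul, e, mv_smul, e, smul_smul, smul_smul]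
    have hx3 : x * x * x = 1 := by rw [hx, ← map_mul, ← map_mul, hrd, rr_cube, map_one]
    rw [hx3, mv_one] at e3
    have e4 := congrFun e3 i
    simp [bv] at e4
    have hp : p = 1 := by
      have : (p - 1) ^ 3 = 0 := by linear_combination -e4 + (p - p ^ 2) * three_zero_of_three hF hq
      exact sub_eq_zero.1 (eq_zero_of_pow_eq_zero this)
    rw [e, hp, one_smul]
  obtain ⟨θ, hθ⟩ := factor_block hF hq hω b12 β' fun u i hi => by
    let S : Subgroup (SU 2 F q) :=
      { carrier := {u | mv (β' u) (bv F i) = bv F i}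
        one_mem' := by show mv (β' 1) _ = _; rw [map_one, mv_one]
        mul_mem' := fun {a b} ha hb => by
          show mv (β' (a * b)) _ = _
          rw [map_mul, mv_mul, hb, ha]
        inv_mem' := fun {a} ha => by
          show mv (β' a⁻¹) _ = _
          conv_lhs => rw [← (show mv (β' a) (bv F i) = bv F i from ha)]
          rw [map_inv, mv_inv_cancel] }
    have hS : S = ⊤ := gens_top hF hq hω
      (show mv (β' t) (bv F i) = bv F i by rw [ht']; exact emb_fix_bv hF b12 _ hi)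
      (show mv (β' j) (bv F i) = bv F i by rw [hj']; exact emb_fix_bv hF b12 _ hi)
      (show mv (β' r) (bv F i) = bv F i by rw [← hx, ← hx0]; exact emb_fix_bv hF b12 _ hi)
    exact (show u ∈ S by rw [hS]; exact Subgroup.mem_top u)
  have hid := endo_fix hF hq hω θ (emb_injective hF b12 (by rw [← hθ]; exact ht'))
    (emb_injective hF b12 (by rw [← hθ]; exact hj'))
  refine ⟨W, W01, W23, fun u => ?_⟩
  have : β' u = emb hF b12 u := by rw [hθ, hid]; rfl
  rw [← this]
  exact (W.apply_symm_apply _).symm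

/-- The frame exchanging the two orientations. -/
theorem flip_block (u : SU 2 F q) (hc : ∀ i, nm hF ((fun _ : Fin 2 => (1 : F)) i) = 1) :
    jj hF hq hω * tw hF (qE hF) (fun _ => 1) hc u * (jj hF hq hω)⁻¹ = u := by
  rw [mul_inv_eq_iff_eq_mul]
  obtain ⟨a, b, hab, rfl⟩ := el2_surj hF u
  have hab' : nm hF (qFrob hF a) + nm hF (qFrob hF b) = 1 := by rw [nm_conj, nm_conj, hab]
  have : tw hF (qE hF) (fun _ => 1) hc (el2 hF a b hab) = el2 hF _ _ hab' := by
    refine Subtype.ext (Subtype.ext (Matrix.ext fun i k => ?_))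
    rw [tw_apply]
    fin_cases i <;> fin_cases k <;> simp [el2, qE_apply, qFrob_qFrob]
  rw [this, jj]
  have hn : nm hF (-b) + nm hF a = 1 := by rw [nm_neg, add_comm, hab]
  rw [el2_mul' hF (e := -qFrob hF b) (f := qFrob hF a) (h'' := by
    rw [nm_neg, nm_conj, nm_conj, add_comm, hab]) (by rw [map_one]; ring) (by rw [map_zero]; ring)]
  exact (el2_mul' hF (by ring) (by ring)).symm

/-- Three blocks with the torus relations of a chain are standard. -/
theorem triple_frame (α β γ : SU 2 F q →* SU 4 F q)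
    (hα : ∀ κ : F, ∃ i, mv (α (zz hF hq hω)) (bv F i) ≠ κ • bv F i)
    (hβ : ∀ κ : F, ∃ i, mv (β (zz hF hq hω)) (bv F i) ≠ κ • bv F i)
    (hγ : γ (zz hF hq hω) ≠ 1) (hc : ∀ u v, Commute (α u) (γ v))
    (Rα : ∀ (d : Fin 2 → F) (hd : ∀ i, nm hF (d i) = 1), d = ![1, ω] → ∀ u,
      β (tt hF hq hω) * α u * (β (tt hF hq hω))⁻¹ = α (tw hF (RingEquiv.refl F) d hd u))
    (Rγ : ∀ (d : Fin 2 → F) (hd : ∀ i, nm hF (d i) = 1), d = ![-ω, 1] → ∀ u,
      β (tt hF hq hω) * γ u * (β (tt hF hq hω))⁻¹ = γ (tw hF (RingEquiv.refl F) d hd u))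
    (R2 : ∀ u, α (zz hF hq hω) * β u * (α (zz hF hq hω))⁻¹ = β (tt hF hq hω * u * (tt hF hq hω)⁻¹)) :
    ∃ Θ : MulAut (SU 4 F q), (∀ u, α u = Θ (emb hF b01 u)) ∧ (∀ u, β u = Θ (emb hF b12 u)) ∧
      ∀ u, γ u = Θ (emb hF b23 u) := by
  set t := tt hF hq hω with htd
  set j := jj hF hq hω with hjd
  set z := zz hF hq hω with hzd
  have two := two_ne_three hF hq
  have hω0 := omega_ne hF hq hω
  have hωn : nm hF ω = 1 := omega_nm hF hq hω
  obtain ⟨⟨PB, hPBt, -⟩, hfixβ⟩ := alpha_frame hF hq hω β hβ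
  obtain ⟨Θ₁, hΘα, hΘγ⟩ := pair_frame hF hq hω α γ hα hγ hc
  set β₁ : SU 2 F q →* SU 4 F q := Θ₁.symm.toMonoidHom.comp β with hβ₁
  have hb : ∀ u, β u = Θ₁ (β₁ u) := fun u => (Θ₁.apply_symm_apply _).symm
  have d1n : ∀ i, nm hF (![1, ω] i) = 1 := fun i => by fin_cases i; exacts [nm_one hF, hωn]
  have d2n : ∀ i, nm hF (![-ω, 1] i) = 1 := fun i => by
    fin_cases i
    exacts [(nm_neg hF ω).trans hωn, nm_one hF]
  have ra : ∀ u, β₁ t * emb hF b01 u * (β₁ t)⁻¹ =
      emb hF b01 (tw hF (RingEquiv.refl F) ![1, ω] d1n u) := fun u => Θ₁.injective (by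
    rw [map_mul, map_mul, map_inv, ← hb, ← hΘα, ← hΘα, Rα _ d1n rfl])
  have rg : ∀ u, β₁ t * emb hF b23 u * (β₁ t)⁻¹ =
      emb hF b23 (tw hF (RingEquiv.refl F) ![-ω, 1] d2n u) := fun u => Θ₁.injective (by
    rw [map_mul, map_mul, map_inv, ← hb, ← hΘγ, ← hΘγ, Rγ _ d2n rfl])
  have r2 : ∀ u, emb hF b01 z * β₁ u * (emb hF b01 z)⁻¹ = β₁ (t * u * t⁻¹) := fun u => Θ₁.injective (by
    rw [map_mul, map_mul, map_inv, ← hb, ← hb, ← hΘα, R2])
  have twdiag : ∀ (d : Fin 2 → F) (hd : ∀ i, nm hF (d i) = 1), tw hF (RingEquiv.refl F) d hd t = t := by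
    intro d hd
    refine Subtype.ext (Subtype.ext (Matrix.ext fun i k => ?_))
    rw [tw_apply]
    have h0 : ∀ i, d i ≠ 0 := fun i e => by have := hd i; rw [e, nm_zero] at this; exact zero_ne_one this
    fin_cases i <;> fin_cases k <;>
      simp [htd, tt, el2, h0 0, h0 1, mul_comm (d 0), mul_comm (d 1)]
  have c01 : Commute (β₁ t) (emb hF b01 t) := mul_inv_eq_iff_eq_mul.1 (by rw [ra, twdiag])
  have c23 : Commute (β₁ t) (emb hF b23 t) := mul_inv_eq_iff_eq_mul.1 (by rw [rg, twdiag])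
  set κ : Fin 4 → F := fun i => mv (β₁ t) (bv F i) i with hκd
  have hdiag : ∀ i, mv (β₁ t) (bv F i) = κ i • bv F i := diag_of_commute hF hq hω c01 c23
  have hκn : ∀ i, nm hF (κ i) = 1 := fun i => by
    have e := mv_form hF (β₁ t) (bv F i) (bv F i)
    rwa [hdiag, hm_self_smul, hm_bv, if_pos rfl, mul_one] at e
  have hpair : ∀ (f : Fin 2 ↪ Fin 4) (d : Fin 2 → F) (hd : ∀ i, nm hF (d i) = 1),
      (∀ u, β₁ t * emb hF f u * (β₁ t)⁻¹ = emb hF f (tw hF (RingEquiv.refl F) d hd u)) →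
      κ (f 1) = d 1 * (d 0)⁻¹ * κ (f 0) := by
    intro f d hd h
    have e := congrArg (fun x => mv x (bv F (f 0)) (f 1)) (mul_inv_eq_iff_eq_mul.1 (h j))
    simp only [mv_mul] at e
    rw [emb_mv_bv hF f j 0 1 1 (jj_mv_zero hF hq hω), mv_smul, hdiag, hdiag, mv_smul, one_smul,
      Pi.smul_apply, Pi.smul_apply, emb_mv_in, bv_comp, tw_mv_bv, RingEquiv.refl_apply,
      jj_mv_zero hF hq hω] at e
    simp [bv] at e
    rw [e]; ring
  have h01 : κ 1 = ω * κ 0 := by
    have := hpair b01 _ d1n ra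
    simpa [b01_0, b01_1] using this
  have h23 : κ 3 = ω * κ 2 := by
    have := hpair b23 _ d2n rg
    rw [b23_0, b23_1] at this
    simp at this
    rw [this]
    rw [← neg_mul]
    congr 1
    rw [← inv_neg]
    exact inv_eq_of_mul_eq_one_right (by linear_combination -hω)
  have hfix₁ : ∀ v, mv (β₁ z) v = v → mv (β₁ t) v = v ∧ mv (β₁ j) v = v := by
    obtain ⟨_, h⟩ := alpha_frame hF hq hω β₁ (by
      intro μ
      by_contra hcon
      push Not at hcon
      have cen : ∀ g : SU 4 F q, Commute (β₁ z) g := fun g => su_ext fun i => by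
        rw [mv_mul, mv_mul, hcon, mv_smul]
        conv_lhs => rw [vec_four hF (mv g (bv F i))]
        conv_rhs => rw [vec_four hF (mv g (bv F i))]
        rw [mv_add, mv_add, mv_add, mv_smul, mv_smul, mv_smul, mv_smul, hcon, hcon, hcon, hcon]
        module
      have cenβ : ∀ g : SU 4 F q, Commute (β z) g := fun g => by
        rw [hb, ← Θ₁.apply_symm_apply g]; exact (cen _).map Θ₁.toMonoidHom
      obtain ⟨i, hi⟩ := hβ (mv (β z) (bv F 0) 0)
      obtain ⟨μ', -, hμ'⟩ := block_scalar hF hq hω b01 (cenβ _) (cenβ _)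
      obtain ⟨ν', -, hν'⟩ := block_scalar hF hq hω b12 (cenβ _) (cenβ _)
      obtain ⟨ρ', -, hρ'⟩ := block_scalar hF hq hω b23 (cenβ _) (cenβ _)
      have s0 : mv (β z) (bv F 0) = μ' • bv F 0 := hμ' 0
      have s1 : mv (β z) (bv F 1) = μ' • bv F 1 := hμ' 1
      have s1' : mv (β z) (bv F 1) = ν' • bv F 1 := hν' 0
      have s2 : mv (β z) (bv F 2) = ν' • bv F 2 := hν' 1
      have s2' : mv (β z) (bv F 2) = ρ' • bv F 2 := hρ' 0
      have s3 : mv (β z) (bv F 3) = ρ' • bv F 3 := hρ' 1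
      have m1 : ν' = μ' := by simpa [bv] using congrFun (s1'.symm.trans s1) 1
      have m2 : ρ' = ν' := by simpa [bv] using congrFun (s2'.symm.trans s2) 2
      have m0 : mv (β z) (bv F 0) 0 = μ' := by rw [s0]; simp [bv]
      refine hi ?_
      rw [m0]
      fin_cases i
      exacts [s0, s1, by rw [← m1]; exact s2, by rw [← m1, ← m2]; exact s3])
    exact h
  have hsq : ∀ i, κ i * κ i = 1 → κ i = 1 := fun i hi => by
    have hz1 : mv (β₁ z) (bv F i) = bv F i := by
      rw [hzd, ← tt_sq, map_mul, mv_mul, ← htd, hdiag, mv_smul, hdiag, smul_smul, hi, one_smul]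
    have e := congrFun (hfix₁ _ hz1).1 i
    rw [hdiag] at e
    simpa [bv] using e
  have hopt : ∀ a b, κ b = ω * κ a → κ a = 1 ∨ κ a = -ω := fun a b hab => by
    rcases circle_four hF hq hω (hκn a) with h | h | h | h
    · exact Or.inl h
    · have := hsq a (by rw [h]; ring)
      rw [h] at this
      exact absurd (by linear_combination -this) two
    · have := hsq b (by rw [hab, h]; linear_combination (ω * ω - 1) * hω)
      rw [hab, h, hω] at this
      exact absurd (by linear_combination -this) two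
    · exact Or.inr h
  have htr : κ 0 + κ 1 + κ 2 + κ 3 = 2 := by
    have hb' : β₁ t = Θ₁.symm (β t) := rfl
    have tr1 : (β₁ t).1.1.trace = κ 0 + κ 1 + κ 2 + κ 3 := by
      rw [Matrix.trace, Fin.sum_univ_four]
      simp only [Matrix.diag_apply, hκd, mv_bv]
    rw [← tr1]
    obtain ⟨⟨P₁, hP₁, -⟩, -⟩ := alpha_frame hF hq hω β₁ (by
      intro μ
      by_contra hcon
      push Not at hcon
      by_cases hμ : μ * μ = 1 ∧ μ ≠ 1
      · have hall : ∀ i, κ i * κ i = μ := fun i => by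
          have e := hcon i
          rw [← tt_sq, map_mul, mv_mul, ← htd, hdiag, mv_smul, hdiag, smul_smul] at e
          simpa [bv] using congrFun e i
        have e0 := hall 0
        have e1 := hall 1
        rw [h01] at e1
        have : μ = 0 := by
          have : (1 + 1 : F) * μ = 0 := by linear_combination -e0 - e1 + (κ 0 * κ 0) * hω
          exact (mul_eq_zero.1 this).resolve_left (by rwa [one_add_one_eq_two])
        rw [this, zero_mul] at hμ
        exact zero_ne_one hμ.1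
      · have e0 := hcon 0
        have e1 := hcon 1
        rw [← tt_sq, map_mul, mv_mul, ← htd, hdiag, mv_smul, hdiag, smul_smul] at e0 e1
        have a0 : κ 0 * κ 0 = μ := by simpa [bv] using congrFun e0 0
        have a1 : κ 1 * κ 1 = μ := by simpa [bv] using congrFun e1 1
        rw [h01] at a1
        have : μ = 0 := by
          have : (1 + 1 : F) * μ = 0 := by linear_combination -a0 - a1 + (κ 0 * κ 0) * hω
          exact (mul_eq_zero.1 this).resolve_left (by rwa [one_add_one_eq_two])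
        have k0 := hκn 0
        rw [this] at a0
        rw [mul_self_eq_zero.1 a0, nm_zero] at k0
        exact zero_ne_one k0)
    rw [hP₁, trace_conj hF, Matrix.trace, Fin.sum_univ_four]
    simp only [Matrix.diag_apply, ← mv_bv]
    rw [show mv (emb hF b01 (tt hF hq hω)) (bv F (0 : Fin 4)) = ω • bv F 0 from
        emb_mv_bv hF b01 _ 0 0 ω (tt_mv_zero hF hq hω),
      show mv (emb hF b01 (tt hF hq hω)) (bv F (1 : Fin 4)) = (-ω) • bv F 1 from
        emb_mv_bv hF b01 _ 1 1 _ (tt_mv_one hF hq hω),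
      emb_fix_bv hF b01 _ (fun a => (b01_out a).1), emb_fix_bv hF b01 _ (fun a => (b01_out a).2)]
    simp [bv]
    exact one_add_one_eq_two
  have twelve : ∀ x : SU 4 F q, mv x (bv F 0) = bv F 0 → mv x (bv F 1) = ω • bv F 1 →
      mv x (bv F 2) = (-ω) • bv F 2 → mv x (bv F 3) = bv F 3 → x = emb hF b12 t := by
    intro x e0 e1 e2 e3
    refine su_ext fun i => ?_
    fin_cases i
    · exact e0.trans (emb_fix_bv hF b12 t fun a => (b12_out a).1).symm
    · exact e1.trans (emb_mv_bv hF b12 t 0 0 ω (tt_mv_zero hF hq hω)).symm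
    · exact e2.trans (emb_mv_bv hF b12 t 1 1 _ (tt_mv_one hF hq hω)).symm
    · exact e3.trans (emb_fix_bv hF b12 t fun a => (b12_out a).2).symm
  rcases hopt 0 1 h01 with ha | ha <;> rcases hopt 2 3 h23 with hy | hy
  · rw [h01, h23, ha, hy] at htr
    exact absurd ((mul_eq_zero.1 (show (2 : F) * ω = 0 by linear_combination htr)).resolve_right hω0) two
  · have ht₁ : β₁ t = emb hF b12 t := twelve _ (by rw [hdiag, ha, one_smul])
      (by rw [hdiag, h01, ha, mul_one]) (by rw [hdiag, hy])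
      (by rw [hdiag, h23, hy, show ω * -ω = 1 by linear_combination -hω, one_smul])
    obtain ⟨W, W01, W23, hW⟩ := middle_frame hF hq hω β₁ ht₁ (fun v hv => (hfix₁ v hv).2) r2
    refine ⟨Θ₁ * W, fun u => ?_, fun u => ?_, fun u => ?_⟩
    · show α u = Θ₁ (W _); rw [W01, hΘα]
    · show β u = Θ₁ (W _); rw [← hW, hb]
    · show γ u = Θ₁ (W _); rw [W23, hΘγ]
  · have hc2 : ∀ i, nm hF ((fun _ : Fin 2 => (1 : F)) i) = 1 := fun _ => nm_one hF
    have hc4 : ∀ i, nm hF ((fun _ : Fin 4 => (1 : F)) i) = 1 := fun _ => nm_one hF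
    set φ := twE hF (qE hF) (fun _ : Fin 2 => (1 : F)) hc2 with hφ
    set φ4 := twE hF (qE hF) (fun _ : Fin 4 => (1 : F)) hc4 with hφ4
    set Q := emb hF b01 j * emb hF b23 j with hQ
    set CQ : MulAut (SU 4 F q) := MulAut.conj Q with hCQ
    have hflip : ∀ u, j * φ u * j⁻¹ = u := fun u => flip_block hF hq hω u hc2
    have Q01 : ∀ u, CQ (emb hF b01 (φ u)) = emb hF b01 u := fun u => by
      conv_rhs => rw [← hflip u, map_mul, map_mul, map_inv]
      rw [hCQ, MulAut.conj_apply, hQ]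
      calc _ = emb hF b01 j * (emb hF b23 j * emb hF b01 (φ u)) * (emb hF b23 j)⁻¹ * (emb hF b01 j)⁻¹ := by group
        _ = emb hF b01 j * (emb hF b01 (φ u) * emb hF b23 j) * (emb hF b23 j)⁻¹ * (emb hF b01 j)⁻¹ := by
          rw [(commute_01_23 hF _ j).eq]
        _ = _ := by group
    have Q23 : ∀ u, CQ (emb hF b23 (φ u)) = emb hF b23 u := fun u => by
      conv_rhs => rw [← hflip u, map_mul, map_mul, map_inv]
      rw [hCQ, MulAut.conj_apply, hQ]
      have c := commute_01_23 hF j (j * φ u * j⁻¹)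
      rw [map_mul, map_mul, map_inv] at c
      calc _ = emb hF b01 j * (emb hF b23 j * emb hF b23 (φ u) * (emb hF b23 j)⁻¹) * (emb hF b01 j)⁻¹ := by group
        _ = _ := by rw [c.eq, mul_inv_cancel_right]
    set β₂ : SU 2 F q →* SU 4 F q := CQ.toMonoidHom.comp (β₁.comp φ.toMonoidHom) with hβ₂
    have φt : φ t = t⁻¹ := eq_inv_of_mul_eq_one_left (by
      have htj := tt_jj_tt hF hq hω
      rw [← htd, ← hjd] at htj
      have h1 : φ t = j⁻¹ * t * j := by
        calc φ t = j⁻¹ * (j * φ t * j⁻¹) * j := by group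
          _ = _ := by rw [hflip]
      have h2 : t * j = j * t⁻¹ := by rw [eq_mul_inv_iff_mul_eq]; exact htj
      rw [h1]; calc j⁻¹ * t * j * t = j⁻¹ * (t * j) * t := by group
        _ = _ := by rw [h2]; group)
    have φz : φ z = z := by rw [hzd, ← tt_sq, map_mul, ← htd, φt, ← _root_.mul_inv_rev, htd, tt_sq,
      inv_eq_of_mul_eq_one_right (zz_sq hF hq hω)]
    have qmv : ∀ i, ∃ (ε : F) (k : Fin 4), ε ≠ 0 ∧ mv Q⁻¹ (bv F i) = ε • bv F k ∧ κ k = ![1, -ω, ω, 1] i := by
      have e0 : mv Q (bv F 0) = bv F 1 := by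
        rw [hQ, mv_mul, emb_fix_bv hF b23 _ (fun a => (b23_out a).1), ← b01_0,
          emb_mv_bv hF b01 j 0 1 1 (jj_mv_zero hF hq hω), one_smul]; rfl
      have e1 : mv Q (bv F 1) = (-1 : F) • bv F 0 := by
        rw [hQ, mv_mul, emb_fix_bv hF b23 _ (fun a => (b23_out a).2), ← b01_1,
          emb_mv_bv hF b01 j 1 0 _ (jj_mv_one hF hq hω)]; rfl
      have e2 : mv Q (bv F 2) = bv F 3 := by
        rw [hQ, mv_mul, ← b23_0, emb_mv_bv hF b23 j 0 1 1 (jj_mv_zero hF hq hω), one_smul, b23_1,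
          emb_fix_bv hF b01 _ (fun a => (b01_out a).2)]
      have e3 : mv Q (bv F 3) = (-1 : F) • bv F 2 := by
        rw [hQ, mv_mul, ← b23_1, emb_mv_bv hF b23 j 1 0 _ (jj_mv_one hF hq hω), mv_smul, b23_0,
          emb_fix_bv hF b01 _ (fun a => (b01_out a).1)]
      intro i
      have back : ∀ (a k : Fin 4), mv Q (bv F k) = bv F a → mv Q⁻¹ (bv F a) = (1 : F) • bv F k :=
        fun a k e => by rw [← e, mv_inv_cancel, one_smul]
      have back' : ∀ (a k : Fin 4), mv Q (bv F k) = (-1 : F) • bv F a → mv Q⁻¹ (bv F a) = (-1 : F) • bv F k :=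
        fun a k e => by
          have := congrArg (mv Q⁻¹) e
          rw [mv_inv_cancel, mv_smul] at this
          rw [this, smul_smul]; norm_num
      fin_cases i
      · exact ⟨-1, 1, by norm_num, back' 0 1 e1, by rw [h01, ha]; show ω * -ω = 1; linear_combination -hω⟩
      · exact ⟨1, 0, one_ne_zero, back 1 0 e0, ha⟩
      · exact ⟨-1, 3, by norm_num, back' 2 3 e3, by rw [h23, hy, mul_one]; rfl⟩
      · exact ⟨1, 2, one_ne_zero, back 3 2 e2, hy⟩
    have hd₂ : ∀ i, mv (β₂ t) (bv F i) = (![1, -ω, ω, 1] i)⁻¹ • bv F i := by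
      intro i
      obtain ⟨ε, k, hε, hQi, hk⟩ := qmv i
      show mv (CQ (β₁ (φ t))) (bv F i) = _
      rw [φt, map_inv β₁, hCQ, MulAut.conj_apply, mv_mul, mv_mul, hQi, mv_smul, mv_smul]
      have : mv (β₁ t)⁻¹ (bv F k) = (κ k)⁻¹ • bv F k := by
        have h0 : κ k ≠ 0 := fun e => by have := hκn k; rw [e, nm_zero] at this; exact zero_ne_one this
        conv_lhs => rw [← inv_smul_smul₀ h0 (bv F k), ← hdiag, mv_smul, mv_inv_cancel]
      rw [this, mv_smul, hk, smul_comm, ← mv_smul, ← hQi, mv_cancel_inv]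
    have ht₂ : β₂ t = emb hF b12 t := twelve _
      (by rw [hd₂]; simp)
      (by rw [hd₂]; congr 1; exact inv_eq_of_mul_eq_one_right (by simp; linear_combination -hω))
      (by rw [hd₂]; congr 1; exact inv_eq_of_mul_eq_one_right (by simp; linear_combination -hω))
      (by rw [hd₂]; simp)
    have fix₂ : ∀ v, mv (β₂ z) v = v → mv (β₂ j) v = v := by
      intro v hv
      have φj : φ j = j := by
        have := hflip j
        rw [mul_inv_eq_iff_eq_mul] at this
        exact mul_left_cancel this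
      change mv (CQ (β₁ (φ z))) v = v at hv
      show mv (CQ (β₁ (φ j))) v = v
      rw [φz, hCQ, MulAut.conj_apply, mv_mul, mv_mul] at hv
      have hv' := congrArg (mv Q⁻¹) hv
      rw [mv_inv_cancel] at hv'
      rw [φj, hCQ, MulAut.conj_apply, mv_mul, mv_mul, (hfix₁ _ hv').2, mv_cancel_inv]
    have R2₂ : ∀ u, emb hF b01 z * β₂ u * (emb hF b01 z)⁻¹ = β₂ (t * u * t⁻¹) := by
      intro u
      show _ = CQ (β₁ (φ (t * u * t⁻¹)))
      have hQz : CQ (emb hF b01 z) = emb hF b01 z := by conv_lhs => rw [← φz]; exact Q01 z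
      have e : φ (t * u * t⁻¹) = t * φ u * t⁻¹ := by
        rw [map_mul, map_mul, map_inv, φt, inv_inv]
        have hcz : Commute (t * t) (φ u) := by
          rw [htd, tt_sq]
          obtain ⟨a, b, hab, he⟩ := el2_surj hF (φ u)
          rw [he, zz]
          have h1 : nm hF (-a) + nm hF (-b) = 1 := by rw [nm_neg, nm_neg, hab]
          show _ * _ = _ * _
          rw [el2_mul' hF (e := -a) (f := -b) (h'' := h1) (by rw [map_zero]; ring) (by rw [map_neg, map_one]; ring),
            el2_mul' hF (e := -a) (f := -b) (h'' := h1) (by ring) (by ring)]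
        calc t⁻¹ * φ u * t = t⁻¹ * (φ u * (t * t)) * t⁻¹ := by group
          _ = t⁻¹ * (t * t * φ u) * t⁻¹ := by rw [hcz.eq]
          _ = _ := by group
      rw [e, ← r2, map_mul, map_mul, map_inv, hQz]
      rfl
    obtain ⟨W, W01, W23, hW⟩ := middle_frame hF hq hω β₂ ht₂ fix₂ R2₂
    have φ4e : ∀ (f : Fin 2 ↪ Fin 4) u, φ4 (emb hF f u) = emb hF f (φ u) := fun f u => by
      rw [hφ4, twE_apply, tw_emb]; rfl
    have φφ : ∀ u, φ (φ u) = u := fun u => by
      refine Subtype.ext (Subtype.ext (Matrix.ext fun i k => ?_))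
      rw [hφ, twE_apply, twE_apply, tw_apply, tw_apply]
      simp [qE_apply, qFrob_qFrob]
    refine ⟨Θ₁ * CQ⁻¹ * W * φ4, fun u => ?_, fun u => ?_, fun u => ?_⟩
    · show α u = Θ₁ (CQ⁻¹ (W (φ4 _)))
      rw [φ4e, W01, hΘα]
      congr 1
      exact ((MulEquiv.symm_apply_eq CQ).2 (by conv_lhs => rw [← Q01 (φ u), φφ])).symm
    · show β u = Θ₁ (CQ⁻¹ (W (φ4 _)))
      rw [φ4e, ← hW, hb]
      congr 1
      exact ((MulEquiv.symm_apply_eq CQ).2 (show CQ (β₁ (φ (φ u))) = CQ (β₁ u) by rw [φφ])).symm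
    · show γ u = Θ₁ (CQ⁻¹ (W (φ4 _)))
      rw [φ4e, W23, hΘγ]
      congr 1
      exact ((MulEquiv.symm_apply_eq CQ).2 (by conv_lhs => rw [← Q23 (φ u), φφ])).symm
  · rw [h01, h23, ha, hy] at htr
    exact absurd ((mul_eq_zero.1 (show (2 : F) * ω = 0 by linear_combination -htr - (1 + 1) * hω)).resolve_right hω0) two

end Cfsg.Agent.Recog.Phan
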