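import Cfsg.Agent.Lib.Recog.PhanWeak

/-!
The group `SU₂(3)`: three generators, and lifting of homomorphisms over a kernel of exponent four.
-/

set_option autoImplicit false
set_option linter.unusedSectionVars false

namespace Cfsg.Agent.Recog.Phan

open Matrix Cfsg.Agent.Classical Cfsg.Agent.Lie.SpnPres

variable {F : Type*} [Field F] [Fintype F] {q : ℕ} (hF : Fintype.card F = q ^ 2)

include hF

theorem el2_congr {a b a' b' : F} {h : nm hF a + nm hF b = 1} {h' : nm hF a' + nm hF b' = 1}
    (ha : a = a') (hb : b = b') : el2 hF a b h = el2 hF a' b' h' := by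
  subst ha hb; rfl

theorem el2_mul {a b c d : F} {h : nm hF a + nm hF b = 1} {h' : nm hF c + nm hF d = 1}
    (h'' : nm hF (a * c - qFrob hF b * d) + nm hF (b * c + qFrob hF a * d) = 1) :
    el2 hF a b h * el2 hF c d h' = el2 hF _ _ h'' := by
  refine Subtype.ext (Subtype.ext ?_)
  show !![a, -qFrob hF b; b, qFrob hF a] * !![c, -qFrob hF d; d, qFrob hF c] = !![_, _; _, _]
  ext i j
  fin_cases i <;> fin_cases j <;> simp [Matrix.mul_apply, Fin.sum_univ_two, qFrob_qFrob] <;> ring

theorem el2_mul' {a b c d : F} {h : nm hF a + nm hF b = 1} {h' : nm hF c + nm hF d = 1} {e f : F}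
    {h'' : nm hF e + nm hF f = 1} (he : a * c - qFrob hF b * d = e) (hf : b * c + qFrob hF a * d = f) :
    el2 hF a b h * el2 hF c d h' = el2 hF e f h'' := by
  subst he hf
  exact el2_mul hF h''

variable (hq : q = 3)

include hq

theorem qFrob_three (x : F) : qFrob hF x = x ^ 3 := by rw [qFrob_apply, hq]

theorem two_ne_three : (2 : F) ≠ 0 := fun h =>
  one_ne_zero (α := F) (by linear_combination three_zero_of_three hF hq - h)

theorem exists_omega : ∃ ω : F, ω * ω = -1 := by
  obtain ⟨ζ, hζ, hζ2⟩ := exists_circle hF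
  refine ⟨ζ, ?_⟩
  rw [nm, qFrob_three hF hq] at hζ
  have h : (ζ ^ 2 - 1) * (ζ * ζ + 1) = 0 := by linear_combination hζ
  rcases mul_eq_zero.1 h with e | e
  · exact absurd (sub_eq_zero.1 e) hζ2
  · linear_combination e

variable {ω : F} (hω : ω * ω = -1)

include hω

theorem omega_conj : qFrob hF ω = -ω := by
  rw [qFrob_three hF hq]; linear_combination ω * hω

theorem omega_nm : nm hF ω = 1 := by
  rw [nm, omega_conj hF hq hω]; linear_combination -hω

theorem omega_ne : ω ≠ 0 := fun h => one_ne_zero (α := F) (by rw [h] at hω; linear_combination hω)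

/-- A norm one element is one of four. -/
theorem circle_four {ζ : F} (h : nm hF ζ = 1) : ζ = 1 ∨ ζ = -1 ∨ ζ = ω ∨ ζ = -ω := by
  rw [nm, qFrob_three hF hq] at h
  have e : (ζ - 1) * (ζ + 1) * ((ζ - ω) * (ζ + ω)) = 0 := by
    linear_combination h - (ζ - 1) * (ζ + 1) * hω
  rcases mul_eq_zero.1 e with e | e <;> rcases mul_eq_zero.1 e with e | e
  · exact Or.inl (sub_eq_zero.1 e)
  · exact Or.inr (Or.inl (eq_neg_of_add_eq_zero_left e))
  · exact Or.inr (Or.inr (Or.inl (sub_eq_zero.1 e)))
  · exact Or.inr (Or.inr (Or.inr (eq_neg_of_add_eq_zero_left e)))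

omit hω in
theorem nm_values (x : F) : nm hF x = 0 ∨ nm hF x = 1 ∨ nm hF x = -1 := by
  have h : nm hF x ^ 3 = nm hF x := by rw [← qFrob_three hF hq, nm_fix]
  have e : nm hF x * (nm hF x - 1) * (nm hF x + 1) = 0 := by linear_combination h
  rcases mul_eq_zero.1 e with e | e
  · rcases mul_eq_zero.1 e with e | e
    · exact Or.inl e
    · exact Or.inr (Or.inl (sub_eq_zero.1 e))
  · exact Or.inr (Or.inr (eq_neg_of_add_eq_zero_left e))

/-- The diagonal generator. -/
def tt : SU 2 F q := el2 hF ω 0 (by rw [omega_nm hF hq hω, nm_zero, add_zero])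

/-- The swapping generator. -/
def jj : SU 2 F q :=
  have _ := hq; have _ := hω
  el2 hF (0 : F) 1 (by rw [nm_zero, nm_one, zero_add])

/-- The central involution. -/
def zz : SU 2 F q :=
  have _ := hq; have _ := hω
  el2 hF (-1 : F) 0 (by rw [nm_neg, nm_one, nm_zero, add_zero])

theorem nm_one_add : nm hF (1 + ω) = -1 := by
  rw [nm, map_add, map_one, omega_conj hF hq hω]
  linear_combination three_zero_of_three hF hq - hω

theorem nm_one_sub : nm hF (1 - ω) = -1 := by
  rw [nm, map_sub, map_one, omega_conj hF hq hω]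
  linear_combination three_zero_of_three hF hq - hω

/-- The generator of order three. -/
def rr : SU 2 F q := el2 hF (1 + ω) (1 - ω) (by
  rw [nm_one_add hF hq hω, nm_one_sub hF hq hω]; linear_combination -three_zero_of_three hF hq)

theorem tt_sq : tt hF hq hω * tt hF hq hω = zz hF hq hω := by
  rw [tt, zz]; exact el2_mul' hF (by rw [map_zero]; linear_combination hω) (by ring)

theorem jj_sq : jj hF hq hω * jj hF hq hω = zz hF hq hω := by
  rw [jj, zz]; exact el2_mul' hF (by rw [map_one]; ring) (by rw [map_zero]; ring)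

theorem zz_sq : zz hF hq hω * zz hF hq hω = 1 := by
  have h : el2 hF (1 : F) 0 (by rw [nm_one, nm_zero, add_zero]) = 1 := by
    refine Subtype.ext (Subtype.ext ?_)
    show !![(1 : F), -qFrob hF 0; 0, qFrob hF 1] = 1
    simp [Matrix.one_fin_two]
  rw [← h, zz]
  exact el2_mul' hF (by rw [map_zero]; ring) (by ring)

theorem rr_tt : rr hF hq hω * tt hF hq hω = jj hF hq hω * rr hF hq hω := by
  have hn : nm hF (ω - 1) + nm hF (1 + ω) = 1 := by
    rw [show ω - 1 = -(1 - ω) by ring, nm_neg, nm_one_sub hF hq hω, nm_one_add hF hq hω]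
    linear_combination -three_zero_of_three hF hq
  rw [rr, tt, jj]
  rw [el2_mul' hF (e := ω - 1) (f := 1 + ω) (h'' := hn), el2_mul' hF (e := ω - 1) (f := 1 + ω) (h'' := hn)]
  all_goals simp only [map_zero, map_one, map_sub, map_add, omega_conj hF hq hω]
  all_goals first | linear_combination hω | linear_combination -hω | ring1

theorem rr_jj : rr hF hq hω * jj hF hq hω = tt hF hq hω * jj hF hq hω * rr hF hq hω := by
  have htn : nm hF (0 : F) + nm hF (-ω) = 1 := by rw [nm_zero, nm_neg, omega_nm hF hq hω, zero_add]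
  have htj : tt hF hq hω * jj hF hq hω = el2 hF (0 : F) (-ω) htn := by
    rw [tt, jj]
    exact el2_mul' hF (by rw [map_zero]; ring) (by rw [omega_conj hF hq hω]; ring)
  have hn : nm hF (-(1 + ω)) + nm hF (1 - ω) = 1 := by
    rw [nm_neg, nm_one_sub hF hq hω, nm_one_add hF hq hω]; linear_combination -three_zero_of_three hF hq
  rw [htj, rr, jj]
  rw [el2_mul' hF (e := -(1 + ω)) (f := 1 - ω) (h'' := hn), el2_mul' hF (e := -(1 + ω)) (f := 1 - ω) (h'' := hn)]
  all_goals simp only [map_zero, map_one, map_sub, map_add, map_neg, omega_conj hF hq hω]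
  all_goals first | linear_combination hω | linear_combination -hω | ring1

theorem rr_inv : rr hF hq hω * el2 hF (1 - ω) (-(1 - ω)) (by
    rw [nm_neg, nm_one_sub hF hq hω]; linear_combination -three_zero_of_three hF hq) = 1 := by
  have h : el2 hF (1 : F) 0 (by rw [nm_one, nm_zero, add_zero]) = 1 := by
    refine Subtype.ext (Subtype.ext ?_)
    show !![(1 : F), -qFrob hF 0; 0, qFrob hF 1] = 1
    simp [Matrix.one_fin_two]
  rw [← h]
  refine el2_mul' hF ?_ ?_
  · simp only [map_sub, map_one, omega_conj hF hq hω]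
    linear_combination three_zero_of_three hF hq - 2 * hω
  · simp only [map_add, map_one, omega_conj hF hq hω]
    ring

theorem rr_cube : rr hF hq hω * rr hF hq hω * rr hF hq hω = 1 := by
  have e : rr hF hq hω * rr hF hq hω = el2 hF (1 - ω) (-(1 - ω)) (by
      rw [nm_neg, nm_one_sub hF hq hω]; linear_combination -three_zero_of_three hF hq) := by
    refine el2_mul' hF ?_ ?_
    · simp only [map_sub, map_one, omega_conj hF hq hω]
      linear_combination (ω - 1) * three_zero_of_three hF hq + 2 * hω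
    · simp only [map_add, map_one, omega_conj hF hq hω]
      linear_combination (1 - ω) * three_zero_of_three hF hq
  rw [mul_assoc, e, rr_inv hF hq hω]

/-- The three generators generate. -/
theorem gens_top {H : Subgroup (SU 2 F q)} (ht : tt hF hq hω ∈ H) (hj : jj hF hq hω ∈ H)
    (hr : rr hF hq hω ∈ H) : H = ⊤ := by
  have hd : ∀ ζ (h : nm hF ζ + nm hF (0 : F) = 1), el2 hF ζ 0 h ∈ H := by
    intro ζ h
    have hz : zz hF hq hω ∈ H := tt_sq hF hq hω ▸ H.mul_mem ht ht
    rcases circle_four hF hq hω (by rwa [nm_zero, add_zero] at h) with rfl | rfl | rfl | rfl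
    · have := H.mul_mem hz hz
      rw [zz, el2_mul' hF (e := (1 : F)) (f := 0) (h'' := h) (by ring) (by ring)] at this
      exact this
    · exact hz
    · exact ht
    · have := H.mul_mem hz ht
      rw [zz, tt, el2_mul' hF (e := -ω) (f := 0) (h'' := h) (by ring) (by ring)] at this
      exact this
  have aux : ∀ a0 b0 (h0 : nm hF a0 + nm hF b0 = 1), el2 hF a0 b0 h0 ∈ H → ∀ u v : F, nm hF u = 1 →
      nm hF v = 1 → (u = v ∨ u = -v) → ∀ h : nm hF (u * a0) + nm hF (v * b0) = 1,
        el2 hF (u * a0) (v * b0) h ∈ H := by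
    intro a0 b0 h0 hm u v hu hv huv h
    obtain ⟨ζ, hζ, hζv⟩ : ∃ ζ, nm hF ζ = 1 ∧ qFrob hF ζ * qFrob hF ζ * u = v := by
      rcases huv with rfl | rfl
      · exact ⟨1, nm_one hF, by rw [map_one]; ring⟩
      · exact ⟨ω, omega_nm hF hq hω, by rw [omega_conj hF hq hω]; linear_combination (-v) * hω⟩
    have hη : nm hF (qFrob hF ζ * u) = 1 := by rw [nm_mul, nm_conj, hζ, hu, one_mul]
    have hz0 : nm hF ζ + nm hF (0 : F) = 1 := by rw [hζ, nm_zero, add_zero]
    have hz1 : nm hF (qFrob hF ζ * u) + nm hF (0 : F) = 1 := by rw [hη, nm_zero, add_zero]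
    have h1 : nm hF (ζ * a0) + nm hF (qFrob hF ζ * b0) = 1 := by
      rw [nm_mul, nm_mul, nm_conj, hζ, one_mul, one_mul, h0]
    have e1 : el2 hF ζ 0 hz0 * el2 hF a0 b0 h0 = el2 hF _ _ h1 :=
      el2_mul' hF (by rw [map_zero]; ring) (by ring)
    have hm' := H.mul_mem (H.mul_mem (hd ζ hz0) hm) (hd _ hz1)
    have hzz : ζ * qFrob hF ζ = 1 := hζ
    rw [e1, el2_mul' hF (e := u * a0) (f := v * b0) (h'' := h)
      (by linear_combination (a0 * u) * hzz) (by linear_combination b0 * hζv)] at hm'
    exact hm'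
  refine top_unique fun g _ => ?_
  obtain ⟨a, b, h, rfl⟩ := el2_surj hF g
  rcases nm_values hF hq a with ha | ha | ha
  · have ha0 : a = 0 := (nm_eq_zero hF).1 ha
    subst ha0
    have hb : nm hF b = 1 := by rwa [nm_zero, zero_add] at h
    have hm := H.mul_mem (hd (qFrob hF b) (by rw [nm_conj, hb, nm_zero, add_zero])) hj
    rw [jj, el2_mul' hF (e := (0 : F)) (f := b) (h'' := h) (by rw [map_zero]; ring)
      (by rw [qFrob_qFrob]; ring)] at hm
    exact hm
  · have hb0 : b = 0 := (nm_eq_zero hF).1 (by linear_combination h - ha)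
    subst hb0
    exact hd a h
  · have hb : nm hF b = -1 := by linear_combination h - ha + three_zero_of_three hF hq
    have hp : (1 + ω) ≠ 0 := fun e => by
      have := nm_one_add hF hq hω
      rw [e, nm_zero] at this
      exact one_ne_zero (α := F) (by linear_combination this)
    have hm : (1 - ω) ≠ 0 := fun e => by
      have := nm_one_sub hF hq hω
      rw [e, nm_zero] at this
      exact one_ne_zero (α := F) (by linear_combination this)
    set u := a / (1 + ω) with hu
    set v := b / (1 - ω) with hv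
    have hun : nm hF u = 1 := by
      rw [hu, div_eq_mul_inv, nm_mul, nm_inv, ha, nm_one_add hF hq hω]; norm_num
    have hvn : nm hF v = 1 := by
      rw [hv, div_eq_mul_inv, nm_mul, nm_inv, hb, nm_one_sub hF hq hω]; norm_num
    have hua : a = u * (1 + ω) := (div_mul_cancel₀ a hp).symm
    have hvb : b = v * (1 - ω) := (div_mul_cancel₀ b hm).symm
    have hv0 : v ≠ 0 := fun e => by rw [e, nm_zero] at hvn; exact zero_ne_one hvn
    have hratio : nm hF (u / v) = 1 := by rw [div_eq_mul_inv, nm_mul, nm_inv, hun, hvn, inv_one, mul_one]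
    have fin : ∀ κ : F, u / v = κ → u = κ * v := fun κ e => by rw [← e, div_mul_cancel₀ _ hv0]
    have hri : el2 hF (1 - ω) (-(1 - ω)) (by
        rw [nm_neg, nm_one_sub hF hq hω]; linear_combination -three_zero_of_three hF hq) ∈ H := by
      have := H.inv_mem hr
      rwa [inv_eq_of_mul_eq_one_right (rr_inv hF hq hω)] at this
    have case1 : u = v ∨ u = -v → el2 hF a b h ∈ H := fun huv => by
      have := aux _ _ _ hr u v hun hvn huv (by rwa [← hua, ← hvb])
      exact el2_congr hF hua hvb ▸ this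
    have case2 : u = ω * v ∨ u = -(ω * v) → el2 hF a b h ∈ H := fun huv => by
      have ea : u * ω * (1 - ω) = a := by rw [hua]; linear_combination -u * hω
      have eb : -v * (-(1 - ω)) = b := by rw [hvb]; ring
      have := aux _ _ _ hri (u * ω) (-v) (by rw [nm_mul, hun, omega_nm hF hq hω, one_mul])
        (by rw [nm_neg, hvn]) (by
          rcases huv with e | e <;> rw [e]
          · exact Or.inl (by linear_combination v * hω)
          · exact Or.inr (by linear_combination -v * hω)) (by rw [ea, eb]; exact h)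
      exact el2_congr hF ea eb ▸ this
    rcases circle_four hF hq hω hratio with e | e | e | e
    · exact case1 (Or.inl ((fin _ e).trans (one_mul v)))
    · exact case1 (Or.inr ((fin _ e).trans (neg_one_mul v)))
    · exact case2 (Or.inl (fin _ e))
    · exact case2 (Or.inr ((fin _ e).trans (neg_mul ω v)))

theorem hom_ext3 {S : Type*} [Monoid S] {f f' : SU 2 F q →* S}
    (h1 : f (tt hF hq hω) = f' (tt hF hq hω)) (h2 : f (jj hF hq hω) = f' (jj hF hq hω))
    (h3 : f (rr hF hq hω) = f' (rr hF hq hω)) : f = f' := by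
  have h : f.eqLocus f' = ⊤ := gens_top hF hq hω h1 h2 h3
  exact MonoidHom.ext fun u => (show u ∈ f.eqLocus f' by rw [h]; exact Subgroup.mem_top u)

/-- A homomorphism into elements of exponent four is trivial. -/
theorem hom_four {S : Type*} [Group S] (f : SU 2 F q →* S) (h4 : ∀ u, f u ^ 4 = 1) (u : SU 2 F q) :
    f u = 1 := by
  have hr : f (rr hF hq hω) = 1 := by
    have h3 : f (rr hF hq hω) ^ 3 = 1 := by
      rw [pow_succ, pow_two, ← map_mul, ← map_mul, rr_cube, map_one]
    have h := h4 (rr hF hq hω)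
    rwa [pow_succ, h3, one_mul] at h
  have e1 := congrArg f (rr_tt hF hq hω)
  have e2 := congrArg f (rr_jj hF hq hω)
  simp only [map_mul, hr, one_mul, mul_one] at e1 e2
  have ht : f (tt hF hq hω) = 1 := by
    have := e2.symm
    rwa [mul_eq_right] at this
  exact DFunLike.congr_fun (hom_ext3 hF hq hω (f' := 1) ht (e1 ▸ ht) hr) u

/-- Homomorphisms with the same image modulo a central kernel of exponent four agree. -/
theorem lift_unique {S G : Type*} [Group S] [Group G] (g : S →* G)
    (hker : ∀ k, g k = 1 → (∀ x, Commute k x) ∧ k ^ 4 = 1) {f f' : SU 2 F q →* S}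
    (h : g.comp f = g.comp f') : f = f' := by
  have hk : ∀ u, g ((f u)⁻¹ * f' u) = 1 := fun u => by
    have e : g (f u) = g (f' u) := DFunLike.congr_fun h u
    rw [map_mul, map_inv, e, inv_mul_cancel]
  let c : SU 2 F q →* S :=
    { toFun := fun u => (f u)⁻¹ * f' u
      map_one' := by rw [map_one, map_one, inv_one, one_mul]
      map_mul' := fun u v => by
        have e := ((hker _ (hk u)).1 (f v)⁻¹).eq
        simp only [map_mul, _root_.mul_inv_rev, mul_assoc]
        simp only [← mul_assoc] at e ⊢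
        rw [e] }
  exact MonoidHom.ext fun u => inv_mul_eq_one.1 (hom_four hF hq hω c (fun v => (hker _ (hk v)).2) u)

/-- Injective homomorphisms lift over a central kernel of exponent four. -/
theorem exists_lift {S G : Type*} [Group S] [Group G] (g : S →* G)
    (hker : ∀ k, g k = 1 → (∀ x, Commute k x) ∧ k ^ 4 = 1) (a : SU 2 F q →* G) (hr : a.range ≤ g.range)
    (ha : Function.Injective a) : ∃ α : SU 2 F q →* S, g.comp α = a := by
  set t := tt hF hq hω with ht
  set j := jj hF hq hω with hj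
  set r := rr hF hq hω with hr'
  obtain ⟨T0, hT0⟩ := hr ⟨t, rfl⟩
  obtain ⟨R0, hR0⟩ := hr ⟨r, rfl⟩
  have hk : g (R0 ^ 3) = 1 := by
    rw [map_pow, hR0, ← map_pow, pow_succ, pow_two, hr', rr_cube, map_one]
  obtain ⟨R, hR⟩ : ∃ R, R = R0 * R0 ^ 3 := ⟨_, rfl⟩
  have gR : g R = a r := by rw [hR, map_mul, hk, mul_one, hR0]
  have R3 : R ^ 3 = 1 := by
    rw [hR, ← (hker _ hk).2, ← pow_succ', ← pow_mul, ← pow_mul]
  obtain ⟨J0, hJ0⟩ : ∃ J0, J0 = R * T0 * R⁻¹ := ⟨_, rfl⟩
  have gJ0 : g J0 = a j := by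
    rw [hJ0, map_mul, map_mul, map_inv, gR, hT0, ← map_inv, ← map_mul, ← map_mul, hr', ht, rr_tt,
      mul_inv_cancel_right]
  obtain ⟨e, he⟩ : ∃ e, e = (T0 * J0)⁻¹ * (R * J0 * R⁻¹) := ⟨_, rfl⟩
  have hge : g e = 1 := by
    rw [he, map_mul, map_inv, map_mul, map_mul, map_mul, map_inv, hT0, gJ0, gR, ← map_inv, ← map_mul,
      ← map_inv, ← map_mul, ← map_mul, ← map_mul, hr', ht, hj, rr_jj, mul_inv_cancel_right,
      inv_mul_cancel, map_one]
  have ec : ∀ x, Commute e x := (hker _ hge).1
  obtain ⟨T, hT⟩ : ∃ T, T = T0 * e := ⟨_, rfl⟩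
  obtain ⟨J, hJ⟩ : ∃ J, J = R * T * R⁻¹ := ⟨_, rfl⟩
  have hJe : J = J0 * e := by
    rw [hJ, hT, hJ0]
    calc R * (T0 * e) * R⁻¹ = R * T0 * (e * R⁻¹) := by group
      _ = R * T0 * (R⁻¹ * e) := by rw [(ec R⁻¹).eq]
      _ = _ := by group
  have gT : g T = a t := by rw [hT, map_mul, hge, mul_one, hT0]
  have gJ : g J = a j := by rw [hJe, map_mul, hge, mul_one, gJ0]
  have hRT : R * T = J * R := by rw [hJ, inv_mul_cancel_right]
  have hRJ : R * J * R⁻¹ = T * J := by
    have h1 : R * J0 * R⁻¹ = T0 * J0 * e := by rw [he, mul_inv_cancel_left]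
    rw [hJe, hT]
    calc R * (J0 * e) * R⁻¹ = R * J0 * (e * R⁻¹) := by group
      _ = R * J0 * (R⁻¹ * e) := by rw [(ec R⁻¹).eq]
      _ = R * J0 * R⁻¹ * e := by group
      _ = T0 * (J0 * e) * e := by rw [h1, mul_assoc T0 J0 e]
      _ = T0 * (e * (J0 * e)) := by rw [mul_assoc, (ec (J0 * e)).eq]
      _ = _ := by rw [mul_assoc]
  let σ : S →* S := (MulAut.conj R).toMonoidHom
  have sT : σ T = J := hJ.symm
  have sJ : σ J = T * J := hRJ
  have e1 : J * T * J = T := by
    have h3 : σ (σ (σ T)) = T := by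
      show R * (R * (R * T * R⁻¹) * R⁻¹) * R⁻¹ = T
      calc R * (R * (R * T * R⁻¹) * R⁻¹) * R⁻¹ = R ^ 3 * T * (R ^ 3)⁻¹ := by simp only [pow_succ, pow_zero]; group
        _ = T := by rw [R3]; group
    rw [sT, sJ, map_mul, sT, sJ] at h3
    rwa [mul_assoc]
  have e2 : T * J * J * T = 1 := by
    have h := congrArg σ e1
    rw [map_mul, map_mul, sT, sJ] at h
    calc T * J * J * T = T * J * J * (T * J) * J⁻¹ := by group
      _ = 1 := by rw [h, mul_inv_cancel]
  have J2 : J * J = T⁻¹ * T⁻¹ := by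
    calc J * J = T⁻¹ * (T * J * J * T) * T⁻¹ := by group
      _ = _ := by rw [e2]; group
  have cT : J * (T * T) = T * T * J := by
    have : T * T = (J * J)⁻¹ := by rw [J2]; simp
    rw [this]; group
  have cJ : J * T = T * T * T * J := by
    calc J * T = J * T * J * J * (J * J)⁻¹ := by group
      _ = T * J * (T * T) := by rw [e1, J2]; simp
      _ = _ := by rw [mul_assoc T J, cT]; group
  have T4 : T ^ 4 = 1 := by
    have h : J * (T * T) = T * T * T * (T * T * T) * J := by
      rw [← mul_assoc, cJ, mul_assoc (T * T * T) J T, cJ]; group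
    rw [cT] at h
    have h' := mul_right_cancel h
    calc T ^ 4 = (T * T)⁻¹ * (T * T * T * (T * T * T)) := by simp [pow_succ, mul_assoc]
      _ = 1 := by rw [← h', inv_mul_cancel]
  have Jsq : J * J = T * T := by
    rw [J2]
    calc T⁻¹ * T⁻¹ = T⁻¹ * T⁻¹ * T ^ 4 := by rw [T4, mul_one]
      _ = _ := by simp [pow_succ, mul_assoc]
  -- the set of normal forms
  let Q : Set S := {x | ∃ m b : ℕ, x = T ^ m * J ^ b}
  have JT : ∀ m : ℕ, J * T ^ m = T ^ (3 * m) * J := by
    intro m
    induction m with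
    | zero => simp
    | succ m ih =>
      rw [pow_succ, ← mul_assoc, ih, mul_assoc, cJ, show 3 * (m + 1) = 3 * m + 3 by ring, pow_add,
        show (T : S) ^ 3 = T * T * T by simp only [pow_succ, pow_zero, one_mul]]
      simp only [mul_assoc]
  have JbT : ∀ b m : ℕ, ∃ m', J ^ b * T ^ m = T ^ m' * J ^ b := by
    intro b
    induction b with
    | zero => exact fun m => ⟨m, by simp⟩
    | succ b ih =>
      intro m
      obtain ⟨m', hm'⟩ := ih m
      exact ⟨3 * m', by rw [pow_succ', mul_assoc, hm', ← mul_assoc, JT, mul_assoc]⟩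
  have Qmul : ∀ x ∈ Q, ∀ y ∈ Q, x * y ∈ Q := by
    rintro _ ⟨m, b, rfl⟩ _ ⟨m₂, b₂, rfl⟩
    obtain ⟨m', hm'⟩ := JbT b m₂
    refine ⟨m + m', b + b₂, ?_⟩
    rw [pow_add, pow_add, mul_assoc (T ^ m), ← mul_assoc (J ^ b), hm']
    simp only [mul_assoc]
  have Qpow : ∀ x ∈ Q, ∀ k : ℕ, x ^ k ∈ Q := by
    intro x hx k
    induction k with
    | zero => exact ⟨0, 0, by simp⟩
    | succ k ih => rw [pow_succ]; exact Qmul _ ih _ hx
  let L : Subgroup S := Subgroup.closure {T, R}
  have hform : ∀ x ∈ L, ∃ y ∈ Q, ∃ c : ℕ, x = y * R ^ c := by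
    have stepT : ∀ x : S, (∃ y ∈ Q, ∃ c : ℕ, x = y * R ^ c) → ∃ y ∈ Q, ∃ c : ℕ, T * x = y * R ^ c := by
      rintro _ ⟨y, hy, c, rfl⟩
      exact ⟨T * y, Qmul T ⟨1, 0, by simp⟩ y hy, c, by rw [mul_assoc]⟩
    have stepR : ∀ x : S, (∃ y ∈ Q, ∃ c : ℕ, x = y * R ^ c) → ∃ y ∈ Q, ∃ c : ℕ, R * x = y * R ^ c := by
      rintro _ ⟨_, ⟨m, b, rfl⟩, c, rfl⟩
      refine ⟨σ (T ^ m * J ^ b), ?_, c + 1, ?_⟩
      · rw [map_mul, map_pow, map_pow, sT, sJ]
        exact Qmul _ (Qpow J ⟨0, 1, by simp⟩ m) _ (Qpow _ ⟨1, 1, by simp⟩ b)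
      · show _ = R * (T ^ m * J ^ b) * R⁻¹ * R ^ (c + 1)
        rw [pow_succ']; group
    intro x hx
    induction hx using Subgroup.closure_induction_left with
    | one => exact ⟨1, ⟨0, 0, by simp⟩, 0, by simp⟩
    | mul_left s hs x hx ih =>
      rcases hs with hs | hs
      · rw [hs]; exact stepT _ ih
      · rw [Set.mem_singleton_iff.1 hs]; exact stepR _ ih
    | inv_mul_cancel s hs x hx ih =>
      rcases hs with hs | hs
      · rw [hs]
        have : T⁻¹ = T * (T * T) := inv_eq_of_mul_eq_one_right (by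
          rw [← T4]; simp [pow_succ, mul_assoc])
        rw [this, mul_assoc, mul_assoc]
        exact stepT _ (stepT _ (stepT _ ih))
      · rw [Set.mem_singleton_iff.1 hs]
        have : R⁻¹ = R * R := inv_eq_of_mul_eq_one_right (by
          rw [← R3]; simp [pow_succ, mul_assoc])
        rw [this, mul_assoc]
        exact stepR _ (stepR _ ih)
  have red : ∀ x ∈ L, g x = 1 → x = 1 := by
    intro x hx hgx
    obtain ⟨_, ⟨m, b, rfl⟩, c, rfl⟩ := hform x hx
    obtain ⟨m', b', hb', hm', hq'⟩ : ∃ m' b', b' < 2 ∧ m' < 4 ∧ T ^ m * J ^ b = T ^ m' * J ^ b' := by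
      refine ⟨(m + 2 * (b / 2)) % 4, b % 2, Nat.mod_lt _ (by norm_num), Nat.mod_lt _ (by norm_num), ?_⟩
      rw [← pow_eq_pow_mod _ T4, pow_add, mul_assoc]
      congr 1
      conv_lhs => rw [← Nat.div_add_mod b 2, pow_add, pow_mul, pow_two, Jsq, ← pow_two, ← pow_mul]
    rw [hq', pow_eq_pow_mod c R3] at hgx ⊢
    have hc' : c % 3 < 3 := Nat.mod_lt _ (by norm_num)
    generalize c % 3 = c' at hgx hc' ⊢
    have hu : t ^ m' * j ^ b' * r ^ c' = 1 := ha (by
      rw [map_mul, map_mul, map_pow, map_pow, map_pow, map_one, ← gT, ← gJ, ← gR, ← map_pow, ← map_pow,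
        ← map_pow, ← map_mul, ← map_mul, hgx])
    have h1 : (1 : F) + ω ≠ 0 := fun e => by
      have := nm_one_add hF hq hω; rw [e, nm_zero] at this
      exact one_ne_zero (α := F) (by linear_combination this)
    have h2 : (1 : F) - ω ≠ 0 := fun e => by
      have := nm_one_sub hF hq hω; rw [e, nm_zero] at this
      exact one_ne_zero (α := F) (by linear_combination this)
    have t0 : mv t (bv F 0) = ω • bv F 0 := by
      rw [ht, tt, el2_mv_zero]; funext i; fin_cases i <;> simp [bv]
    have tpow : ∀ k : ℕ, mv (t ^ k) (bv F 0) = ω ^ k • bv F 0 := by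
      intro k
      induction k with
      | zero => rw [pow_zero, mv_one, pow_zero, one_smul]
      | succ k ih => rw [pow_succ, mv_mul, t0, mv_smul, ih, smul_smul, pow_succ']
    have t4 : t ^ 4 = 1 := by
      rw [show 4 = 2 + 2 from rfl, pow_add, pow_two, ht, tt_sq, zz_sq]
    have jrow : ∀ k : ℕ, mv (t ^ k * j) (bv F 0) 0 = 0 := by
      intro k
      induction k with
      | zero => rw [pow_zero, one_mul, hj, jj, el2_mv_zero]; rfl
      | succ k ih =>
        rw [pow_succ', mul_assoc, mv_mul]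
        generalize mv (t ^ k * j) (bv F 0) = v at ih
        show ((!![ω, -qFrob hF 0; 0, qFrob hF ω] : Matrix (Fin 2) (Fin 2) F) *ᵥ v) 0 = 0
        simp [Matrix.mulVec, dotProduct, Fin.sum_univ_two, ih]
    have mono : mv (t ^ m' * j ^ b') (bv F 0) 1 = 0 ∨ mv (t ^ m' * j ^ b') (bv F 0) 0 = 0 := by
      interval_cases b'
      · left; rw [pow_zero, mul_one, tpow]; simp [bv]
      · right; rw [pow_one]; exact jrow m'
    obtain ⟨hm0, hb0, hc0⟩ : m' = 0 ∧ b' = 0 ∧ c' = 0 := by
      have hc0 : c' = 0 := by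
        by_contra hc
        have hinv : t ^ m' * j ^ b' = (r ^ c')⁻¹ := eq_inv_of_mul_eq_one_left hu
        have hri := inv_eq_of_mul_eq_one_right (rr_inv hF hq hω)
        rw [hinv, hr'] at mono
        interval_cases c'
        · exact hc rfl
        · rw [pow_one, hri, el2_mv_zero] at mono
          rcases mono with e | e
          · exact neg_ne_zero.2 h2 e
          · exact h2 e
        · rw [inv_eq_of_mul_eq_one_right (by rw [pow_two]; exact rr_cube hF hq hω), rr, el2_mv_zero] at mono
          rcases mono with e | e <;> simp [h1, h2] at e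
      subst hc0
      rw [pow_zero, mul_one] at hu
      interval_cases b'
      · refine ⟨?_, rfl, rfl⟩
        rw [pow_zero, mul_one] at hu
        have e := tpow m'
        rw [hu, mv_one] at e
        have e0 := congrFun e 0
        simp [bv] at e0
        interval_cases m'
        · rfl
        · exfalso; rw [pow_one] at e0; rw [← e0] at hω
          exact two_ne_three hF hq (by linear_combination hω)
        · exfalso; rw [pow_two, hω] at e0
          exact two_ne_three hF hq (by linear_combination e0)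
        · exfalso
          have e1 : ω = -1 := by linear_combination -(-1:F) * e0 + ω * hω
          rw [e1] at hω
          exact two_ne_three hF hq (by linear_combination hω)
      · exfalso
        rw [pow_one] at hu
        have e := jrow m'
        rw [hu, mv_one] at e
        simp [bv] at e
    rw [hm0, hb0, hc0]; simp
  have hsurj : ∀ u, ∃ x ∈ L, g x = a u := by
    have hT' : T ∈ L := Subgroup.subset_closure (by simp)
    have hR' : R ∈ L := Subgroup.subset_closure (by simp)
    have htop : (L.map g).comap a = ⊤ := gens_top hF hq hω ⟨T, hT', gT⟩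
      ⟨J, by rw [hJ]; exact L.mul_mem (L.mul_mem hR' hT') (L.inv_mem hR'), gJ⟩ ⟨R, hR', gR⟩
    intro u
    obtain ⟨x, hx, e⟩ := (show u ∈ (L.map g).comap a by rw [htop]; exact Subgroup.mem_top u)
    exact ⟨x, hx, e⟩
  choose f hfL hfg using hsurj
  refine ⟨{ toFun := f, map_one' := red _ (hfL 1) (by rw [hfg, map_one]), map_mul' := fun u v => ?_ },
    MonoidHom.ext hfg⟩
  have hm := red _ (L.mul_mem (L.inv_mem (hfL (u * v))) (L.mul_mem (hfL u) (hfL v)))
    (by rw [map_mul, map_inv, map_mul, hfg, hfg, hfg, ← map_mul, inv_mul_cancel])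
  exact (inv_mul_eq_one.1 hm)

end Cfsg.Agent.Recog.Phan
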