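import Cfsg.Agent.Lib.Recog.PhanHerm

/-!
Transitivity and generation of special unitary groups by adjacent two-dimensional blocks.
-/

set_option autoImplicit false
set_option linter.unusedSectionVars false

namespace Cfsg.Agent.Recog.Phan

open Matrix Cfsg.Agent.Classical Cfsg.Agent.Lie.SpnPres


/-- Consecutive coordinates. -/
def sh (k m n : ℕ) (h : k + m ≤ n) : Fin m ↪ Fin n :=
  ⟨fun a => ⟨k + a, by omega⟩, fun a b hab => Fin.ext (by simpa using congrArg Fin.val hab)⟩

theorem sh_val {k m n : ℕ} (h : k + m ≤ n) (a : Fin m) : (sh k m n h a : ℕ) = k + a := rfl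

theorem sh_trans {j l k m n : ℕ} (h : j + l ≤ m) (h' : k + m ≤ n) :
    (sh j l m h).trans (sh k m n h') = sh (k + j) l n (by omega) := by
  refine Function.Embedding.ext fun a => Fin.ext ?_
  simp [Function.Embedding.trans_apply, sh_val, add_assoc]

theorem sh_refl (n : ℕ) (h : 0 + n ≤ n) : sh 0 n n h = Function.Embedding.refl (Fin n) := by
  refine Function.Embedding.ext fun a => Fin.ext ?_
  simp [sh_val]

variable {F : Type*} [Field F] [Fintype F] {q : ℕ} (hF : Fintype.card F = q ^ 2)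

include hF

theorem exists_nm {t : F} (ht : qFrob hF t = t) : ∃ c, nm hF c = t := by
  rcases eq_or_ne t 0 with rfl | ht0
  · exact ⟨0, nm_zero hF⟩
  · have h := natCard_norm_eq hF (by rwa [← qFrob_apply hF]) ht0
    obtain ⟨c⟩ := (Nat.card_pos_iff.1 (show 0 < Nat.card {c : F // c ^ (q + 1) = t} by omega)).1
    exact ⟨c.1, by rw [nm, qFrob_apply, ← pow_succ']; exact c.2⟩

theorem exists_trace {T : F} (hT : qFrob hF T = T) : ∃ μ, μ + qFrob hF μ = T := by
  obtain ⟨μ, hμ⟩ : ∃ μ : F, μ + qFrob hF μ ≠ 0 := by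
    by_contra hne
    push Not at hne
    have h2 : (1 : F) + 1 = 0 := by simpa using hne 1
    refine qFrob_ne_id hF (RingHom.ext fun x => ?_)
    rw [RingHom.id_apply]
    linear_combination hne x - x * h2
  set s := μ + qFrob hF μ
  have hs : qFrob hF s = s := by simp only [s, map_add, qFrob_qFrob]; ring
  refine ⟨μ * (T / s), ?_⟩
  rw [map_mul, map_div₀, hT, hs, ← add_mul]
  exact mul_div_cancel₀ T hμ

theorem avoid3 (hq : 4 < q) (a b c : F) :
    ∃ T : F, qFrob hF T = T ∧ T ≠ 0 ∧ T ≠ a ∧ T ≠ b ∧ T ≠ c := by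
  classical
  set K := (powMonoidHom (q - 1) : Fˣ →* Fˣ).ker
  have hK : Nat.card K = q - 1 := by
    rw [IsCyclic.card_powMonoidHom_ker, Nat.card_units, Nat.card_eq_fintype_card, hF]
    refine Nat.gcd_eq_right ⟨q + 1, ?_⟩
    obtain ⟨r, rfl⟩ : ∃ r, q = r + 1 := ⟨q - 1, by omega⟩
    rw [Nat.add_sub_cancel, show (r + 1) ^ 2 = r * (r + 1 + 1) + 1 by ring, Nat.add_sub_cancel]
  set s : Finset F := Finset.univ.image (fun u : K => ((u : Fˣ) : F))
  have hs : s.card = q - 1 := by
    rw [Finset.card_image_of_injective _ (fun u v h => Subtype.ext (Units.ext h)), Finset.card_univ,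
      ← Nat.card_eq_fintype_card, hK]
  obtain ⟨T, hT, hT'⟩ := Finset.exists_mem_notMem_of_card_lt_card (s := ({a, b, c} : Finset F)) (t := s)
    (lt_of_le_of_lt Finset.card_le_three (by omega))
  obtain ⟨u, -, rfl⟩ := Finset.mem_image.1 hT
  simp only [Finset.mem_insert, Finset.mem_singleton, not_or] at hT'
  refine ⟨_, ?_, Units.ne_zero _, hT'.1, hT'.2.1, hT'.2.2⟩
  have hu : ((u : Fˣ) : F) ^ (q - 1) = 1 := by
    have h := MonoidHom.mem_ker.1 u.2
    simp only [powMonoidHom_apply] at h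
    rw [← Units.val_pow_eq_pow_val, h, Units.val_one]
  rw [qFrob_apply]
  calc ((u : Fˣ) : F) ^ q = ((u : Fˣ) : F) ^ (q - 1) * ((u : Fˣ) : F) := by
        rw [← pow_succ, Nat.sub_add_cancel (by omega)]
    _ = _ := by rw [hu, one_mul]

theorem avoid2 (hq : 3 < q) (a b : F) :
    ∃ T : F, qFrob hF T = T ∧ T ≠ 0 ∧ T ≠ a ∧ T ≠ b := by
  classical
  set K := (powMonoidHom (q - 1) : Fˣ →* Fˣ).ker
  have hK : Nat.card K = q - 1 := by
    rw [IsCyclic.card_powMonoidHom_ker, Nat.card_units, Nat.card_eq_fintype_card, hF]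
    refine Nat.gcd_eq_right ⟨q + 1, ?_⟩
    obtain ⟨r, rfl⟩ : ∃ r, q = r + 1 := ⟨q - 1, by omega⟩
    rw [Nat.add_sub_cancel, show (r + 1) ^ 2 = r * (r + 1 + 1) + 1 by ring, Nat.add_sub_cancel]
  set s : Finset F := Finset.univ.image (fun u : K => ((u : Fˣ) : F))
  have hs : s.card = q - 1 := by
    rw [Finset.card_image_of_injective _ (fun u v h => Subtype.ext (Units.ext h)), Finset.card_univ,
      ← Nat.card_eq_fintype_card, hK]
  obtain ⟨T, hT, hT'⟩ := Finset.exists_mem_notMem_of_card_lt_card (s := ({a, b} : Finset F)) (t := s)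
    (lt_of_le_of_lt Finset.card_le_two (by omega))
  obtain ⟨u, -, rfl⟩ := Finset.mem_image.1 hT
  simp only [Finset.mem_insert, Finset.mem_singleton, not_or] at hT'
  refine ⟨_, ?_, Units.ne_zero _, hT'.1, hT'.2⟩
  have hu : ((u : Fˣ) : F) ^ (q - 1) = 1 := by
    have h := MonoidHom.mem_ker.1 u.2
    simp only [powMonoidHom_apply] at h
    rw [← Units.val_pow_eq_pow_val, h, Units.val_one]
  rw [qFrob_apply]
  calc ((u : Fˣ) : F) ^ q = ((u : Fˣ) : F) ^ (q - 1) * ((u : Fˣ) : F) := by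
        rw [← pow_succ, Nat.sub_add_cancel (by omega)]
    _ = _ := by rw [hu, one_mul]

theorem exists_circle : ∃ ζ : F, nm hF ζ = 1 ∧ ζ ^ 2 ≠ 1 := by
  obtain ⟨u, hu⟩ := IsCyclic.exists_ofOrder_eq_natCard (α := Fˣ)
  rw [Nat.card_units, Nat.card_eq_fintype_card, hF] at hu
  have h2 := two_le_q hF
  obtain ⟨r, rfl⟩ : ∃ r, q = r + 1 := ⟨q - 1, by omega⟩
  have hord : orderOf u = r * r + 2 * r := by
    rw [hu, show (r + 1) ^ 2 = r * r + 2 * r + 1 by ring, Nat.add_sub_cancel]
  refine ⟨((u ^ r : Fˣ) : F), ?_, fun h => ?_⟩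
  · rw [nm, qFrob_apply, ← pow_succ', ← Units.val_pow_eq_pow_val, ← pow_mul,
      show r * (r + 1 + 1) = orderOf u by rw [hord]; ring, pow_orderOf_eq_one, Units.val_one]
  · rw [← Units.val_pow_eq_pow_val, ← pow_mul, ← Units.val_one] at h
    have h' := Nat.le_of_dvd (by omega) (orderOf_dvd_of_pow_eq_one (Units.ext h))
    rw [hord] at h'
    have : 0 < r * r := Nat.mul_pos (by omega) (by omega)
    omega

/-- With sixteen elements twice anything vanishes. -/
theorem two_zero_of_four (hq : q = 4) : (1 + 1 : F) = 0 := by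
  subst hq
  have h := FiniteField.cast_card_eq_zero F
  rw [hF] at h
  norm_num at h
  have h2 : (1 + 1 : F) ^ 4 = 0 := by linear_combination h
  exact eq_zero_of_pow_eq_zero h2

/-- With sixteen elements the norm-one elements span additively. -/
theorem circle_span (hq : q = 4) (H : AddSubgroup F) (hH : ∀ ζ : F, nm hF ζ = 1 → ζ ∈ H) (z : F) : z ∈ H := by
  have two := two_zero_of_four hF hq
  have hs : ∀ x : F, qFrob hF x = x ^ 4 := fun x => by rw [qFrob_apply, hq]
  rcases eq_or_ne z 0 with rfl | hz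
  · exact H.zero_mem
  set T := nm hF z with hT
  by_cases hT1 : T = 1
  · exact hH z hT1
  have hT0 : T ≠ 0 := fun h => hz ((nm_eq_zero hF).1 h)
  have hT4 : T ^ 4 = T := by rw [← hs]; exact nm_fix hF z
  have hTq : T ^ 2 + T + 1 = 0 := by
    have : T * (T - 1) * (T ^ 2 + T + 1) = 0 := by linear_combination hT4
    exact (mul_eq_zero.1 this).resolve_left (mul_ne_zero hT0 (sub_ne_zero.2 hT1))
  obtain ⟨ζ, hζ, hζ2⟩ := exists_circle hF
  rw [nm, hs] at hζ
  have hζ1 : ζ - 1 ≠ 0 := fun h => hζ2 (by rw [sub_eq_zero.1 h, one_pow])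
  have hsum : ζ ^ 4 + ζ ^ 3 + ζ ^ 2 + ζ + 1 = 0 := by
    have : (ζ - 1) * (ζ ^ 4 + ζ ^ 3 + ζ ^ 2 + ζ + 1) = 0 := by linear_combination hζ
    exact (mul_eq_zero.1 this).resolve_left hζ1
  obtain ⟨u, hu, huT⟩ : ∃ u, u * u ^ 4 = 1 ∧ u + u ^ 4 = T := by
    have : (T - (ζ + ζ ^ 4)) * (T - (ζ ^ 2 + ζ ^ 3)) = 0 := by
      linear_combination hTq + (-T + 1) * hsum + ((ζ ^ 4 + ζ ^ 3 + ζ ^ 2 + ζ) - 1) * 0 +
        (ζ ^ 2 + ζ) * hζ - two * (1 : F)
    rcases mul_eq_zero.1 this with e | e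
    · exact ⟨ζ, hζ, (sub_eq_zero.1 e).symm⟩
    · refine ⟨ζ ^ 2, by linear_combination (ζ * ζ ^ 4 + 1) * hζ, ?_⟩
      rw [sub_eq_zero.1 e]
      linear_combination (ζ ^ 3) * hζ
  have hv : nm hF (1 + u) = T := by
    rw [nm, map_add, map_one, hs]
    linear_combination hu + huT + two
  have h1u : 1 + u ≠ 0 := fun h => hT0 (by rw [← hv, h, nm_zero])
  have hw : nm hF (z / (1 + u)) = 1 := by
    rw [div_eq_mul_inv, nm_mul, nm_inv, hv, ← hT, mul_inv_cancel₀ hT0]
  have hwu : nm hF (u * (z / (1 + u))) = 1 := by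
    rw [nm_mul, hw, mul_one, nm, hs, hu]
  have := H.add_mem (hH _ hw) (hH _ hwu)
  rwa [← one_add_mul, mul_div_cancel₀ z h1u] at this

/-- With nine elements three vanishes. -/
theorem three_zero_of_three (hq : q = 3) : (3 : F) = 0 := by
  subst hq
  have h := FiniteField.cast_card_eq_zero F
  rw [hF] at h
  norm_num at h
  exact eq_zero_of_pow_eq_zero (show (3 : F) ^ 2 = 0 by linear_combination h)

theorem exists_unit_ne (hq : 2 < q) {m : ℕ} (hm2 : 2 ≤ m) (t : Fin m → F) :
    ∃ w, hm hF w w = 1 ∧ nm hF (hm hF t w) ≠ -1 := by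
  by_cases h : ∃ j, nm hF (t j) ≠ -1
  · obtain ⟨j, hj⟩ := h
    exact ⟨bv F j, by rw [hm_bv, if_pos rfl], by rwa [hm_bv_right]⟩
  push Not at h
  set i₀ : Fin m := ⟨0, by omega⟩
  set i₁ : Fin m := ⟨1, by omega⟩
  have hne : i₀ ≠ i₁ := by simp [i₀, i₁, Fin.ext_iff]
  have h0 : ∀ j, t j ≠ 0 := fun j hj => by
    have := h j; rw [hj, nm_zero] at this; exact one_ne_zero (α := F) (by linear_combination this)
  rcases Nat.eq_or_lt_of_le (show 3 ≤ q by omega) with hq3 | hq4
  · have h3 := three_zero_of_three hF hq3.symm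
    have htn : ∀ j, nm hF (qFrob hF (1 / t j)) = -1 := fun j => by
      rw [nm_conj, one_div, nm_inv, h j, inv_neg_one]
    refine ⟨qFrob hF (1 / t i₀) • bv F i₀ + qFrob hF (1 / t i₁) • bv F i₁, ?_, ?_⟩
    · simp only [hm_add_left, hm_add_right, hm_smul_left, hm_smul_right, hm_bv, if_neg hne,
        if_neg hne.symm, if_true, qFrob_qFrob]
      have a := htn i₀; have b := htn i₁
      simp only [nm, qFrob_qFrob] at a b
      linear_combination a + b - h3
    · rw [hm_add_right, hm_smul_right, hm_smul_right, hm_bv_right, hm_bv_right, qFrob_qFrob, qFrob_qFrob,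
        div_mul_cancel₀ _ (h0 _), div_mul_cancel₀ _ (h0 _)]
      intro hh
      simp only [nm, map_add, map_one] at hh
      exact one_ne_zero (α := F) (by linear_combination 2 * h3 - hh)
  obtain ⟨K, hKf, hK0, hK1, -⟩ := avoid2 hF hq4 (-1) (-1)
  obtain ⟨x, hx⟩ := exists_nm hF hKf
  obtain ⟨y, hy⟩ := exists_nm hF (t := -1 - K) (by simp [hKf])
  obtain ⟨y', hy', htr⟩ : ∃ y', nm hF y' = -1 - K ∧ x * qFrob hF y' + qFrob hF x * y' ≠ 0 := by
    by_cases ht : x * qFrob hF y + qFrob hF x * y = 0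
    · obtain ⟨ζ, hζ, hζ2⟩ := exists_circle hF
      refine ⟨ζ * y, by rw [nm_mul, hζ, one_mul, hy], fun hh => hζ2 ?_⟩
      have hxy : qFrob hF x * y ≠ 0 := by
        refine mul_ne_zero ?_ ?_
        · rw [Ne, map_eq_zero]; rintro rfl; rw [nm_zero] at hx; exact hK0 hx.symm
        · rintro rfl; rw [nm_zero] at hy; exact hK1 (by linear_combination hy)
      rw [map_mul] at hh
      rw [nm] at hζ
      have hh2 : (ζ - qFrob hF ζ) * (qFrob hF x * y) = 0 := by
        linear_combination hh - qFrob hF ζ * ht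
      rcases mul_eq_zero.1 hh2 with e | e
      · linear_combination hζ + ζ * e
      · exact absurd e hxy
    · exact ⟨y, hy, ht⟩
  have htn : ∀ j (z : F), nm hF (qFrob hF (z / t j)) = -nm hF z := fun j z => by
    rw [nm_conj, div_eq_mul_inv, nm_mul, nm_inv, h j, inv_neg_one, mul_neg_one]
  refine ⟨qFrob hF (x / t i₀) • bv F i₀ + qFrob hF (y' / t i₁) • bv F i₁, ?_, ?_⟩
  · simp only [hm_add_left, hm_add_right, hm_smul_left, hm_smul_right, hm_bv, if_neg hne,
      if_neg hne.symm, if_true, qFrob_qFrob]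
    have a := htn i₀ x; have b := htn i₁ y'
    simp only [nm, qFrob_qFrob] at a b
    simp only [nm] at hx hy'
    linear_combination a + b - hx - hy'
  · rw [hm_add_right, hm_smul_right, hm_smul_right, hm_bv_right, hm_bv_right, qFrob_qFrob, qFrob_qFrob,
      div_mul_cancel₀ _ (h0 _), div_mul_cancel₀ _ (h0 _)]
    intro hh
    refine htr ?_
    simp only [nm, map_add] at hh hx hy'
    linear_combination hh - hx - hy'

theorem perp_pair {m : ℕ} (v : Fin m → F) {i j : Fin m} (hij : i ≠ j)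
    (h : nm hF (v i) + nm hF (v j) ≠ 0) : ∃ g, hm hF g g = 1 ∧ hm hF g v = 0 := by
  obtain ⟨c, hc⟩ := exists_nm hF (t := nm hF (v i) + nm hF (v j)) (by rw [map_add, nm_fix, nm_fix])
  refine ⟨c⁻¹ • (qFrob hF (v j) • bv F i + (-qFrob hF (v i)) • bv F j), ?_, ?_⟩
  · rw [hm_self_smul, nm_inv, hc]
    simp only [hm_add_left, hm_add_right, hm_smul_left, hm_smul_right, hm_bv, if_neg hij, if_neg hij.symm,
      if_true, qFrob_qFrob, map_neg]
    rw [inv_mul_eq_iff_eq_mul₀ h, mul_one]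
    simp only [nm]; ring
  · rw [hm_smul_left, hm_add_left, hm_smul_left, hm_smul_left, hm_bv_left, hm_bv_left]
    ring

theorem perp_three {m : ℕ} (hm3 : 3 ≤ m) (v : Fin m → F) : ∃ g, hm hF g g = 1 ∧ hm hF g v = 0 := by
  by_cases hz : ∃ i, v i = 0
  · obtain ⟨i, hi⟩ := hz
    exact ⟨bv F i, by rw [hm_bv, if_pos rfl], by rw [hm_bv_left, hi, map_zero]⟩
  push Not at hz
  set a : Fin m := ⟨0, by omega⟩
  set b : Fin m := ⟨1, by omega⟩
  set c : Fin m := ⟨2, by omega⟩
  have hab : a ≠ b := by simp [a, b, Fin.ext_iff]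
  have hac : a ≠ c := by simp [a, c, Fin.ext_iff]
  have hbc : b ≠ c := by simp [b, c, Fin.ext_iff]
  by_cases h1 : nm hF (v a) + nm hF (v b) = 0
  swap; · exact perp_pair hF v hab h1
  by_cases h2 : nm hF (v a) + nm hF (v c) = 0
  swap; · exact perp_pair hF v hac h2
  by_cases h3 : nm hF (v b) + nm hF (v c) = 0
  swap; · exact perp_pair hF v hbc h3
  set K := nm hF (v a) with hK
  have hK0 : K ≠ 0 := fun h => hz a ((nm_eq_zero hF).1 h)
  have two : (1 : F) + 1 = 0 := by
    have : K * (1 + 1) = 0 := by linear_combination h1 + h2 - h3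
    exact (mul_eq_zero.1 this).resolve_left hK0
  have hb : nm hF (v b) = K := by linear_combination h1 - K * two
  have hc : nm hF (v c) = K := by linear_combination h2 - K * two
  obtain ⟨μ, hμ⟩ := exists_trace hF (T := 1) (map_one _)
  obtain ⟨d, hd⟩ := exists_nm hF (nm_fix hF (v a))
  set u := (1 / qFrob hF (v a)) • bv F a + (μ / qFrob hF (v b)) • bv F b +
    ((-1 - μ) / qFrob hF (v c)) • bv F c with hu
  refine ⟨d • u, ?_, ?_⟩
  · rw [hm_self_smul, hd, ← hK, hu]
    simp only [hm_add_left, hm_add_right, hm_smul_left, hm_smul_right, hm_bv, if_neg hab, if_neg hac,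
      if_neg hbc, if_neg hab.symm, if_neg hac.symm, if_neg hbc.symm, if_true, map_div₀, qFrob_qFrob,
      map_one, map_sub, map_neg]
    simp only [mul_zero, mul_one, add_zero, zero_add, div_mul_div_comm]
    rw [show v a * qFrob hF (v a) = K from rfl, show v b * qFrob hF (v b) = K from hb,
      show v c * qFrob hF (v c) = K from hc]
    field_simp
    linear_combination hμ + (1 + μ * qFrob hF μ) * two
  · rw [hm_smul_left, hu]
    simp only [hm_add_left, hm_smul_left, hm_bv_left]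
    have ha' : qFrob hF (v a) ≠ 0 := (map_ne_zero _).2 (hz a)
    have hb' : qFrob hF (v b) ≠ 0 := (map_ne_zero _).2 (hz b)
    have hc' : qFrob hF (v c) ≠ 0 := (map_ne_zero _).2 (hz c)
    field_simp
    ring

theorem perp_of {m : ℕ} (hm2 : 2 ≤ m) (v : Fin m → F) (hv : v = 0 ∨ hm hF v v ≠ 0) :
    ∃ g, hm hF g g = 1 ∧ hm hF g v = 0 := by
  rcases hv with rfl | hv
  · exact ⟨bv F ⟨0, by omega⟩, by rw [hm_bv, if_pos rfl], hm_zero_right hF _⟩
  rcases Nat.lt_or_ge m 3 with h3 | h3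
  · obtain rfl : m = 2 := by omega
    refine perp_pair hF v (show (0 : Fin 2) ≠ 1 by decide) ?_
    simpa [hm_eq, Fin.sum_univ_two, nm] using hv
  · exact perp_three hF h3 v

omit hF in
theorem comp_zero_of_out {m n : ℕ} (f : Fin m ↪ Fin n) {i : Fin n} (hi : ∀ a, f a ≠ i) :
    (bv F i) ∘ f = 0 := funext fun a => by simp [bv, hi a]

omit hF in
theorem bv_comp {m n : ℕ} (f : Fin m ↪ Fin n) (a : Fin m) : (bv F (f a)) ∘ f = bv F a :=
  funext fun c => by simp [bv, Pi.single_apply, f.injective.eq_iff]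

theorem emb_mv_bv {m n : ℕ} (f : Fin m ↪ Fin n) (u : SU m F q) (a b : Fin m) (ε : F)
    (h : mv u (bv F a) = ε • bv F b) : mv (emb hF f u) (bv F (f a)) = ε • bv F (f b) := by
  funext i
  by_cases hi : ∃ c, f c = i
  · obtain ⟨c, rfl⟩ := hi
    rw [emb_mv_in, bv_comp, h]
    simp [bv, Pi.single_apply]
  · push Not at hi
    rw [emb_mv_out hF _ _ _ hi]
    simp [bv, Pi.single_apply, Ne.symm (hi a), Ne.symm (hi b)]

theorem hm_zero_add {m : ℕ} (h : 1 + m ≤ m + 1) (u v : Fin (m + 1) → F) :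
    hm hF u v = u 0 * qFrob hF (v 0) + hm hF (u ∘ sh 1 m (m + 1) h) (v ∘ sh 1 m (m + 1) h) := by
  rw [hm_eq, hm_eq, Fin.sum_univ_succ]
  congr 1
  refine Finset.sum_congr rfl fun a _ => ?_
  have e : sh 1 m (m + 1) h a = a.succ := Fin.ext (by simp [sh_val, Nat.add_comm])
  simp [e]

theorem closure_blocks_aux (hq : 2 < q) : ∀ M : ℕ, (hM : 2 ≤ M) →
    (∀ X : Subgroup (SU M F q), (∀ i (h : i + 2 ≤ M), (emb hF (sh i 2 M h)).range ≤ X) → X = ⊤) ∧
      ∀ v : Fin M → F, hm hF v v = 1 → ∃ g : SU M F q, mv g (bv F ⟨0, by omega⟩) = v := by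
  intro M hM
  induction M, hM using Nat.le_induction with
  | base =>
    refine ⟨fun X hX => top_unique fun g _ => hX 0 (by omega) ?_, fun v hv => ?_⟩
    · refine mem_range_emb hF _ g fun i hi => absurd ?_ (hi i)
      exact Fin.ext (by simp [sh_val])
    · have hv' : nm hF (v 0) + nm hF (v 1) = 1 := by
        simpa [hm_eq, Fin.sum_univ_two, nm] using hv
      refine ⟨el2 hF (v 0) (v 1) hv', ?_⟩
      show mv _ (bv F (0 : Fin 2)) = v
      rw [el2_mv_zero]
      funext i; fin_cases i <;> rfl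
  | succ M hM ih =>
    obtain ⟨ihg, iht⟩ := ih
    have hs : 1 + M ≤ M + 1 := by omega
    have hp : 0 + 2 ≤ M + 1 := by omega
    set f := sh 1 M (M + 1) hs with hf
    set g2 := sh 0 2 (M + 1) hp with hg2
    set z0 : Fin M := ⟨0, by omega⟩
    have f0 : f z0 = g2 1 := Fin.ext (by simp [hf, hg2, sh_val, z0])
    have g00 : g2 0 = 0 := Fin.ext (by simp [hg2, sh_val])
    have fne : ∀ a, f a ≠ 0 := fun a h => by
      have := congrArg Fin.val h; simp [hf, sh_val] at this
    have zero_or : ∀ i : Fin (M + 1), i = 0 ∨ ∃ a, f a = i := fun i => by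
      refine Fin.cases (Or.inl rfl) (fun a => Or.inr ⟨a, ?_⟩) i
      exact Fin.ext (by simp [hf, sh_val, Nat.add_comm])
    have key : ∀ X : Subgroup (SU (M + 1) F q),
        (∀ i (h : i + 2 ≤ M + 1), (emb hF (sh i 2 (M + 1) h)).range ≤ X) →
        (∀ y, emb hF f y ∈ X) ∧ ∀ v : Fin (M + 1) → F, hm hF v v = 1 →
          ∃ x ∈ X, mv x v = bv F 0 := by
      intro X hX
      have hU : ∀ y, emb hF f y ∈ X := by
        have := ihg (X.comap (emb hF f)) (fun i h => by
          rintro _ ⟨g, rfl⟩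
          show emb hF f (emb hF (sh i 2 M h) g) ∈ X
          rw [emb_trans, hf, sh_trans]
          exact hX _ _ ⟨g, rfl⟩)
        intro y
        exact (show y ∈ X.comap (emb hF f) by rw [this]; exact Subgroup.mem_top y)
      refine ⟨hU, ?_⟩
      have stepA : ∀ v : Fin (M + 1) → F, hm hF v v = 1 →
          (v ∘ f = 0 ∨ hm hF (v ∘ f) (v ∘ f) ≠ 0) → ∃ x ∈ X, mv x v = bv F 0 := by
        intro v hv hc
        have hdec := hm_zero_add hF hs v v
        rw [hv, ← hf] at hdec
        obtain ⟨c, y, hy⟩ : ∃ (c : F) (y : SU M F q), v ∘ f = c • mv y (bv F z0) := by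
          rcases hc with h0 | hne
          · exact ⟨0, 1, by rw [h0, zero_smul]⟩
          · obtain ⟨c, hcn⟩ := exists_nm hF (hm_self_fix hF (v ∘ f))
            have hc0 : c ≠ 0 := fun h => hne (by rw [← hcn, h, nm_zero])
            obtain ⟨y, hy⟩ := iht (c⁻¹ • (v ∘ f)) (by rw [hm_self_smul, nm_inv, hcn, inv_mul_cancel₀ hne])
            exact ⟨c, y, by rw [hy, smul_inv_smul₀ hc0]⟩
        have hn : nm hF (v 0) + nm hF c = 1 := by
          rw [hy, hm_self_smul, mv_form, hm_bv, if_pos rfl, mul_one] at hdec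
          exact hdec.symm
        refine ⟨(emb hF f y * emb hF g2 (el2 hF (v 0) c hn))⁻¹,
          inv_mem (mul_mem (hU y) (hX 0 hp ⟨_, rfl⟩)), ?_⟩
        have hfwd : mv (emb hF f y * emb hF g2 (el2 hF (v 0) c hn)) (bv F 0) = v := by
          have h1 : mv (emb hF g2 (el2 hF (v 0) c hn)) (bv F 0) = v 0 • bv F 0 + c • bv F (f z0) := by
            funext i
            by_cases hi : ∃ a, g2 a = i
            · obtain ⟨a, rfl⟩ := hi
              rw [emb_mv_in, show (bv F (0 : Fin (M + 1))) ∘ g2 = bv F 0 by rw [← g00]; exact bv_comp g2 0,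
                el2_mv_zero, f0, Pi.add_apply, Pi.smul_apply, Pi.smul_apply]
              have : g2 1 ≠ 0 := fun h => absurd (g2.injective (h.trans g00.symm)) (by decide)
              fin_cases a
              · simp [bv, g00, this.symm]
              · simp [bv, this]
            · push Not at hi
              rw [emb_mv_out hF _ _ _ hi, Pi.add_apply, Pi.smul_apply, Pi.smul_apply]
              have h0 : i ≠ 0 := fun h => hi 0 (g00.trans h.symm)
              have h1 : i ≠ f z0 := fun h => hi 1 (f0.symm.trans h.symm)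
              simp [bv, h0, h1]
          rw [mv_mul, h1, mv_add, mv_smul, mv_smul, emb_fix_bv hF f y fne]
          funext i
          rcases zero_or i with rfl | ⟨a, rfl⟩
          · rw [Pi.add_apply, Pi.smul_apply, Pi.smul_apply, emb_mv_out hF f y _ fne]
            simp [bv, (fne z0).symm]
          · rw [Pi.add_apply, Pi.smul_apply, Pi.smul_apply, emb_mv_in, bv_comp,
              show v (f a) = (v ∘ f) a from rfl, hy]
            simp [bv, fne a]
        have e := congrArg (mv (emb hF f y * emb hF g2 (el2 hF (v 0) c hn))⁻¹) hfwd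
        rw [mv_inv_cancel] at e
        exact e.symm
      intro v hv
      by_cases hA : v ∘ f = 0 ∨ hm hF (v ∘ f) (v ∘ f) ≠ 0
      · exact stepA v hv hA
      push Not at hA
      obtain ⟨-, hiso⟩ := hA
      obtain ⟨w, hw, hwn⟩ := exists_unit_ne hF hq hM (v ∘ f)
      obtain ⟨y, hy⟩ := iht w hw
      set v' := mv (emb hF f y⁻¹) v with hv'
      have hv'0 : v' 0 = v 0 := emb_mv_out hF f _ v fne
      have hv'1 : v' (f z0) = hm hF (v ∘ f) w := by
        rw [hv', emb_mv_in, ← hm_bv_right hF (mv y⁻¹ (v ∘ f)), ← mv_form hF y, mv_cancel_inv, hy]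
      have hdec := hm_zero_add hF hs v v
      rw [hv, ← hf, hiso, add_zero] at hdec
      have hsum : nm hF (v' 0) + nm hF (v' (f z0)) ≠ 0 := by
        rw [hv'0, hv'1, nm, ← hdec]
        intro h; exact hwn (by linear_combination h)
      obtain ⟨d, hd⟩ := exists_nm hF (t := nm hF (v' 0) + nm hF (v' (f z0)))
        (by rw [map_add, nm_fix, nm_fix])
      have hd0 : d ≠ 0 := fun h => hsum (by rw [← hd, h, nm_zero])
      have hab : nm hF (qFrob hF (v' (f z0) / d)) + nm hF (-qFrob hF (v' 0 / d)) = 1 := by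
        rw [nm_neg, nm_conj, nm_conj, div_eq_mul_inv, div_eq_mul_inv, nm_mul, nm_mul, ← add_mul,
          add_comm, ← hd, ← nm_mul, mul_inv_cancel₀ hd0, nm_one]
      set u := el2 hF _ _ hab with hu
      have hu1 : mv u⁻¹ ![v' 0, v' (f z0)] = ![0, d] := by
        have : mv u ![0, d] = ![v' 0, v' (f z0)] := by
          funext i
          fin_cases i <;> simp [mv, hu, el2, qFrob_qFrob, div_mul_cancel₀ _ hd0, mul_div_cancel₀ _ hd0]
        rw [← this, mv_inv_cancel]
      set v'' := mv (emb hF g2 u⁻¹) v' with hv''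
      have hv''0 : v'' 0 = 0 := by
        rw [hv'', ← g00, emb_mv_in,
          show v' ∘ g2 = ![v' 0, v' (f z0)] from funext fun a => by
            fin_cases a
            · show v' (g2 0) = _; rw [g00]; rfl
            · show v' (g2 1) = _; rw [← f0]; rfl, hu1]
        rfl
      have hn'' : hm hF v'' v'' = 1 := by rw [hv'', mv_form, hv', mv_form, hv]
      obtain ⟨x, hx, hxv⟩ := stepA v'' hn'' (Or.inr (by
        have h2 := hm_zero_add hF hs v'' v''
        rw [hn'', hv''0, zero_mul, zero_add, ← hf] at h2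
        rw [← h2]; exact one_ne_zero))
      refine ⟨x * emb hF g2 u⁻¹ * emb hF f y⁻¹, mul_mem (mul_mem hx (hX 0 hp ⟨_, rfl⟩)) (hU _), ?_⟩
      rw [mv_mul, mv_mul, ← hv', ← hv'', hxv]
    refine ⟨fun X hX => top_unique fun g _ => ?_, fun v hv => ?_⟩
    · obtain ⟨hU, htr⟩ := key X hX
      obtain ⟨x, hx, hxv⟩ := htr (mv g (bv F 0)) (by rw [mv_form, hm_bv, if_pos rfl])
      have : x * g ∈ X := by
        obtain ⟨y, hy⟩ := mem_range_emb hF f (x * g) fun i hi => by
          rcases zero_or i with rfl | ⟨a, rfl⟩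
          · rw [mv_mul, hxv]
          · exact absurd rfl (hi a)
        rw [← hy]; exact hU y
      have := mul_mem (inv_mem hx) this
      rwa [inv_mul_cancel_left] at this
    · obtain ⟨x, -, hxv⟩ := (key ⊤ fun _ _ => le_top).2 v hv
      refine ⟨x⁻¹, ?_⟩
      show mv x⁻¹ (bv F 0) = v
      rw [← hxv, mv_inv_cancel]

theorem closure_blocks (hq : 2 < q) {M : ℕ} (hM : 2 ≤ M) {X : Subgroup (SU M F q)}
    (hX : ∀ i (h : i + 2 ≤ M), (emb hF (sh i 2 M h)).range ≤ X) : X = ⊤ :=
  (closure_blocks_aux hF hq M hM).1 X hX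

theorem exists_move (hq : 2 < q) {M : ℕ} (hM : 2 ≤ M) (j : Fin M) (hj : (j : ℕ) = 0) {v : Fin M → F}
    (hv : hm hF v v = 1) : ∃ g : SU M F q, mv g (bv F j) = v := by
  rw [show j = ⟨0, by omega⟩ from Fin.ext hj]
  exact (closure_blocks_aux hF hq M hM).2 v hv

end Cfsg.Agent.Recog.Phan
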