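import Cfsg.Agent.Lib.Recog.PhanPair

/-!
Semilinear monomial automorphisms of special unitary groups.
-/

set_option autoImplicit false
set_option linter.unusedSectionVars false

namespace Cfsg.Agent.Recog.Phan

open Matrix Cfsg.Agent.Classical Cfsg.Agent.Lie.SpnPres

variable {F : Type*} [Field F] [Fintype F] {q : ℕ} (hF : Fintype.card F = q ^ 2)

omit [Fintype F] in
theorem mv_bv {n : ℕ} (g : SU n F q) (i j : Fin n) : mv g (bv F i) j = g.1.1 j i := by
  simp [mv, bv, Matrix.mulVec_single_one]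

omit [Fintype F] in
theorem isDiag_iff {n : ℕ} {g : SU n F q} : IsDiag g ↔ ∀ i j, i ≠ j → g.1.1 i j = 0 := by
  constructor
  · intro h i j hij
    obtain ⟨κ, hκ⟩ := h j
    rw [← mv_bv, hκ]
    simp [bv, hij]
  · intro h i
    refine ⟨g.1.1 i i, funext fun j => ?_⟩
    rw [mv_bv]
    by_cases hji : j = i
    · subst hji; simp [bv]
    · simp [bv, h j i hji, hji]

include hF

theorem qFrob_ringEquiv (τ : F ≃+* F) (x : F) : qFrob hF (τ x) = τ (qFrob hF x) := by
  rw [qFrob_apply, qFrob_apply, map_pow]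

/-- The involution as an automorphism. -/
noncomputable def qE : F ≃+* F :=
  RingEquiv.ofBijective (qFrob hF) (Function.Involutive.bijective (qFrob_qFrob hF))

theorem qE_apply (x : F) : qE hF x = qFrob hF x := rfl

theorem hm_map (τ : F ≃+* F) {n : ℕ} (u v : Fin n → F) : hm hF (τ ∘ u) (τ ∘ v) = τ (hm hF u v) := by
  simp only [hm_eq, Function.comp_apply, qFrob_ringEquiv hF, map_sum, map_mul]

omit hF [Fintype F] in
theorem twist_mulVec {n : ℕ} (τ : F ≃+* F) (c : Fin n → F) (A : Matrix (Fin n) (Fin n) F) (v : Fin n → F)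
    (i : Fin n) :
    ((Matrix.diagonal c * A.map τ * Matrix.diagonal c⁻¹) *ᵥ v) i =
      c i * τ ((A *ᵥ fun j => τ.symm ((c j)⁻¹ * v j)) i) := by
  rw [← Matrix.mulVec_mulVec, ← Matrix.mulVec_mulVec, Matrix.mulVec_diagonal]
  congr 1
  simp [Matrix.mulVec, dotProduct, map_sum, Matrix.diagonal]

/-- The twist by a diagonal isometry and a field automorphism. -/
def tw {n : ℕ} (τ : F ≃+* F) (c : Fin n → F) (hc : ∀ i, nm hF (c i) = 1) : SU n F q →* SU n F q :=
  have h0 : ∀ i, c i ≠ 0 := fun i h => by simpa [h, nm_zero hF] using hc i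
  have hdd : Matrix.diagonal c⁻¹ * Matrix.diagonal c = 1 := by
    rw [Matrix.diagonal_mul_diagonal, ← Matrix.diagonal_one]
    congr 1; funext i; simp [h0 i]
  have hdd' : Matrix.diagonal c * Matrix.diagonal c⁻¹ = 1 := by
    rw [Matrix.diagonal_mul_diagonal, ← Matrix.diagonal_one]
    congr 1; funext i; simp [h0 i]
  { toFun := fun g => ⟨⟨Matrix.diagonal c * g.1.1.map τ * Matrix.diagonal c⁻¹, by
      rw [Matrix.det_mul, Matrix.det_mul, show (g.1.1.map τ).det = τ g.1.1.det from
        (τ.map_det g.1.1).symm, g.1.2, map_one, mul_one, ← Matrix.det_mul, hdd', Matrix.det_one]⟩,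
      fun u v => by
        show hm hF ((Matrix.diagonal c * g.1.1.map τ * Matrix.diagonal c⁻¹) *ᵥ u)
          ((Matrix.diagonal c * g.1.1.map τ * Matrix.diagonal c⁻¹) *ᵥ v) = hm hF u v
        have e : ∀ w : Fin n → F, (Matrix.diagonal c * g.1.1.map τ * Matrix.diagonal c⁻¹) *ᵥ w =
            fun i => c i * (τ ∘ mv g (fun j => τ.symm ((c j)⁻¹ * w j))) i :=
          fun w => funext fun i => twist_mulVec τ c g.1.1 w i
        have hs : ∀ w w' : Fin n → F,
            hm hF (fun i => c i * w i) (fun i => c i * w' i) = hm hF w w' := fun w w' => by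
          simp only [hm_eq, map_mul]
          refine Finset.sum_congr rfl fun i _ => ?_
          have := hc i
          simp only [nm] at this
          linear_combination (w i * qFrob hF (w' i)) * this
        rw [e, e, hs, hm_map, mv_form]
        rw [← hm_map]
        conv_rhs => rw [show u = fun i => c i * (τ ∘ fun j => τ.symm ((c j)⁻¹ * u j)) i from
            funext fun i => by simp [mul_inv_cancel_left₀ (h0 i)],
          show v = fun i => c i * (τ ∘ fun j => τ.symm ((c j)⁻¹ * v j)) i from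
            funext fun i => by simp [mul_inv_cancel_left₀ (h0 i)], hs]⟩
    map_one' := Subtype.ext (Subtype.ext (by
      show Matrix.diagonal c * (1 : Matrix (Fin n) (Fin n) F).map τ * Matrix.diagonal c⁻¹ = 1
      rw [Matrix.map_one _ (map_zero _) (map_one _), mul_one, hdd']))
    map_mul' := fun a b => Subtype.ext (Subtype.ext (by
      show Matrix.diagonal c * (a.1.1 * b.1.1).map τ * Matrix.diagonal c⁻¹ =
        Matrix.diagonal c * a.1.1.map τ * Matrix.diagonal c⁻¹ *
          (Matrix.diagonal c * b.1.1.map τ * Matrix.diagonal c⁻¹)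
      rw [Matrix.map_mul]
      simp only [Matrix.mul_assoc]
      rw [← Matrix.mul_assoc (Matrix.diagonal c⁻¹) (Matrix.diagonal c), hdd, Matrix.one_mul])) }

theorem tw_apply {n : ℕ} (τ : F ≃+* F) (c : Fin n → F) (hc : ∀ i, nm hF (c i) = 1) (g : SU n F q)
    (i j : Fin n) : (tw hF τ c hc g).1.1 i j = c i * τ (g.1.1 i j) * (c j)⁻¹ := by
  show (Matrix.diagonal c * g.1.1.map τ * Matrix.diagonal c⁻¹) i j = _
  rw [Matrix.mul_diagonal, Matrix.diagonal_mul]
  rfl

theorem tw_mv_bv {n : ℕ} (τ : F ≃+* F) (c : Fin n → F) (hc : ∀ i, nm hF (c i) = 1) (g : SU n F q)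
    (i j : Fin n) : mv (tw hF τ c hc g) (bv F j) i = c i * τ (mv g (bv F j) i) * (c j)⁻¹ := by
  rw [mv_bv, mv_bv, tw_apply]

theorem tw_injective {n : ℕ} (τ : F ≃+* F) (c : Fin n → F) (hc : ∀ i, nm hF (c i) = 1) :
    Function.Injective (tw hF τ c hc : SU n F q →* SU n F q) := by
  have h0 : ∀ i, c i ≠ 0 := fun i h => by simpa [h, nm_zero hF] using hc i
  intro a b h
  refine su_ext fun j => funext fun i => τ.injective ?_
  have e := congrArg (fun x => mv x (bv F j) i) h
  simp only [tw_mv_bv] at e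
  exact mul_left_cancel₀ (h0 i) (mul_right_cancel₀ (inv_ne_zero (h0 j)) e)

theorem tw_surjective {n : ℕ} (τ : F ≃+* F) (c : Fin n → F) (hc : ∀ i, nm hF (c i) = 1) :
    Function.Surjective (tw hF τ c hc : SU n F q →* SU n F q) :=
  Finite.injective_iff_surjective.1 (tw_injective hF τ c hc)

theorem tw_isDiag {n : ℕ} (τ : F ≃+* F) (c : Fin n → F) (hc : ∀ i, nm hF (c i) = 1) {g : SU n F q}
    (h : IsDiag (tw hF τ c hc g)) : IsDiag g := by
  have h0 : ∀ i, c i ≠ 0 := fun i h => by simpa [h, nm_zero hF] using hc i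
  rw [isDiag_iff] at h ⊢
  intro i j hij
  have := h i j hij
  rw [tw_apply, mul_eq_zero, mul_eq_zero] at this
  simpa [h0] using this

theorem tw_emb {m n : ℕ} (τ : F ≃+* F) (c : Fin n → F) (hc : ∀ i, nm hF (c i) = 1) (f : Fin m ↪ Fin n)
    (u : SU m F q) :
    tw hF τ c hc (emb hF f u) = emb hF f (tw hF τ (c ∘ f) (fun a => hc (f a)) u) := by
  have h0 : ∀ i, c i ≠ 0 := fun i h => by simpa [h, nm_zero hF] using hc i
  refine su_ext fun j => funext fun i => ?_
  rw [tw_mv_bv]
  by_cases hi : ∃ a, f a = i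
  · obtain ⟨a, rfl⟩ := hi
    rw [emb_mv_in, emb_mv_in]
    by_cases hj : ∃ b, f b = j
    · obtain ⟨b, rfl⟩ := hj
      rw [bv_comp, tw_mv_bv]
      rfl
    · push Not at hj
      have e : (bv F j) ∘ f = 0 := funext fun d => by simp [bv, hj d]
      simp [e, mv]
  · push Not at hi
    rw [emb_mv_out hF f _ _ hi, emb_mv_out hF f _ _ hi]
    by_cases hij : i = j
    · subst hij; simp [bv, h0 i]
    · simp [bv, hij]

/-- An automorphism of `SU₂` carrying a regular diagonal element to a diagonal one is monomial. -/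
theorem exists_tw (hq : 2 < q) (θ : MulAut (SU 2 F q)) {d : SU 2 F q} (hd : IsDiag d)
    (ho : orderOf d = q + 1) (hd' : IsDiag (θ d)) :
    ∃ (τ : F ≃+* F) (c : Fin 2 → F) (hc : ∀ i, nm hF (c i) = 1),
      c 1 = 1 ∧ ∀ g, θ g = tw hF τ c hc g := by
  obtain ⟨h, τ, hθ⟩ := exists_semilinear hF hq θ
  set H := h.1 with hH
  have hdist : ∀ g : SU 2 F q, IsDiag g → orderOf g = q + 1 → g.1.1 0 0 ≠ g.1.1 1 1 := by
    intro g hg hog he
    rw [isDiag_iff] at hg
    have hdet := g.1.2
    rw [det_fin_two, hg 0 1 (by decide), zero_mul, sub_zero] at hdet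
    have hsq : g ^ 2 = 1 := su_ext fun j => funext fun i => by
      rw [mv_one, sq, mv_bv]
      show (g.1.1 * g.1.1) i j = _
      rw [← he] at hdet
      fin_cases i <;> fin_cases j <;>
        simp [Matrix.mul_apply, Fin.sum_univ_two, bv, hg 0 1 (by decide), hg 1 0 (by decide), ← he, hdet]
    have := Nat.le_of_dvd (by norm_num) (hog ▸ orderOf_dvd_of_pow_eq_one hsq)
    omega
  have h1 := hdist d hd ho
  have h2 := hdist (θ d) hd' (by rw [← ho]; exact orderOf_injective θ.toMonoidHom θ.injective d)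
  have hmul : ∀ g : SU 2 F q, H * g.1.1.map τ = (θ g).1.1 * H := fun g => by
    rw [hθ g, hH, Matrix.mul_assoc _ (h⁻¹ : GL (Fin 2) F).1, Units.inv_mul, Matrix.mul_one]
  rw [isDiag_iff] at hd hd'
  have e := fun i j => congrFun (congrFun (hmul d) i) j
  have e00 := e 0 0
  have e01 := e 0 1
  have e10 := e 1 0
  have e11 := e 1 1
  simp [Matrix.mul_apply, Fin.sum_univ_two, hd 0 1 (by decide), hd 1 0 (by decide),
    hd' 0 1 (by decide), hd' 1 0 (by decide)] at e00 e01 e10 e11
  set k := τ (d.1.1 0 0)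
  set k' := τ (d.1.1 1 1)
  have hk : k ≠ k' := fun he => h1 (τ.injective he)
  have hdetH : H 0 0 * H 1 1 - H 0 1 * H 1 0 ≠ 0 := by
    rw [← det_fin_two]; exact (Matrix.isUnit_iff_isUnit_det _).1 h.isUnit |>.ne_zero
  obtain ⟨s, t, τ', hs, ht, hform⟩ : ∃ (s t : F) (τ' : F ≃+* F), s ≠ 0 ∧ t ≠ 0 ∧
      ∀ g : SU 2 F q, Matrix.diagonal ![s, t] * g.1.1.map τ' = (θ g).1.1 * Matrix.diagonal ![s, t] := by
    by_cases h00 : H 0 0 = 0
    · have h01 : H 0 1 ≠ 0 := fun h => hdetH (by rw [h00, h]; ring)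
      have h10 : H 1 0 ≠ 0 := fun h => hdetH (by rw [h00, h]; ring)
      have hk1 : k' = (θ d).1.1 0 0 :=
        mul_left_cancel₀ h01 (by linear_combination e01)
      have h11 : H 1 1 = 0 := by
        have : H 1 1 * ((θ d).1.1 0 0 - (θ d).1.1 1 1) = 0 := by linear_combination e11 - H 1 1 * hk1
        exact (mul_eq_zero.1 this).resolve_right (sub_ne_zero.2 h2)
      refine ⟨H 0 1, -H 1 0, τ.trans (qE hF), h01, neg_ne_zero.2 h10, fun g => ?_⟩
      obtain ⟨a, b, hab, rfl⟩ := el2_surj hF g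
      have f := fun i j => congrFun (congrFun (hmul (el2 hF a b hab)) i) j
      have f00 := f 0 0
      have f01 := f 0 1
      have f10 := f 1 0
      have f11 := f 1 1
      simp [el2, Matrix.mul_apply, Fin.sum_univ_two, h00, h11, qFrob_ringEquiv hF] at f00 f01 f10 f11
      ext i j
      fin_cases i <;> fin_cases j <;>
        simp [el2, Matrix.mul_apply, Fin.sum_univ_two, qE_apply, qFrob_ringEquiv hF, qFrob_qFrob]
      · linear_combination f01
      · linear_combination f00
      · linear_combination f11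
      · linear_combination f10
    · have hk0 : k = (θ d).1.1 0 0 := mul_left_cancel₀ h00 (by linear_combination e00)
      have h10 : H 1 0 = 0 := by
        have : H 1 0 * ((θ d).1.1 0 0 - (θ d).1.1 1 1) = 0 := by linear_combination e10 - H 1 0 * hk0
        exact (mul_eq_zero.1 this).resolve_right (sub_ne_zero.2 h2)
      have h01 : H 0 1 = 0 := by
        have : H 0 1 * (k' - k) = 0 := by linear_combination e01 - H 0 1 * hk0
        exact (mul_eq_zero.1 this).resolve_right (sub_ne_zero.2 hk.symm)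
      have h11 : H 1 1 ≠ 0 := fun h => hdetH (by rw [h, h01]; ring)
      refine ⟨H 0 0, H 1 1, τ, h00, h11, fun g => ?_⟩
      have hD : Matrix.diagonal ![H 0 0, H 1 1] = H := by
        ext i j; fin_cases i <;> fin_cases j <;> simp [h01, h10]
      rw [hD]; exact hmul g
  have hr : nm hF (s / t) = 1 := by
    set w := el2 hF (0 : F) 1 (by rw [nm_zero, nm_one, zero_add]) with hw
    have w00 : w.1.1 0 0 = 0 := by simp [hw, el2]
    have w10 : w.1.1 1 0 = 1 := by simp [hw, el2]
    clear_value w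
    have f0 := congrFun (congrFun (hform w) 0) 0
    have f1 := congrFun (congrFun (hform w) 1) 0
    simp [Matrix.mul_apply, Fin.sum_univ_two, w00, w10] at f0 f1
    have hn := mv_form hF (θ w) (bv F 0) (bv F 0)
    rw [hm_bv, if_pos rfl, hm_eq, Fin.sum_univ_two, mv_bv, mv_bv] at hn
    have a0 : (θ w).1.1 0 0 = 0 := by simpa [hs] using f0
    have a1 : (θ w).1.1 1 0 = t / s := by rw [eq_div_iff hs]; exact f1.symm
    rw [a0, a1, zero_mul, zero_add] at hn
    rw [show s / t = (t / s)⁻¹ by rw [inv_div], nm_inv, nm, hn, inv_one]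
  refine ⟨τ', ![s / t, 1], fun i => by fin_cases i; exacts [hr, nm_one hF], rfl, fun g => ?_⟩
  refine su_ext fun j => funext fun i => ?_
  rw [tw_mv_bv, mv_bv, mv_bv]
  have f := congrFun (congrFun (hform g) i) j
  rw [Matrix.mul_diagonal, Matrix.diagonal_mul] at f
  fin_cases i <;> fin_cases j <;> simp at f ⊢ <;> (try field_simp) <;>
    first | linear_combination -f | linear_combination f | exact mul_left_cancel₀ hs (by linear_combination -f) |
      exact mul_left_cancel₀ ht (by linear_combination -f)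

end Cfsg.Agent.Recog.Phan
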