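import Cfsg.Agent.Lib.Recog.PhanTwoWeights

/-!
Weak Phan systems over four elements.
-/

set_option autoImplicit false
set_option linter.unusedSectionVars false

namespace Cfsg.Agent.Recog.Phan

open Matrix Cfsg.Agent.Classical Cfsg.Agent.Lie.SpnPres

variable {F : Type*} [Field F] [Fintype F] {q : ℕ} (hF : Fintype.card F = q ^ 2)

include hF

variable (hq : q = 2) {ω : F} (hω : ω * ω = ω + 1)

include hq hω

theorem block3 (u : SU 2 F q) (w : Fin 3 → F) :
    mv (emb hF (sh 0 2 3 (by omega)) u) w = ![mv u ![w 0, w 1] 0, mv u ![w 0, w 1] 1, w 2] ∧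
      mv (emb hF (sh 1 2 3 (by omega)) u) w = ![w 0, mv u ![w 1, w 2] 0, mv u ![w 1, w 2] 1] := by
  have h0 : w ∘ sh 0 2 3 (show 0 + 2 ≤ 3 by omega) = ![w 0, w 1] := funext fun a => by fin_cases a <;> rfl
  have h1 : w ∘ sh 1 2 3 (show 1 + 2 ≤ 3 by omega) = ![w 1, w 2] := funext fun a => by fin_cases a <;> rfl
  constructor <;> funext i <;> fin_cases i
  · exact (emb_mv_in hF _ u w 0).trans (by rw [h0]; rfl)
  · exact (emb_mv_in hF _ u w 1).trans (by rw [h0]; rfl)
  · exact emb_mv_out hF _ u w fun a => by fin_cases a <;> simp [Fin.ext_iff, sh_val]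
  · exact emb_mv_out hF _ u w fun a => by fin_cases a <;> simp [Fin.ext_iff, sh_val]
  · exact (emb_mv_in hF _ u w 0).trans (by rw [h1]; rfl)
  · exact (emb_mv_in hF _ u w 1).trans (by rw [h1]; rfl)

theorem el2_vec (a b : F) (h : nm hF a + nm hF b = 1) (x y : F) :
    mv (el2 hF a b h) ![x, y] = ![a * x - qFrob hF b * y, b * x + qFrob hF a * y] := by
  funext i
  fin_cases i <;> simp [mv, el2] <;> ring

theorem d2_vec (x y : F) : mv (d2 hF hq hω) ![x, y] = ![ω * x, ω * ω * y] := by
  rw [d2, el2_vec hF hq hω, qFrob_omega hF hq hω, map_zero, zero_mul, zero_mul, sub_zero, zero_add]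

theorem s2_vec (x y : F) : mv (s2 hF hq hω) ![x, y] = ![y, x] := by
  rw [s2, el2_vec hF hq hω]
  funext i
  fin_cases i <;> simp [neg_eq_two hF hq hω]

/-- The two torus elements of a pair and their relations. -/
theorem pair_rel :
    (Commute (emb hF (sh 0 2 3 (by omega)) (d2 hF hq hω)) (emb hF (sh 1 2 3 (by omega)) (d2 hF hq hω))) ∧
    (emb hF (sh 0 2 3 (by omega)) (s2 hF hq hω) * emb hF (sh 1 2 3 (by omega)) (d2 hF hq hω) *
        emb hF (sh 0 2 3 (by omega)) (s2 hF hq hω) =
      emb hF (sh 1 2 3 (by omega)) (d2 hF hq hω) * emb hF (sh 0 2 3 (by omega)) (d2 hF hq hω)) ∧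
    (emb hF (sh 1 2 3 (by omega)) (s2 hF hq hω) * emb hF (sh 0 2 3 (by omega)) (d2 hF hq hω) *
        emb hF (sh 1 2 3 (by omega)) (s2 hF hq hω) =
      emb hF (sh 0 2 3 (by omega)) (d2 hF hq hω) * emb hF (sh 1 2 3 (by omega)) (d2 hF hq hω)) := by
  have h3 := omega_cube hF hq hω
  have B0 := fun u w => (block3 hF hq hω u w).1
  have B1 := fun u w => (block3 hF hq hω u w).2
  refine ⟨?_, ?_, ?_⟩
  · refine su_ext fun i => funext fun k => ?_
    simp only [mv_mul, B0, B1, d2_vec, Matrix.cons_val]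
    fin_cases k <;> simp <;> ring
  all_goals
    refine su_ext fun i => funext fun k => ?_
    simp only [mv_mul, B0, B1, d2_vec, s2_vec, Matrix.cons_val]
    fin_cases k <;> simp <;> grind only

set_option maxHeartbeats 2000000 in
/-- A homomorphism standard on both blocks is standard. -/
theorem fourier_ext (o : Fin 3 ↪ Fin 4) (k : Fin 4) (hk : ∀ a, o a ≠ k)
    (honly : ∀ i, (∀ a, o a ≠ i) → i = k) (α : SU 3 F q →* SU 4 F q)
    (h0 : ∀ u, α (emb hF (sh 0 2 3 (by omega)) u) = emb hF o (emb hF (sh 0 2 3 (by omega)) u))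
    (h1 : ∀ u, α (emb hF (sh 1 2 3 (by omega)) u) = emb hF o (emb hF (sh 1 2 3 (by omega)) u)) :
    α = emb hF o := by
  have two := two_zero_of_two hF hq
  have h3 := omega_cube hF hq hω
  have hω0 := omega_ne_two hF hq hω
  set tA := emb hF (sh 0 2 3 (show 0 + 2 ≤ 3 by omega)) (d2 hF hq hω) with htA
  set tB := emb hF (sh 1 2 3 (show 1 + 2 ≤ 3 by omega)) (d2 hF hq hω) with htB
  obtain ⟨z, hz⟩ : ∃ z, z = tA * tB * tB := ⟨_, rfl⟩
  have B0 := fun u w => (block3 hF hq hω u w).1
  have B1 := fun u w => (block3 hF hq hω u w).2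
  have eA : ∀ w, mv tA w = ![ω * w 0, ω * ω * w 1, w 2] := fun w => by
    rw [htA, B0, d2_vec]; rfl
  have eB : ∀ w, mv tB w = ![w 0, ω * w 1, ω * ω * w 2] := fun w => by
    rw [htB, B1, d2_vec]; rfl
  have ez : ∀ w, mv z w = ω • w := fun w => by
    rw [hz, mv_mul, mv_mul, eA, eB, eB]
    funext i
    fin_cases i <;> simp <;> grind only
  have same : ∀ (x : SU 3 F q), (∃ u, x = emb hF (sh 0 2 3 (by omega)) u) ∨
      (∃ u, x = emb hF (sh 1 2 3 (by omega)) u) → α x = emb hF o x := by
    rintro x (⟨u, rfl⟩ | ⟨u, rfl⟩)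
    exacts [h0 u, h1 u]
  have sA' := same tA (Or.inl ⟨_, rfl⟩)
  have sB' := same tB (Or.inr ⟨_, rfl⟩)
  have sz : α z = emb hF o z := by rw [hz, map_mul, map_mul, map_mul, map_mul, sA', sB']
  have main : ∀ (X : SU 3 F q) (ζ : F) (hζ : ζ ≠ 0), X * X * X * X = 1 →
      (∀ P, P = emb hF (sh 0 2 3 (by omega)) (s2 hF hq hω) * emb hF (sh 1 2 3 (by omega))
        (el2 hF 0 ζ (by rw [nm_zero, nm_one_of_ne hF hq hζ, zero_add])) →
        P * X * tB = X ∧ X * P = tB * X) → α X = emb hF o X := by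
    intro X ζ hζ h4 hrel
    obtain ⟨P, hP⟩ : ∃ P, P = emb hF (sh 0 2 3 (by omega)) (s2 hF hq hω) * emb hF (sh 1 2 3 (by omega))
        (el2 hF 0 ζ (by rw [nm_zero, nm_one_of_ne hF hq hζ, zero_add])) := ⟨_, rfl⟩
    obtain ⟨r1, r2⟩ := hrel P hP
    have sP : α P = emb hF o P := by rw [hP, map_mul, map_mul, h0, h1]
    set e := emb hF o with he
    obtain ⟨Y, hY⟩ : ∃ Y, Y = (e X)⁻¹ * α X := ⟨_, rfl⟩
    have conj : ∀ x m, X * x = m * X → α x = e x → α m = e m → Commute Y (e x) := by
      intro x m hxm hx hm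
      have a1 := congrArg α hxm
      rw [map_mul, map_mul, hx, hm] at a1
      have a2 := congrArg e hxm
      rw [map_mul, map_mul] at a2
      have a3 : e m = e X * e x * (e X)⁻¹ := eq_mul_inv_of_mul_eq a2.symm
      rw [hY]
      show (e X)⁻¹ * α X * e x = e x * ((e X)⁻¹ * α X)
      rw [mul_assoc, a1, a3]
      group
    have cB : Commute Y (e tB) := conj tB P⁻¹ (by
      rw [eq_inv_mul_iff_mul_eq, ← mul_assoc]; exact r1) sB' (by rw [map_inv, sP, map_inv])
    have cz : Commute Y (e z) := conj z z (su_ext fun i => by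
      rw [mv_mul, mv_mul, ez, ez, mv_smul]) sz sz
    have cA : Commute Y (e tA) := by
      have : e tA = e z * (e tB)⁻¹ * (e tB)⁻¹ := by
        rw [hz, map_mul, map_mul]; group
      rw [this]
      exact (cz.mul_right cB.inv_right).mul_right cB.inv_right
    have cP : Commute Y (e P) := conj P tB r2 sP sB'
    -- eigenvalues on the axes
    have zo : ∀ a, mv (e z) (bv F (o a)) = ω • bv F (o a) := fun a =>
      emb_mv_bv hF o z a a ω (ez _)
    have zk : mv (e z) (bv F k) = bv F k := emb_fix_bv hF o z hk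
    have Ao : ∀ a, mv (e tA) (bv F (o a)) = ![ω, ω * ω, 1] a • bv F (o a) := fun a =>
      emb_mv_bv hF o tA a a _ (by rw [eA]; funext i; fin_cases a <;> fin_cases i <;> simp [bv])
    have Ak : mv (e tA) (bv F k) = bv F k := emb_fix_bv hF o tA hk
    have n1 : ω ≠ 1 := fun h => by rw [h] at hω; exact one_ne_zero (α := F) (by linear_combination -hω)
    have n2 : ω * ω ≠ 1 := fun h => hω0 (by linear_combination -hω + h)
    have n3 : ω ≠ ω * ω := fun h => one_ne_zero (α := F) (by linear_combination -hω - h)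
    let κz : Fin 4 → F := fun i => if i = k then 1 else ω
    let κA : Fin 4 → F := fun i => mv (e tA) (bv F i) i
    have dz : ∀ i, mv (e z) (bv F i) = κz i • bv F i := fun i => by
      by_cases hi : i = k
      · subst hi; simp only [κz, if_true, one_smul]; exact zk
      · obtain ⟨a, rfl⟩ : ∃ a, o a = i := by
          by_contra h; push Not at h; exact hi (honly i h)
        simp only [κz, if_neg hi]; exact zo a
    have vA : ∀ a, κA (o a) = ![ω, ω * ω, 1] a := fun a => by
      show mv (e tA) (bv F (o a)) (o a) = _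
      rw [Ao]; simp [bv]
    have dA : ∀ i, mv (e tA) (bv F i) = κA i • bv F i := fun i => by
      by_cases hi : i = k
      · subst hi; simp only [κA, Ak]; simp [bv]
      · obtain ⟨a, rfl⟩ : ∃ a, o a = i := by
          by_contra h; push Not at h; exact hi (honly i h)
        rw [vA]; exact Ao a
    have sep : ∀ i l, i ≠ l → κz i ≠ κz l ∨ κA i ≠ κA l := by
      intro i l hil
      by_cases hi : i = k
      · subst hi
        left; simp only [κz, if_true, if_neg hil.symm]; exact n1.symm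
      by_cases hl : l = k
      · subst hl
        left; simp only [κz, if_true, if_neg hi]; exact n1
      right
      obtain ⟨a, rfl⟩ : ∃ a, o a = i := by
        by_contra h; push Not at h; exact hi (honly i h)
      obtain ⟨b, rfl⟩ : ∃ b, o b = l := by
        by_contra h; push Not at h; exact hl (honly l h)
      rw [vA, vA]
      fin_cases a <;> fin_cases b <;> first | exact absurd rfl hil | simp [n1, n2, n3, n1.symm, n2.symm, n3.symm]
    have diagY : ∀ i, mv Y (bv F i) = (mv Y (bv F i) i) • bv F i := fun i => by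
      funext l
      by_cases hl : l = i
      · subst hl; simp [bv]
      rw [Pi.smul_apply, bv, Pi.single_eq_of_ne hl, smul_zero]
      have ex : ∀ (x : SU 4 F q) (κ : Fin 4 → F), Commute Y x → (∀ i, mv x (bv F i) = κ i • bv F i) →
          κ l ≠ κ i → mv Y (bv F i) l = 0 := by
        intro x κ hc hκ hne
        have h : mv x (mv Y (bv F i)) l = κ i * mv Y (bv F i) l := by
          rw [← mv_mul, ← hc.eq, mv_mul, hκ, mv_smul, Pi.smul_apply, smul_eq_mul]
        rw [diag_mv hF hκ] at h
        exact (mul_eq_zero.1 (show (κ l - κ i) * mv Y (bv F i) l = 0 by linear_combination h)).resolve_left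
          (sub_ne_zero.2 hne)
      rcases sep l i hl with h | h
      · exact ex _ κz cz dz h
      · exact ex _ κA cA dA h
    set μ : Fin 4 → F := fun i => mv Y (bv F i) i with hμ
    have hμn : ∀ i, μ i ≠ 0 := fun i => eigen_ne hF hq hω (by rw [hm_bv, if_pos rfl]) (diagY i)
    have step : ∀ a b (c : F), c ≠ 0 → mv P (bv F a) = c • bv F b → μ (o b) = μ (o a) := by
      intro a b c hc hab
      have hP' := emb_mv_bv hF o P a b c hab
      have h : mv Y (mv (e P) (bv F (o a))) = mv (e P) (mv Y (bv F (o a))) := by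
        rw [← mv_mul, cP.eq, mv_mul]
      rw [hP', mv_smul, diagY (o b), diagY (o a), mv_smul, hP', smul_smul, smul_smul] at h
      have h' := congrFun h (o b)
      simp [bv] at h'
      exact mul_left_cancel₀ hc (by linear_combination h')
    have P0 : mv P (bv F 0) = (1 : F) • bv F 1 := by
      rw [hP, mv_mul, B1, el2_vec hF hq hω, B0, s2_vec]
      funext i; fin_cases i <;> simp [bv]
    have P1 : mv P (bv F 1) = ζ • bv F 2 := by
      rw [hP, mv_mul, B1, el2_vec hF hq hω, B0, s2_vec]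
      funext i; fin_cases i <;> simp [bv]
    have μo : ∀ a, μ (o a) = μ (o 0) := fun a => by
      fin_cases a
      · rfl
      · exact step 0 1 1 one_ne_zero P0
      · exact (step 1 2 ζ hζ P1).trans (step 0 1 1 one_ne_zero P0)
    have cX : Commute (e X) Y := by
      refine su_ext fun i => ?_
      rw [mv_mul, mv_mul, diagY i, mv_smul]
      by_cases hi : i = k
      · subst hi
        rw [emb_fix_bv hF o X hk]
        exact (diagY _).symm
      · obtain ⟨a, rfl⟩ : ∃ a, o a = i := by
          by_contra h; push Not at h; exact hi (honly i h)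
        funext l
        show μ (o a) * mv (e X) (bv F (o a)) l = mv Y (mv (e X) (bv F (o a))) l
        rw [diag_mv hF diagY (mv (e X) (bv F (o a))) l]
        by_cases hl : ∃ b, o b = l
        · obtain ⟨b, rfl⟩ := hl
          show μ (o a) * _ = μ (o b) * _
          rw [μo a, μo b]
        · push Not at hl
          rw [emb_mv_out hF o X _ hl, show (bv F (o a) : Fin 4 → F) l = 0 from Pi.single_eq_of_ne (hl a).symm _,
            mul_zero, mul_zero]
    have Y4 : Y * Y * Y * Y = 1 := by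
      have e4 : e X * e X * (e X * e X) = 1 := by
        rw [← map_mul, ← map_mul, ← mul_assoc, h4, map_one]
      have a4 : α X * α X * (α X * α X) = 1 := by
        rw [← map_mul, ← map_mul, ← mul_assoc, h4, map_one]
      have ha : α X = e X * Y := by rw [hY, mul_inv_cancel_left]
      have hsq : α X * α X = e X * e X * (Y * Y) := by
        rw [ha]
        calc e X * Y * (e X * Y) = e X * (Y * e X) * Y := by group
          _ = e X * (e X * Y) * Y := by rw [cX.eq]
          _ = _ := by group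
      rw [hsq] at a4
      have cc : Commute (Y * Y) (e X * e X) := (cX.symm.mul_left cX.symm).mul_right (cX.symm.mul_left cX.symm)
      calc Y * Y * Y * Y = e X * e X * (e X * e X) * (Y * Y * (Y * Y)) := by rw [e4, one_mul, ← mul_assoc]
        _ = e X * e X * (e X * e X * (Y * Y)) * (Y * Y) := by group
        _ = e X * e X * (Y * Y * (e X * e X)) * (Y * Y) := by rw [cc.eq]
        _ = e X * e X * (Y * Y) * (e X * e X * (Y * Y)) := by group
        _ = 1 := a4
    have Y1 : Y = 1 := su_ext fun i => by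
      have h := congrArg (fun x => mv x (bv F i) i) Y4
      obtain ⟨c, hc⟩ : ∃ c, mv Y (bv F i) i = c := ⟨_, rfl⟩
      have e : mv Y (bv F i) = c • bv F i := by rw [← hc]; exact diagY i
      simp only [mv_mul, e, mv_smul, mv_one, Pi.smul_apply, smul_eq_mul] at h
      have hb : (bv F i : Fin 4 → F) i = 1 := by simp [bv]
      rw [hb] at h
      have hc0 : c ≠ 0 := fun e0 => hμn i (hc.trans e0)
      have hm3 := pow_three_two hF hq hc0
      have c1 : c = 1 := by linear_combination h - c * hm3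
      rw [mv_one, e, c1, one_smul]
    rw [hY] at Y1
    exact (inv_mul_eq_one.1 Y1).symm
  obtain ⟨V, W, hV, hW0, hW1, hW2⟩ := exists_fourier hF hq hω
  have V4 : V * V * V * V = 1 := by
    have e : ∀ v, mv V v = v 0 • (![1, 1, 1] : Fin 3 → F) + v 1 • ![1, ω, ω * ω] + v 2 • ![1, ω * ω, ω] := fun v => by
      conv_lhs => rw [vec_three v]
      rw [mv_add, mv_add, mv_smul, mv_smul, mv_smul, hV.1, hV.2.1, hV.2.2]
    refine su_ext fun i => ?_
    simp only [mv_mul, mv_one, e]
    funext l
    fin_cases i <;> fin_cases l <;> simp [bv] <;> grind only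
  have eW : ∀ v, mv W v = v 0 • (![1, 1, ω] : Fin 3 → F) + v 1 • ![1, ω, 1] + v 2 • ![ω * ω, ω, ω] := fun v => by
    conv_lhs => rw [vec_three v]
    rw [mv_add, mv_add, mv_smul, mv_smul, mv_smul, hW0, hW1, hW2]
  have eV : ∀ v, mv V v = v 0 • (![1, 1, 1] : Fin 3 → F) + v 1 • ![1, ω, ω * ω] + v 2 • ![1, ω * ω, ω] := fun v => by
    conv_lhs => rw [vec_three v]
    rw [mv_add, mv_add, mv_smul, mv_smul, mv_smul, hV.1, hV.2.1, hV.2.2]
  have W4 : W * W * W * W = 1 := by
    refine su_ext fun i => ?_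
    simp only [mv_mul, mv_one, eW]
    funext l
    fin_cases i <;> fin_cases l <;> simp [bv] <;> grind only
  have hVe : α V = emb hF o V := main V 1 one_ne_zero V4 fun P hP => by
    subst hP
    constructor <;> refine su_ext fun i => funext fun l => ?_ <;>
      simp only [mv_mul, B0, B1, eB, eV, el2_vec hF hq hω, s2_vec, map_one] <;>
      fin_cases i <;> fin_cases l <;> simp [bv] <;> grind only
  have hWe : α W = emb hF o W := main W ω hω0 W4 fun P hP => by
    subst hP
    constructor <;> refine su_ext fun i => funext fun l => ?_ <;>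
      simp only [mv_mul, B0, B1, eB, eW, el2_vec hF hq hω, s2_vec, qFrob_omega hF hq hω] <;>
      fin_cases i <;> fin_cases l <;> simp [bv] <;> grind only
  refine MonoidHom.ext fun x => ?_
  have top : α.eqLocus (emb hF o) = ⊤ := closure_three hF hq hω (by rintro _ ⟨u, rfl⟩; exact h0 u)
    (by rintro _ ⟨u, rfl⟩; exact h1 u) hV hW0 hVe hWe
  exact (show x ∈ α.eqLocus (emb hF o) by rw [top]; exact Subgroup.mem_top x)

omit hω in
/-- Adjusting the next pair. -/
theorem weak_adjust_two {G : Type*} [Group G] {V W A B C : Subgroup G} {Ψ Ψ' : SU 3 F q →* G}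
    (P : WeakPair hF V A B Ψ) (P' : WeakPair hF W B C Ψ') :
    ∃ Ψ'', WeakPair hF W B C Ψ'' ∧
      ∀ u, Ψ (emb hF (sh 1 2 3 (by omega)) u) = Ψ'' (emb hF (sh 0 2 3 (by omega)) u) := by
  obtain ⟨ω, hω⟩ := exists_omega_two hF hq
  have two := two_zero_of_two hF hq
  set f0 := sh 0 2 3 (show 0 + 2 ≤ 3 by omega) with hf0
  set f1 := sh 1 2 3 (show 1 + 2 ≤ 3 by omega) with hf1
  set p := Ψ.comp (emb hF f1) with hp
  set p' := Ψ'.comp (emb hF f0) with hp'
  have hpi : Function.Injective p := P.inj hF _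
  have hpi' : Function.Injective p' := P'.inj hF _
  set θ : MulAut (SU 2 F q) := (MonoidHom.ofInjective hpi).trans
    ((MulEquiv.subgroupCongr (P.right.trans P'.left.symm)).trans (MonoidHom.ofInjective hpi').symm) with hθ
  have hθp : ∀ u, p' (θ u) = p u := fun u => by
    rw [hθ, MulEquiv.trans_apply, MulEquiv.trans_apply, MonoidHom.apply_ofInjective_symm hpi']
    rfl
  have diag_or : ∀ u : SU 2 F q, (∃ a h, u = el2 hF a 0 h) ∨ ∃ b h, u = el2 hF 0 b h := fun u => by
    obtain ⟨a, b, hab, rfl⟩ := el2_surj hF u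
    by_cases hb : b = 0
    · subst hb; exact Or.inl ⟨a, hab, rfl⟩
    · refine Or.inr ⟨b, ?_⟩
      have ha : a = 0 := by
        by_contra ha
        rw [nm_one_of_ne hF hq ha, nm_one_of_ne hF hq hb] at hab
        exact one_ne_zero (α := F) (by linear_combination -hab + two)
      subst ha; exact ⟨hab, rfl⟩
  have one2 : ∀ h, el2 hF (1 : F) 0 h = 1 := fun h => su_ext fun i => by
    rw [mv_one]; funext j; fin_cases i <;> fin_cases j <;> simp [mv, el2, bv]
  have dsq : ∀ a h, el2 hF a 0 h * el2 hF a 0 h = 1 → a = 1 := fun a h e => by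
    have e' := congrArg (fun x => mv x (bv F 0) 0) e
    simp only [mv_mul, el2_mv_zero, mv_one] at e'
    simp [mv, el2, bv, Matrix.mulVec, dotProduct, Fin.sum_univ_two] at e'
    have : (a - 1) * (a - 1) = 0 := by linear_combination e' + (1 - a) * two
    exact sub_eq_zero.1 (mul_self_eq_zero.1 this)
  obtain ⟨c1, hc1, hs⟩ : ∃ b h, θ (s2 hF hq hω) = el2 hF (0 : F) b h := by
    rcases diag_or (θ (s2 hF hq hω)) with ⟨a, h, e⟩ | h
    · exfalso
      have h2 : θ (s2 hF hq hω) * θ (s2 hF hq hω) = 1 := by rw [← map_mul, s2_sq, map_one]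
      rw [e] at h2
      have := dsq a h h2
      subst this
      rw [one2] at e
      have hs1 : s2 hF hq hω = 1 := θ.injective (e.trans (map_one θ).symm)
      have := congrArg (fun x => mv x (bv F (0 : Fin 2)) 1) hs1
      simp [s2, el2_mv_zero, mv_one, bv] at this
    · exact h
  obtain ⟨τ, hd⟩ : ∃ τ : F ≃+* F, θ (d2 hF hq hω) = tw hF τ (fun _ => 1) (fun _ => nm_one hF) (d2 hF hq hω) := by
    have hd1 : d2 hF hq hω ≠ 1 := fun e => by
      have := congrArg (fun x => mv x (bv F (0 : Fin 2)) 0) e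
      simp [d2, el2_mv_zero, mv_one, bv] at this
      rw [this] at hω
      exact one_ne_zero (α := F) (by linear_combination -hω)
    rcases diag_or (θ (d2 hF hq hω)) with ⟨a, h, e⟩ | ⟨b, h, e⟩
    · have ha : a ≠ 0 := fun e' => by rw [e', nm_zero, add_zero] at h; exact zero_ne_one h
      rcases four_values hF hq hω ha with e' | e' | e' <;> subst e'
      · rw [one2] at e
        exact absurd (θ.injective (e.trans (map_one θ).symm)) hd1
      · refine ⟨RingEquiv.refl F, e.trans (Subtype.ext (Subtype.ext (Matrix.ext fun i k => ?_)))⟩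
        rw [tw_apply]
        fin_cases i <;> fin_cases k <;> simp [d2, el2]
      · refine ⟨qE hF, e.trans (Subtype.ext (Subtype.ext (Matrix.ext fun i k => ?_)))⟩
        rw [tw_apply]
        have hs := qFrob_omega hF hq hω
        fin_cases i <;> fin_cases k <;> simp [d2, el2, qE_apply, hs]
    · exfalso
      have h3 : θ (d2 hF hq hω) * θ (d2 hF hq hω) * θ (d2 hF hq hω) = 1 := by
        rw [← map_mul, ← map_mul, d2_cube, map_one]
      rw [e] at h3
      have := congrArg (fun x => mv x (bv F (0 : Fin 2)) 0) h3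
      simp only [mv_mul, el2_mv_zero, mv_one] at this
      simp [mv, el2, bv, Matrix.mulVec, dotProduct, Fin.sum_univ_two] at this
  have hc1n : nm hF c1 = 1 := by rwa [nm_zero, zero_add] at hc1
  set c : Fin 2 → F := ![1, c1] with hc
  have hcn : ∀ i, nm hF (c i) = 1 := fun i => by
    fin_cases i
    exacts [nm_one hF, hc1n]
  have hθτ : ∀ u, θ u = tw hF τ c hcn u := by
    intro u
    have c0 : c1 ≠ 0 := fun e => by rw [e, nm_zero] at hc1n; exact zero_ne_one hc1n
    refine DFunLike.congr_fun (hom_ext2 hF hq hω (f := θ.toMonoidHom) (f' := tw hF τ c hcn) ?_ ?_) u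
    · show θ _ = _
      rw [hd]
      refine Subtype.ext (Subtype.ext (Matrix.ext fun i k => ?_))
      rw [tw_apply, tw_apply]
      fin_cases i <;> fin_cases k <;> simp [d2, el2, hc, c0, mul_comm c1]
    · show θ _ = _
      rw [hs]
      refine Subtype.ext (Subtype.ext (Matrix.ext fun i k => ?_))
      rw [tw_apply]
      have hci : c1⁻¹ = qFrob hF c1 := inv_eq_of_mul_eq_one_right hc1n
      fin_cases i <;> fin_cases k <;> simp [s2, el2, hc, hci, neg_eq_two hF hq hω]
  set c3 : Fin 3 → F := ![1, c1, c1] with hc3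
  have hnc : ∀ i, nm hF (c3 i) = 1 := fun i => by
    fin_cases i
    exacts [nm_one hF, hc1n, hc1n]
  have e0 : c3 ∘ f0 = c := funext fun a => by fin_cases a <;> rfl
  have hin : ∀ (f : Fin 2 ↪ Fin 3),
      ((Ψ'.comp (tw hF τ c3 hnc)).comp (emb hF f)).range = (Ψ'.comp (emb hF f)).range := by
    intro f
    ext x
    constructor
    · rintro ⟨v, rfl⟩
      exact ⟨_, congrArg Ψ' (tw_emb hF τ c3 hnc f v).symm⟩
    · rintro ⟨v, rfl⟩
      obtain ⟨w, rfl⟩ := tw_surjective hF τ (c3 ∘ f) (fun a => hnc (f a)) v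
      exact ⟨w, congrArg Ψ' (tw_emb hF τ c3 hnc f w)⟩
  refine ⟨Ψ'.comp (tw hF τ c3 hnc), ⟨?_, ?_, ?_, fun z hz g => ?_⟩, fun v => ?_⟩
  · rw [MonoidHom.range_comp, MonoidHom.range_eq_top.2 (tw_surjective hF τ c3 hnc),
      ← MonoidHom.range_eq_map, P'.full]
  · rw [hin]; exact P'.left
  · rw [hin]; exact P'.right
  · refine tw_injective hF τ c3 hnc ?_
    rw [map_mul, map_mul]
    exact P'.ker _ hz _
  · rw [MonoidHom.comp_apply, tw_emb]
    show p v = p' _
    have key : ∀ (c' : Fin 2 → F) (hc' : ∀ i, nm hF (c' i) = 1), c' = c →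
        tw hF τ c' hc' v = tw hF τ c hcn v := fun c' hc' h => by subst h; rfl
    rw [← hθp, hθτ, key _ _ e0]

omit hω in
/-- Two neighbouring pairs inside an image of `SU₄(2)` extend to a homomorphism from `SU₄(2)`. -/
theorem triple_glue_two {G : Type*} [Group G] {V W A B C : Subgroup G} {Φ Φ' : SU 3 F q →* G}
    (P : WeakPair hF V A B Φ) (P' : WeakPair hF W B C Φ') (hAC : ∀ a ∈ A, ∀ c ∈ C, Commute a c)
    (compat : ∀ u, Φ (emb hF (sh 1 2 3 (by omega)) u) = Φ' (emb hF (sh 0 2 3 (by omega)) u))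
    (g : SU 4 F q →* G) (hg : g.range = V ⊔ W) :
    ∃ χ : SU 4 F q →* G, (∀ x, χ (emb hF (sh 0 3 4 (by omega)) x) = Φ x) ∧
      ∀ x, χ (emb hF (sh 1 3 4 (by omega)) x) = Φ' x := by
  obtain ⟨ω, hω⟩ := exists_omega_two hF hq
  set f0 := sh 0 2 3 (show 0 + 2 ≤ 3 by omega) with hf0
  set f1 := sh 1 2 3 (show 1 + 2 ≤ 3 by omega) with hf1
  set d := d2 hF hq hω with hd
  have hd1 : d ≠ 1 := fun e => by
    have := congrArg (fun x => mv x (bv F (0 : Fin 2)) 0) e
    simp [hd, d2, el2_mv_zero, mv_one, bv] at this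
    rw [this] at hω
    exact one_ne_zero (α := F) (by linear_combination -hω)
  have injA := P.inj hF f0
  have hVg : ∀ x, Φ x ∈ g.range := fun x => hg.ge (Subgroup.mem_sup_left (P.full.le ⟨x, rfl⟩))
  have hWg : ∀ x, Φ' x ∈ g.range := fun x => hg.ge (Subgroup.mem_sup_right (P'.full.le ⟨x, rfl⟩))
  have hinj : Function.Injective g := by
    refine (injective_iff_map_eq_one g).2 fun k hk => ?_
    have hle : g.ker ≤ Subgroup.center (SU 4 F q) := by
      by_contra h
      have htop := Cfsg.Agent.Fus.UnitTv.eq_top_of_not_central hF (by norm_num)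
        (fun h' => absurd h'.1 (by norm_num)) g.normal_ker h
      obtain ⟨x, hx⟩ := hVg (emb hF f0 d)
      refine hd1 (injA ((hx.symm.trans ?_).trans (map_one _).symm))
      exact MonoidHom.mem_ker.1 (by rw [htop]; exact Subgroup.mem_top x)
    obtain ⟨c, hc⟩ := suVal_scalar_of_mem_center hF (hle hk)
    have hkc : ∀ i, mv k (bv F i) = c • bv F i := fun i => by
      funext l
      rw [mv_bv, show k.1.1 = Matrix.scalar (Fin 4) c from hc]
      by_cases hl : l = i
      · subst hl; simp [bv]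
      · simp [bv, hl]
    have hn : nm hF c = 1 := by
      have e := mv_form hF k (bv F 0) (bv F 0)
      rwa [hkc, hm_self_smul, hm_bv, if_pos rfl, mul_one] at e
    have hdet : c * c * c * c = 1 := by
      have e : (k.1.1).det = 1 := k.1.2
      rw [show k.1.1 = Matrix.scalar (Fin 4) c from hc, Matrix.scalar_apply, Matrix.det_diagonal,
        Fin.prod_univ_four] at e
      exact e
    have hc0 : c ≠ 0 := fun e => by rw [e, nm_zero] at hn; exact zero_ne_one hn
    have c1 : c = 1 := by linear_combination hdet - c * pow_three_two hF hq hc0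
    exact su_ext fun i => by rw [hkc, c1, one_smul, mv_one]
  set e := MonoidHom.ofInjective hinj
  set a : SU 3 F q →* SU 4 F q := e.symm.toMonoidHom.comp (Φ.codRestrict g.range hVg) with ha
  set a' : SU 3 F q →* SU 4 F q := e.symm.toMonoidHom.comp (Φ'.codRestrict g.range hWg) with ha'
  have ga : ∀ x, g (a x) = Φ x := fun x => MonoidHom.apply_ofInjective_symm hinj _
  have ga' : ∀ x, g (a' x) = Φ' x := fun x => MonoidHom.apply_ofInjective_symm hinj _
  have same : ∀ u, a (emb hF f1 u) = a' (emb hF f0 u) := fun u => hinj (by rw [ga, ga', compat u])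
  obtain ⟨r0, r1, r2⟩ := pair_rel hF hq hω
  obtain ⟨Θ, hΘα, hΘβ, hΘγ⟩ := chain_frame hF hq hω (a.comp (emb hF f0)) (a.comp (emb hF f1))
    (a'.comp (emb hF f1))
    (fun e => hd1 (injA (by
      show Φ (emb hF f0 d) = Φ (emb hF f0 1)
      rw [← ga, show a (emb hF f0 d) = 1 from e, map_one, map_one, map_one])))
    (r0.map a)
    (by show Commute (a (emb hF f1 d)) _; rw [same]; exact r0.map a')
    (fun u v => hinj (by
      show g (a _ * a' _) = g (a' _ * a _)
      rw [map_mul, map_mul, ga, ga']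
      exact (hAC (Φ (emb hF f0 u)) (P.left.le ⟨u, rfl⟩) (Φ' (emb hF f1 v)) (P'.right.le ⟨v, rfl⟩)).eq))
    (by
      have := congrArg a r1
      rwa [map_mul, map_mul, map_mul] at this)
    (by
      have := congrArg a r2
      rwa [map_mul, map_mul, map_mul] at this)
    (by
      show a (emb hF f1 _) * a' (emb hF f1 _) * a (emb hF f1 _) = a' (emb hF f1 _) * a (emb hF f1 _)
      have := congrArg a' r1
      rw [map_mul, map_mul, map_mul, ← same, ← same] at this
      exact this)
    (by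
      show a' (emb hF f1 _) * a (emb hF f1 _) * a' (emb hF f1 _) = a (emb hF f1 _) * a' (emb hF f1 _)
      have := congrArg a' r2
      rw [map_mul, map_mul, map_mul, ← same] at this
      exact this)
  have e0 : ∀ u : SU 2 F q, emb hF b01 u = emb hF (sh 0 3 4 (by omega)) (emb hF f0 u) := fun u => by
    rw [emb_trans, sh_trans]; rfl
  have e1 : ∀ u : SU 2 F q, emb hF b12 u = emb hF (sh 0 3 4 (by omega)) (emb hF f1 u) := fun u => by
    rw [emb_trans, sh_trans]; rfl
  have e2 : ∀ u : SU 2 F q, emb hF b12 u = emb hF (sh 1 3 4 (by omega)) (emb hF f0 u) := fun u => by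
    rw [emb_trans, sh_trans]; rfl
  have e3 : ∀ u : SU 2 F q, emb hF b23 u = emb hF (sh 1 3 4 (by omega)) (emb hF f1 u) := fun u => by
    rw [emb_trans, sh_trans]; rfl
  have o0 : ∀ i : Fin 4, (∀ a, sh 0 3 4 (show 0 + 3 ≤ 4 by omega) a ≠ i) → i = 3 := fun i h => by
    fin_cases i
    exacts [absurd rfl (h 0), absurd rfl (h 1), absurd rfl (h 2), rfl]
  have o1 : ∀ i : Fin 4, (∀ a, sh 1 3 4 (show 1 + 3 ≤ 4 by omega) a ≠ i) → i = 0 := fun i h => by
    fin_cases i
    exacts [rfl, absurd rfl (h 0), absurd rfl (h 1), absurd rfl (h 2)]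
  have k0 : ∀ a, sh 0 3 4 (show 0 + 3 ≤ 4 by omega) a ≠ 3 := fun a => by
    fin_cases a <;> simp [Fin.ext_iff, sh_val]
  have k1 : ∀ a, sh 1 3 4 (show 1 + 3 ≤ 4 by omega) a ≠ 0 := fun a => by
    fin_cases a <;> simp [Fin.ext_iff, sh_val]
  have E0 := fourier_ext hF hq hω _ 3 k0 o0 (Θ.symm.toMonoidHom.comp a)
    (fun u => (MulEquiv.symm_apply_eq Θ).2 (by rw [← e0]; exact hΘα u))
    (fun u => (MulEquiv.symm_apply_eq Θ).2 (by rw [← e1]; exact hΘβ u))
  have E1 := fourier_ext hF hq hω _ 0 k1 o1 (Θ.symm.toMonoidHom.comp a')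
    (fun u => (MulEquiv.symm_apply_eq Θ).2 (by rw [← e2, ← same]; exact hΘβ u))
    (fun u => (MulEquiv.symm_apply_eq Θ).2 (by rw [← e3]; exact hΘγ u))
  refine ⟨g.comp Θ.toMonoidHom, fun x => ?_, fun x => ?_⟩
  · rw [← ga x, ← DFunLike.congr_fun E0 x]
    show g (Θ (Θ.symm (a x))) = _
    rw [MulEquiv.apply_symm_apply]
  · rw [← ga' x, ← DFunLike.congr_fun E1 x]
    show g (Θ (Θ.symm (a' x))) = _
    rw [MulEquiv.apply_symm_apply]

omit hω in
/-- A weak Phan system over four elements. -/
theorem weak_system_two {G : Type*} [Group G] {n : ℕ} (hn : 4 ≤ n) (U : ℕ → Subgroup G)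
    (V : ℕ → Subgroup G) (hcomm : ∀ i j, i + 2 ≤ j → j < n → ∀ x ∈ U i, ∀ y ∈ U j, Commute x y)
    (hp : ∀ i, i + 1 < n → ∃ Ψ, WeakPair hF (V i) (U i) (U (i + 1)) Ψ)
    (htri : ∀ i, i + 2 < n → ∃ g : SU 4 F q →* G, g.range = V i ⊔ V (i + 1))
    (hUV : ∀ i j, i + 2 ≤ j → j + 1 < n → ∀ x ∈ U i, ∀ y ∈ V j, Commute x y)
    (hVU : ∀ i j, i + 3 ≤ j → j < n → ∀ x ∈ V i, ∀ y ∈ U j, Commute x y)
    (hVV : ∀ i j, i + 3 ≤ j → j + 1 < n → ∀ x ∈ V i, ∀ y ∈ V j, Commute x y) :
    ∃ φ : SU (n + 1) F q →* G, (∀ i, i < n → U i ≤ φ.range) ∧ ∀ i, i + 1 < n → V i ≤ φ.range := by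
  obtain ⟨Ψ₀, hΨ₀⟩ := hp 0 (by omega)
  have step : ∀ (k : ℕ) (Ψ : SU 3 F q →* G), ∃ Ψ' : SU 3 F q →* G,
      (k + 1 < n → WeakPair hF (V k) (U k) (U (k + 1)) Ψ) → k + 2 < n →
        WeakPair hF (V (k + 1)) (U (k + 1)) (U (k + 2)) Ψ' ∧
        ∀ u, Ψ (emb hF (sh 1 2 3 (by omega)) u) = Ψ' (emb hF (sh 0 2 3 (by omega)) u) := by
    intro k Ψ
    by_cases h : (k + 1 < n → WeakPair hF (V k) (U k) (U (k + 1)) Ψ) ∧ k + 2 < n
    · obtain ⟨hP, hk⟩ := h
      obtain ⟨Ψ₁, hΨ₁⟩ := hp (k + 1) hk
      obtain ⟨Ψ', h'⟩ := weak_adjust_two hF hq (hP (by omega)) hΨ₁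
      exact ⟨Ψ', fun _ _ => h'⟩
    · exact ⟨Ψ, fun a b => absurd ⟨a, b⟩ h⟩
  choose next hnext using step
  let Φ : ℕ → SU 3 F q →* G := fun i => Nat.rec Ψ₀ next i
  have hall : ∀ i, i + 1 < n → WeakPair hF (V i) (U i) (U (i + 1)) (Φ i) := by
    intro i
    induction i with
    | zero => exact fun _ => hΨ₀
    | succ k ih => exact fun h => (hnext k (Φ k) ih h).1
  have inV : ∀ i, i + 1 < n → ∀ g, Φ i g ∈ V i := fun i hi g => (hall i hi).full.le ⟨g, rfl⟩
  have inU : ∀ i, i + 1 < n → ∀ u, Φ i (emb hF (sh 0 2 3 (by omega)) u) ∈ U i := fun i hi u =>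
    (hall i hi).left.le ⟨u, rfl⟩
  have inU' : ∀ i, i + 1 < n → ∀ u, Φ i (emb hF (sh 1 2 3 (by omega)) u) ∈ U (i + 1) := fun i hi u =>
    (hall i hi).right.le ⟨u, rfl⟩
  have base : ∀ k, k + 4 ≤ n + 1 → ∃ φ : SU 4 F q →* G,
      ∀ i (h : i + 3 ≤ 4) (g : SU 3 F q), φ (emb hF (sh i 3 4 h) g) = Φ (k + i) g := fun k hk => by
    obtain ⟨g, hg⟩ := htri k (by omega)
    obtain ⟨χ, h0, h1⟩ := triple_glue_two hF hq (hall k (by omega)) (hall (k + 1) (by omega))
      (hcomm k (k + 2) le_rfl (by omega)) (hnext k (Φ k) (hall k) (by omega)).2 g hg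
    refine ⟨χ, fun i h x => ?_⟩
    obtain rfl | rfl : i = 0 ∨ i = 1 := by omega
    · exact h0 x
    · exact h1 x
  have glued : ∀ M, 4 ≤ M → ∀ k, k + M ≤ n + 1 →
      ∃ φ : SU M F q →* G, ∀ i (h : i + 3 ≤ M) (g : SU 3 F q), φ (emb hF (sh i 3 M h) g) = Φ (k + i) g := by
    intro M hM
    induction M, hM using Nat.le_induction with
    | base => exact base
    | succ M hM ih =>
      intro k hk
      obtain ⟨φ, hφ⟩ := ih (k + 1) (by omega)
      have hcompat : ∀ u, Φ k (emb hF (sh 1 2 3 (by omega)) u) = φ (emb hF (sh 0 2 M (by omega)) u) := fun u => by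
        rw [(hnext k (Φ k) (hall k) (by omega)).2 u, show next k (Φ k) = Φ (k + 1 + 0) from rfl,
          ← hφ 0 (by omega), emb_trans, sh_trans]
      have hbase : GlueData hF M φ (Φ k) := by
        refine ⟨by omega, hcompat, fun u y => ?_⟩
        have top : (Subgroup.centralizer ((U k : Subgroup G) : Set G)).comap
            (φ.comp (emb hF (sh 1 (M - 1) M (by omega)))) = ⊤ := by
          refine closure_triples hF hq (by omega) fun j hj => ?_
          rintro _ ⟨v, rfl⟩
          show φ (emb hF (sh 1 (M - 1) M (by omega)) (emb hF (sh j 3 (M - 1) hj) v)) ∈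
            Subgroup.centralizer ((U k : Subgroup G) : Set G)
          rw [emb_trans, sh_trans, hφ (1 + j) (by omega), Subgroup.mem_centralizer_iff]
          intro x hx
          exact hUV k (k + 1 + (1 + j)) (by omega) (by omega) x hx _ (inV _ (by omega) v)
        have hy : y ∈ (Subgroup.centralizer ((U k : Subgroup G) : Set G)).comap
            (φ.comp (emb hF (sh 1 (M - 1) M (by omega)))) := by rw [top]; exact Subgroup.mem_top y
        exact (Subgroup.mem_centralizer_iff.1 hy) _ (inU k (by omega) u)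
      have E : GlueTwo hF M φ (Φ k) := by
        refine ⟨hbase, hM, hq, ?_, fun g y => ?_⟩
        · obtain ⟨χ, hχ⟩ := base k (by omega)
          refine ⟨χ, fun x => hχ 0 (by omega) x, fun x => ?_⟩
          rw [hχ 1 (by omega) x, hφ 0 (by omega) x]
        · rcases Nat.eq_or_lt_of_le hM with h4 | h5
          · subst h4
            have e : φ (emb hF (sh 2 2 4 (by omega)) y) ∈ U (k + 3) := by
              have h := hφ 1 (by omega) (emb hF (sh 1 2 3 (by omega)) y)
              rw [emb_trans, sh_trans] at h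
              rw [show k + 3 = k + 1 + 1 + 1 by omega]
              exact h ▸ inU' (k + 1 + 1) (by omega) y
            exact hVU k (k + 3) le_rfl (by omega) _ (inV k (by omega) g) _ e
          · have top : (Subgroup.centralizer ((V k : Subgroup G) : Set G)).comap
                (φ.comp (emb hF (sh 2 (M - 2) M (by omega)))) = ⊤ := by
              refine closure_triples hF hq (by omega) fun j hj => ?_
              rintro _ ⟨v, rfl⟩
              show φ (emb hF (sh 2 (M - 2) M (by omega)) (emb hF (sh j 3 (M - 2) hj) v)) ∈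
                Subgroup.centralizer ((V k : Subgroup G) : Set G)
              rw [emb_trans, sh_trans, hφ (2 + j) (by omega), Subgroup.mem_centralizer_iff]
              intro x hx
              exact hVV k (k + 1 + (2 + j)) (by omega) (by omega) x hx _ (inV _ (by omega) v)
            have hy : y ∈ (Subgroup.centralizer ((V k : Subgroup G) : Set G)).comap
                (φ.comp (emb hF (sh 2 (M - 2) M (by omega)))) := by rw [top]; exact Subgroup.mem_top y
            exact (Subgroup.mem_centralizer_iff.1 hy) _ (inV k (by omega) g)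
      obtain ⟨Φ', hΦH, hΦB⟩ := E.exists_hom
      refine ⟨Φ', fun i h g => ?_⟩
      rcases i with _ | i
      · rw [add_zero]; exact hΦB g
      · have e := hΦH (emb hF (sh i 3 M (by omega)) g)
        rw [hφ, emb_trans, sh_trans] at e
        simp only [add_comm 1 i] at e
        rw [e, show k + (i + 1) = k + 1 + i by omega]
  obtain ⟨φ, hφ⟩ := glued (n + 1) (by omega) 0 (by omega)
  have hV : ∀ i, i + 1 < n → V i ≤ φ.range := fun i hi x hx => by
    obtain ⟨g, rfl⟩ := (hall i hi).full.ge hx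
    exact ⟨emb hF (sh i 3 (n + 1) (by omega)) g, by rw [hφ i (by omega), zero_add]⟩
  refine ⟨φ, fun i hi => ?_, hV⟩
  by_cases h : i + 1 < n
  · intro x hx
    obtain ⟨u, rfl⟩ := (hall i h).left.ge hx
    exact hV i h (inV i h _)
  · obtain ⟨j, rfl⟩ : ∃ j, i = j + 1 := ⟨i - 1, by omega⟩
    intro x hx
    obtain ⟨u, rfl⟩ := (hall j (by omega)).right.ge hx
    exact hV j (by omega) (inV j (by omega) _)

end Cfsg.Agent.Recog.Phan
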