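import Cfsg.Agent.Lib.Recog.PhanGlueHom

/-!
Gluing over four elements, where four-dimensional models fix every quadrangle.
-/

set_option autoImplicit false
set_option linter.unusedSectionVars false
set_option maxHeartbeats 1000000

namespace Cfsg.Agent.Recog.Phan

open Matrix Cfsg.Agent.Classical Cfsg.Agent.Lie.SpnPres

variable {F : Type*} [Field F] [Fintype F] {q : ℕ} {G : Type*} [Group G]

/-- What is given over four elements. -/
structure GlueTwo (hF : Fintype.card F = q ^ 2) (M : ℕ) (φ : SU M F q →* G) (Ψ : SU 3 F q →* G) : Prop where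
  base : GlueData hF M φ Ψ
  hM : 4 ≤ M
  hq : q = 2
  four : ∃ χ : SU 4 F q →* G, (∀ x, χ (emb hF (sh 0 3 4 (by omega)) x) = Ψ x) ∧
    ∀ x, χ (emb hF (sh 1 3 4 (by omega)) x) = φ (emb hF (sh 0 3 M (by omega)) x)
  far : ∀ (g : SU 3 F q) (y : SU (M - 2) F q),
    Commute (Ψ g) (φ (emb hF (sh 2 (M - 2) M (by omega)) y))

namespace GlueTwo

open GlueData

variable {hF : Fintype.card F = q ^ 2} {M : ℕ} {φ : SU M F q →* G} {Ψ : SU 3 F q →* G}
variable (E : GlueTwo hF M φ Ψ)

include E

/-- The four-dimensional block. -/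
abbrev f4 : Fin 4 ↪ Fin (M + 1) := sh 0 4 (M + 1) (by have := E.hM; omega)

theorem exists_cK : ∃ c : SU 4 F q →* E.base.K,
    (∀ x, c (emb hF (sh 0 3 4 (by omega)) x) = E.base.kB x) ∧
      (∀ x, c (emb hF (sh 1 3 4 (by omega)) x) =
        E.base.kH (emb hF (sh 0 3 M (by have := E.hM; omega)) x)) ∧
      ∀ u, (c u).1.1 = emb hF E.f4 u := by
  have hM := E.hM
  obtain ⟨χ, h0, h1⟩ := E.four
  set p : SU 4 F q →* SU (M + 1) F q × G := (emb hF E.f4).prod χ with hp
  have e0 : ∀ x, p (emb hF (sh 0 3 4 (by omega)) x) = (E.base.kB x).1 := fun x => by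
    refine Prod.ext ?_ (h0 x)
    show emb hF E.f4 (emb hF _ x) = emb hF E.base.fB x
    rw [emb_trans, sh_trans]
  have e1 : ∀ x, p (emb hF (sh 1 3 4 (by omega)) x) =
      (E.base.kH (emb hF (sh 0 3 M (by omega)) x)).1 := fun x => by
    refine Prod.ext ?_ (h1 x)
    show emb hF E.f4 (emb hF _ x) = emb hF E.base.fH (emb hF _ x)
    rw [emb_trans, emb_trans, sh_trans, sh_trans]
  have hmem : ∀ u, p u ∈ E.base.K := by
    have top : E.base.K.comap p = ⊤ := closure_triples hF E.hq (by omega) fun i hi => by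
      rintro _ ⟨x, rfl⟩
      show p _ ∈ E.base.K
      obtain rfl | rfl : i = 0 ∨ i = 1 := by omega
      · rw [e0]; exact (E.base.kB x).2
      · rw [e1]; exact (E.base.kH _).2
    intro u
    exact (show u ∈ E.base.K.comap p by rw [top]; exact Subgroup.mem_top u)
  exact ⟨p.codRestrict _ hmem, fun x => Subtype.ext (e0 x), fun x => Subtype.ext (e1 x), fun u => rfl⟩

theorem commF (g : SU 3 F q) (y : SU (M - 2) F q) :
    Commute (E.base.kB g) (E.base.kH (emb hF (sh 2 (M - 2) M (by have := E.hM; omega)) y)) := by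
  refine Subtype.ext (Prod.ext ?_ (E.far g y))
  show emb hF E.base.fB g * emb hF E.base.fH (emb hF _ y) = emb hF E.base.fH (emb hF _ y) * emb hF E.base.fB g
  rw [emb_trans]
  refine emb_commute hF _ _ (fun a b hab => ?_) g y
  have := congrArg Fin.val hab
  simp [Function.Embedding.trans_apply, fH, fB, sh_val] at this
  omega

/-- The fixed far point gives the sheets of the block. -/
theorem exists_far : ∃ p : UV hF (M + 1), p.1 = bv F (E.f4 3) ∧ Orth hF (E.base.E 0) p ∧
    ∀ g, Orth hF p (E.base.act (E.base.kB g) (E.base.E 0)) ∧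
      E.base.l (E.base.l E.base.x₀ p) (E.base.act (E.base.kB g) (E.base.E 0)) = E.base.Bl g := by
  have hM := E.hM
  obtain ⟨c, c0, c1, cv⟩ := E.exists_cK
  let S : SU 4 F q → E.base.X := fun u => c u • E.base.x₀
  let pt : SU 4 F q → UV hF (M + 1) := fun u => E.base.act (c u) (E.base.E 0)
  have πS : ∀ u, E.base.π (S u) = pt u := fun u => by rw [E.base.π_smul, E.base.π_base]
  have Swd : ∀ u u' : SU 4 F q, mv u (bv F 0) = mv u' (bv F 0) → S u = S u' := by
    intro u u' h
    obtain ⟨y, hy⟩ := mem_range_emb hF (sh 1 3 4 (by omega)) (u⁻¹ * u') fun i hi => by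
      obtain rfl : i = 0 := by
        by_contra hne
        have : (i : ℕ) ≠ 0 := fun h => hne (Fin.ext h)
        exact hi ⟨(i : ℕ) - 1, by omega⟩ (Fin.ext (by simp [sh_val]; omega))
      rw [mv_mul, ← h, mv_inv_cancel]
    show c u • E.base.x₀ = c u' • E.base.x₀
    rw [show u' = u * emb hF (sh 1 3 4 (by omega)) y by rw [hy, mul_inv_cancel_left], map_mul, mul_smul,
      c1, E.base.kH_smul_base]
  have coord : ∀ (u : SU 4 F q) (a : Fin 4), (pt u).1 (E.f4 a) = mv u (bv F 0) a := fun u a => by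
    show mv (c u).1.1 (bv F (E.base.fB 0)) (E.f4 a) = _
    rw [cv, emb_mv_in, show E.base.fB 0 = E.f4 0 from Fin.ext (by simp [fB, f4, sh_val]), bv_comp]
  have step0 : ∀ v, Orth hF (E.base.E 0) (pt v) → E.base.l E.base.x₀ (pt v) = S v := by
    intro v hv
    rw [E.base.orth_base] at hv
    have hv0 : mv v (bv F 0) 0 = 0 := by
      rw [← coord, show E.f4 0 = 0 from Fin.ext (by simp [f4, sh_val])]; exact hv
    set t := mv v (bv F 0) ∘ sh 1 3 4 (show 1 + 3 ≤ 4 by omega) with ht
    have htn : hm hF t t = 1 := by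
      have h := hm_zero_add hF (show 1 + 3 ≤ 3 + 1 by omega) (mv v (bv F 0)) (mv v (bv F 0))
      rw [mv_form, hm_bv, if_pos rfl, hv0, zero_mul, zero_add] at h
      exact h.symm
    obtain ⟨y, hy⟩ := exists_move_any hF (M := 3) (by omega) 0 rfl htn
    obtain ⟨g1, hg1⟩ := E.base.exists_to 1
    have e : mv (emb hF (sh 1 3 4 (by omega)) y * emb hF (sh 0 3 4 (by omega)) g1) (bv F 0) = mv v (bv F 0) := by
      rw [mv_mul, show (0 : Fin 4) = sh 0 3 4 (by omega) (0 : Fin 3) from rfl,
        emb_mv_bv hF _ g1 0 1 1 (by rw [hg1, one_smul]), one_smul,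
        show sh 0 3 4 (by omega) (1 : Fin 3) = sh 1 3 4 (by omega) (0 : Fin 3) from rfl]
      funext i
      refine Fin.cases ?_ (fun a => ?_) i
      · rw [emb_mv_out hF _ _ _ (fun a h => by
          have := congrArg Fin.val h; simp [sh_val] at this)]
        show bv F (sh 1 3 4 _ (0 : Fin 3)) 0 = mv v (bv F (0 : Fin 4)) 0
        rw [hv0]; simp [bv, Fin.ext_iff, sh_val]
      · have ea : sh 1 3 4 (show 1 + 3 ≤ 4 by omega) a = a.succ := Fin.ext (by simp [sh_val, Nat.add_comm])
        rw [← ea, emb_mv_in, bv_comp, hy]; rfl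
    have es := Swd _ v e
    have ep : pt (emb hF (sh 1 3 4 (by omega)) y * emb hF (sh 0 3 4 (by omega)) g1) = pt v := by
      rw [← πS, ← πS, es]
    rw [← es, ← ep]
    show E.base.l E.base.x₀ (E.base.act (c (_ * _)) (E.base.E 0)) = c (_ * _) • E.base.x₀
    rw [map_mul, mul_smul, E.base.act_mul, c1, c0]
    have h1 : E.base.l E.base.x₀ (E.base.E 1) = E.base.Bl g1 := E.base.l_base g1 1 hg1 (by decide)
    have h2 : E.base.act (E.base.kB g1) (E.base.E 0) = E.base.E 1 := by
      have := E.base.lift_π E.base.x₀ (E.base.E 1) (by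
        rw [E.base.π_base, E.base.orth_base]; simp [GlueData.E, bv, Fin.ext_iff, fB, sh_val])
      rw [h1, show E.base.Bl g1 = E.base.kB g1 • E.base.x₀ from E.base.mk_eq_smul _, E.base.π_smul, E.base.π_base] at this
      exact this
    rw [h2]
    conv_lhs => rw [← E.base.kH_smul_base (emb hF (sh 0 3 M (by omega)) y), E.base.l_smul, h1]
    rw [show E.base.Bl g1 = E.base.kB g1 • E.base.x₀ from E.base.mk_eq_smul _]
  have step : ∀ u u', Orth hF (pt u) (pt u') → E.base.l (S u) (pt u') = S u' := by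
    intro u u' h
    have e : pt u' = E.base.act (c u) (pt (u⁻¹ * u')) := by
      show E.base.act (c u') _ = E.base.act (c u) (E.base.act (c (u⁻¹ * u')) _)
      rw [← E.base.act_mul, ← map_mul, mul_inv_cancel_left]
    rw [e, show S u = c u • E.base.x₀ from rfl, E.base.l_smul, step0 _ (by rw [← E.base.orth_act (c u), ← e]; exact h)]
    show c u • c (u⁻¹ * u') • E.base.x₀ = c u' • E.base.x₀
    rw [← mul_smul, ← map_mul, mul_inv_cancel_left]
  obtain ⟨v3, hv3⟩ := exists_move_any hF (M := 4) (by omega) 0 rfl (v := bv F 3) (by rw [hm_bv, if_pos rfl])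
  have hp : (pt v3).1 = bv F (E.f4 3) := by
    show mv (c v3).1.1 (bv F (E.base.fB 0)) = _
    rw [cv, show E.base.fB 0 = E.f4 0 from Fin.ext (by simp [fB, f4, sh_val]),
      emb_mv_bv hF E.f4 v3 0 3 1 (by rw [hv3, one_smul]), one_smul]
  have ho : Orth hF (E.base.E 0) (pt v3) := by
    rw [E.base.orth_base, hp]; simp [bv, Fin.ext_iff, f4, sh_val]
  refine ⟨pt v3, hp, ho, fun g => ?_⟩
  have eg : E.base.act (E.base.kB g) (E.base.E 0) = pt (emb hF (sh 0 3 4 (by omega)) g) := by
    show _ = E.base.act (c _) _; rw [c0]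
  have hog : Orth hF (pt v3) (pt (emb hF (sh 0 3 4 (by omega)) g)) := by
    show hm hF (pt v3).1 (pt _).1 = 0
    rw [hp, hm_bv_left, coord, emb_mv_out hF _ _ _ (fun a h => by
      have := congrArg Fin.val h; simp [sh_val] at this; omega)]
    simp [bv]
  refine ⟨by rw [eg]; exact hog, ?_⟩
  rw [eg, step0 v3 ho, step v3 _ hog]
  show c _ • E.base.x₀ = E.base.Bl g
  rw [c0]
  exact (E.base.mk_eq_smul (E.base.kB g)).symm

/-- Two steps through a common neighbour. -/
theorem detour_eq {b u c : UV hF (M + 1)} (h1 : Orth hF (E.base.E 0) b) (h2 : Orth hF b c)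
    (h3 : Orth hF (E.base.E 0) u) (h4 : Orth hF u c) (h5 : Orth hF b u) :
    E.base.l (E.base.l E.base.x₀ b) c = E.base.l (E.base.l E.base.x₀ u) c := by
  have hb : Orth hF (E.base.π E.base.x₀) b := by rw [π_base]; exact h1
  have hu : Orth hF (E.base.π E.base.x₀) u := by rw [π_base]; exact h3
  have e := E.base.lift_π _ _ hb
  rw [← E.base.lift_tri (E.base.l E.base.x₀ b) u c (by rw [e]; exact h5) (by rw [e]; exact h2) h4,
    E.base.lift_tri E.base.x₀ b u hb hu h5]

theorem square_block (g : SU 3 F q) (hg1 : nm hF (mv g (bv F 0) 1) = 1) (hg2 : mv g (bv F 0) 2 = 1)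
    (b : UV hF (M + 1)) (h1 : Orth hF (E.base.E 0) b)
    (h2 : Orth hF b (E.base.act (E.base.kB g) (E.base.E 0))) :
    E.base.l (E.base.l E.base.x₀ b) (E.base.act (E.base.kB g) (E.base.E 0)) = E.base.Bl g := by
  have hM := E.hM
  obtain ⟨p, hp, hp0, hpg⟩ := E.exists_far
  obtain ⟨hpo, hpl⟩ := hpg g
  have hb0 : b.1 0 = 0 := E.base.orth_base.1 h1
  have hc : (E.base.act (E.base.kB g) (E.base.E 0)).1 = E.base.pad (mv g (bv F 0)) := by
    show mv (E.base.kB g).1.1 (bv F (E.base.fB 0)) = _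
    rw [← pad_bv, Bl_pad]
  have hb12 : b.1 (E.base.fB 1) * qFrob hF (mv g (bv F 0) 1) + b.1 (E.base.fB 2) = 0 := by
    have h := hm_zero_symm hF h2
    rw [hc, pad, hm_pad, hm_eq, Fin.sum_univ_three] at h
    simp only [Function.comp_apply] at h
    rw [E.base.fB_zero, hb0, map_zero, mul_zero, zero_add, hg2, one_mul] at h
    have h' := congrArg (qFrob hF) h
    rw [map_add, map_mul, qFrob_qFrob, qFrob_qFrob, map_zero] at h'
    linear_combination h'
  set t2 := sh 2 (M - 2) M (show 2 + (M - 2) ≤ M by omega) with ht2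
  set v := (b.1 ∘ E.base.fH) ∘ t2 with hv
  have hvv : hm hF v v = 1 := by
    have h := hm_two_add hF (show M = M - 2 + 2 by omega) (show 2 + (M - 2) ≤ M by omega)
      ⟨0, by omega⟩ ⟨1, by omega⟩ rfl rfl (b.1 ∘ E.base.fH) (b.1 ∘ E.base.fH)
    rw [E.base.hm_tail hb0, b.2, ← ht2, ← hv, Function.comp_apply, Function.comp_apply,
      show E.base.fH ⟨0, by omega⟩ = E.base.fB 1 from Fin.ext (by simp [fH, fB, sh_val]),
      show E.base.fH ⟨1, by omega⟩ = E.base.fB 2 from Fin.ext (by simp [fH, fB, sh_val])] at h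
    have hn : nm hF (b.1 (E.base.fB 2)) = nm hF (b.1 (E.base.fB 1)) := by
      rw [show b.1 (E.base.fB 2) = -(b.1 (E.base.fB 1) * qFrob hF (mv g (bv F 0) 1)) by linear_combination hb12,
        nm_neg, nm_mul, nm_conj, hg1, mul_one]
    have hn' : b.1 (E.base.fB 2) * qFrob hF (b.1 (E.base.fB 2)) = b.1 (E.base.fB 1) * qFrob hF (b.1 (E.base.fB 1)) := hn
    linear_combination -h - hn' - (b.1 (E.base.fB 1) * qFrob hF (b.1 (E.base.fB 1))) * two_zero_of_two hF E.hq
  obtain ⟨u, hu, huv⟩ := perp_of hF (show 2 ≤ M - 2 by omega) v (Or.inr (by rw [hvv]; exact one_ne_zero))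
  obtain ⟨y, hy⟩ := exists_move_any hF (show 2 ≤ M - 2 by omega) ⟨0, by omega⟩ rfl hu
  set k := E.base.kH (emb hF t2 y) with hk
  have hfix : E.base.act k (E.base.act (E.base.kB g) (E.base.E 0)) = E.base.act (E.base.kB g) (E.base.E 0) := by
    rw [← E.base.act_mul, hk, ← (E.commF g y).eq, E.base.act_mul, E.base.act_kH_E0]
  set u' := E.base.act k p with hu'
  have hu'0 : Orth hF (E.base.E 0) u' := by rw [hu', ← E.base.act_kH_E0 (emb hF t2 y), E.base.orth_act]; exact hp0
  have hu'c : Orth hF u' (E.base.act (E.base.kB g) (E.base.E 0)) := by rw [hu', ← hfix, E.base.orth_act]; exact hpo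
  have hT : E.f4 3 = (t2.trans E.base.fH) ⟨0, by omega⟩ :=
    Fin.ext (by simp [Function.Embedding.trans_apply, f4, fH, ht2, sh_val])
  have hu'v : u'.1 = Function.extend (t2.trans E.base.fH) u 0 := by
    show mv (E.base.kH (emb hF t2 y)).1.1 p.1 = _
    rw [kH_fst, emb_trans, hp, hT]
    funext i
    by_cases hi : ∃ a, (t2.trans E.base.fH) a = i
    · obtain ⟨a, rfl⟩ := hi
      rw [emb_mv_in, bv_comp, hy, (t2.trans E.base.fH).injective.extend_apply]
    · rw [Function.extend_apply' _ _ _ hi]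
      push Not at hi
      rw [emb_mv_out hF _ _ _ hi]
      exact Pi.single_eq_of_ne (hi ⟨0, by omega⟩).symm _
  have hbu : Orth hF b u' := hm_zero_symm hF (by
    show hm hF u'.1 b.1 = 0
    rw [hu'v, hm_pad]
    exact huv)
  rw [E.detour_eq h1 h2 hu'0 hu'c hbu]
  conv_lhs => rw [← hfix, hu', ← E.base.kH_smul_base (emb hF t2 y)]
  rw [hk, E.base.l2_smul, hpl, show E.base.Bl g = E.base.kB g • E.base.x₀ from E.base.mk_eq_smul _, ← mul_smul, ← (E.commF g y).eq, mul_smul, E.base.kH_smul_base]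

theorem square_base (c b d : UV hF (M + 1)) (h1 : Orth hF (E.base.E 0) b) (h2 : Orth hF b c)
    (h3 : Orth hF (E.base.E 0) d) (h4 : Orth hF d c) :
    E.base.l (E.base.l E.base.x₀ b) c = E.base.l (E.base.l E.base.x₀ d) c := by
  have hM := E.hM
  have two := two_zero_of_two hF E.hq
  by_cases hc0 : c.1 0 = 0
  · have hoc : Orth hF (E.base.π E.base.x₀) c := by rw [E.base.π_base, E.base.orth_base]; exact hc0
    rw [E.base.lift_tri E.base.x₀ b c (by rw [E.base.π_base]; exact h1) hoc h2,
      E.base.lift_tri E.base.x₀ d c (by rw [E.base.π_base]; exact h3) hoc h4]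
  set t := c.1 ∘ E.base.fH with ht
  have htt : hm hF t t = 0 := by
    have h := hm_zero_add hF (show 1 + M ≤ M + 1 by omega) c.1 c.1
    rw [c.2, show c.1 0 * qFrob hF (c.1 0) = 1 from nm_one_of_ne hF E.hq hc0] at h
    linear_combination -h
  by_cases ht0 : t = 0
  · obtain ⟨u, hu, hub, hud⟩ := exists_common hF (n := M) hM (d.1 ∘ E.base.fH)
      (show hm hF (b.1 ∘ E.base.fH) (b.1 ∘ E.base.fH) = 1 by rw [E.base.hm_tail (E.base.orth_base.1 h1), b.2])
    set u' : UV hF (M + 1) := ⟨Function.extend E.base.fH u 0, by rw [hm_pad_self, hu]⟩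
    have hu0 : Orth hF (E.base.E 0) u' := E.base.orth_base.2 (Function.extend_apply' _ _ _ (by
      rintro ⟨a, ha⟩; exact E.base.fH_apply_ne a ha))
    have huc : Orth hF u' c := by
      show hm hF (Function.extend E.base.fH u 0) c.1 = 0
      rw [hm_pad, ← ht, ht0, hm_zero_right]
    have hbu : Orth hF b u' := hm_zero_symm hF (by
      show hm hF (Function.extend E.base.fH u 0) b.1 = 0
      rw [hm_pad]; exact hub)
    have hdu : Orth hF d u' := hm_zero_symm hF (by
      show hm hF (Function.extend E.base.fH u 0) d.1 = 0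
      rw [hm_pad]; exact hud)
    rw [E.detour_eq h1 h2 hu0 huc hbu, E.detour_eq h3 h4 hu0 huc hdu]
  obtain ⟨z, hz⟩ : ∃ z, t z ≠ 0 := Function.ne_iff.1 ht0
  set α := t z with hα
  set p := (bv F z : Fin M → F) with hpd
  set p' := t + (-α) • p with hp'
  have hαn : nm hF α = 1 := nm_one_of_ne hF E.hq hz
  have hp1 : hm hF p p = 1 := by rw [hpd, hm_bv, if_pos rfl]
  have htp : hm hF t p = α := by rw [hpd, hm_bv_right]
  have hpp : hm hF p' p = 0 := by rw [hp', hm_add_left, hm_smul_left, htp, hp1]; ring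
  have hp'1 : hm hF p' p' = 1 := by
    rw [hp', hm_add_left, hm_add_right, hm_add_right, hm_smul_left, hm_smul_left, hm_smul_right,
      hm_smul_right, htt, htp, ← hm_symm hF t p, htp, hp1, map_neg]
    have h : α * qFrob hF α = 1 := hαn
    linear_combination -h - two
  obtain ⟨h, hh0, hh1⟩ := exists_frame hF (n := M) (by omega) ⟨0, by omega⟩ ⟨1, by omega⟩ rfl rfl hp1 hp'1 hpp
  obtain ⟨g, hg⟩ := exists_move_any hF (M := 3) (by omega) 0 rfl (v := ![c.1 0, α, 1]) (by
    simp only [hm_eq, Fin.sum_univ_three, Matrix.cons_val, map_one]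
    rw [show c.1 0 * qFrob hF (c.1 0) = 1 from nm_one_of_ne hF E.hq hc0,
      show α * qFrob hF α = 1 from hαn]
    linear_combination two)
  have hc : c = E.base.act (E.base.kH h) (E.base.act (E.base.kB g) (E.base.E 0)) := by
    refine Subtype.ext ?_
    show c.1 = mv (E.base.kH h).1.1 (mv (E.base.kB g).1.1 (bv F (E.base.fB 0)))
    rw [← pad_bv, Bl_pad, hg, kH_fst]
    funext i
    refine Fin.cases ?_ (fun a => ?_) i
    · rw [emb_mv_out hF _ _ _ E.base.fH_apply_ne, pad]
      conv_rhs => rw [← E.base.fB_zero]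
      rw [E.base.fB.injective.extend_apply, E.base.fB_zero]
      rfl
    · have e : E.base.fH a = a.succ := Fin.ext (by simp [fH, sh_val, Nat.add_comm])
      have hpd' : E.base.pad ![c.1 0, α, 1] ∘ E.base.fH = α • bv F ⟨0, by omega⟩ + bv F ⟨1, by omega⟩ := by
        funext x
        rw [Function.comp_apply, pad]
        by_cases hz : ∃ z, E.base.fB z = E.base.fH x
        · obtain ⟨z, hz⟩ := hz
          rw [← hz, E.base.fB.injective.extend_apply]
          have := congrArg Fin.val hz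
          simp [fH, fB, sh_val] at this
          by_cases hx : (x : ℕ) = 0
          · rw [show z = 1 from Fin.ext (by simp only [Fin.val_one]; omega)]
            simp [bv, Pi.single_apply, Fin.ext_iff, hx]
          · rw [show z = 2 from Fin.ext (by simp only [Fin.val_two]; omega)]
            simp [bv, Pi.single_apply, Fin.ext_iff, hx, show (x : ℕ) = 1 by omega]
        · rw [Function.extend_apply' _ _ _ hz]
          push Not at hz
          have hx : (x : ℕ) ≠ 0 := fun h => hz 1 (Fin.ext (by simp [fH, fB, sh_val, h]))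
          have hx' : (x : ℕ) ≠ 1 := fun h => hz 2 (Fin.ext (by simp [fH, fB, sh_val, h]))
          simp [bv, Fin.ext_iff, hx, hx']
      rw [← e, emb_mv_in, hpd', mv_add, mv_smul, hh0, hh1, hp']
      show t a = _
      simp
  have key : ∀ b', Orth hF (E.base.E 0) b' → Orth hF b' c →
      E.base.l (E.base.l E.base.x₀ b') c = E.base.kH h • E.base.Bl g := by
    intro b' e1 e2
    have e1' : Orth hF (E.base.E 0) (E.base.act (E.base.kH h)⁻¹ b') := by
      rw [← orth_act E.base (E.base.kH h), act_inv', act_kH_E0]; exact e1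
    have e2' : Orth hF (E.base.act (E.base.kH h)⁻¹ b') (E.base.act (E.base.kB g) (E.base.E 0)) := by
      rw [← E.base.orth_act (E.base.kH h), act_inv', ← hc]; exact e2
    conv_lhs => rw [← E.base.act_inv' (E.base.kH h) b', hc, ← E.base.kH_smul_base h]
    rw [E.base.l2_smul, E.square_block g (by rw [hg]; simpa using hαn) (by rw [hg]; rfl) _ e1' e2']
  rw [key b h1 h2, key d h3 h4]

theorem lifting : Lifting (Orth hF) E.base.π E.base.l where
  lift := E.base.lift_π
  back := E.base.lift_back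
  tri := E.base.lift_tri
  sq := by
    intro x b c d h1 h2 h3 h4
    induction x using QuotientGroup.induction_on with
    | _ k =>
      rw [E.base.mk_eq_smul] at h1 h3 ⊢
      obtain ⟨b, rfl⟩ : ∃ b', b = E.base.act k b' := ⟨_, (E.base.act_inv' k b).symm⟩
      obtain ⟨c, rfl⟩ : ∃ c', c = E.base.act k c' := ⟨_, (E.base.act_inv' k c).symm⟩
      obtain ⟨d, rfl⟩ : ∃ d', d = E.base.act k d' := ⟨_, (E.base.act_inv' k d).symm⟩
      rw [E.base.orth_π_smul] at h1 h3
      rw [E.base.orth_act] at h2 h4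
      rw [E.base.l2_smul, E.base.l2_smul, E.square_base c b d h1 h2 h3 h4]

theorem exists_hom :
    ∃ Φ : SU (M + 1) F q →* G, (∀ h, Φ (emb hF E.base.fH h) = φ h) ∧ ∀ g, Φ (emb hF E.base.fB g) = Ψ g := by
  have hM := E.hM
  have hS : Shape (Orth hF (n := M + 1)) := shape_five hF (by omega)
  obtain ⟨L, hπ, hL0, hstep⟩ := exists_section (Orth hF) hS E.lifting E.base.x₀
  rw [E.base.π_base] at hL0
  let Z : Subgroup E.base.K :=
    { carrier := {k | ∀ p, k • L p = L (E.base.act k p)}
      one_mem' := fun p => by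
        rw [one_smul, show E.base.act 1 p = p from Subtype.ext (mv_one _)]
      mul_mem' := fun {a b} ha hb p => by rw [mul_smul, hb, ha, act_mul]
      inv_mem' := fun {a} ha p => by
        rw [inv_smul_eq_iff, ha, act_inv'] }
  have crit : ∀ k : E.base.K, k • E.base.x₀ = L (E.base.act k (E.base.E 0)) → k ∈ Z := by
    intro k hk p
    obtain ⟨b, h1, h2⟩ := hS.common (E.base.E 0) p
    rw [← hstep b p h2, ← hstep _ _ h1, hL0, ← l2_smul, hk, hstep _ _ ((E.base.orth_act _ _ _).2 h1),
      hstep _ _ ((E.base.orth_act _ _ _).2 h2)]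
  have hH : ∀ h, E.base.kH h ∈ Z := fun h => crit _ (by rw [kH_smul_base, act_kH_E0, hL0])
  have hB : ∀ g, E.base.kB g ∈ Z := fun g => crit _ (by
    obtain ⟨p, -, hp0, hpg⟩ := E.exists_far
    obtain ⟨hpo, hpl⟩ := hpg g
    rw [← hstep _ _ hpo, ← hstep _ _ hp0, hL0, hpl]
    exact (E.base.mk_eq_smul (E.base.kB g)).symm)
  have hall : ∀ k : E.base.K, k ∈ Z := by
    have : E.base.K ≤ Z.map E.base.K.subtype := sup_le
      (by rintro _ ⟨h, rfl⟩; exact ⟨E.base.kH h, hH h, rfl⟩)
      (by rintro _ ⟨g, rfl⟩; exact ⟨E.base.kB g, hB g, rfl⟩)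
    intro k
    obtain ⟨z, hz, e⟩ := this k.2
    rwa [← Subtype.ext e]
  let pr : E.base.K →* SU (M + 1) F q := (MonoidHom.fst _ _).comp E.base.K.subtype
  have hinj : Function.Injective pr := by
    refine (injective_iff_map_eq_one pr).2 fun k hk => ?_
    have hk' : k.1.1 = 1 := hk
    have e := hall k (E.base.E 0)
    rw [show E.base.act k (E.base.E 0) = E.base.E 0 from Subtype.ext (by
      show mv k.1.1 _ = _; rw [hk', mv_one]; ), hL0, ← mk_eq_smul] at e
    have hmem : (1 : E.base.K)⁻¹ * k ∈ E.base.kH.range := by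
      refine QuotientGroup.eq.1 ?_
      rw [e, mk_eq_smul, one_smul]
    rw [inv_one, one_mul] at hmem
    obtain ⟨h, rfl⟩ := hmem
    have : emb hF E.base.fH h = emb hF E.base.fH 1 := by rw [map_one]; exact hk'
    rw [emb_injective hF _ this, map_one]
  have hsurj : Function.Surjective pr := by
    rw [← MonoidHom.range_eq_top]
    refine closure_triples hF E.hq (by omega) fun i hi => ?_
    rintro _ ⟨u, rfl⟩
    rcases Nat.eq_zero_or_pos i with rfl | hpos
    · exact ⟨E.base.kB u, rfl⟩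
    · refine ⟨E.base.kH (emb hF (sh (i - 1) 3 M (by omega)) u), ?_⟩
      show emb hF E.base.fH (emb hF _ u) = _
      rw [emb_trans]
      congr 1
      refine congrArg _ (Function.Embedding.ext fun a => Fin.ext ?_)
      simp [Function.Embedding.trans_apply, fH, sh_val]; omega
  let eq := MulEquiv.ofBijective pr ⟨hinj, hsurj⟩
  have hval : ∀ k : E.base.K, eq.symm (k.1.1) = k := fun k => eq.symm_apply_apply k
  refine ⟨((MonoidHom.snd _ _).comp E.base.K.subtype).comp eq.symm.toMonoidHom, fun h => ?_, fun g => ?_⟩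
  · show (eq.symm (E.base.kH h).1.1).1.2 = _
    rw [hval]; rfl
  · show (eq.symm (E.base.kB g).1.1).1.2 = _
    rw [hval]; rfl

end GlueTwo

end Cfsg.Agent.Recog.Phan
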