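import Cfsg.Agent.Lib.Recog.PhanThree
import Cfsg.Agent.Lib.Recog.PhanTwoGlue

/-!
Common eigenvectors of three commuting elements of order three over four elements.
-/

set_option autoImplicit false
set_option linter.unusedSectionVars false

namespace Cfsg.Agent.Recog.Phan

open Matrix Cfsg.Agent.Classical Cfsg.Agent.Lie.SpnPres

variable {F : Type*} [Field F] [Fintype F] {q : ℕ} (hF : Fintype.card F = q ^ 2)

include hF

theorem mv_zero_vec {n : ℕ} (g : SU n F q) : mv g (0 : Fin n → F) = 0 := by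
  have _ := hF
  exact Matrix.mulVec_zero _

variable (hq : q = 2) {ω : F} (hω : ω * ω = ω + 1)

include hq hω

/-- The diagonal generator. -/
def d2 : SU 2 F q := el2 hF ω 0 (by rw [nm_one_of_ne hF hq (omega_ne_two hF hq hω), nm_zero, add_zero])

/-- The swap. -/
def s2 : SU 2 F q :=
  have _ := hq; have _ := hω
  el2 hF (0 : F) 1 (by rw [nm_zero, nm_one, zero_add])

theorem neg_eq_two (x : F) : -x = x := by linear_combination -x * two_zero_of_two hF hq

theorem qFrob_omega : qFrob hF ω = ω * ω := qFrob_two hF hq ω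

theorem d2_mv_zero : mv (d2 hF hq hω) (bv F 0) = ω • bv F 0 := by
  rw [d2, el2_mv_zero]; funext i; fin_cases i <;> simp [bv]

theorem d2_mv_one : mv (d2 hF hq hω) (bv F 1) = (ω * ω) • bv F 1 := by
  funext i; fin_cases i <;> simp [d2, mv, el2, bv, qFrob_omega hF hq hω]

theorem s2_mv_zero : mv (s2 hF hq hω) (bv F 0) = (1 : F) • bv F 1 := by
  rw [s2, el2_mv_zero]; funext i; fin_cases i <;> simp [bv]

theorem s2_mv_one : mv (s2 hF hq hω) (bv F 1) = (1 : F) • bv F 0 := by
  funext i; fin_cases i <;> simp [s2, mv, el2, bv, neg_eq_two hF hq hω]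

theorem d2_cube : d2 hF hq hω * d2 hF hq hω * d2 hF hq hω = 1 := by
  refine su_ext fun i => ?_
  rw [mv_mul, mv_mul, mv_one]
  fin_cases i
  · simp only [Fin.zero_eta, d2_mv_zero, mv_smul, smul_smul]
    rw [omega_cube hF hq hω, one_smul]
  · simp only [Fin.mk_one, d2_mv_one, mv_smul, smul_smul]
    rw [show ω * ω * (ω * ω) * (ω * ω) = (ω * ω * ω) * (ω * ω * ω) by ring, omega_cube hF hq hω, one_mul,
      one_smul]

theorem s2_sq : s2 hF hq hω * s2 hF hq hω = 1 := by
  refine su_ext fun i => ?_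
  rw [mv_mul, mv_one]
  fin_cases i
  · simp only [Fin.zero_eta, s2_mv_zero, mv_smul, s2_mv_one, smul_smul, one_mul, one_smul]
  · simp only [Fin.mk_one, s2_mv_one, mv_smul, s2_mv_zero, smul_smul, one_mul, one_smul]

theorem s2_d2_s2 : s2 hF hq hω * d2 hF hq hω * s2 hF hq hω = d2 hF hq hω * d2 hF hq hω := by
  refine su_ext fun i => ?_
  rw [mv_mul, mv_mul, mv_mul]
  fin_cases i
  · simp only [Fin.zero_eta, s2_mv_zero, mv_smul, d2_mv_one, d2_mv_zero, s2_mv_one, smul_smul, one_mul,
      mul_one]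
  · simp only [Fin.mk_one, s2_mv_one, mv_smul, d2_mv_zero, d2_mv_one, s2_mv_zero, smul_smul, one_mul,
      mul_one]
    rw [show ω * ω * (ω * ω) = ω * (ω * ω * ω) by ring, omega_cube hF hq hω, mul_one]

/-- Homomorphisms from the two-dimensional group are fixed by the two generators. -/
theorem hom_ext2 {S : Type*} [Monoid S] {f f' : SU 2 F q →* S}
    (hd : f (d2 hF hq hω) = f' (d2 hF hq hω)) (hs : f (s2 hF hq hω) = f' (s2 hF hq hω)) : f = f' := by
  have hdiag : ∀ a (h : nm hF a + nm hF (0 : F) = 1), f (el2 hF a 0 h) = f' (el2 hF a 0 h) := by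
    intro a h
    have ha : a ≠ 0 := fun e => by rw [e, nm_zero, add_zero] at h; exact zero_ne_one h
    rcases four_values hF hq hω ha with e | e | e <;> subst e
    · have e1 : el2 hF (1 : F) 0 h = 1 := su_ext fun i => by
        rw [mv_one]; funext j; fin_cases i <;> fin_cases j <;> simp [mv, el2, bv]
      rw [e1, map_one, map_one]
    · exact hd
    · have e2 : el2 hF (ω * ω) 0 h = d2 hF hq hω * d2 hF hq hω :=
        (el2_mul' hF (by rw [map_zero]; ring) (by ring)).symm
      rw [e2, map_mul, map_mul, hd]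
  refine MonoidHom.ext fun u => ?_
  obtain ⟨a, b, hab, rfl⟩ := el2_surj hF u
  by_cases hb : b = 0
  · subst hb; exact hdiag a hab
  · have ha : a = 0 := by
      by_contra ha
      rw [nm_one_of_ne hF hq ha, nm_one_of_ne hF hq hb] at hab
      exact one_ne_zero (α := F) (by linear_combination -hab + two_zero_of_two hF hq)
    subst ha
    have hb' : nm hF b + nm hF (0 : F) = 1 := by rw [nm_zero] at hab ⊢; linear_combination hab
    have e : el2 hF 0 b hab = s2 hF hq hω * el2 hF b 0 hb' := by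
      rw [s2]; exact (el2_mul' hF (by rw [map_one]; ring) (by rw [map_zero]; ring)).symm
    rw [e, map_mul, map_mul, hs, hdiag b hb']

omit hω in
/-- A unit vector splits off an eigenvector of an element of order three. -/
theorem exists_eigen_three {n : ℕ} (hω : ω * ω = ω + 1) (T : SU n F q) (hT : T * T * T = 1)
    {Q : (Fin n → F) → Prop} (hadd : ∀ u v, Q u → Q v → Q (u + v)) (hsm : ∀ (c : F) u, Q u → Q (c • u))
    (hQT : ∀ u, Q u → Q (mv T u)) {u : Fin n → F} (hu : hm hF u u = 1) (hQu : Q u) :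
    ∃ v, hm hF v v = 1 ∧ Q v ∧ ∃ κ : F, mv T v = κ • v := by
  have two := two_zero_of_two hF hq
  have h3 := omega_cube hF hq hω
  have hT3 : ∀ v, mv T (mv T (mv T v)) = v := fun v => by rw [← mv_mul, ← mv_mul, hT, mv_one]
  let w : F → Fin n → F := fun ζ => u + ((ζ * ζ) • mv T u + ζ • mv T (mv T u))
  have hw : ∀ ζ : F, ζ * ζ * ζ = 1 → mv T (w ζ) = ζ • w ζ := fun ζ hζ => by
    simp only [w, mv_add, mv_smul, hT3, smul_add, smul_smul]
    rw [show ζ * (ζ * ζ) = 1 by linear_combination hζ, one_smul]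
    abel
  have hQw : ∀ ζ, Q (w ζ) := fun ζ =>
    hadd _ _ hQu (hadd _ _ (hsm _ _ (hQT _ hQu)) (hsm _ _ (hQT _ (hQT _ hQu))))
  have hsum : u = w 1 + (w ω + w (ω * ω)) := by
    funext i
    simp only [w, Pi.add_apply, Pi.smul_apply, smul_eq_mul]
    linear_combination -(u i + mv T u i * (ω + 1) + mv T (mv T u) i * (ω + 1)) * two -
      (mv T u i) * (hω + ω * h3) - (mv T (mv T u) i) * hω
  have pick : hm hF (w 1) (w 1) = 1 ∨ hm hF (w ω) (w ω) = 1 ∨ hm hF (w (ω * ω)) (w (ω * ω)) = 1 := by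
    have h30 : (ω * ω) * (ω * ω) * (ω * ω) = 1 := by linear_combination (ω * ω * ω + 1) * h3
    have orth : ∀ ζ η : F, ζ * ζ * ζ = 1 → η * η * η = 1 → ζ ≠ η → hm hF (w ζ) (w η) = 0 := by
      intro ζ η hζ hη hne
      have e := mv_form hF T (w ζ) (w η)
      rw [hw ζ hζ, hw η hη, hm_smul_left, hm_smul_right, ← mul_assoc] at e
      refine (mul_eq_zero.1 (show (ζ * qFrob hF η - 1) * hm hF (w ζ) (w η) = 0 by
        rw [sub_mul, one_mul, e, sub_self])).resolve_left fun h => hne ?_
      rw [qFrob_two hF hq] at h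
      linear_combination η * h - ζ * hη
    have o1 : (1 : F) * 1 * 1 = 1 := by ring
    have n1 : (1 : F) ≠ ω := fun h => by
      rw [← h] at hω; exact one_ne_zero (α := F) (by linear_combination -hω)
    have n2 : (1 : F) ≠ ω * ω := fun h => omega_ne_two hF hq hω (by linear_combination -hω - h)
    have n3 : ω ≠ ω * ω := fun h => one_ne_zero (α := F) (by linear_combination -hω - h)
    have tot := hu
    rw [hsum] at tot
    simp only [hm_add_left, hm_add_right, orth _ _ o1 h3 n1, orth _ _ o1 h30 n2, orth _ _ h3 h30 n3,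
      orth _ _ h3 o1 n1.symm, orth _ _ h30 o1 n2.symm, orth _ _ h30 h3 n3.symm, add_zero, zero_add] at tot
    rcases fix_two hF hq (hm_self_fix hF (w 1)) with e1 | e1
    · rcases fix_two hF hq (hm_self_fix hF (w ω)) with e2 | e2
      · rw [e1, e2, zero_add, zero_add] at tot
        exact Or.inr (Or.inr tot)
      · exact Or.inr (Or.inl e2)
    · exact Or.inl e1
  rcases pick with e | e | e
  · exact ⟨w 1, e, hQw _, 1, hw 1 (by ring)⟩
  · exact ⟨w ω, e, hQw _, ω, hw ω h3⟩
  · exact ⟨w (ω * ω), e, hQw _, ω * ω, hw _ (by linear_combination (ω * ω * ω + 1) * h3)⟩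

omit hω in
theorem eigen_perp {n : ℕ} (T : SU n F q) {p v : Fin n → F} {κ : F} (hp : hm hF p p = 1)
    (hTp : mv T p = κ • p) (hv : hm hF v p = 0) : hm hF (mv T v) p = 0 := by
  have e := mv_form hF T v p
  rw [hTp, hm_smul_right, hv] at e
  refine (mul_eq_zero.1 e).resolve_left ((map_ne_zero (qFrob hF)).2 fun h => ?_)
  have e' := mv_form hF T p p
  rw [hTp, hp, hm_smul_left, h, zero_mul] at e'
  exact zero_ne_one e'

omit hω in
/-- The first few columns extended by one further orthogonal unit vector. -/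
theorem frame_ext (g : SU 4 F q) (k : ℕ) (hk : k ≤ 2) {p : Fin 4 → F} (hp : hm hF p p = 1)
    (hperp : ∀ i : Fin 4, (i : ℕ) < k → hm hF p (mv g (bv F i)) = 0) :
    ∃ g' : SU 4 F q, (∀ i : Fin 4, (i : ℕ) < k → mv g' (bv F i) = mv g (bv F i)) ∧
      mv g' (bv F ⟨k, by omega⟩) = p := by
  set f := sh k (4 - k) 4 (show k + (4 - k) ≤ 4 by omega) with hf
  set w := mv g⁻¹ p with hw
  have w0 : ∀ i : Fin 4, (i : ℕ) < k → w i = 0 := fun i hi => by
    rw [← hm_bv_right hF w i, hw, ← mv_form hF g, mv_cancel_inv]; exact hperp i hi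
  have hpad : Function.extend f (w ∘ f) 0 = w := by
    funext i
    by_cases hi : ∃ a, f a = i
    · obtain ⟨a, rfl⟩ := hi
      exact f.injective.extend_apply _ 0 a
    · rw [Function.extend_apply' _ _ _ hi, Pi.zero_apply, w0 i]
      by_contra h
      exact hi ⟨⟨(i : ℕ) - k, by omega⟩, Fin.ext (by simp [hf, sh_val]; omega)⟩
  obtain ⟨y, hy⟩ := exists_move_any hF (M := 4 - k) (by omega) ⟨0, by omega⟩ rfl (v := w ∘ f)
    (by rw [← hm_pad_self hF f, hpad, hw, mv_form, hp])
  refine ⟨g * emb hF f y, fun i hi => ?_, ?_⟩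
  · rw [mv_mul, emb_fix_bv hF f y]
    intro a h
    have := congrArg Fin.val h
    simp [hf, sh_val] at this
    omega
  · have e : mv (emb hF f y) (bv F ⟨k, by omega⟩) = w := by
      rw [show (⟨k, by omega⟩ : Fin 4) = f ⟨0, by omega⟩ from Fin.ext (by simp [hf, sh_val])]
      conv_rhs => rw [← hpad]
      funext i
      by_cases hi : ∃ a, f a = i
      · obtain ⟨a, rfl⟩ := hi
        rw [emb_mv_in, bv_comp, hy, f.injective.extend_apply]
      · rw [Function.extend_apply' _ _ _ hi, Pi.zero_apply]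
        push Not at hi
        rw [emb_mv_out hF f y _ hi]
        exact Pi.single_eq_of_ne (hi ⟨0, by omega⟩).symm _
    rw [mv_mul, e, hw, mv_cancel_inv]

omit hω in
/-- Three commuting elements of order three have a common frame. -/
theorem exists_common_frame (A B C : SU 4 F q) (hA : A * A * A = 1) (hB : B * B * B = 1)
    (hC : C * C * C = 1) (hAB : Commute A B) (hAC : Commute A C) (hBC : Commute B C) :
    ∃ g : SU 4 F q, ∀ i, (∃ κ : F, mv A (mv g (bv F i)) = κ • mv g (bv F i)) ∧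
      (∃ κ : F, mv B (mv g (bv F i)) = κ • mv g (bv F i)) ∧
      ∃ κ : F, mv C (mv g (bv F i)) = κ • mv g (bv F i) := by
  obtain ⟨ω, hω⟩ := exists_omega_two hF hq
  let Eig : (Fin 4 → F) → Prop := fun v =>
    (∃ κ : F, mv A v = κ • v) ∧ (∃ κ : F, mv B v = κ • v) ∧ ∃ κ : F, mv C v = κ • v
  have main : ∀ k, k ≤ 4 → ∃ g : SU 4 F q, ∀ i : Fin 4, (i : ℕ) < k → Eig (mv g (bv F i)) := by
    intro k
    induction k with
    | zero => exact fun _ => ⟨1, fun i hi => absurd hi (Nat.not_lt_zero _)⟩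
    | succ k ih =>
      intro hk
      obtain ⟨g, hg⟩ := ih (by omega)
      let Q0 : (Fin 4 → F) → Prop := fun v => ∀ i : Fin 4, (i : ℕ) < k → hm hF v (mv g (bv F i)) = 0
      have a0 : ∀ u v, Q0 u → Q0 v → Q0 (u + v) := fun u v hu hv i hi => by
        rw [hm_add_left, hu i hi, hv i hi, add_zero]
      have s0 : ∀ (c : F) u, Q0 u → Q0 (c • u) := fun c u hu i hi => by
        rw [hm_smul_left, hu i hi, mul_zero]
      have hp : ∀ i : Fin 4, hm hF (mv g (bv F i)) (mv g (bv F i)) = 1 := fun i => by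
        rw [mv_form, hm_bv, if_pos rfl]
      have tA : ∀ u, Q0 u → Q0 (mv A u) := fun u hu i hi => by
        obtain ⟨κ, hκ⟩ := (hg i hi).1; exact eigen_perp hF hq A (hp i) hκ (hu i hi)
      have tB : ∀ u, Q0 u → Q0 (mv B u) := fun u hu i hi => by
        obtain ⟨κ, hκ⟩ := (hg i hi).2.1; exact eigen_perp hF hq B (hp i) hκ (hu i hi)
      have tC : ∀ u, Q0 u → Q0 (mv C u) := fun u hu i hi => by
        obtain ⟨κ, hκ⟩ := (hg i hi).2.2; exact eigen_perp hF hq C (hp i) hκ (hu i hi)
      set u0 := mv g (bv F (⟨k, by omega⟩ : Fin 4)) with hu0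
      have hQ0 : Q0 u0 := fun i hi => by
        rw [hu0, mv_form, hm_bv, if_neg]
        intro h; have := congrArg Fin.val h; simp at this; omega
      obtain ⟨u1, n1, q1, κ, hκ⟩ := exists_eigen_three hF hq hω A hA a0 s0 tA (hp _) hQ0
      obtain ⟨u2, n2, ⟨q2, hA2⟩, μ, hμ⟩ := exists_eigen_three hF hq hω B hB
        (Q := fun v => Q0 v ∧ mv A v = κ • v)
        (fun u v hu hv => ⟨a0 u v hu.1 hv.1, by rw [mv_add, hu.2, hv.2, smul_add]⟩)
        (fun c u hu => ⟨s0 c u hu.1, by rw [mv_smul, hu.2, smul_comm]⟩)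
        (fun u hu => ⟨tB u hu.1, by rw [← mv_mul, hAB.eq, mv_mul, hu.2, mv_smul]⟩) n1 ⟨q1, hκ⟩
      obtain ⟨u3, n3, ⟨q3, hA3, hB3⟩, ν, hν⟩ := exists_eigen_three hF hq hω C hC
        (Q := fun v => Q0 v ∧ mv A v = κ • v ∧ mv B v = μ • v)
        (fun u v hu hv => ⟨a0 u v hu.1 hv.1, by rw [mv_add, hu.2.1, hv.2.1, smul_add],
          by rw [mv_add, hu.2.2, hv.2.2, smul_add]⟩)
        (fun c u hu => ⟨s0 c u hu.1, by rw [mv_smul, hu.2.1, smul_comm],
          by rw [mv_smul, hu.2.2, smul_comm]⟩)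
        (fun u hu => ⟨tC u hu.1, by rw [← mv_mul, hAC.eq, mv_mul, hu.2.1, mv_smul],
          by rw [← mv_mul, hBC.eq, mv_mul, hu.2.2, mv_smul]⟩) n2 ⟨q2, hA2, hμ⟩
      have heig : Eig u3 := ⟨⟨κ, hA3⟩, ⟨μ, hB3⟩, ν, hν⟩
      rcases Nat.lt_or_ge k 3 with hk3 | hk3
      · obtain ⟨g', hg', hgk⟩ := frame_ext hF hq g k (by omega) n3 q3
        refine ⟨g', fun i hi => ?_⟩
        rcases Nat.lt_or_eq_of_le (Nat.lt_succ_iff.1 hi) with h | h
        · rw [hg' i h]; exact hg i h
        · rw [show i = ⟨k, by omega⟩ from Fin.ext h, hgk]; exact heig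
      · obtain rfl : k = 3 := by omega
        refine ⟨g, fun i hi => ?_⟩
        rcases Nat.lt_or_eq_of_le (Nat.lt_succ_iff.1 hi) with h | h
        · exact hg i h
        · set w := mv g⁻¹ u3 with hw
          have hw3 : w = w 3 • bv F 3 := by
            funext l
            by_cases hl : l = 3
            · subst hl; simp [bv]
            · rw [Pi.smul_apply, bv, Pi.single_eq_of_ne hl, smul_zero, ← hm_bv_right hF w l, hw,
                ← mv_form hF g, mv_cancel_inv]
              exact q3 l (by have := l.2; have : (l : ℕ) ≠ 3 := fun e => hl (Fin.ext e); omega)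
          have hw0 : w 3 ≠ 0 := fun e => by
            have e' := mv_form hF g⁻¹ u3 u3
            rw [← hw, hw3, e, zero_smul, hm_zero_left, n3] at e'
            exact zero_ne_one e'
          have hu3 : mv g (bv F i) = (w 3)⁻¹ • u3 := by
            rw [show i = 3 from Fin.ext h]
            have := congrArg (mv g) hw3
            rw [hw, mv_cancel_inv, mv_smul, ← hw] at this
            rw [this, inv_smul_smul₀ hw0]
          rw [hu3]
          exact ⟨⟨κ, by rw [mv_smul, hA3, smul_comm]⟩, ⟨μ, by rw [mv_smul, hB3, smul_comm]⟩,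
            ν, by rw [mv_smul, hν, smul_comm]⟩
  obtain ⟨g, hg⟩ := main 4 le_rfl
  exact ⟨g, fun i => hg i i.2⟩

end Cfsg.Agent.Recog.Phan
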