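import Cfsg.Agent.Lib.Recog.PhanTrans

/-!
Unit vectors over four elements: transitivity and generation by three-dimensional blocks.
-/

set_option autoImplicit false
set_option linter.unusedSectionVars false

namespace Cfsg.Agent.Recog.Phan

open Matrix Cfsg.Agent.Classical Cfsg.Agent.Lie.SpnPres

variable {F : Type*} [Field F] [Fintype F] {q : ℕ} (hF : Fintype.card F = q ^ 2)

include hF

theorem circle_split {v : Fin 2 → F} (hv : hm hF v v = 1) : nm hF (v 0) + nm hF (v 1) = 1 := by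
  simpa [hm_eq, Fin.sum_univ_two, nm] using hv

variable (hq : q = 2)

include hq

theorem two_zero_of_two : (1 + 1 : F) = 0 := by
  subst hq
  have h := FiniteField.cast_card_eq_zero F
  rw [hF] at h
  norm_num at h
  have h2 : (2 : F) = 0 := eq_zero_of_pow_eq_zero (show (2 : F) ^ 2 = 0 by linear_combination h)
  linear_combination h2

theorem qFrob_two (x : F) : qFrob hF x = x * x := by rw [qFrob_apply, hq, pow_two]

theorem pow_three_two {x : F} (hx : x ≠ 0) : x * x * x = 1 := by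
  have h := FiniteField.pow_card_sub_one_eq_one x hx
  rw [hF, hq] at h
  linear_combination h

theorem nm_one_of_ne {x : F} (hx : x ≠ 0) : nm hF x = 1 := by
  rw [nm, qFrob_two hF hq]; linear_combination pow_three_two hF hq hx

theorem fix_two {x : F} (hx : qFrob hF x = x) : x = 0 ∨ x = 1 := by
  by_cases h : x = 0
  · exact Or.inl h
  · refine Or.inr ?_
    have e := nm_one_of_ne hF hq h
    rw [nm, hx] at e
    rw [qFrob_two hF hq] at hx
    exact hx.symm.trans e

theorem nm_cases (x : F) : nm hF x = 0 ∨ nm hF x = 1 := fix_two hF hq (nm_fix hF x)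

theorem exists_omega_two : ∃ ω : F, ω * ω = ω + 1 := by
  classical
  obtain ⟨x, hx⟩ : ∃ x : F, x ∉ ({0, 1} : Finset F) := Finset.exists_mem_notMem_of_card_lt_card
    (s := ({0, 1} : Finset F)) (t := Finset.univ) (by
      rw [Finset.card_univ, hF, hq]
      exact lt_of_le_of_lt Finset.card_le_two (by norm_num)) |>.imp fun x h => h.2
  simp only [Finset.mem_insert, Finset.mem_singleton, not_or] at hx
  have h3 := pow_three_two hF hq hx.1
  have two := two_zero_of_two hF hq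
  refine ⟨x, ?_⟩
  have h : (x - 1) * (x * x + x + 1) = 0 := by linear_combination h3
  rcases mul_eq_zero.1 h with e | e
  · exact absurd (sub_eq_zero.1 e) hx.2
  · linear_combination e - (x + 1) * two

omit hq in
/-- The matrix with three given columns. -/
theorem exists_cols (c : Fin 3 → Fin 3 → F)
    (h : ∀ i j, hm hF (c i) (c j) = if i = j then 1 else 0)
    (hd : (Matrix.of fun a b => c b a).det = 1) : ∃ g : SU 3 F q, ∀ i, mv g (bv F i) = c i := by
  set A : Matrix (Fin 3) (Fin 3) F := Matrix.of fun a b => c b a with hA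
  have hAv : ∀ u, A *ᵥ u = u 0 • c 0 + u 1 • c 1 + u 2 • c 2 := fun u => funext fun a => by
    simp [hA, Matrix.mulVec, dotProduct, Fin.sum_univ_three, mul_comm]
  refine ⟨⟨⟨A, hd⟩, fun u v => ?_⟩, fun i => ?_⟩
  · show hm hF (A *ᵥ u) (A *ᵥ v) = hm hF u v
    rw [hAv, hAv]
    simp only [hm_add_left, hm_add_right, hm_smul_left, hm_smul_right, h]
    simp [hm_eq, Fin.sum_univ_three]
    ring
  · show A *ᵥ bv F i = c i
    funext a
    simp [hA, bv]

variable {ω : F} (hω : ω * ω = ω + 1)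

include hω

theorem omega_cube : ω * ω * ω = 1 := by
  linear_combination (ω + 1) * hω + ω * two_zero_of_two hF hq

theorem omega_ne_two : ω ≠ 0 := fun h => by
  rw [h] at hω; exact one_ne_zero (α := F) (by linear_combination -hω)

theorem four_values {x : F} (hx : x ≠ 0) : x = 1 ∨ x = ω ∨ x = ω * ω := by
  have two := two_zero_of_two hF hq
  have h3 := pow_three_two hF hq hx
  have e : (x - 1) * ((x - ω) * (x - ω * ω)) = 0 := by
    linear_combination h3 + (x - 1) * omega_cube hF hq hω - (x * x - x) * (hω + (ω + 1) * two)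
  rcases mul_eq_zero.1 e with h | h
  · exact Or.inl (sub_eq_zero.1 h)
  · rcases mul_eq_zero.1 h with h | h
    · exact Or.inr (Or.inl (sub_eq_zero.1 h))
    · exact Or.inr (Or.inr (sub_eq_zero.1 h))

theorem exists_fourier : ∃ V W : SU 3 F q,
    (mv V (bv F 0) = ![1, 1, 1] ∧ mv V (bv F 1) = ![1, ω, ω * ω] ∧ mv V (bv F 2) = ![1, ω * ω, ω]) ∧
      mv W (bv F 0) = ![1, 1, ω] ∧ mv W (bv F 1) = ![1, ω, 1] ∧ mv W (bv F 2) = ![ω * ω, ω, ω] := by
  have two := two_zero_of_two hF hq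
  have h3 := omega_cube hF hq hω
  have hs := qFrob_two hF hq ω
  obtain ⟨V, hV⟩ := exists_cols hF ![![1, 1, 1], ![1, ω, ω * ω], ![1, ω * ω, ω]] (fun i j => by
      fin_cases i <;> fin_cases j <;> simp [hm_eq, Fin.sum_univ_three, hs] <;>
        grind only) (by simp [Matrix.det_fin_three]; grind only)
  obtain ⟨W, hW⟩ := exists_cols hF ![![1, 1, ω], ![1, ω, 1], ![ω * ω, ω, ω]] (fun i j => by
      fin_cases i <;> fin_cases j <;> simp [hm_eq, Fin.sum_univ_three, hs] <;>
        grind only) (by simp [Matrix.det_fin_three]; grind only)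
  exact ⟨V, W, ⟨hV 0, hV 1, hV 2⟩, hW 0, hW 1, hW 2⟩

omit hω in
/-- Unit vectors in three dimensions are reached from the first one by two blocks and two further elements. -/
theorem reach_three (hω : ω * ω = ω + 1) {X : Subgroup (SU 3 F q)}
    (h0 : (emb hF (sh 0 2 3 (by omega))).range ≤ X) (h1 : (emb hF (sh 1 2 3 (by omega))).range ≤ X)
    {V W : SU 3 F q}
    (hV : mv V (bv F 0) = ![1, 1, 1] ∧ mv V (bv F 1) = ![1, ω, ω * ω] ∧ mv V (bv F 2) = ![1, ω * ω, ω])
    (hW : mv W (bv F 0) = ![1, 1, ω]) (hVX : V ∈ X) (hWX : W ∈ X) (v : Fin 3 → F) (hv : hm hF v v = 1) :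
    ∃ x ∈ X, mv x (bv F 0) = v := by
  have two := two_zero_of_two hF hq
  set f0 := sh 0 2 3 (show 0 + 2 ≤ 3 by omega) with hf0
  set f1 := sh 1 2 3 (show 1 + 2 ≤ 3 by omega) with hf1
  have e0 : ∀ (u : SU 2 F q) (w : Fin 3 → F),
      mv (emb hF f0 u) w = ![mv u ![w 0, w 1] 0, mv u ![w 0, w 1] 1, w 2] := fun u w => by
    have hc : w ∘ f0 = ![w 0, w 1] := funext fun a => by fin_cases a <;> rfl
    funext i
    fin_cases i
    · exact (emb_mv_in hF f0 u w 0).trans (by rw [hc]; rfl)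
    · exact (emb_mv_in hF f0 u w 1).trans (by rw [hc]; rfl)
    · exact emb_mv_out hF f0 u w fun a => by fin_cases a <;> simp [hf0, Fin.ext_iff, sh_val]
  have e1 : ∀ (u : SU 2 F q) (w : Fin 3 → F),
      mv (emb hF f1 u) w = ![w 0, mv u ![w 1, w 2] 0, mv u ![w 1, w 2] 1] := fun u w => by
    have hc : w ∘ f1 = ![w 1, w 2] := funext fun a => by fin_cases a <;> rfl
    funext i
    fin_cases i
    · exact emb_mv_out hF f1 u w fun a => by fin_cases a <;> simp [hf1, Fin.ext_iff, sh_val]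
    · exact (emb_mv_in hF f1 u w 0).trans (by rw [hc]; rfl)
    · exact (emb_mv_in hF f1 u w 1).trans (by rw [hc]; rfl)
  have el : ∀ (a b : F) (h : nm hF a + nm hF b = 1) (x y : F),
      mv (el2 hF a b h) ![x, y] = ![a * x - qFrob hF b * y, b * x + qFrob hF a * y] := fun a b h x y => by
    funext i
    fin_cases i <;> simp [mv, el2] <;> ring
  have swapn : nm hF (0 : F) + nm hF (1 : F) = 1 := by rw [nm_zero, nm_one, zero_add]
  set s0 := emb hF f0 (el2 hF (0 : F) 1 swapn) with hs0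
  set s1 := emb hF f1 (el2 hF (0 : F) 1 swapn) with hs1
  have hsX0 : s0 ∈ X := h0 ⟨_, rfl⟩
  have hsX1 : s1 ∈ X := h1 ⟨_, rfl⟩
  have b0 : (bv F (0 : Fin 3)) = ![1, 0, 0] := funext fun i => by fin_cases i <;> simp [bv]
  have one : ∀ z : F, z ≠ 0 → ∃ x ∈ X, mv x (bv F 0) = ![z, 0, 0] := fun z hz =>
    ⟨_, h0 ⟨el2 hF z 0 (by rw [nm_one_of_ne hF hq hz, nm_zero, add_zero]), rfl⟩, by
      rw [b0, e0, el]; funext i; fin_cases i <;> simp⟩
  have reps : ∀ p : F, p ≠ 0 → ∃ x ∈ X, mv x (bv F 0) = ![1, 1, p] ∨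
      ∃ a b c : F, mv x (bv F 0) = ![a, b, c] ∧ a * b * c = p ∧ a ≠ 0 ∧ b ≠ 0 ∧ c ≠ 0 := by
    intro p hp
    have hω0 := omega_ne_two hF hq hω
    have h3 := omega_cube hF hq hω
    rcases four_values hF hq hω hp with rfl | rfl | rfl
    · exact ⟨V, hVX, Or.inl hV.1⟩
    · exact ⟨W, hWX, Or.inl hW⟩
    · refine ⟨V * W, X.mul_mem hVX hWX, Or.inr ⟨ω, ω, 1, ?_, by ring, hω0, hω0, one_ne_zero⟩⟩
      rw [mv_mul, hW, show (![1, 1, ω] : Fin 3 → F) = bv F 0 + bv F 1 + ω • bv F 2 from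
        funext fun i => by fin_cases i <;> simp [bv], mv_add, mv_add, mv_smul, hV.1, hV.2.1, hV.2.2]
      funext i
      fin_cases i <;> simp <;> grind only
  have full : ∀ a b c : F, a ≠ 0 → b ≠ 0 → c ≠ 0 → ∃ x ∈ X, mv x (bv F 0) = ![a, b, c] := by
    intro a b c ha hb hc
    obtain ⟨x, hx, hxe⟩ := reps (a * b * c) (mul_ne_zero (mul_ne_zero ha hb) hc)
    obtain ⟨a', b', c', hx0, hp, ha', hb', hc'⟩ :
        ∃ a' b' c' : F, mv x (bv F 0) = ![a', b', c'] ∧ a' * b' * c' = a * b * c ∧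
          a' ≠ 0 ∧ b' ≠ 0 ∧ c' ≠ 0 := by
      rcases hxe with h | h
      · exact ⟨1, 1, _, h, by ring, one_ne_zero, one_ne_zero, mul_ne_zero (mul_ne_zero ha hb) hc⟩
      · exact h
    set α := a / a' with hα
    have hα0 : α ≠ 0 := div_ne_zero ha ha'
    have hαβ : α * (b / b') ≠ 0 := mul_ne_zero hα0 (div_ne_zero hb hb')
    refine ⟨emb hF f0 (el2 hF α 0 (by rw [nm_one_of_ne hF hq hα0, nm_zero, add_zero])) *
      emb hF f1 (el2 hF (α * (b / b')) 0 (by rw [nm_one_of_ne hF hq hαβ, nm_zero, add_zero])) * x,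
      X.mul_mem (X.mul_mem (h0 ⟨_, rfl⟩) (h1 ⟨_, rfl⟩)) hx, ?_⟩
    have hc2 : qFrob hF (α * (b / b')) = (α * (b / b'))⁻¹ :=
      (inv_eq_of_mul_eq_one_right (nm_one_of_ne hF hq hαβ)).symm
    have ha2 : qFrob hF α = α⁻¹ := (inv_eq_of_mul_eq_one_right (nm_one_of_ne hF hq hα0)).symm
    rw [mv_mul, mv_mul, hx0, e1, el, e0, el]
    funext i
    fin_cases i
    · simp [hα, div_mul_cancel₀ _ ha']
    · simp [ha2]
      field_simp
    · simp [-map_mul, -map_div₀, hc2]
      rw [hα]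
      field_simp
      linear_combination hp
  have vdec : v = ![v 0, v 1, v 2] := funext fun i => by fin_cases i <;> rfl
  have hsum : nm hF (v 0) + nm hF (v 1) + nm hF (v 2) = 1 := by
    simpa [hm_eq, Fin.sum_univ_three, nm] using hv
  by_cases h0z : v 0 = 0 <;> by_cases h1z : v 1 = 0 <;> by_cases h2z : v 2 = 0
  · rw [h0z, h1z, h2z, nm_zero, add_zero, add_zero] at hsum
    exact absurd hsum zero_ne_one
  · obtain ⟨x, hx, hxe⟩ := one (v 2) h2z
    refine ⟨s1 * (s0 * x), X.mul_mem hsX1 (X.mul_mem hsX0 hx), ?_⟩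
    rw [mv_mul, mv_mul, hxe, hs1, hs0, e0, el, e1, el, vdec, h0z, h1z]
    funext i; fin_cases i <;> simp
  · obtain ⟨x, hx, hxe⟩ := one (v 1) h1z
    refine ⟨s0 * x, X.mul_mem hsX0 hx, ?_⟩
    rw [mv_mul, hxe, hs0, e0, el, vdec, h0z, h2z]
    funext i; fin_cases i <;> simp
  · exfalso
    rw [h0z, nm_zero, nm_one_of_ne hF hq h1z, nm_one_of_ne hF hq h2z] at hsum
    exact one_ne_zero (α := F) (by linear_combination -hsum + two)
  · obtain ⟨x, hx, hxe⟩ := one (v 0) h0z
    exact ⟨x, hx, by rw [hxe, vdec, h1z, h2z]; simp⟩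
  · exfalso
    rw [h1z, nm_zero, nm_one_of_ne hF hq h0z, nm_one_of_ne hF hq h2z] at hsum
    exact one_ne_zero (α := F) (by linear_combination -hsum + two)
  · exfalso
    rw [h2z, nm_zero, nm_one_of_ne hF hq h0z, nm_one_of_ne hF hq h1z] at hsum
    exact one_ne_zero (α := F) (by linear_combination -hsum + two)
  · rw [vdec]; exact full _ _ _ h0z h1z h2z

omit hω in
/-- Generation of the three-dimensional group. -/
theorem closure_three (hω : ω * ω = ω + 1) {X : Subgroup (SU 3 F q)}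
    (h0 : (emb hF (sh 0 2 3 (by omega))).range ≤ X) (h1 : (emb hF (sh 1 2 3 (by omega))).range ≤ X)
    {V W : SU 3 F q}
    (hV : mv V (bv F 0) = ![1, 1, 1] ∧ mv V (bv F 1) = ![1, ω, ω * ω] ∧ mv V (bv F 2) = ![1, ω * ω, ω])
    (hW : mv W (bv F 0) = ![1, 1, ω]) (hVX : V ∈ X) (hWX : W ∈ X) : X = ⊤ := by
  refine top_unique fun g _ => ?_
  obtain ⟨x, hx, he⟩ := reach_three hF hq hω h0 h1 hV hW hVX hWX (mv g (bv F 0))
    (by rw [mv_form, hm_bv, if_pos rfl])
  obtain ⟨u, hu⟩ := mem_range_emb hF (sh 1 2 3 (by omega)) (x⁻¹ * g) fun i hi => by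
    obtain rfl : i = 0 := by
      by_contra hne
      have : (i : ℕ) ≠ 0 := fun h => hne (Fin.ext h)
      exact hi ⟨(i : ℕ) - 1, by omega⟩ (Fin.ext (by simp [sh_val]; omega))
    rw [mv_mul, ← he, mv_inv_cancel]
  have := X.mul_mem hx (h1 ⟨u, rfl⟩)
  rwa [hu, mul_inv_cancel_left] at this

omit hω in
/-- Generation by three-dimensional blocks, and transitivity. -/
theorem closure_triples_aux : ∀ M : ℕ, (hM : 3 ≤ M) →
    (∀ X : Subgroup (SU M F q), (∀ i (h : i + 3 ≤ M), (emb hF (sh i 3 M h)).range ≤ X) → X = ⊤) ∧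
      ∀ v : Fin M → F, hm hF v v = 1 → ∃ g : SU M F q, mv g (bv F ⟨0, by omega⟩) = v := by
  obtain ⟨ω, hω⟩ := exists_omega_two hF hq
  obtain ⟨V₀, W₀, hV₀, hW₀, -⟩ := exists_fourier hF hq hω
  intro M hM
  induction M, hM using Nat.le_induction with
  | base =>
    refine ⟨fun X hX => top_unique fun g _ => hX 0 (by omega) ?_, fun v hv => ?_⟩
    · refine mem_range_emb hF _ g fun i hi => absurd ?_ (hi i)
      exact Fin.ext (by simp [sh_val])
    · obtain ⟨x, -, hx⟩ := reach_three hF hq hω (X := ⊤) le_top le_top hV₀ hW₀ trivial trivial v hv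
      exact ⟨x, hx⟩
  | succ M hM ih =>
    obtain ⟨ihg, iht⟩ := ih
    have hs : 1 + M ≤ M + 1 := by omega
    have hp : 0 + 3 ≤ M + 1 := by omega
    have hp2 : 0 + 2 ≤ M + 1 := by omega
    set f := sh 1 M (M + 1) hs with hf
    set g2 := sh 0 2 (M + 1) hp2 with hg2
    set z0 : Fin M := ⟨0, by omega⟩
    have f0 : f z0 = g2 1 := Fin.ext (by simp [hf, hg2, sh_val, z0])
    have g00 : g2 0 = 0 := Fin.ext (by simp [hg2, sh_val])
    have fne : ∀ a, f a ≠ 0 := fun a h => by
      have := congrArg Fin.val h; simp [hf, sh_val] at this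
    have zero_or : ∀ i : Fin (M + 1), i = 0 ∨ ∃ a, f a = i := fun i => by
      refine Fin.cases (Or.inl rfl) (fun a => Or.inr ⟨a, ?_⟩) i
      exact Fin.ext (by simp [hf, sh_val, Nat.add_comm])
    have key : ∀ X : Subgroup (SU (M + 1) F q),
        (∀ i (h : i + 3 ≤ M + 1), (emb hF (sh i 3 (M + 1) h)).range ≤ X) →
        (∀ y, emb hF f y ∈ X) ∧ ∀ v : Fin (M + 1) → F, hm hF v v = 1 →
          ∃ x ∈ X, mv x v = bv F 0 := by
      intro X hX
      have hg2X : ∀ u, emb hF g2 u ∈ X := fun u =>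
        hX 0 hp ⟨emb hF (sh 0 2 3 (by omega)) u, by rw [emb_trans, sh_trans]⟩
      have hU : ∀ y, emb hF f y ∈ X := by
        have := ihg (X.comap (emb hF f)) (fun i h => by
          rintro _ ⟨g, rfl⟩
          show emb hF f (emb hF (sh i 3 M h) g) ∈ X
          rw [emb_trans, hf, sh_trans]
          exact hX _ _ ⟨g, rfl⟩)
        intro y
        exact (show y ∈ X.comap (emb hF f) by rw [this]; exact Subgroup.mem_top y)
      refine ⟨hU, ?_⟩
      have stepA : ∀ v : Fin (M + 1) → F, hm hF v v = 1 → v 0 = 0 → ∃ x ∈ X, mv x v = bv F 0 := by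
        intro v hv hv0
        have hdec := hm_zero_add hF hs v v
        rw [hv, ← hf, hv0, zero_mul, zero_add] at hdec
        obtain ⟨y, hy⟩ := iht (v ∘ f) hdec.symm
        set s := el2 hF (0 : F) 1 (by rw [nm_zero, nm_one, zero_add]) with hsd
        have h1 : mv (emb hF g2 s) (bv F 0) = bv F (f z0) := by
          rw [← g00, emb_mv_bv hF g2 s 0 1 1 (by
            rw [hsd, el2_mv_zero, one_smul]; funext i; fin_cases i <;> simp [bv]), one_smul, f0]
        have h2 : mv (emb hF f y * emb hF g2 s) (bv F 0) = v := by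
          rw [mv_mul, h1]
          funext i
          rcases zero_or i with rfl | ⟨a, rfl⟩
          · rw [emb_mv_out hF f y _ fne, hv0]; simp [bv, (fne z0).symm]
          · rw [emb_mv_in, bv_comp, hy]; rfl
        refine ⟨(emb hF f y * emb hF g2 s)⁻¹, inv_mem (mul_mem (hU y) (hg2X s)), ?_⟩
        rw [← h2, mv_inv_cancel]
      intro v hv
      obtain ⟨w, hw, hwv⟩ := perp_three hF hM (v ∘ f)
      obtain ⟨y, hy⟩ := iht w hw
      set v' := mv (emb hF f y⁻¹) v with hv'
      have hv'0 : v' 0 = v 0 := emb_mv_out hF f _ v fne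
      have hv'1 : v' (f z0) = 0 := by
        rw [hv', emb_mv_in, ← hm_bv_right hF (mv y⁻¹ (v ∘ f)), ← mv_form hF y, mv_cancel_inv, hy]
        exact hm_zero_symm hF hwv
      set s := el2 hF (0 : F) 1 (by rw [nm_zero, nm_one, zero_add]) with hsd
      set v'' := mv (emb hF g2 s) v' with hv''
      have hv''0 : v'' 0 = 0 := by
        rw [hv'', ← g00, emb_mv_in]
        simp [mv, hsd, el2, Matrix.mulVec, dotProduct, Fin.sum_univ_two, ← f0, hv'1]
      obtain ⟨x, hx, hxv⟩ := stepA v'' (by rw [hv'', mv_form, hv', mv_form, hv]) hv''0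
      refine ⟨x * emb hF g2 s * emb hF f y⁻¹, mul_mem (mul_mem hx (hg2X s)) (hU _), ?_⟩
      rw [mv_mul, mv_mul, ← hv', ← hv'', hxv]
    refine ⟨fun X hX => top_unique fun g _ => ?_, fun v hv => ?_⟩
    · obtain ⟨hU, htr⟩ := key X hX
      obtain ⟨x, hx, hxv⟩ := htr (mv g (bv F 0)) (by rw [mv_form, hm_bv, if_pos rfl])
      have : x * g ∈ X := by
        obtain ⟨y, hy⟩ := mem_range_emb hF f (x * g) fun i hi => by
          rcases zero_or i with rfl | ⟨a, rfl⟩
          · rw [mv_mul, hxv]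
          · exact absurd rfl (hi a)
        rw [← hy]; exact hU y
      have := mul_mem (inv_mem hx) this
      rwa [inv_mul_cancel_left] at this
    · obtain ⟨x, -, hxv⟩ := (key ⊤ fun _ _ => le_top).2 v hv
      refine ⟨x⁻¹, ?_⟩
      show mv x⁻¹ (bv F 0) = v
      rw [← hxv, mv_inv_cancel]

omit hω in
theorem closure_triples {M : ℕ} (hM : 3 ≤ M) {X : Subgroup (SU M F q)}
    (hX : ∀ i (h : i + 3 ≤ M), (emb hF (sh i 3 M h)).range ≤ X) : X = ⊤ :=
  (closure_triples_aux hF hq M hM).1 X hX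

omit hω hq in
/-- Transitivity on unit vectors. -/
theorem exists_move_any {M : ℕ} (hM : 2 ≤ M) (j : Fin M) (hj : (j : ℕ) = 0) {v : Fin M → F}
    (hv : hm hF v v = 1) : ∃ g : SU M F q, mv g (bv F j) = v := by
  rcases Nat.eq_or_lt_of_le hM with rfl | hM3
  · obtain rfl : j = 0 := Fin.ext hj
    refine ⟨el2 hF (v 0) (v 1) (circle_split hF hv), ?_⟩
    rw [el2_mv_zero]
    funext i; fin_cases i <;> rfl
  by_cases hq : 2 < q
  · exact exists_move hF hq hM j hj hv
  · have h2 := two_le_q hF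
    rw [show j = ⟨0, by omega⟩ from Fin.ext hj]
    exact (closure_triples_aux hF (by omega) M hM3).2 v hv

end Cfsg.Agent.Recog.Phan
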