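import Cfsg.Agent.Lib.Recog.PhanTwoFrame

/-!
Three blocks of `SU₂(2)` in `SU₄(2)` with the torus relations of a chain are standard.
-/

set_option autoImplicit false
set_option linter.unusedSectionVars false

namespace Cfsg.Agent.Recog.Phan

open Matrix Cfsg.Agent.Classical Cfsg.Agent.Lie.SpnPres

/-- Weights of three commuting elements of order three. -/
abbrev Wt : Type := Fin 3 × Fin 3 × Fin 3

/-- The first reflection. -/
def sA (w : Wt) : Wt := (w.1 + w.1, w.1 + w.2.1, w.2.2)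

/-- The middle reflection. -/
def sB (w : Wt) : Wt := (w.1 + w.2.1, w.2.1 + w.2.1, w.2.1 + w.2.2)

/-- The last reflection. -/
def sC (w : Wt) : Wt := (w.1, w.2.1 + w.2.2, w.2.2 + w.2.2)

/-- The standard weights. -/
def stdWt : Fin 4 → Wt := ![(1, 0, 0), (2, 1, 0), (0, 2, 1), (0, 0, 2)]

/-- The conjugate weights. -/
def negWt : Fin 4 → Wt := ![(2, 0, 0), (1, 2, 0), (0, 1, 2), (0, 0, 1)]

/-- Part of an orbit. -/
def orbWt (w : Wt) : Finset Wt :=
  {w, sA w, sB w, sC w, sA (sB w), sB (sA w), sB (sC w), sC (sB w), sC (sB (sA w)), sA (sB (sC w)), sA (sC (sB w))}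

theorem orbit_small : ∀ w : Wt, w = (0, 0, 0) ∨ 5 ≤ (orbWt w).card ∨ (∀ i, stdWt i ∈ orbWt w) ∨
    ∀ i, negWt i ∈ orbWt w := by decide +kernel

theorem stdWt_inj : Function.Injective stdWt := by decide +kernel

theorem negWt_inj : Function.Injective negWt := by decide +kernel

variable {F : Type*} [Field F] [Fintype F] {q : ℕ} (hF : Fintype.card F = q ^ 2)

include hF

theorem conj_eigen {n : ℕ} {P x : SU n F q} {v : Fin n → F} {κ : F}
    (h : mv x (mv P v) = κ • mv P v) : mv (P⁻¹ * x * P) v = κ • v := by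
  rw [mv_mul, mv_mul, h, mv_smul, mv_inv_cancel]

variable (hq : q = 2) {ω : F} (hω : ω * ω = ω + 1)

include hq hω

/-- Powers of the cube root. -/
def pw (a : Fin 3) : F :=
  have _ := hF; have _ := hq; have _ := hω
  (![1, ω, ω * ω] : Fin 3 → F) a

theorem pw_add (a b : Fin 3) : pw hF hq hω (a + b) = pw hF hq hω a * pw hF hq hω b := by
  have h3 := omega_cube hF hq hω
  fin_cases a <;> fin_cases b <;> simp [pw] <;> grind only

theorem pw_inj : Function.Injective (pw hF hq hω) := by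
  have two := two_zero_of_two hF hq
  have h0 := omega_ne_two hF hq hω
  intro a b h
  fin_cases a <;> fin_cases b <;> simp [pw] at h ⊢ <;> grind only

theorem pw_double (a : Fin 3) : qFrob hF (pw hF hq hω a) = pw hF hq hω (a + a) := by
  rw [qFrob_two hF hq, pw_add]

theorem exists_pw {κ : F} (h : κ ≠ 0) : ∃ a, pw hF hq hω a = κ := by
  rcases four_values hF hq hω h with rfl | rfl | rfl
  exacts [⟨0, rfl⟩, ⟨1, rfl⟩, ⟨2, rfl⟩]

theorem eigen_ne {n : ℕ} {T : SU n F q} {v : Fin n → F} {κ : F} (hv : hm hF v v = 1)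
    (h : mv T v = κ • v) : κ ≠ 0 := fun e => by
  have e' := mv_form hF T v v
  rw [h, hv, e, zero_smul, hm_zero_left] at e'
  exact zero_ne_one e'

theorem pair_swap {n : ℕ} {A B J : SU n F q} (hJ : J * J = 1) (h : J * A * J = A * B) {v : Fin n → F}
    {a b : Fin 3} (ha : mv A v = pw hF hq hω a • v) (hb : mv B v = pw hF hq hω b • v) :
    mv A (mv J v) = pw hF hq hω (a + b) • mv J v := by
  have e : A * J = J * (A * B) := by rw [← h, ← mul_assoc, ← mul_assoc, hJ, one_mul]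
  rw [← mv_mul, e, mv_mul, mv_mul, hb, mv_smul, ha, smul_smul, mv_smul, pw_add, mul_comm]

theorem pair_inv {n : ℕ} {A J : SU n F q} (hJ : J * J = 1) (h : J * A * J = A * A) {v : Fin n → F}
    {a : Fin 3} (ha : mv A v = pw hF hq hω a • v) :
    mv A (mv J v) = pw hF hq hω (a + a) • mv J v :=
  pair_swap hF hq hω hJ h ha ha

theorem pair_fix {n : ℕ} {A J : SU n F q} (h : Commute A J) {v : Fin n → F}
    {a : Fin 3} (ha : mv A v = pw hF hq hω a • v) : mv A (mv J v) = pw hF hq hω a • mv J v := by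
  rw [← mv_mul, h.eq, mv_mul, ha, mv_smul]

/-- A monomial involution exchanging two axes of a block. -/
theorem mono_block (f : Fin 2 ↪ Fin 4) {J : SU 4 F q} (hJ : J * J = 1)
    (h0 : ∃ c : F, mv J (bv F (f 0)) = c • bv F (f 1)) (h1 : ∃ c : F, mv J (bv F (f 1)) = c • bv F (f 0))
    (hout : ∀ i, (∀ a, f a ≠ i) → ∃ c : F, mv J (bv F i) = c • bv F i) :
    ∃ c, ∃ hc : nm hF (0 : F) + nm hF c = 1, J = emb hF f (el2 hF 0 c hc) := by
  obtain ⟨c, hc⟩ := h0
  obtain ⟨c', hc'⟩ := h1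
  have e0 : mv J (mv J (bv F (f 0))) = bv F (f 0) := by rw [← mv_mul, hJ, mv_one]
  rw [hc, mv_smul, hc', smul_smul] at e0
  have cc : c * c' = 1 := by simpa [bv] using congrFun e0 (f 0)
  have hn := nm_one_of_ne hF hq (left_ne_zero_of_mul_eq_one cc)
  have hcn : nm hF (0 : F) + nm hF c = 1 := by rw [nm_zero, hn, zero_add]
  have hc2 : c' = qFrob hF c := by
    have h : c * qFrob hF c = 1 := hn
    exact mul_left_cancel₀ (left_ne_zero_of_mul_eq_one cc) (cc.trans h.symm)
  refine ⟨c, hcn, su_ext fun i => ?_⟩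
  by_cases hi : ∃ a, f a = i
  · obtain ⟨a, rfl⟩ := hi
    fin_cases a
    · refine hc.trans (emb_mv_bv hF f _ 0 1 c ?_).symm
      rw [el2_mv_zero]; funext x; fin_cases x <;> simp [bv]
    · refine hc'.trans (emb_mv_bv hF f _ 1 0 c' ?_).symm
      funext x; fin_cases x <;> simp [mv, el2, bv, hc2, neg_eq_two hF hq hω]
  · push Not at hi
    obtain ⟨l, hl⟩ := hout i hi
    have e : mv J (mv J (bv F i)) = bv F i := by rw [← mv_mul, hJ, mv_one]
    rw [hl, mv_smul, hl, smul_smul] at e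
    have ll : l * l = 1 := by simpa [bv] using congrFun e i
    have l1 : l = 1 := by
      have h : (l - 1) * (l - 1) = 0 := by linear_combination ll + (1 - l) * two_zero_of_two hF hq
      exact sub_eq_zero.1 (mul_self_eq_zero.1 h)
    rw [hl, l1, one_smul, emb_fix_bv hF f _ hi]

/-- Three blocks with torus relations of a chain are standard. -/
theorem chain_frame (α β γ : SU 2 F q →* SU 4 F q)
    (hα : α (d2 hF hq hω) ≠ 1)
    (tAB : Commute (α (d2 hF hq hω)) (β (d2 hF hq hω)))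
    (tBC : Commute (β (d2 hF hq hω)) (γ (d2 hF hq hω)))
    (hc : ∀ u v, Commute (α u) (γ v))
    (rAB : α (s2 hF hq hω) * β (d2 hF hq hω) * α (s2 hF hq hω) = β (d2 hF hq hω) * α (d2 hF hq hω))
    (rBA : β (s2 hF hq hω) * α (d2 hF hq hω) * β (s2 hF hq hω) = α (d2 hF hq hω) * β (d2 hF hq hω))
    (rBC : β (s2 hF hq hω) * γ (d2 hF hq hω) * β (s2 hF hq hω) = γ (d2 hF hq hω) * β (d2 hF hq hω))
    (rCB : γ (s2 hF hq hω) * β (d2 hF hq hω) * γ (s2 hF hq hω) = β (d2 hF hq hω) * γ (d2 hF hq hω)) :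
    ∃ Θ : MulAut (SU 4 F q), (∀ u, α u = Θ (emb hF b01 u)) ∧ (∀ u, β u = Θ (emb hF b12 u)) ∧
      ∀ u, γ u = Θ (emb hF b23 u) := by
  set d := d2 hF hq hω with hd
  set s := s2 hF hq hω with hs
  have cube : ∀ f : SU 2 F q →* SU 4 F q, f d * f d * f d = 1 := fun f => by
    rw [← map_mul, ← map_mul, hd, d2_cube, map_one]
  have invol : ∀ f : SU 2 F q →* SU 4 F q, f s * f s = 1 := fun f => by
    rw [← map_mul, hs, s2_sq, map_one]
  have inv2 : ∀ f : SU 2 F q →* SU 4 F q, f s * f d * f s = f d * f d := fun f => by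
    rw [← map_mul, ← map_mul, hd, hs, s2_d2_s2, map_mul]
  obtain ⟨g, hg⟩ := exists_common_frame hF hq (α d) (β d) (γ d) (cube α) (cube β) (cube γ) tAB (hc d d) tBC
  have hgn : ∀ i : Fin 4, hm hF (mv g (bv F i)) (mv g (bv F i)) = 1 := fun i => by
    rw [mv_form, hm_bv, if_pos rfl]
  have hwA : ∀ i, ∃ a, mv (α d) (mv g (bv F i)) = pw hF hq hω a • mv g (bv F i) := fun i => by
    obtain ⟨κ, hκ⟩ := (hg i).1
    obtain ⟨a, ha⟩ := exists_pw hF hq hω (eigen_ne hF hq hω (hgn i) hκ)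
    exact ⟨a, ha ▸ hκ⟩
  have hwB : ∀ i, ∃ a, mv (β d) (mv g (bv F i)) = pw hF hq hω a • mv g (bv F i) := fun i => by
    obtain ⟨κ, hκ⟩ := (hg i).2.1
    obtain ⟨a, ha⟩ := exists_pw hF hq hω (eigen_ne hF hq hω (hgn i) hκ)
    exact ⟨a, ha ▸ hκ⟩
  have hwC : ∀ i, ∃ a, mv (γ d) (mv g (bv F i)) = pw hF hq hω a • mv g (bv F i) := fun i => by
    obtain ⟨κ, hκ⟩ := (hg i).2.2
    obtain ⟨a, ha⟩ := exists_pw hF hq hω (eigen_ne hF hq hω (hgn i) hκ)
    exact ⟨a, ha ▸ hκ⟩
  choose wa hwa using hwA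
  choose wb hwb using hwB
  choose wc hwc using hwC
  set w : Fin 4 → Wt := fun i => (wa i, wb i, wc i) with hw
  -- weight vectors
  let Eig : Wt → (Fin 4 → F) → Prop := fun t v =>
    mv (α d) v = pw hF hq hω t.1 • v ∧ mv (β d) v = pw hF hq hω t.2.1 • v ∧
      mv (γ d) v = pw hF hq hω t.2.2 • v
  have eigA : ∀ t v, Eig t v → Eig (sA t) (mv (α s) v) := fun t v h =>
    ⟨pair_inv hF hq hω (invol α) (inv2 α) h.1,
      by
        have := pair_swap hF hq hω (invol α) rAB h.2.1 h.1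
        rwa [add_comm] at this,
      pair_fix hF hq hω (hc s d).symm h.2.2⟩
  have eigB : ∀ t v, Eig t v → Eig (sB t) (mv (β s) v) := fun t v h =>
    ⟨pair_swap hF hq hω (invol β) rBA h.1 h.2.1, pair_inv hF hq hω (invol β) (inv2 β) h.2.1,
      by
        have := pair_swap hF hq hω (invol β) rBC h.2.2 h.2.1
        rwa [add_comm] at this⟩
  have eigC : ∀ t v, Eig t v → Eig (sC t) (mv (γ s) v) := fun t v h =>
    ⟨pair_fix hF hq hω (hc d s) h.1,
      pair_swap hF hq hω (invol γ) rCB h.2.1 h.2.2,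
      pair_inv hF hq hω (invol γ) (inv2 γ) h.2.2⟩
  have supp : ∀ (P : SU 4 F q) (u : Fin 4 → Wt), (∀ i, Eig (u i) (mv P (bv F i))) →
      ∀ t v, Eig t v → ∀ l, mv P⁻¹ v l ≠ 0 → u l = t := by
    intro P u hP t v hv l hl
    have one : ∀ (x : SU 4 F q) (a : Fin 3) (e : Fin 4 → Fin 3),
        (∀ i, mv x (mv P (bv F i)) = pw hF hq hω (e i) • mv P (bv F i)) →
        mv x v = pw hF hq hω a • v → e l = a := by
      intro x a e he hx
      have hd' : ∀ i, mv (P⁻¹ * x * P) (bv F i) = pw hF hq hω (e i) • bv F i := fun i => conj_eigen hF (he i)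
      have h := diag_mv hF hd' (mv P⁻¹ v) l
      rw [mv_mul, mv_mul, mv_cancel_inv, hx, mv_smul, Pi.smul_apply, smul_eq_mul] at h
      exact (pw_inj hF hq hω (mul_right_cancel₀ hl h)).symm
    refine Prod.ext ?_ (Prod.ext ?_ ?_)
    · exact one _ _ (fun i => (u i).1) (fun i => (hP i).1) hv.1
    · exact one _ _ (fun i => (u i).2.1) (fun i => (hP i).2.1) hv.2.1
    · exact one _ _ (fun i => (u i).2.2) (fun i => (hP i).2.2) hv.2.2
  have hgw : ∀ i, Eig (w i) (mv g (bv F i)) := fun i => ⟨hwa i, hwb i, hwc i⟩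
  let S : Finset Wt := Finset.univ.image w
  have memS : ∀ t v, hm hF v v = 1 → Eig t v → t ∈ S := by
    intro t v hv ht
    obtain ⟨l, hl⟩ : ∃ l, mv g⁻¹ v l ≠ 0 := by
      by_contra h
      push Not at h
      have e : mv g⁻¹ v = 0 := funext h
      have e' := mv_form hF g⁻¹ v v
      rw [e, hm_zero_left, hv] at e'
      exact zero_ne_one e'
    exact Finset.mem_image.2 ⟨l, Finset.mem_univ _, supp g w hgw t v ht l hl⟩
  have orb : ∀ i, orbWt (w i) ⊆ S := by
    intro i x hx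
    have st : ∀ (J : SU 4 F q) (f : Wt → Wt), (∀ t v, Eig t v → Eig (f t) (mv J v)) →
        ∀ t v, (hm hF v v = 1 ∧ Eig t v) → (hm hF (mv J v) (mv J v) = 1 ∧ Eig (f t) (mv J v)) :=
      fun J f hJ t v h => ⟨by rw [mv_form]; exact h.1, hJ t v h.2⟩
    have A := st (α s) sA eigA
    have B := st (β s) sB eigB
    have C := st (γ s) sC eigC
    have b : hm hF (mv g (bv F i)) (mv g (bv F i)) = 1 ∧ Eig (w i) (mv g (bv F i)) := ⟨hgn i, hgw i⟩
    have fin : ∀ t v, (hm hF v v = 1 ∧ Eig t v) → t ∈ S := fun t v h => memS t v h.1 h.2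
    simp only [orbWt, Finset.mem_insert, Finset.mem_singleton] at hx
    rcases hx with rfl | rfl | rfl | rfl | rfl | rfl | rfl | rfl | rfl | rfl | rfl
    exacts [fin _ _ b, fin _ _ (A _ _ b), fin _ _ (B _ _ b), fin _ _ (C _ _ b), fin _ _ (A _ _ (B _ _ b)),
      fin _ _ (B _ _ (A _ _ b)), fin _ _ (B _ _ (C _ _ b)), fin _ _ (C _ _ (B _ _ b)),
      fin _ _ (C _ _ (B _ _ (A _ _ b))), fin _ _ (A _ _ (B _ _ (C _ _ b))),
      fin _ _ (A _ _ (C _ _ (B _ _ b)))]
  obtain ⟨i₀, hi₀⟩ : ∃ i, w i ≠ (0, 0, 0) := by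
    by_contra h
    push Not at h
    refine hα ?_
    have e : ∀ i, mv (α d) (mv g (bv F i)) = mv g (bv F i) := fun i => by
      have := hwa i
      rw [show wa i = 0 from congrArg Prod.fst (h i), show pw hF hq hω 0 = 1 from rfl, one_smul] at this
      exact this
    have e1 : g⁻¹ * α d * g = 1 := su_ext fun i => by
      rw [mv_mul, mv_mul, e, mv_inv_cancel, mv_one]
    calc α d = g * (g⁻¹ * α d * g) * g⁻¹ := by group
      _ = 1 := by rw [e1, mul_one, mul_inv_cancel]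
  obtain ⟨tgt, htinj, htgt⟩ : ∃ tgt : Fin 4 → Wt, (tgt = stdWt ∨ tgt = negWt) ∧ ∀ i, ∃ l, w l = tgt i := by
    have hcard : (orbWt (w i₀)).card ≤ 4 := (Finset.card_le_card (orb i₀)).trans
      (Finset.card_image_le.trans (by simp))
    rcases orbit_small (w i₀) with h | h | h | h
    · exact absurd h hi₀
    · omega
    · exact ⟨stdWt, Or.inl rfl, fun i => by simpa [S] using orb i₀ (h i)⟩
    · exact ⟨negWt, Or.inr rfl, fun i => by simpa [S] using orb i₀ (h i)⟩
  choose σ hσ using htgt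
  have σinj : Function.Injective σ := fun a b e => by
    have e' : tgt a = tgt b := by rw [← hσ, ← hσ, e]
    rcases htinj with h | h <;> rw [h] at e'
    exacts [stdWt_inj e', negWt_inj e']
  -- the reordered frame
  obtain ⟨P, hP⟩ : ∃ P : SU 4 F q, ∀ i, Eig (tgt i) (mv P (bv F i)) := by
    have horth : ∀ a b : Fin 4, a ≠ b → hm hF (mv g (bv F (σ a))) (mv g (bv F (σ b))) = 0 := fun a b hab => by
      rw [mv_form, hm_bv, if_neg fun e => hab (σinj e)]
    obtain ⟨P1, -, h10⟩ := frame_ext hF hq (1 : SU 4 F q) 0 (by omega) (hgn (σ 0))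
      (fun i hi => absurd hi (Nat.not_lt_zero _))
    obtain ⟨P2, h2, h21⟩ := frame_ext hF hq P1 1 (by omega) (hgn (σ 1)) (fun i hi => by
      rw [show i = ⟨0, by omega⟩ from Fin.ext (by simp only; omega), h10]
      exact horth 1 0 (by decide))
    have h20 : mv P2 (bv F (0 : Fin 4)) = mv g (bv F (σ 0)) := (h2 0 (by decide)).trans h10
    obtain ⟨P3, h3, h32⟩ := frame_ext hF hq P2 2 (by omega) (hgn (σ 2)) (fun i hi => by
      rcases (show i = 0 ∨ i = 1 by revert hi; revert i; decide) with rfl | rfl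
      · rw [h20]; exact horth 2 0 (by decide)
      · rw [show mv P2 (bv F (1 : Fin 4)) = _ from h21]; exact horth 2 1 (by decide))
    have p0 : mv P3 (bv F (0 : Fin 4)) = mv g (bv F (σ 0)) := (h3 0 (by decide)).trans h20
    have p1 : mv P3 (bv F (1 : Fin 4)) = mv g (bv F (σ 1)) := (h3 1 (by decide)).trans h21
    have p2 : mv P3 (bv F (2 : Fin 4)) = mv g (bv F (σ 2)) := h32
    set x := mv g⁻¹ (mv P3 (bv F (3 : Fin 4))) with hx
    have hx3 : x = x (σ 3) • bv F (σ 3) := by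
      funext l
      by_cases hl : l = σ 3
      · subst hl; simp [bv]
      · rw [Pi.smul_apply, bv, Pi.single_eq_of_ne hl, smul_zero, ← hm_bv_right hF x l, hx,
          ← mv_form hF g, mv_cancel_inv]
        obtain ⟨a, rfl⟩ := (Finite.injective_iff_surjective.1 σinj) l
        have ha : a ≠ 3 := fun e => hl (e ▸ rfl)
        have ea : mv g (bv F (σ a)) = mv P3 (bv F a) := by
          fin_cases a
          exacts [p0.symm, p1.symm, p2.symm, absurd rfl ha]
        rw [ea, mv_form, hm_bv, if_neg ha.symm]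
    refine ⟨P3, fun i => ?_⟩
    fin_cases i
    · show Eig _ (mv P3 (bv F (0 : Fin 4))); rw [p0, ← hσ]; exact hgw _
    · show Eig _ (mv P3 (bv F (1 : Fin 4))); rw [p1, ← hσ]; exact hgw _
    · show Eig _ (mv P3 (bv F (2 : Fin 4))); rw [p2, ← hσ]; exact hgw _
    · have e : mv P3 (bv F (3 : Fin 4)) = x (σ 3) • mv g (bv F (σ 3)) := by
        rw [← mv_smul, ← hx3, hx, mv_cancel_inv]
      show Eig (tgt 3) (mv P3 (bv F (3 : Fin 4)))
      rw [e, ← hσ]
      refine ⟨?_, ?_, ?_⟩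
      · rw [mv_smul, (hgw (σ 3)).1, smul_comm]
      · rw [mv_smul, (hgw (σ 3)).2.1, smul_comm]
      · rw [mv_smul, (hgw (σ 3)).2.2, smul_comm]
  -- the standard position of the tori
  obtain ⟨Θ₀, hA, hB, hC⟩ : ∃ Θ₀ : MulAut (SU 4 F q),
      (∀ i, mv (Θ₀.symm (α d)) (bv F i) = pw hF hq hω (stdWt i).1 • bv F i) ∧
      (∀ i, mv (Θ₀.symm (β d)) (bv F i) = pw hF hq hω (stdWt i).2.1 • bv F i) ∧
      ∀ i, mv (Θ₀.symm (γ d)) (bv F i) = pw hF hq hω (stdWt i).2.2 • bv F i := by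
    have cj : ∀ x, (MulAut.conj P).symm x = P⁻¹ * x * P := fun x => by
      rw [MulEquiv.symm_apply_eq, MulAut.conj_apply]; group
    rcases htinj with rfl | rfl
    · exact ⟨MulAut.conj P, fun i => by rw [cj]; exact conj_eigen hF (hP i).1,
        fun i => by rw [cj]; exact conj_eigen hF (hP i).2.1,
        fun i => by rw [cj]; exact conj_eigen hF (hP i).2.2⟩
    · have hc4 : ∀ i, nm hF ((fun _ : Fin 4 => (1 : F)) i) = 1 := fun _ => nm_one hF
      set φ4 := twE hF (qE hF) (fun _ : Fin 4 => (1 : F)) hc4 with hφ4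
      have φφ : ∀ x, φ4 (φ4 x) = x := fun x => by
        refine Subtype.ext (Subtype.ext (Matrix.ext fun i k => ?_))
        rw [hφ4, twE_apply, twE_apply, tw_apply, tw_apply]
        simp [qE_apply, qFrob_qFrob]
      have dg : ∀ (x : SU 4 F q) (e : Fin 4 → Fin 3),
          (∀ i, mv x (bv F i) = pw hF hq hω (e i) • bv F i) →
          ∀ i, mv (φ4 x) (bv F i) = pw hF hq hω (e i + e i) • bv F i := fun x e he i => by
        funext l
        rw [hφ4, twE_apply, tw_mv_bv, he, inv_one, mul_one, one_mul, Pi.smul_apply, Pi.smul_apply,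
          qE_apply, smul_eq_mul, smul_eq_mul, map_mul, pw_double]
        by_cases hl : l = i
        · subst hl; simp [bv]
        · simp [bv, hl]
      have key : ∀ x, (MulAut.conj P * φ4).symm x = φ4 (P⁻¹ * x * P) := fun x => by
        rw [MulEquiv.symm_apply_eq]
        show x = MulAut.conj P (φ4 (φ4 _))
        rw [φφ, MulAut.conj_apply]; group
      have dbl : ∀ i, (stdWt i).1 = (negWt i).1 + (negWt i).1 ∧
          (stdWt i).2.1 = (negWt i).2.1 + (negWt i).2.1 ∧
          (stdWt i).2.2 = (negWt i).2.2 + (negWt i).2.2 := by decide +kernel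
      refine ⟨MulAut.conj P * φ4, fun i => ?_, fun i => ?_, fun i => ?_⟩
      · rw [key, (dbl i).1]
        exact dg _ (fun i => (negWt i).1) (fun i => conj_eigen hF (hP i).1) i
      · rw [key, (dbl i).2.1]
        exact dg _ (fun i => (negWt i).2.1) (fun i => conj_eigen hF (hP i).2.1) i
      · rw [key, (dbl i).2.2]
        exact dg _ (fun i => (negWt i).2.2) (fun i => conj_eigen hF (hP i).2.2) i
  set α₀ : SU 2 F q →* SU 4 F q := Θ₀.symm.toMonoidHom.comp α
  set β₀ : SU 2 F q →* SU 4 F q := Θ₀.symm.toMonoidHom.comp β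
  set γ₀ : SU 2 F q →* SU 4 F q := Θ₀.symm.toMonoidHom.comp γ
  have std : ∀ (f : Fin 2 ↪ Fin 4) (x : SU 4 F q) (e : Fin 4 → Fin 3),
      (∀ i, mv x (bv F i) = pw hF hq hω (e i) • bv F i) → e (f 0) = 1 → e (f 1) = 2 →
      (∀ i, (∀ a, f a ≠ i) → e i = 0) → x = emb hF f d := by
    intro f x e he e0 e1 eo
    refine su_ext fun i => ?_
    by_cases hi : ∃ a, f a = i
    · obtain ⟨a, rfl⟩ := hi
      fin_cases a
      · rw [he]
        show pw hF hq hω (e (f 0)) • _ = _
        rw [e0, hd]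
        exact (emb_mv_bv hF f _ 0 0 ω (d2_mv_zero hF hq hω)).symm
      · rw [he]
        show pw hF hq hω (e (f 1)) • _ = _
        rw [e1, hd]
        exact (emb_mv_bv hF f _ 1 1 _ (d2_mv_one hF hq hω)).symm
    · push Not at hi
      rw [he, eo i hi, emb_fix_bv hF f _ hi]
      exact one_smul F _
  have outA : ∀ i : Fin 4, (∀ a, b01 a ≠ i) → (stdWt i).1 = 0 := by decide +kernel
  have outB : ∀ i : Fin 4, (∀ a, b12 a ≠ i) → (stdWt i).2.1 = 0 := by decide +kernel
  have outC : ∀ i : Fin 4, (∀ a, b23 a ≠ i) → (stdWt i).2.2 = 0 := by decide +kernel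
  have da : α₀ d = emb hF b01 d := std b01 _ (fun i => (stdWt i).1) hA rfl rfl outA
  have db : β₀ d = emb hF b12 d := std b12 _ (fun i => (stdWt i).2.1) hB rfl rfl outB
  have dc : γ₀ d = emb hF b23 d := std b23 _ (fun i => (stdWt i).2.2) hC rfl rfl outC
  -- weights move the axes
  let E₀ : Wt → (Fin 4 → F) → Prop := fun t v =>
    mv (α₀ d) v = pw hF hq hω t.1 • v ∧ mv (β₀ d) v = pw hF hq hω t.2.1 • v ∧
      mv (γ₀ d) v = pw hF hq hω t.2.2 • v
  have E₀bv : ∀ i, E₀ (stdWt i) (bv F i) := fun i => ⟨hA i, hB i, hC i⟩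
  have line : ∀ v t k, E₀ t v → stdWt k = t → v = v k • bv F k := by
    intro v t k hv hk
    funext l
    by_cases hl : l = k
    · subst hl; simp [bv]
    rw [Pi.smul_apply, bv, Pi.single_eq_of_ne hl, smul_zero]
    by_contra hne
    refine hl (stdWt_inj ?_)
    rw [hk]
    refine Prod.ext ?_ (Prod.ext ?_ ?_)
    · have h := diag_mv hF hA v l
      rw [show mv (Θ₀.symm (α d)) v = _ from hv.1, Pi.smul_apply, smul_eq_mul] at h
      exact (pw_inj hF hq hω (mul_right_cancel₀ hne h)).symm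
    · have h := diag_mv hF hB v l
      rw [show mv (Θ₀.symm (β d)) v = _ from hv.2.1, Pi.smul_apply, smul_eq_mul] at h
      exact (pw_inj hF hq hω (mul_right_cancel₀ hne h)).symm
    · have h := diag_mv hF hC v l
      rw [show mv (Θ₀.symm (γ d)) v = _ from hv.2.2, Pi.smul_apply, smul_eq_mul] at h
      exact (pw_inj hF hq hω (mul_right_cancel₀ hne h)).symm
  have tr : ∀ (u v w' : SU 4 F q), Commute u v → Commute (Θ₀.symm u) (Θ₀.symm v) :=
    fun u v _ h => h.map Θ₀.symm.toMonoidHom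
  have mA : ∀ i, E₀ (sA (stdWt i)) (mv (α₀ s) (bv F i)) := fun i =>
    ⟨pair_inv hF hq hω (invol α₀) (inv2 α₀) (E₀bv i).1,
      by
        have h : α₀ s * β₀ d * α₀ s = β₀ d * α₀ d := by
          have := congrArg Θ₀.symm rAB
          rwa [map_mul, map_mul, map_mul] at this
        have := pair_swap hF hq hω (invol α₀) h (E₀bv i).2.1 (E₀bv i).1
        rwa [add_comm] at this,
      pair_fix hF hq hω (tr _ _ 1 (hc s d).symm) (E₀bv i).2.2⟩
  have mB : ∀ i, E₀ (sB (stdWt i)) (mv (β₀ s) (bv F i)) := fun i =>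
    ⟨pair_swap hF hq hω (invol β₀) (by
        have := congrArg Θ₀.symm rBA
        rwa [map_mul, map_mul, map_mul] at this) (E₀bv i).1 (E₀bv i).2.1,
      pair_inv hF hq hω (invol β₀) (inv2 β₀) (E₀bv i).2.1,
      by
        have h : β₀ s * γ₀ d * β₀ s = γ₀ d * β₀ d := by
          have := congrArg Θ₀.symm rBC
          rwa [map_mul, map_mul, map_mul] at this
        have := pair_swap hF hq hω (invol β₀) h (E₀bv i).2.2 (E₀bv i).2.1
        rwa [add_comm] at this⟩
  have mC : ∀ i, E₀ (sC (stdWt i)) (mv (γ₀ s) (bv F i)) := fun i =>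
    ⟨pair_fix hF hq hω (tr _ _ 1 (hc d s)) (E₀bv i).1,
      pair_swap hF hq hω (invol γ₀) (by
        have := congrArg Θ₀.symm rCB
        rwa [map_mul, map_mul, map_mul] at this) (E₀bv i).2.1 (E₀bv i).2.2,
      pair_inv hF hq hω (invol γ₀) (inv2 γ₀) (E₀bv i).2.2⟩
  have oA : ∀ i : Fin 4, (∀ a, b01 a ≠ i) → sA (stdWt i) = stdWt i := by decide +kernel
  have oB : ∀ i : Fin 4, (∀ a, b12 a ≠ i) → sB (stdWt i) = stdWt i := by decide +kernel
  have oC : ∀ i : Fin 4, (∀ a, b23 a ≠ i) → sC (stdWt i) = stdWt i := by decide +kernel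
  obtain ⟨cA, hcA, hsA⟩ := mono_block hF hq hω b01 (invol α₀)
    ⟨_, line _ _ _ (mA (b01 0)) (by decide +kernel)⟩ ⟨_, line _ _ _ (mA (b01 1)) (by decide +kernel)⟩
    (fun i hi => ⟨_, line _ _ _ (mA i) (oA i hi).symm⟩)
  obtain ⟨cB, hcB, hsB⟩ := mono_block hF hq hω b12 (invol β₀)
    ⟨_, line _ _ _ (mB (b12 0)) (by decide +kernel)⟩ ⟨_, line _ _ _ (mB (b12 1)) (by decide +kernel)⟩
    (fun i hi => ⟨_, line _ _ _ (mB i) (oB i hi).symm⟩)
  obtain ⟨cC, hcC, hsC⟩ := mono_block hF hq hω b23 (invol γ₀)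
    ⟨_, line _ _ _ (mC (b23 0)) (by decide +kernel)⟩ ⟨_, line _ _ _ (mC (b23 1)) (by decide +kernel)⟩
    (fun i hi => ⟨_, line _ _ _ (mC i) (oC i hi).symm⟩)
  have unit : ∀ c : F, nm hF (0 : F) + nm hF c = 1 → nm hF c = 1 := fun c h => by
    rwa [nm_zero, zero_add] at h
  set c4 : Fin 4 → F := ![1, cA, cA * cB, cA * cB * cC] with hc4
  have hc4n : ∀ i, nm hF (c4 i) = 1 := fun i => by
    fin_cases i
    · exact nm_one hF
    · exact unit _ hcA
    · show nm hF (cA * cB) = 1; rw [nm_mul, unit _ hcA, unit _ hcB, one_mul]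
    · show nm hF (cA * cB * cC) = 1; rw [nm_mul, nm_mul, unit _ hcA, unit _ hcB, unit _ hcC, one_mul, one_mul]
  set W := twE hF (RingEquiv.refl F) c4 hc4n with hW
  have Wd : ∀ f : Fin 2 ↪ Fin 4, W (emb hF f d) = emb hF f d := fun f => by
    rw [hW, twE_apply, tw_emb]
    congr 1
    refine Subtype.ext (Subtype.ext (Matrix.ext fun i k => ?_))
    rw [tw_apply]
    have h0 : ∀ i, c4 i ≠ 0 := fun i e => by
      have := hc4n i; rw [e, nm_zero] at this; exact zero_ne_one this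
    fin_cases i <;> fin_cases k <;> simp [hd, d2, el2, h0 (f 0), h0 (f 1), mul_comm (c4 (f 0)), mul_comm (c4 (f 1))]
  have Ws : ∀ (f : Fin 2 ↪ Fin 4) (c : F) (hc : nm hF (0 : F) + nm hF c = 1), c4 (f 1) = c4 (f 0) * c →
      W (emb hF f s) = emb hF f (el2 hF 0 c hc) := fun f c hc h => by
    rw [hW, twE_apply, tw_emb]
    congr 1
    refine Subtype.ext (Subtype.ext (Matrix.ext fun i k => ?_))
    rw [tw_apply]
    have h0 : c4 (f 0) ≠ 0 := fun e => by
      have := hc4n (f 0); rw [e, nm_zero] at this; exact zero_ne_one this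
    have hc0 : c ≠ 0 := fun e => by rw [e, nm_zero, add_zero] at hc; exact zero_ne_one hc
    have hci : c⁻¹ = qFrob hF c := inv_eq_of_mul_eq_one_right (unit c hc)
    have hcc : c * qFrob hF c = 1 := unit c hc
    fin_cases i <;> fin_cases k <;> simp [hs, s2, el2, h, neg_eq_two hF hq hω, h0] <;>
      field_simp <;> first | linear_combination hcc | linear_combination -hcc
  refine ⟨Θ₀ * W, fun u => ?_, fun u => ?_, fun u => ?_⟩
  · have e : α₀ = W.toMonoidHom.comp (emb hF b01) := hom_ext2 hF hq hω (by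
      show α₀ d = W _; rw [Wd]; exact da) (by
      show α₀ s = W _; rw [Ws b01 cA hcA (by simp [hc4, b01_0, b01_1])]; exact hsA)
    show α u = Θ₀ (W _)
    exact ((congrArg Θ₀ (DFunLike.congr_fun e u)).symm.trans (Θ₀.apply_symm_apply _)).symm
  · have e : β₀ = W.toMonoidHom.comp (emb hF b12) := hom_ext2 hF hq hω (by
      show β₀ d = W _; rw [Wd]; exact db) (by
      show β₀ s = W _; rw [Ws b12 cB hcB (by simp [hc4, b12_0, b12_1])]; exact hsB)
    show β u = Θ₀ (W _)
    exact ((congrArg Θ₀ (DFunLike.congr_fun e u)).symm.trans (Θ₀.apply_symm_apply _)).symm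
  · have e : γ₀ = W.toMonoidHom.comp (emb hF b23) := hom_ext2 hF hq hω (by
      show γ₀ d = W _; rw [Wd]; exact dc) (by
      show γ₀ s = W _; rw [Ws b23 cC hcC (by simp [hc4, b23_0, b23_1])]; exact hsC)
    show γ u = Θ₀ (W _)
    exact ((congrArg Θ₀ (DFunLike.congr_fun e u)).symm.trans (Θ₀.apply_symm_apply _)).symm

end Cfsg.Agent.Recog.Phan
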