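import Mathlib
import Cfsg.Prelude.Def_Solvable
import Cfsg.Agent.Lib.Recog.SU3SylowBasic

/-!
# Automorphisms of the model `UT F q`

Every automorphism induces a semilinear similitude `a ↦ c · τ a` of the unitary quotient.
-/

set_option autoImplicit false

open Cfsg Cfsg.Agent.Classical

namespace Cfsg.Agent.Recog.SU3Two

variable {F : Type*} [Field F] [Fintype F] [CharP F 2] {q : ℕ} [hF : Fact (Fintype.card F = q ^ 2)]

omit hF in
theorem add_self (a : F) : a + a = 0 := CharTwo.add_self_eq_zero a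

theorem norm_mem (a : F) : (a * a ^ q) ^ q = a * a ^ q := by rw [mul_pow, pq_pq, mul_comm]

theorem fixed_is_norm {t : F} (ht : t ^ q = t) : ∃ s : F, s ^ q = s ∧ s * s ^ q = t := by
  haveI : Fact (Nat.Prime 2) := ⟨Nat.prime_two⟩
  obtain ⟨r, hr⟩ := (PerfectRing.bijective_frobenius (R := F) (p := 2)).2 t
  have hr' : r ^ 2 = t := hr
  have hrF : r ^ q = r := frobenius_inj F 2 (show (r ^ q) ^ 2 = r ^ 2 by rw [← pow_mul, mul_comm, pow_mul, hr', ht])
  exact ⟨r, hrF, by rw [hrF, ← sq, hr']⟩

/-- Similitude data. -/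
structure Sim (q : ℕ) (L M : F → F) : Prop where
  L_add : ∀ a c, L (a + c) = L a + L c
  L_inj : ∀ a, L a = 0 → a = 0
  M_add : ∀ s t, s ^ q = s → t ^ q = t → M (s + t) = M s + M t
  norm : ∀ a, M (a * a ^ q) = L a * L a ^ q

namespace Sim

variable {L M : F → F} (h : Sim q L M)
include h

theorem M_fix {t : F} (ht : t ^ q = t) : (M t) ^ q = M t := by
  obtain ⟨s, -, rfl⟩ := fixed_is_norm ht
  rw [h.norm, norm_mem]

theorem L_zero : L 0 = 0 := by
  have := h.L_add 0 0
  rw [add_zero] at this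
  linear_combination this + add_self (L 0) - add_self (L 0) - 2 * this

theorem M_inj {t : F} (ht : t ^ q = t) (h0 : M t = 0) : t = 0 := by
  obtain ⟨s, -, rfl⟩ := fixed_is_norm ht
  rw [h.norm, mul_eq_zero] at h0
  have : L s = 0 := h0.elim id eq_zero_of_pow_eq_zero
  rw [h.L_inj s this, zero_mul]

theorem M_one_ne : M 1 ≠ 0 := fun h0 => one_ne_zero (h.M_inj (one_pow q) h0)

theorem trace (a c : F) : M (a ^ q * c + a * c ^ q) = L a ^ q * L c + L a * L c ^ q := by
  have hB : (a ^ q * c + a * c ^ q) ^ q = a ^ q * c + a * c ^ q := by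
    rw [pq_add, mul_pow, mul_pow, pq_pq, pq_pq]; ring
  have h1 : M ((a + c) * (a + c) ^ q) = M (a * a ^ q) + M (c * c ^ q) + M (a ^ q * c + a * c ^ q) := by
    rw [← h.M_add _ _ (norm_mem a) (norm_mem c), ← h.M_add _ _ (by rw [pq_add, norm_mem, norm_mem]) hB, pq_add]
    ring_nf
  rw [h.norm, h.norm, h.norm, h.L_add, pq_add] at h1
  linear_combination -h1

/-- the multiplier -/
def sig (M : F → F) (t : F) : F := M t / M 1

omit h in
theorem exists_line {a b : F} (ha : a ≠ 0) (hb : a ^ q * b + a * b ^ q = 0) : (b / a) ^ q = b / a := by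
  rw [CharTwo.add_eq_zero] at hb
  rw [div_pow, div_eq_div_iff (pow_ne_zero _ ha) ha]
  linear_combination -hb

theorem smul {x : F} (hx : x + x ^ q = 1) {t : F} (ht : t ^ q = t) (a : F) :
    L (t * a) = sig M t * L a ∧ (a ≠ 0 → ∀ u, u ^ q = u → M (t * u) = sig M t * M u) := by
  by_cases ha : a = 0
  · exact ⟨by rw [ha, mul_zero, h.L_zero, mul_zero], fun h' => absurd ha h'⟩
  have hLa : L a ≠ 0 := fun h0 => ha (h.L_inj a h0)
  set μ := L (t * a) / L a with hμdef
  have hμ : μ ^ q = μ := by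
    refine exists_line hLa ?_
    rw [← h.trace, mul_pow, ht, show a ^ q * (t * a) + a * (t * a ^ q) = t * (a * a ^ q) + t * (a * a ^ q) by ring, add_self]
    have := h.trace 0 0
    simp only [pq_zero, mul_zero, zero_mul, add_zero, h.L_zero] at this
    exact this
  have hLt : L (t * a) = μ * L a := by rw [hμdef, div_mul_cancel₀ _ hLa]
  have hM : ∀ u, u ^ q = u → M (t * u) = μ * M u := by
    intro u hu
    have haq : a ^ q ≠ 0 := pow_ne_zero _ ha
    have hc : a ^ q * (u * x / a ^ q) + a * (u * x / a ^ q) ^ q = u := by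
      rw [div_pow, pq_pq, mul_pow, hu, mul_div_cancel₀ _ haq, mul_div_cancel₀ _ ha, ← mul_add, hx, mul_one]
    have h1 := h.trace (t * a) (u * x / a ^ q)
    rw [mul_pow, ht, hLt, mul_pow, hμ,
      show t * a ^ q * (u * x / a ^ q) + t * a * (u * x / a ^ q) ^ q =
        t * (a ^ q * (u * x / a ^ q) + a * (u * x / a ^ q) ^ q) by ring, hc] at h1
    rw [h1, show M u = L a ^ q * L (u * x / a ^ q) + L a * L (u * x / a ^ q) ^ q by rw [← h.trace, hc]]
    ring
  have hsig : sig M t = μ := by
    rw [sig, show M t = μ * M 1 by rw [← hM 1 (one_pow q), mul_one], mul_div_cancel_right₀ _ h.M_one_ne]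
  rw [hsig]
  exact ⟨hLt, fun _ => hM⟩

theorem L_smul {t : F} (ht : t ^ q = t) (a : F) : L (t * a) = sig M t * L a := by
  obtain ⟨x, hx⟩ := exists_trq_one (F := F) (q := q)
  exact (h.smul hx ht a).1

theorem M_smul {t u : F} (ht : t ^ q = t) (hu : u ^ q = u) : M (t * u) = sig M t * M u := by
  obtain ⟨x, hx⟩ := exists_trq_one (F := F) (q := q)
  exact (h.smul hx ht 1).2 one_ne_zero u hu

theorem sig_fix {t : F} (ht : t ^ q = t) : sig M t ^ q = sig M t := by
  rw [sig, div_pow, h.M_fix ht, h.M_fix (one_pow q)]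

theorem sig_add {s t : F} (hs : s ^ q = s) (ht : t ^ q = t) : sig M (s + t) = sig M s + sig M t := by
  rw [sig, sig, sig, h.M_add _ _ hs ht, add_div]

theorem sig_mul {s t : F} (hs : s ^ q = s) (ht : t ^ q = t) : sig M (s * t) = sig M s * sig M t := by
  conv_lhs => rw [sig, h.M_smul hs ht]
  rw [mul_div_assoc]
  rfl

theorem sig_one : sig M 1 = 1 := div_self h.M_one_ne

theorem sig_inj {t : F} (ht : t ^ q = t) (h0 : sig M t = 0) : t = 0 := by
  rw [sig, div_eq_zero_iff] at h0
  exact h.M_inj ht (h0.resolve_right h.M_one_ne)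

/-- An involutory similitude is trivial on the centre. -/
theorem involutive_fix (hL : ∀ a, L (L a) = a) (hM : ∀ t, t ^ q = t → M (M t) = t) {t : F} (ht : t ^ q = t) :
    M t = t := by
  classical
  have hMsig : ∀ s, s ^ q = s → M s = sig M s * M 1 := fun s _ => (div_mul_cancel₀ _ h.M_one_ne).symm
  have hinvol : ∀ s, s ^ q = s → sig M (sig M s) = s := by
    intro s hs
    have h1 := hM _ hs
    rw [hMsig s hs, h.M_smul (h.sig_fix hs) (h.M_fix (one_pow q)), hM 1 (one_pow q), mul_one] at h1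
    exact h1
  by_cases hid : ∀ s, s ^ q = s → sig M s = s
  · have h1 := hM 1 (one_pow q)
    rw [hMsig _ (h.M_fix (one_pow q)), hid _ (h.M_fix (one_pow q)), ← sq] at h1
    haveI : Fact (Nat.Prime 2) := ⟨Nat.prime_two⟩
    have h2 : M 1 = 1 := frobenius_inj F 2 (show (M 1) ^ 2 = (1 : F) ^ 2 by rw [h1, one_pow])
    rw [hMsig t ht, hid t ht, h2, mul_one]
  exfalso
  push Not at hid
  obtain ⟨x0, hx0, hx0'⟩ := hid
  -- fixed vectors of `L`
  obtain ⟨a, ha, hLa⟩ : ∃ a, a ≠ 0 ∧ L a = a := by
    by_cases h1 : L 1 = 1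
    · exact ⟨1, one_ne_zero, h1⟩
    · exact ⟨1 + L 1, fun h0 => h1 ((CharTwo.add_eq_zero.mp h0).symm), by rw [h.L_add, hL, add_comm]⟩
  let Lh : F →+ F := AddMonoidHom.mk' (fun y => y + L y) fun y z => by simp only [h.L_add]; ring
  let W : AddSubgroup F := Lh.ker
  have hW : ∀ y, y ∈ W ↔ L y = y := fun y => by
    show y + L y = 0 ↔ L y = y
    rw [CharTwo.add_eq_zero, eq_comm]
  let R : AddSubgroup (Fx F q) :=
    { carrier := {r | sig M (r : F) = r}
      add_mem' := fun {r s} hr hs => by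
        show sig M ((r : F) + s) = r + s
        rw [h.sig_add r.2 s.2, show sig M (r : F) = r from hr, show sig M (s : F) = s from hs]
      zero_mem' := by
        show sig M 0 = 0
        have := h.sig_add (s := 0) (t := 0) pq_zero pq_zero
        rw [add_zero] at this
        linear_combination -this
      neg_mem' := fun {r} hr => by
        show sig M (-(r : F)) = -(r : F)
        rw [CharTwo.neg_eq]; exact hr }
  have hRlt : Nat.card R < q := by
    refine lt_of_le_of_ne ((Nat.card_le_card_of_injective _ R.subtype_injective).trans card_Fx.le) fun he => hx0' ?_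
    have : R = ⊤ := AddSubgroup.eq_top_of_card_eq R (he.trans card_Fx.symm)
    exact (show (⟨x0, hx0⟩ : Fx F q) ∈ R from this ▸ AddSubgroup.mem_top _)
  have hWq : q ≤ Nat.card W := by
    have h1 := AddSubgroup.card_eq_card_quotient_mul_card_addSubgroup W
    rw [Nat.card_congr (QuotientAddGroup.quotientKerEquivRange Lh).toEquiv, Nat.card_eq_fintype_card (α := F), hF.out] at h1
    have h2 : Nat.card Lh.range ≤ Nat.card W := AddSubgroup.card_le_of_le (by
      rintro _ ⟨y, rfl⟩
      rw [hW]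
      show L (y + L y) = y + L y
      rw [h.L_add, hL, add_comm])
    have h3 := Nat.mul_le_mul_right (Nat.card W) h2
    rw [← h1, ← sq] at h3
    exact (Nat.pow_le_pow_iff_left two_ne_zero).mp h3
  obtain ⟨c, hLc, hc⟩ : ∃ c, L c = c ∧ (c / a) ^ q ≠ c / a := by
    by_contra hcon
    push Not at hcon
    have hmem : ∀ y : W, sig M (y.1 / a) = y.1 / a := fun y => by
      have hy := (hW y).mp y.2
      have := h.L_smul (hcon _ hy) a
      rw [div_mul_cancel₀ _ ha, hy, hLa] at this
      rw [eq_div_iff ha]; exact this.symm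
    have := Nat.card_le_card_of_injective (fun y : W => (⟨⟨y.1 / a, hcon _ ((hW y).mp y.2)⟩, hmem y⟩ : R))
      fun y z hyz => Subtype.ext (by
        have := congrArg (fun r : R => ((r : Fx F q) : F)) hyz
        simpa [div_left_inj' ha] using this)
    omega
  set u0 := a * a ^ q with hu0
  have hu0ne : u0 ≠ 0 := mul_ne_zero ha (pow_ne_zero _ ha)
  have hu0M : M u0 = u0 := by rw [hu0, h.norm, hLa]
  set B := a ^ q * c + a * c ^ q with hBdef
  have hB0 : B ≠ 0 := fun h0 => hc (exists_line ha h0)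
  have hBM : M B = B := by rw [hBdef, h.trace, hLa, hLc]
  have hBF : B ^ q = B := by rw [hBdef, pq_add, mul_pow, mul_pow, pq_pq, pq_pq]; ring
  have hu0F : u0 ^ q = u0 := norm_mem a
  have hrat : ∀ v, v ^ q = v → M v = v → (v / u0) ^ q = v / u0 ∧ sig M (v / u0) = v / u0 := by
    intro v hv hMv
    have hf : (v / u0) ^ q = v / u0 := by rw [div_pow, hv, hu0F]
    refine ⟨hf, ?_⟩
    have := h.M_smul hf hu0F
    rw [div_mul_cancel₀ _ hu0ne, hMv, hu0M] at this
    rw [eq_div_iff hu0ne]; exact this.symm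
  obtain ⟨hrF, hr⟩ := hrat (c * c ^ q) (norm_mem c) (by rw [h.norm, hLc])
  obtain ⟨hgF, hg⟩ := hrat B hBF hBM
  set r := c * c ^ q / u0
  set g := B / u0
  have hg0 : g ≠ 0 := div_ne_zero hB0 hu0ne
  have hinvR : ∀ s, s ^ q = s → sig M s = s → sig M s⁻¹ = s⁻¹ := by
    intro s hs hs'
    by_cases h0 : s = 0
    · rw [h0, inv_zero]; exact (show sig M ((0 : Fx F q) : F) = ((0 : Fx F q) : F) from R.zero_mem)
    have hsF : s⁻¹ ^ q = s⁻¹ := by rw [inv_pow, hs]
    have := h.sig_mul hs hsF
    rw [mul_inv_cancel₀ h0, h.sig_one, hs'] at this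
    exact (inv_eq_of_mul_eq_one_right this.symm).symm
  set e := r * (g * g)⁻¹ with hedef
  have hggF : (g * g) ^ q = g * g := by rw [mul_pow, hgF]
  have hgg : sig M (g * g) = g * g := by rw [h.sig_mul hgF hgF, hg]
  have heF : e ^ q = e := by rw [hedef, mul_pow, inv_pow, hrF, hggF]
  have he : sig M e = e := by
    rw [hedef, h.sig_mul hrF (by rw [inv_pow, hggF]), hr, hinvR _ hggF hgg]
  -- an element `w` with `σ w = w + 1`
  set s0 := x0 + sig M x0 with hs0
  have hs0F : s0 ^ q = s0 := by rw [hs0, pq_add, hx0, h.sig_fix hx0]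
  have hs0ne : s0 ≠ 0 := fun h0 => hx0' ((CharTwo.add_eq_zero.mp h0).symm)
  have hs0R : sig M s0 = s0 := by rw [hs0, h.sig_add hx0 (h.sig_fix hx0), hinvol x0 hx0, add_comm]
  set w := x0 * s0⁻¹ with hwdef
  have hwF : w ^ q = w := by rw [hwdef, mul_pow, inv_pow, hx0, hs0F]
  have hw : sig M w = w + 1 := by
    rw [hwdef, h.sig_mul hx0 (by rw [inv_pow, hs0F]), hinvR _ hs0F hs0R,
      show sig M x0 = x0 + s0 by rw [hs0, ← add_assoc, add_self, zero_add], add_mul, mul_inv_cancel₀ hs0ne]
  -- Artin–Schreier inside the fixed field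
  obtain ⟨z, hzF, hz⟩ : ∃ z, z ^ q = z ∧ z * z + z = e := by
    let ρ : R →+ R := AddMonoidHom.mk' (fun r => ⟨⟨((r : Fx F q) : F) * (r : Fx F q) + (r : Fx F q), by
        rw [mem_Fx, pq_add, mul_pow, show ((r : Fx F q) : F) ^ q = (r : Fx F q) from r.1.2]⟩, by
        show sig M (_ * _ + _) = _
        rw [h.sig_add (by rw [mul_pow, show ((r : Fx F q) : F) ^ q = (r : Fx F q) from r.1.2]) r.1.2,
          h.sig_mul r.1.2 r.1.2, show sig M ((r : Fx F q) : F) = (r : Fx F q) from r.2]⟩)
      fun r s => by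
        refine Subtype.ext (Subtype.ext ?_)
        show ((r : Fx F q) + (s : Fx F q) : F) * ((r : Fx F q) + (s : Fx F q) : F) + _ = _
        simp only [AddSubgroup.coe_add]
        linear_combination ((r : Fx F q) : F) * ((s : Fx F q) : F) * CharTwo.two_eq_zero (R := F)
    have hwwF : (w * w + w) ^ q = w * w + w := by rw [pq_add, mul_pow, hwF]
    have hwwR : sig M (w * w + w) = w * w + w := by
      rw [h.sig_add (by rw [mul_pow, hwF]) hwF, h.sig_mul hwF hwF, hw]
      linear_combination (w + 1) * CharTwo.two_eq_zero (R := F)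
    let z0 : R := ⟨⟨w * w + w, hwwF⟩, hwwR⟩
    have hz0 : z0 ∉ ρ.range := by
      rintro ⟨y, hy⟩
      have hy' : ((y : Fx F q) : F) * (y : Fx F q) + (y : Fx F q) = w * w + w := congrArg (fun t : R => ((t : Fx F q) : F)) hy
      have h2 : (((y : Fx F q) : F) + w) * (((y : Fx F q) : F) + w + 1) = 0 := by
        linear_combination hy' + (((y : Fx F q) : F) * w + w * w + w) * CharTwo.two_eq_zero (R := F)
      have hyR : sig M ((y : Fx F q) : F) = (y : Fx F q) := y.2
      rcases mul_eq_zero.mp h2 with h3 | h3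
      · rw [CharTwo.add_eq_zero] at h3
        rw [h3, hw] at hyR
        exact one_ne_zero (add_eq_left.mp hyR)
      · rw [CharTwo.add_eq_zero] at h3
        have hy3 : ((y : Fx F q) : F) = w + 1 := by linear_combination h3 - w * CharTwo.two_eq_zero (R := F)
        rw [hy3, h.sig_add hwF (one_pow q), hw, h.sig_one] at hyR
        exact one_ne_zero (add_eq_left.mp hyR)
    have hker : Nat.card ρ.ker ≤ 2 := by
      have : ∀ y : ρ.ker, ((y.1 : Fx F q) : F) ∈ ({0, 1} : Finset F) := by
        intro y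
        have hy : ((y.1 : Fx F q) : F) * (y.1 : Fx F q) + (y.1 : Fx F q) = 0 := congrArg (fun t : R => ((t : Fx F q) : F)) y.2
        have h2 : ((y.1 : Fx F q) : F) * (((y.1 : Fx F q) : F) + 1) = 0 := by linear_combination hy
        rcases mul_eq_zero.mp h2 with h3 | h3
        · simp [h3]
        · rw [CharTwo.add_eq_zero] at h3; simp [h3]
      calc Nat.card ρ.ker ≤ Nat.card ↥({0, 1} : Finset F) :=
            Nat.card_le_card_of_injective (fun y => ⟨((y.1 : Fx F q) : F), this y⟩) fun y z hyz =>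
              Subtype.ext (Subtype.ext (Subtype.ext (Subtype.mk.inj hyz)))
        _ ≤ 2 := by rw [Nat.card_eq_finsetCard]; exact Finset.card_le_two
    have hidx : ρ.range.index ≤ 2 := by
      have h1 := AddSubgroup.card_eq_card_quotient_mul_card_addSubgroup ρ.ker
      rw [Nat.card_congr (QuotientAddGroup.quotientKerEquivRange ρ).toEquiv] at h1
      have h2 := ρ.range.card_mul_index
      have hpos : 0 < Nat.card ρ.range := Nat.card_pos
      nlinarith
    by_cases he' : (⟨⟨e, heF⟩, he⟩ : R) ∈ ρ.range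
    · obtain ⟨y, hy⟩ := he'
      exact ⟨((y : Fx F q) : F), y.1.2, congrArg (fun t : R => ((t : Fx F q) : F)) hy⟩
    · have h2 : (⟨⟨e, heF⟩, he⟩ : R) + z0 ∈ ρ.range := by
        have hi2 : ρ.range.index = 2 := by
          have : ρ.range.index ≠ 1 := fun h1 => hz0 (AddSubgroup.index_eq_one.mp h1 ▸ AddSubgroup.mem_top _)
          have := ρ.range.index_ne_zero_of_finite
          omega
        rw [AddSubgroup.add_mem_iff_of_index_two hi2]
        exact ⟨fun hh => absurd hh he', fun hh => absurd hh hz0⟩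
      obtain ⟨y, hy⟩ := h2
      have hy' : ((y : Fx F q) : F) * (y : Fx F q) + (y : Fx F q) = e + (w * w + w) :=
        congrArg (fun t : R => ((t : Fx F q) : F)) hy
      refine ⟨((y : Fx F q) : F) + w, by rw [pq_add, hwF, show ((y : Fx F q) : F) ^ q = (y : Fx F q) from y.1.2], ?_⟩
      linear_combination hy' + (((y : Fx F q) : F) * w + w * w + w) * CharTwo.two_eq_zero (R := F)
  -- the isotropic vector
  have hgz : (g * z) ^ q = g * z := by rw [mul_pow, hgF, hzF]
  have hiso : (g * z * a + c) * (g * z * a + c) ^ q = 0 := by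
    rw [pq_add, mul_pow, hgz]
    have e1 : (g * z * a + c) * (g * z * a ^ q + c ^ q) = (g * z) * (g * z) * u0 + (g * z) * B + c * c ^ q := by
      rw [hu0, hBdef]; ring
    rw [e1, show c * c ^ q = r * u0 from (div_mul_cancel₀ _ hu0ne).symm, show B = g * u0 from (div_mul_cancel₀ _ hu0ne).symm]
    have e2 : g * g * (z * z + z) = r := by rw [hz, hedef]; field_simp
    linear_combination u0 * e2 + r * u0 * CharTwo.two_eq_zero (R := F)
  have hzero : g * z * a + c = 0 := by
    rcases mul_eq_zero.mp hiso with h0 | h0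
    · exact h0
    · exact eq_zero_of_pow_eq_zero h0
  rw [CharTwo.add_eq_zero] at hzero
  refine hc ?_
  rw [← hzero, mul_div_cancel_right₀ _ ha, hgz]

/-- Classification of similitudes. -/
theorem classify : ∃ τ : F ≃+* F, ∀ a, L a = L 1 * τ a := by
  obtain ⟨x, hx⟩ := exists_trq_one (F := F) (q := q)
  have hc : L 1 ≠ 0 := fun h0 => one_ne_zero (h.L_inj 1 h0)
  set y := L x / L 1 with hy
  have hM1 : M 1 = L 1 * L 1 ^ q := by rw [← h.norm, one_pow, mul_one]
  have hytr : y + y ^ q = 1 := by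
    have h1 := h.trace 1 x
    rw [one_pow, one_mul, one_mul, hx, hM1] at h1
    rw [hy, div_pow, div_add_div _ _ hc (pow_ne_zero _ hc), div_eq_one_iff_eq (mul_ne_zero hc (pow_ne_zero _ hc))]
    linear_combination -h1
  have hyn : y * y ^ q = sig M (x * x ^ q) := by
    rw [hy, div_pow, div_mul_div_comm, ← h.norm x, ← hM1]; rfl
  let co : F → F := fun a => a + a ^ q
  let cl : F → F := fun a => a + (a + a ^ q) * x
  have hco : ∀ a, co a ^ q = co a := fun a => trq_mem a
  have hcl : ∀ a, cl a ^ q = cl a := by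
    intro a
    show (a + (a + a ^ q) * x) ^ q = a + (a + a ^ q) * x
    rw [pq_add, mul_pow, show (a + a ^ q) ^ q = a + a ^ q from trq_mem a]
    linear_combination (a + a ^ q) * hx + (a ^ q - (a + a ^ q) * x) * CharTwo.two_eq_zero (R := F)
  have hdec : ∀ a, a = cl a + co a * x := fun a => by
    show a = a + (a + a ^ q) * x + (a + a ^ q) * x
    linear_combination -((a + a ^ q) * x) * CharTwo.two_eq_zero (R := F)
  have hform : ∀ l m, l ^ q = l → m ^ q = m → L (l + m * x) / L 1 = sig M l + sig M m * y := by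
    intro l m hl hm
    rw [h.L_add, ← mul_one l, h.L_smul hl 1, h.L_smul hm x, mul_one, hy, add_div, mul_div_cancel_right₀ _ hc, mul_div_assoc]
  have hmulf : ∀ a b, L (a * b) / L 1 = L a / L 1 * (L b / L 1) := by
    intro a b
    obtain ⟨l, m, hl, hm, rfl⟩ : ∃ l m, l ^ q = l ∧ m ^ q = m ∧ a = l + m * x := ⟨_, _, hcl a, hco a, hdec a⟩
    obtain ⟨l', m', hl', hm', rfl⟩ : ∃ l m, l ^ q = l ∧ m ^ q = m ∧ b = l + m * x := ⟨_, _, hcl b, hco b, hdec b⟩
    have hxx : x * x = x + x * x ^ q := by linear_combination x * hx - (x * x ^ q) * CharTwo.two_eq_zero (R := F)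
    have hyy : y * y = y + y * y ^ q := by linear_combination y * hytr - (y * y ^ q) * CharTwo.two_eq_zero (R := F)
    have hNF : (x * x ^ q) ^ q = x * x ^ q := norm_mem x
    have hmm : (m * m') ^ q = m * m' := by rw [mul_pow, hm, hm']
    have h1 : (m * m' * (x * x ^ q)) ^ q = m * m' * (x * x ^ q) := by rw [mul_pow, hmm, hNF]
    have h2 : (l * l') ^ q = l * l' := by rw [mul_pow, hl, hl']
    have h3 : (l * m') ^ q = l * m' := by rw [mul_pow, hl, hm']
    have h4 : (m * l') ^ q = m * l' := by rw [mul_pow, hm, hl']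
    rw [show (l + m * x) * (l' + m' * x) = (l * l' + m * m' * (x * x ^ q)) + (l * m' + m * l' + m * m') * x by
        linear_combination (m * m') * hxx,
      hform _ _ (by rw [pq_add, h2, h1]) (by rw [pq_add, pq_add, h3, h4, hmm]), hform _ _ hl hm, hform _ _ hl' hm',
      h.sig_add h2 h1, h.sig_mul hl hl', h.sig_mul hmm hNF, h.sig_mul hm hm', h.sig_add (by rw [pq_add, h3, h4]) hmm,
      h.sig_add h3 h4, h.sig_mul hl hm', h.sig_mul hm hl', h.sig_mul hm hm', ← hyn]
    linear_combination -(sig M m * sig M m') * hyy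
  let τ₀ : F →+* F :=
    { toFun := fun a => L a / L 1
      map_one' := div_self hc
      map_mul' := hmulf
      map_zero' := by rw [h.L_zero, zero_div]
      map_add' := fun a b => by rw [h.L_add, add_div] }
  refine ⟨RingEquiv.ofBijective τ₀ (Finite.injective_iff_bijective.mp τ₀.injective), fun a => ?_⟩
  show L a = L 1 * (L a / L 1)
  rw [mul_div_cancel₀ _ hc]

end Sim

end Cfsg.Agent.Recog.SU3Two
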