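import Mathlib
import Cfsg.Agent.Lib.Recog.SU3SylowAut

/-!
# The automorphism group of the model `UT F q`
-/

set_option autoImplicit false

open Cfsg Cfsg.Agent.Classical

namespace Cfsg.Agent.Recog.SU3Two

variable {F : Type*} [Field F] [Fintype F] [CharP F 2] {q : ℕ} [hF : Fact (Fintype.card F = q ^ 2)]

/-- a lift of `a` -/
noncomputable def lift (a : F) : UT F q := (UT.exists_mk a).choose

theorem lift_a (a : F) : (lift (q := q) a).a = a := (UT.exists_mk a).choose_spec

theorem map_a_zero (α : MulAut (UT F q)) {u : UT F q} (hu : u.a = 0) : (α u).a = 0 := by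
  rw [← UT.mem_center_iff] at hu ⊢
  rw [Subgroup.mem_center_iff] at hu ⊢
  intro g
  obtain ⟨g, rfl⟩ := α.surjective g
  rw [← map_mul, ← map_mul, hu g]

theorem inv_a (u : UT F q) : u⁻¹.a = u.a := rfl

/-- the action on `a` -/
noncomputable def LA (α : MulAut (UT F q)) (a : F) : F := (α (lift a)).a

theorem map_a (α : MulAut (UT F q)) (u : UT F q) : (α u).a = LA α u.a := by
  have h := map_a_zero α (u := u * (lift u.a)⁻¹) (by rw [UT.mul_a, inv_a, lift_a, add_self])
  rw [map_mul, map_inv, UT.mul_a, inv_a, CharTwo.add_eq_zero] at h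
  exact h

/-- the action on the centre -/
noncomputable def MA (α : MulAut (UT F q)) (t : F) : F :=
  haveI := Classical.propDecidable (t ^ q = t)
  if ht : t ^ q = t then (α (UT.z ⟨t, ht⟩)).b else 0

theorem MA_eq (α : MulAut (UT F q)) {t : F} (ht : t ^ q = t) : MA α t = (α (UT.z ⟨t, ht⟩)).b := by
  classical
  unfold MA
  rw [dif_pos ht]

theorem z_add (s t : Fx F q) : UT.z (s + t) = UT.z s * UT.z t := by
  ext
  · show (0 : F) = 0 + 0
    rw [add_zero]
  · show ((s + t : Fx F q) : F) = (s : F) + t + 0 ^ q * 0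
    rw [mul_zero, add_zero]; rfl

theorem sim (α : MulAut (UT F q)) : Sim q (LA α) (MA α) where
  L_add a c := by
    have h := map_a α (lift (q := q) a * lift c)
    rw [UT.mul_a, lift_a, lift_a, map_mul, UT.mul_a, map_a, map_a, lift_a, lift_a] at h
    exact h.symm
  L_inj a ha := by
    have h := map_a_zero α⁻¹ (u := α (lift a)) ha
    rwa [MulAut.inv_apply_self, lift_a] at h
  M_add s t hs ht := by
    rw [MA_eq α hs, MA_eq α ht, MA_eq α (show (s + t) ^ q = s + t by rw [pq_add, hs, ht]),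
      show (⟨s + t, _⟩ : Fx F q) = ⟨s, hs⟩ + ⟨t, ht⟩ from rfl, z_add, map_mul, UT.mul_b,
      map_a_zero α (u := UT.z ⟨s, hs⟩) rfl, pq_zero, zero_mul, add_zero]
  norm a := by
    have h : lift (q := q) a ^ 2 = UT.z ⟨a * a ^ q, norm_mem a⟩ := by
      ext
      · rw [UT.sq_a]; rfl
      · rw [UT.sq_b, lift_a]; rfl
    rw [MA_eq α (norm_mem a), ← h, map_pow, UT.sq_b]
    rfl

theorem LA_mul (α β : MulAut (UT F q)) (a : F) : LA (α * β) a = LA α (LA β a) := map_a α (β (lift a))

theorem LA_one (a : F) : LA (1 : MulAut (UT F q)) a = a := lift_a a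

theorem MA_mul (α β : MulAut (UT F q)) {t : F} (ht : t ^ q = t) : MA (α * β) t = MA α (MA β t) := by
  have hz : β (UT.z ⟨t, ht⟩) = UT.z ⟨MA β t, (sim β).M_fix ht⟩ := by
    ext
    · exact map_a_zero β rfl
    · exact (MA_eq β ht).symm
  rw [MA_eq (α * β) ht, MulAut.mul_apply, hz, MA_eq α ((sim β).M_fix ht)]

theorem MA_one {t : F} (ht : t ^ q = t) : MA (1 : MulAut (UT F q)) t = t := by rw [MA_eq _ ht]; rfl

theorem LA_scale (c : Fˣ) (a : F) : LA (UT.scaleHom (q := q) c) a = c * a := by
  show (c : F) * (lift (q := q) a).a = c * a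
  rw [lift_a]

/-- an automorphism whose square is inner fixes the centre -/
theorem fix_center_of_sq {α : MulAut (UT F q)} {s : UT F q} (h : α * α = MulAut.conj s) (k : Fx F q) :
    α (UT.z k) = UT.z k := by
  have hL : ∀ a, LA α (LA α a) = a := by
    intro a
    rw [← LA_mul, h]
    show (s * lift a * s⁻¹).a = a
    rw [UT.mul_a, UT.mul_a, inv_a, lift_a]
    linear_combination add_self s.a
  have hM : ∀ t, t ^ q = t → MA α (MA α t) = t := by
    intro t ht
    have hc : s * UT.z ⟨t, ht⟩ = UT.z ⟨t, ht⟩ * s :=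
      Subgroup.mem_center_iff.mp ((UT.mem_center_iff _).mpr rfl) s
    rw [← MA_mul α α ht, h, MA_eq _ ht]
    show (s * UT.z ⟨t, ht⟩ * s⁻¹).b = t
    rw [hc, mul_inv_cancel_right]
    rfl
  have hk := (sim α).involutive_fix hL hM k.2
  ext
  · exact map_a_zero α rfl
  · exact (MA_eq α k.2).symm.trans hk

/-- field automorphisms -/
def galois (τ : F ≃+* F) : MulAut (UT F q) where
  toFun u := ⟨τ u.a, τ u.b, by rw [← map_pow, ← map_pow, ← map_mul, ← map_add, u.eq]⟩
  invFun u := ⟨τ.symm u.a, τ.symm u.b, by rw [← map_pow, ← map_pow, ← map_mul, ← map_add, u.eq]⟩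
  left_inv u := by ext <;> exact τ.symm_apply_apply _
  right_inv u := by ext <;> exact τ.apply_symm_apply _
  map_mul' u v := by
    ext
    · exact map_add τ _ _
    · show τ (u.b + v.b + u.a ^ q * v.a) = τ u.b + τ v.b + (τ u.a) ^ q * τ v.a
      rw [map_add, map_add, map_mul, map_pow]

/-- the standard automorphism with data `(c, τ)` -/
def stdAut (p : Fˣ × (F ≃+* F)) : MulAut (UT F q) := UT.scaleHom p.1 * galois p.2

theorem LA_stdAut (p : Fˣ × (F ≃+* F)) (a : F) : LA (stdAut (q := q) p) a = p.1 * p.2 a := by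
  rw [stdAut, LA_mul, LA_scale]
  show _ * p.2 (lift a).a = _
  rw [lift_a]

theorem exists_data (α : MulAut (UT F q)) : ∃ p : Fˣ × (F ≃+* F), ∀ a, LA α a = p.1 * p.2 a := by
  obtain ⟨τ, hτ⟩ := (sim α).classify
  exact ⟨(Units.mk0 (LA α 1) fun h0 => one_ne_zero ((sim α).L_inj 1 h0), τ), hτ⟩

theorem data_unique {p p' : Fˣ × (F ≃+* F)} (h : ∀ a, (p.1 : F) * p.2 a = p'.1 * p'.2 a) : p = p' := by
  have h1 : p.1 = p'.1 := Units.ext (by simpa using h 1)
  refine Prod.ext h1 (RingEquiv.ext fun a => ?_)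
  have := h a
  rw [h1] at this
  exact mul_left_cancel₀ p'.1.ne_zero this

/-- the kernel of the action on the quotient -/
def kerLA (F : Type*) [Field F] [Fintype F] [CharP F 2] (q : ℕ) [Fact (Fintype.card F = q ^ 2)] :
    Subgroup (MulAut (UT F q)) where
  carrier := {α | ∀ a, LA α a = a}
  one_mem' := LA_one
  mul_mem' {α β} hα hβ a := by rw [LA_mul, hβ a, hα a]
  inv_mem' {α} hα a := by
    have := LA_mul α⁻¹ α a
    rw [inv_mul_cancel, LA_one, hα a] at this
    exact this.symm

instance : (kerLA F q).Normal := ⟨fun α hα g a => by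
  rw [LA_mul, LA_mul, hα, ← LA_mul, mul_inv_cancel, LA_one]⟩

theorem ker_fix {α : MulAut (UT F q)} (hα : α ∈ kerLA F q) (k : Fx F q) : α (UT.z k) = UT.z k := by
  have h1 : MA α (k : F) = k := by
    obtain ⟨s, -, hs⟩ := fixed_is_norm k.2
    rw [← hs, (sim α).norm, hα s]
  refine UT.ext (map_a_zero α rfl) ?_
  exact (MA_eq α k.2).symm.trans h1

theorem z_comm (k : Fx F q) (g : UT F q) : UT.z k * g = g * UT.z k :=
  (Subgroup.mem_center_iff.mp ((UT.mem_center_iff _).mpr rfl) g).symm

/-- elements with `a = 0` are central `z`'s -/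
def toFx (w : UT F q) (hw : w.a = 0) : Fx F q := ⟨w.b, by
  rw [mem_Fx]
  have h := w.eq
  rw [hw, zero_mul, CharTwo.add_eq_zero] at h
  exact h.symm⟩

theorem z_toFx (w : UT F q) (hw : w.a = 0) : UT.z (toFx w hw) = w := UT.ext hw.symm rfl

theorem dev_a {α : MulAut (UT F q)} (hα : α ∈ kerLA F q) (u : UT F q) : (u⁻¹ * α u).a = 0 := by
  rw [UT.mul_a, inv_a, map_a, hα u.a, add_self]

/-- deviation -/
noncomputable def dev (α : kerLA F q) (u : UT F q) : Fx F q := toFx (u⁻¹ * α.1 u) (dev_a α.2 u)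

theorem apply_eq (α : kerLA F q) (u : UT F q) : α.1 u = u * UT.z (dev α u) := by
  rw [dev, z_toFx, mul_inv_cancel_left]

theorem dev_mul (α : kerLA F q) (u v : UT F q) : dev α (u * v) = dev α u + dev α v := by
  have h : UT.z (dev α (u * v)) = UT.z (dev α u + dev α v) := by
    rw [z_add, ← mul_right_inj (u * v), ← apply_eq, map_mul, apply_eq α u, apply_eq α v]
    calc u * UT.z (dev α u) * (v * UT.z (dev α v)) = u * (UT.z (dev α u) * v) * UT.z (dev α v) := by simp only [mul_assoc]
      _ = u * v * (UT.z (dev α u) * UT.z (dev α v)) := by rw [z_comm]; simp only [mul_assoc]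
  exact Subtype.ext (congrArg UT.b h)

theorem dev_congr (α : kerLA F q) {u v : UT F q} (h : u.a = v.a) : dev α u = dev α v := by
  have hd : (v⁻¹ * u).a = 0 := by rw [UT.mul_a, inv_a, h, add_self]
  have h0 : dev α (v⁻¹ * u) = 0 := by
    refine Subtype.ext ?_
    show ((v⁻¹ * u)⁻¹ * α.1 (v⁻¹ * u)).b = 0
    rw [show α.1 (v⁻¹ * u) = v⁻¹ * u by
      have := ker_fix α.2 (toFx (v⁻¹ * u) hd)
      rwa [z_toFx] at this, inv_mul_cancel]
    rfl
  rw [show u = v * (v⁻¹ * u) from (mul_inv_cancel_left _ _).symm, dev_mul, h0, add_zero]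

/-- the kernel consists of maps `u ↦ u z(f u.a)` -/
noncomputable def kerEquiv : kerLA F q ≃ (F →+ Fx F q) where
  toFun α := AddMonoidHom.mk' (fun a => dev α (lift a)) fun a c => by
    rw [← dev_mul]
    exact dev_congr α (by rw [UT.mul_a, lift_a, lift_a, lift_a])
  invFun f := ⟨{ toFun := fun u => u * UT.z (f u.a)
                 invFun := fun u => u * UT.z (f u.a)
                 left_inv := fun u => by
                   ext
                   · simp [UT.mul_a, UT.z]
                   · simp only [UT.mul_b, UT.mul_a, UT.z, add_zero, mul_zero]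
                     linear_combination add_self ((f u.a : Fx F q) : F)
                 right_inv := fun u => by
                   ext
                   · simp [UT.mul_a, UT.z]
                   · simp only [UT.mul_b, UT.mul_a, UT.z, add_zero, mul_zero]
                     linear_combination add_self ((f u.a : Fx F q) : F)
                 map_mul' := fun u v => by
                   ext
                   · simp [UT.mul_a, UT.z]
                   · simp [UT.mul_b, UT.mul_a, UT.z, map_add]; ring },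
    fun a => by
      show (lift (q := q) a * UT.z _).a = a
      rw [UT.mul_a, lift_a]; exact add_zero a⟩
  left_inv α := by
    refine Subtype.ext (MulEquiv.ext fun u => ?_)
    show u * UT.z (dev α (lift u.a)) = α.1 u
    rw [apply_eq α u, dev_congr α (lift_a u.a)]
  right_inv f := by
    refine AddMonoidHom.ext fun a => Subtype.ext ?_
    show ((lift (q := q) a)⁻¹ * (lift a * UT.z (f (lift (q := q) a).a))).b = _
    rw [inv_mul_cancel_left, lift_a]
    rfl

theorem ker_elementary : (∀ α ∈ kerLA F q, ∀ β ∈ kerLA F q, α * β = β * α) ∧ ∀ α ∈ kerLA F q, α * α = 1 := by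
  have hs : ∀ (α : kerLA F q) (u : UT F q), α.1 u = u * UT.z (kerEquiv α u.a) := fun α u => by
    conv_lhs => rw [← kerEquiv.symm_apply_apply α]
    rfl
  refine ⟨fun α hα β hβ => MulEquiv.ext fun u => ?_, fun α hα => MulEquiv.ext fun u => ?_⟩
  · show α (β u) = β (α u)
    have h1 := hs ⟨β, hβ⟩ u
    have h2 := hs ⟨α, hα⟩ u
    simp only at h1 h2
    rw [h1, h2, map_mul, map_mul, ker_fix hα, ker_fix hβ, h1, h2, mul_assoc, mul_assoc, ← z_add, ← z_add, add_comm]
  · show α (α u) = u
    have h2 := hs ⟨α, hα⟩ u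
    simp only at h2
    rw [h2, map_mul, ker_fix hα, h2, mul_assoc, ← z_add]
    ext
    · simp [UT.mul_a, UT.z]
    · simp only [UT.mul_b, UT.z, mul_zero, add_zero, AddSubgroup.coe_add]
      linear_combination add_self ((kerEquiv ⟨α, hα⟩ u.a : Fx F q) : F)

theorem kerLA_isPGroup : IsPGroup 2 (kerLA F q) := fun α => ⟨1, by
  rw [pow_one, sq]; exact Subtype.ext (ker_elementary.2 α.1 α.2)⟩

theorem pCore_aut : pCore 2 (MulAut (UT F q)) = kerLA F q := by
  haveI : Fact (Nat.Prime 2) := ⟨Nat.prime_two⟩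
  refine le_antisymm ?_ (le_sSup ⟨inferInstance, kerLA_isPGroup⟩)
  refine sSup_le ?_
  rintro N ⟨hN, hN2⟩ g hg
  obtain ⟨p, hp⟩ := exists_data g
  have hτ : ∀ d : Fˣ, p.2 (d : F) = d := by
    intro d
    set δ := UT.scaleHom (q := q) d with hδ
    have hh : g * (δ * g⁻¹ * δ⁻¹) ∈ N := N.mul_mem hg (hN.conj_mem _ (N.inv_mem hg) δ)
    set hh' := g * (δ * g⁻¹ * δ⁻¹) with hhdef
    set e : F := p.2 (d : F) * ((d⁻¹ : Fˣ) : F) with he
    have hgd : hh' * δ * g = g * δ := by rw [hhdef]; group
    have hL : ∀ w, LA hh' w = e * w := by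
      intro w
      obtain ⟨a, ha⟩ := (Finite.injective_iff_surjective.mp (show Function.Injective (fun a : F => (p.1 : F) * p.2 a) from
        fun a b hab => p.2.injective (mul_left_cancel₀ p.1.ne_zero hab))) ((d⁻¹ : Fˣ) * w)
      have ha' : (p.1 : F) * p.2 a = ((d⁻¹ : Fˣ) : F) * w := ha
      have h := congrArg (fun β => LA β a) hgd
      simp only [LA_mul, hδ, LA_scale, hp, map_mul] at h
      rw [show (d : F) * ((p.1 : F) * p.2 a) = w by rw [ha', Units.mul_inv_cancel_left]] at h
      rw [h, he, mul_assoc, ← ha']; ring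
    obtain ⟨k, hk⟩ := hN2 ⟨hh', hh⟩
    have hpow : ∀ j : ℕ, LA (hh' ^ j) 1 = e ^ j := by
      intro j
      induction j with
      | zero => rw [pow_zero, pow_zero, LA_one]
      | succ j ih => rw [pow_succ', LA_mul, ih, hL, pow_succ']
    have h1 := hpow (2 ^ k)
    rw [show hh' ^ 2 ^ k = 1 from congrArg Subtype.val hk, LA_one] at h1
    have he1 : e = 1 := (iterateFrobenius_inj F 2 k (show e ^ 2 ^ k = (1 : F) ^ 2 ^ k by rw [one_pow, ← h1]))
    rw [he] at he1
    exact (Units.mul_inv_eq_one).mp he1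
  have hτ' : ∀ a : F, p.2 a = a := fun a => by
    by_cases ha : a = 0
    · rw [ha, map_zero]
    · exact hτ (Units.mk0 a ha)
  obtain ⟨k, hk⟩ := hN2 ⟨g, hg⟩
  have hpow : ∀ j : ℕ, LA (g ^ j) 1 = (p.1 : F) ^ j := by
    intro j
    induction j with
    | zero => rw [pow_zero, pow_zero, LA_one]
    | succ j ih => rw [pow_succ', LA_mul, ih, hp, hτ', pow_succ']
  have h1 := hpow (2 ^ k)
  rw [show g ^ 2 ^ k = 1 from congrArg Subtype.val hk, LA_one] at h1
  have hc1 : (p.1 : F) = 1 := iterateFrobenius_inj F 2 k (show (p.1 : F) ^ 2 ^ k = (1 : F) ^ 2 ^ k by rw [one_pow, ← h1])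
  intro a
  rw [hp, hτ', hc1, one_mul]

/-- the automorphism group, set-theoretically -/
noncomputable def autEquiv : MulAut (UT F q) ≃ kerLA F q × (Fˣ × (F ≃+* F)) where
  toFun α := (⟨(stdAut (exists_data α).choose)⁻¹ * α, fun a => by
    rw [LA_mul, (exists_data α).choose_spec a, ← LA_stdAut (q := q), ← LA_mul, inv_mul_cancel, LA_one]⟩,
    (exists_data α).choose)
  invFun x := stdAut x.2 * x.1.1
  left_inv α := mul_inv_cancel_left _ _
  right_inv x := by
    have h : (exists_data (stdAut x.2 * x.1.1)).choose = x.2 := data_unique fun a => by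
      rw [← (exists_data (stdAut x.2 * x.1.1)).choose_spec a, LA_mul, show LA x.1.1 a = a from x.1.2 a, LA_stdAut]
    refine Prod.ext (Subtype.ext ?_) h
    show (stdAut (exists_data (stdAut x.2 * x.1.1)).choose)⁻¹ * (stdAut x.2 * x.1.1) = x.1.1
    rw [h, inv_mul_cancel_left]

theorem card_ringAut {m : ℕ} (h : Fintype.card F = 2 ^ m) : Nat.card (F ≃+* F) = m := by
  haveI : Fact (Nat.Prime 2) := ⟨Nat.prime_two⟩
  letI := ZMod.algebra F 2
  let e : (F ≃+* F) ≃ (F ≃ₐ[ZMod 2] F) :=
    { toFun := fun τ => AlgEquiv.ofRingEquiv (f := τ) fun r => RingHom.congr_fun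
        (Subsingleton.elim (τ.toRingHom.comp (algebraMap (ZMod 2) F)) (algebraMap (ZMod 2) F)) r
      invFun := fun τ => τ.toRingEquiv
      left_inv := fun τ => RingEquiv.ext fun _ => rfl
      right_inv := fun τ => AlgEquiv.ext fun _ => rfl }
  rw [Nat.card_congr e, IsGalois.card_aut_eq_finrank]
  have := Module.card_eq_pow_finrank (K := ZMod 2) (V := F)
  rw [ZMod.card, h] at this
  exact (Nat.pow_right_injective le_rfl this).symm

theorem card_hom {m : ℕ} (h : Fintype.card F = 2 ^ m) : Nat.card (F →+ Fx F q) = q ^ m := by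
  haveI : Fact (Nat.Prime 2) := ⟨Nat.prime_two⟩
  letI := ZMod.algebra F 2
  letI : Module (ZMod 2) (Fx F q) := AddCommGroup.zmodModule fun x => Subtype.ext (by
    rw [AddSubgroup.coe_nsmul, two_nsmul]; exact add_self _)
  let b := Module.finBasis (ZMod 2) F
  have hr : Module.finrank (ZMod 2) F = m := by
    have := Module.card_eq_pow_finrank (K := ZMod 2) (V := F)
    rw [ZMod.card, h] at this
    exact (Nat.pow_right_injective le_rfl this).symm
  rw [Nat.card_congr (AddMonoidHom.toZModLinearMapEquiv 2 : (F →+ Fx F q) ≃+ (F →ₗ[ZMod 2] Fx F q)).toEquiv,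
    ← Nat.card_congr (b.constr (ZMod 2)).toEquiv, Nat.card_fun, Nat.card_fin, card_Fx, hr]

end Cfsg.Agent.Recog.SU3Two
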