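import Mathlib
import Cfsg.Prelude.Def_DegreeGraph
import Cfsg.Agent.Lib.Char.Complete
import Cfsg.Agent.Lib.Char.Constituent
import Cfsg.Agent.Lib.Char.Quotient
import Cfsg.Agent.Lib.Char.Integral

/-! A solvable group of order 6048 with an irreducible character of degree 42. -/

set_option autoImplicit false

namespace Cfsg.Agent.Deg42

open Cfsg Cfsg.Agent.Char
open scoped ComplexConjugate

theorem isIrr_prod {A B : Type} [Group A] [Group B] [Fintype A] [Fintype B]
    {φ : A → ℂ} {ψ : B → ℂ} (hφ : IsIrrCharacter A φ) (hψ : IsIrrCharacter B ψ) :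
    IsIrrCharacter (A × B) (fun p => φ p.1 * ψ p.2) := by
  classical
  refine IsChar.irr_of_norm_one
    (IsChar.mul (IsChar.comp (MonoidHom.fst A B) (IsIrr.isCharacter hφ))
      (IsChar.comp (MonoidHom.snd A B) (IsIrr.isCharacter hψ))) ?_
  have h1 := classInner_self_irr hφ
  have h2 := classInner_self_irr hψ
  rw [classInner] at h1 h2 ⊢
  rw [Fintype.sum_prod_type, Nat.card_prod, Nat.cast_mul, _root_.mul_inv]
  calc _ = ((Nat.card A : ℂ)⁻¹ * ∑ a, φ a * conj (φ a)) * ((Nat.card B : ℂ)⁻¹ * ∑ b, ψ b * conj (ψ b)) := by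
        rw [mul_mul_mul_comm, Finset.sum_mul_sum]
        congr 1
        refine Finset.sum_congr rfl fun a _ => Finset.sum_congr rfl fun b _ => ?_
        rw [map_mul]; ring
    _ = 1 := by rw [h1, h2, one_mul]

/-- Degree bookkeeping: a group with a surjection on `ZMod n` has `n` linear characters. -/
theorem degree_counts {A : Type} [Group A] [Finite A] (n : ℕ) [NeZero n]
    (f : A → ZMod n) (hf : ∀ x y, f (x * y) = f x + f y) (hs : ∃ x, f x = 1) (k : ℕ) (hk : k ≤ n) :
    k ≤ (Finset.univ.filter fun χ : IrrCharacter A => charDegree (χ : A → ℂ) = 1).card := by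
  classical
  have hζ := Complex.isPrimitiveRoot_exp n (NeZero.ne n)
  set ζ := Complex.exp (2 * Real.pi * Complex.I / n)
  let u : Fin k → (A →* ℂˣ) := fun j =>
    MonoidHom.mk' (fun x => Units.mk0 ((AddChar.zmodChar n hζ.pow_eq_one) (f x) ^ (j : ℕ))
      (pow_ne_zero _ (by rw [AddChar.zmodChar_apply]; exact pow_ne_zero _ (hζ.ne_zero (NeZero.ne n)))))
      (fun x y => Units.ext (by simp [hf, AddChar.map_add_eq_mul, mul_pow]))
  let χ : Fin k → IrrCharacter A := fun j => ⟨_, isIrr_linear (u j)⟩
  have hinj : Function.Injective χ := by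
    intro i j e
    obtain ⟨x, hx⟩ := hs
    have := congrFun (congrArg Subtype.val e) x
    simp only [χ, u, MonoidHom.mk'_apply, Units.val_mk0, hx, AddChar.zmodChar_apply, ← pow_mul] at this
    by_cases h1 : n = 1
    · exact Fin.ext (by omega)
    haveI hn1 : Fact (1 < n) := ⟨by have := NeZero.ne n; omega⟩
    rw [ZMod.val_one, one_mul, one_mul] at this
    exact Fin.ext (hζ.pow_inj (by omega) (by omega) this)
  calc k = (Finset.univ.image χ).card := by rw [Finset.card_image_of_injective _ hinj]; simp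
    _ ≤ _ := Finset.card_le_card fun a ha => by
        obtain ⟨j, -, rfl⟩ := Finset.mem_image.1 ha
        refine Finset.mem_filter.2 ⟨Finset.mem_univ _, ?_⟩
        simp [χ, charDegree]

theorem card_classes {A : Type} [Group A] [Fintype A] [DecidableEq A] {k : ℕ}
    (h : (Finset.univ.filter fun p : A × A => p.1 * p.2 = p.2 * p.1).card = k * Fintype.card A) :
    Nat.card (ConjClasses A) = k := by
  have h1 := card_comm_eq_card_conjClasses_mul_card A
  have h2 : Nat.card {p : A × A // Commute p.1 p.2} = k * Fintype.card A := by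
    rw [← h]
    exact Nat.subtype_card _ (by simp [Commute, SemiconjBy])
  rw [h2, Nat.card_eq_fintype_card (α := A)] at h1
  exact (Nat.eq_of_mul_eq_mul_right Fintype.card_pos h1).symm

theorem classify {A : Type} [Group A] [Fintype A] (S : Finset ℕ)
    (hS : ∀ d, d ∣ Fintype.card A → d * d ≤ Fintype.card A → d ∈ S) :
    (∑ d ∈ S, (Finset.univ.filter fun χ : IrrCharacter A => charDegree (χ : A → ℂ) = d).card =
        Nat.card (ConjClasses A)) ∧
      ∑ d ∈ S, d * d * (Finset.univ.filter fun χ : IrrCharacter A => charDegree (χ : A → ℂ) = d).card =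
        Fintype.card A := by
  classical
  have hd : ∀ χ : IrrCharacter A, (χ : A → ℂ) 1 = (charDegree (χ : A → ℂ) : ℂ) := fun χ => by
    obtain ⟨m, -, hm⟩ := IsIrr.one_eq_pos χ.2
    simp [charDegree, hm]
  have hsq : ∑ χ : IrrCharacter A, charDegree (χ : A → ℂ) * charDegree (χ : A → ℂ) = Fintype.card A := by
    have h := sum_degree_sq (G := A)
    simp only [hd, Nat.card_eq_fintype_card, sq] at h
    exact_mod_cast h
  have hmem : ∀ χ ∈ (Finset.univ : Finset (IrrCharacter A)), charDegree (χ : A → ℂ) ∈ S := fun χ _ => by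
    obtain ⟨m, -, hm⟩ := IsIrr.one_eq_pos χ.2
    refine hS _ ?_ (hsq ▸ Finset.single_le_sum (f := fun x : IrrCharacter A =>
      charDegree (x : A → ℂ) * charDegree (x : A → ℂ)) (fun x _ => Nat.zero_le _) (Finset.mem_univ χ))
    have := IsIrr.degree_dvd_card χ.2 hm
    rw [Nat.card_eq_fintype_card] at this
    simpa [charDegree, hm] using this
  refine ⟨?_, ?_⟩
  · rw [← Finset.card_eq_sum_card_fiberwise hmem, ← card_irrCharacter, Nat.card_eq_fintype_card]
    rfl
  · rw [← hsq, ← Finset.sum_fiberwise_of_maps_to hmem]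
    refine Finset.sum_congr rfl fun d _ => ?_
    rw [Finset.sum_congr rfl (fun χ hχ => by rw [(Finset.mem_filter.1 hχ).2]), Finset.sum_const,
      smul_eq_mul, mul_comm]

/-- `3^{1+2} : 2`, the involution inverting the centre. -/
@[ext] structure D54 where
  a : ZMod 3
  b : ZMod 3
  c : ZMod 3
  s : Bool
deriving DecidableEq

namespace D54

/-- the sign of a flag -/
def sgn (s : Bool) : ZMod 3 := bif s then -1 else 1

theorem sgn_xor : ∀ s t, sgn (xor s t) = sgn s * sgn t := by decide

instance : Mul D54 := ⟨fun x y => ⟨x.a + sgn x.s * y.a, x.b + y.b,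
  x.c + sgn x.s * y.c + x.a * y.b, xor x.s y.s⟩⟩
instance : One D54 := ⟨⟨0, 0, 0, false⟩⟩
instance : Inv D54 := ⟨fun x => ⟨sgn x.s * -x.a, -x.b, sgn x.s * (-x.c + x.a * x.b), x.s⟩⟩

/-- the coordinates -/
def equivProd : D54 ≃ ZMod 3 × ZMod 3 × ZMod 3 × Bool where
  toFun x := (x.a, x.b, x.c, x.s)
  invFun p := ⟨p.1, p.2.1, p.2.2.1, p.2.2.2⟩
  left_inv _ := rfl
  right_inv _ := rfl

instance : Fintype D54 := Fintype.ofEquiv _ equivProd.symm

theorem mul_def (x y : D54) : x * y = ⟨x.a + sgn x.s * y.a, x.b + y.b,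
    x.c + sgn x.s * y.c + x.a * y.b, xor x.s y.s⟩ := rfl

instance : Group D54 :=
  Group.ofLeftAxioms
    (fun x y z => by
      ext <;> simp only [mul_def, sgn_xor, Bool.xor_assoc] <;> ring)
    (by decide +kernel)
    (by decide +kernel)

theorem card_eq : Fintype.card D54 = 54 := by decide +kernel

/-- the abelian quotient -/
def toAb : D54 →* Multiplicative (ZMod 3) × Multiplicative (ZMod 2) where
  toFun x := (Multiplicative.ofAdd x.b, Multiplicative.ofAdd (bif x.s then 1 else 0))
  map_one' := rfl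
  map_mul' := by decide +kernel

theorem solvable : Group.IsSolvable D54 := by
  haveI : Group.IsSolvable toAb.ker := Group.isSolvable_of_comm (by decide +kernel)
  exact Group.isSolvable_of_ker_le_range toAb.ker.subtype toAb (by rw [Subgroup.range_subtype])

theorem exists_six : ∃ χ : IrrCharacter D54, charDegree (χ : D54 → ℂ) = 6 := by
  classical
  by_contra hc
  push Not at hc
  obtain ⟨h1, h2⟩ := classify (A := D54) {1, 2, 3, 6} (by
    rw [card_eq]
    intro d hd hd2
    have key : ∀ d ∈ Nat.divisors 54, d * d ≤ 54 → d ∈ ({1, 2, 3, 6} : Finset ℕ) := by decide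
    exact key d (Nat.mem_divisors.2 ⟨hd, by norm_num⟩) hd2)
  have h3 := degree_counts (A := D54) 3 (fun x => x.b) (fun x y => rfl) ⟨⟨0, 1, 0, false⟩, rfl⟩ 3 le_rfl
  rw [card_classes (k := 10) (by decide +kernel)] at h1
  rw [card_eq] at h2
  have h6 : (Finset.univ.filter fun χ : IrrCharacter D54 => charDegree (χ : D54 → ℂ) = 6).card = 0 :=
    Finset.card_eq_zero.2 (Finset.filter_eq_empty_iff.2 fun χ _ => hc χ)
  rw [Finset.sum_insert (by decide), Finset.sum_insert (by decide), Finset.sum_insert (by decide),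
    Finset.sum_singleton, h6] at h1 h2
  omega

end D54

/-- the space of the Frobenius group of order 56 -/
abbrev V8 := ZMod 2 × ZMod 2 × ZMod 2

/-- multiplication by a primitive element of the field with eight elements -/
def rot (v : V8) : V8 := (v.2.2, v.1 + v.2.2, v.2.1)

/-- powers of `rot` -/
def rotN : ℕ → V8 → V8
  | 0, v => v
  | k + 1, v => rot (rotN k v)

theorem rotN_add : ∀ (k l : ZMod 7) (v : V8), rotN (k + l).val v = rotN k.val (rotN l.val v) := by
  decide +kernel

theorem rotN_map_add : ∀ (k : ZMod 7) (u v : V8), rotN k.val (u + v) = rotN k.val u + rotN k.val v := by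
  decide +kernel

/-- The Frobenius group of order 56. -/
@[ext] structure F56 where
  v : V8
  k : ZMod 7
deriving DecidableEq

namespace F56

instance : Mul F56 := ⟨fun x y => ⟨x.v + rotN x.k.val y.v, x.k + y.k⟩⟩
instance : One F56 := ⟨⟨0, 0⟩⟩
instance : Inv F56 := ⟨fun x => ⟨rotN (-x.k).val x.v, -x.k⟩⟩

/-- the coordinates -/
def equivProd : F56 ≃ V8 × ZMod 7 where
  toFun x := (x.v, x.k)
  invFun p := ⟨p.1, p.2⟩
  left_inv _ := rfl
  right_inv _ := rfl

instance : Fintype F56 := Fintype.ofEquiv _ equivProd.symm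

theorem mul_def (x y : F56) : x * y = ⟨x.v + rotN x.k.val y.v, x.k + y.k⟩ := rfl

instance : Group F56 :=
  Group.ofLeftAxioms
    (fun x y z => by ext1 <;> simp only [mul_def, rotN_add, rotN_map_add, add_assoc])
    (by decide +kernel)
    (by decide +kernel)

theorem card_eq : Fintype.card F56 = 56 := by decide +kernel

/-- the abelian quotient -/
def toAb : F56 →* Multiplicative (ZMod 7) where
  toFun x := Multiplicative.ofAdd x.k
  map_one' := rfl
  map_mul' _ _ := rfl

theorem solvable : Group.IsSolvable F56 := by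
  haveI : Group.IsSolvable toAb.ker := Group.isSolvable_of_comm (by decide +kernel)
  exact Group.isSolvable_of_ker_le_range toAb.ker.subtype toAb (by rw [Subgroup.range_subtype])

theorem exists_seven : ∃ χ : IrrCharacter F56, charDegree (χ : F56 → ℂ) = 7 := by
  classical
  by_contra hc
  push Not at hc
  obtain ⟨h1, h2⟩ := classify (A := F56) {1, 2, 4, 7} (by
    rw [card_eq]
    intro d hd hd2
    have key : ∀ d ∈ Nat.divisors 56, d * d ≤ 56 → d ∈ ({1, 2, 4, 7} : Finset ℕ) := by decide
    exact key d (Nat.mem_divisors.2 ⟨hd, by norm_num⟩) hd2)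
  have h3 := degree_counts (A := F56) 7 (fun x => x.k) (fun x y => rfl) ⟨⟨0, 1⟩, rfl⟩ 5 (by norm_num)
  rw [card_classes (k := 8) (by decide +kernel)] at h1
  rw [card_eq] at h2
  have h6 : (Finset.univ.filter fun χ : IrrCharacter F56 => charDegree (χ : F56 → ℂ) = 7).card = 0 :=
    Finset.card_eq_zero.2 (Finset.filter_eq_empty_iff.2 fun χ _ => hc χ)
  rw [Finset.sum_insert (by decide), Finset.sum_insert (by decide), Finset.sum_insert (by decide),
    Finset.sum_singleton, h6] at h1 h2
  omega

end F56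

/-- the group of order 6048 -/
abbrev H6048 := (D54 × F56) × Multiplicative (ZMod 2)

theorem card_H : Nat.card H6048 = 6048 := by
  rw [Nat.card_prod, Nat.card_prod, Nat.card_eq_fintype_card, D54.card_eq, Nat.card_eq_fintype_card,
    F56.card_eq, Nat.card_eq_fintype_card, Fintype.card_multiplicative, ZMod.card]

theorem solvable_H : Group.IsSolvable H6048 := by
  haveI := D54.solvable
  haveI := F56.solvable
  infer_instance

theorem exists_forty_two : ∃ d ∈ charDegrees H6048, 42 ∣ d := by
  obtain ⟨φ, hφ⟩ := D54.exists_six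
  obtain ⟨ψ, hψ⟩ := F56.exists_seven
  have h := IsIrr.comp_surjective (MonoidHom.fst (D54 × F56) (Multiplicative (ZMod 2)))
    Prod.fst_surjective (isIrr_prod φ.2 ψ.2)
  refine ⟨42, ⟨⟨_, h⟩, ?_⟩, dvd_rfl⟩
  obtain ⟨m, -, hm⟩ := IsIrr.one_eq_pos φ.2
  obtain ⟨n, -, hn⟩ := IsIrr.one_eq_pos ψ.2
  have e1 : m = 6 := by simpa [charDegree, hm] using hφ
  have e2 : n = 7 := by simpa [charDegree, hn] using hψ
  simp [charDegree, hm, hn, e1, e2]
  norm_num

end Cfsg.Agent.Deg42
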