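import Mathlib
import Cfsg.Agent.Lib.Recog.SpFourOrders
import Cfsg.Agent.Lib.Recog.PSLTwoSpectrum
import Cfsg.Agent.Lib.Recog.ModuleCover

/-!
`SL(2, q²)` on the four-dimensional module `X ↦ g X σ(g)ᵀ`, `σ` the involution of the field.
-/

set_option autoImplicit false

namespace Cfsg.Agent.Recog.SpFourCover

open Matrix SpFourOrd

variable {K : Type*} [Field K] [Fintype K]

local notation "SL" => Matrix.SpecialLinearGroup (Fin 2) K
local notation "M2" => Matrix (Fin 2) (Fin 2) K
local notation "Ω" => AlgebraicClosure K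

theorem coe_mul_sl (g h : SL) : ((g * h : SL) : M2) = (g : M2) * (h : M2) := rfl

theorem coe_pow_sl (g : SL) (m : ℕ) : ((g ^ m : SL) : M2) = (g : M2) ^ m :=
  Matrix.SpecialLinearGroup.coe_pow g m

theorem trace_inv_sl (g : SL) : ((g⁻¹ : SL) : M2).trace = (g : M2).trace := by
  rw [Matrix.SpecialLinearGroup.coe_inv, Matrix.adjugate_fin_two, Matrix.trace_fin_two, Matrix.trace_fin_two]
  simp [add_comm]

theorem sl_scalar (g : SL) {m : ℕ} {lam : Ω} (hl : lam ≠ 0) (hne : lam ≠ lam⁻¹)
    (hs : algebraMap K Ω (g : M2).trace = lam + lam⁻¹) {c : K} (hc : c ^ 2 = 1) (hm : lam ^ m = algebraMap K Ω c) :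
    ((g ^ m : SL) : M2) = c • 1 := by
  obtain ⟨R, hR⟩ := quad_dvd hl hne hm (by rw [← map_pow, hc, map_one])
  have hM : Polynomial.aeval ((algebraMap K Ω).mapMatrix (g : M2)) (quad (lam + lam⁻¹)) = 0 := by
    have h := PSL2Spec.sl_sq g
    simp only [quad, map_add, map_sub, map_mul, map_pow, Polynomial.aeval_X, Polynomial.aeval_C, map_one, pow_two]
    rw [← map_add, ← hs, Algebra.algebraMap_eq_smul_one, smul_mul_assoc, one_mul]
    ext i j
    have hij := congrArg (fun M : M2 => algebraMap K Ω (M i j)) h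
    simp only [Matrix.sub_apply, Matrix.smul_apply, smul_eq_mul, map_sub, map_mul, Matrix.mul_apply, map_sum] at hij
    simp only [RingHom.mapMatrix_apply, Matrix.add_apply, Matrix.sub_apply, Matrix.smul_apply, smul_eq_mul,
      Matrix.map_apply, Matrix.mul_apply, Matrix.zero_apply, hij, Matrix.one_apply, apply_ite (algebraMap K Ω),
      map_one, map_zero]
    ring
  have h := congrArg (Polynomial.aeval ((algebraMap K Ω).mapMatrix (g : M2))) hR
  rw [map_mul, hM, zero_mul, map_sub, map_pow, Polynomial.aeval_X, Polynomial.aeval_C, sub_eq_zero, ← map_pow] at h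
  rw [coe_pow_sl]
  ext i j
  apply (algebraMap K Ω).injective
  have h' := congrFun (congrFun h i) j
  simp only [RingHom.mapMatrix_apply, Matrix.map_apply] at h'
  rw [h']
  simp [Matrix.algebraMap_matrix_apply, Matrix.one_apply, apply_ite (algebraMap K Ω)]

/-- the two kinds of elements of `SL₂` -/
theorem sl_kinds (g : SL) : (∃ ε : K, ε ^ 2 = 1 ∧ ((g : M2) - ε • 1) * ((g : M2) - ε • 1) = 0) ∨
    ∃ lam : Ω, lam ≠ 0 ∧ lam ≠ lam⁻¹ ∧ algebraMap K Ω (g : M2).trace = lam + lam⁻¹ := by
  obtain ⟨lam, hl, he⟩ := exists_lam (algebraMap K Ω (g : M2).trace)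
  by_cases hne : lam = lam⁻¹
  · left
    obtain ⟨ε, hε, h2⟩ := pm_of_self_inv hl hne
    rw [h2] at he
    obtain ⟨c, hc, rfl⟩ : ∃ c : K, c ^ 2 = 1 ∧ algebraMap K Ω c = ε := by
      rcases sq_eq_one_iff.1 hε with rfl | rfl
      · exact ⟨1, one_pow 2, map_one _⟩
      · exact ⟨-1, neg_one_sq, by simp⟩
    refine ⟨c, hc, ?_⟩
    have ht : (g : M2).trace = 2 * c := (algebraMap K Ω).injective (by rw [map_mul, map_ofNat, he])
    rw [sub_mul, mul_sub, mul_sub, PSL2Spec.sl_sq g, ht, smul_mul_assoc, mul_smul_comm, smul_mul_assoc, one_mul,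
      mul_one, mul_smul_comm, mul_one, smul_smul, ← pow_two c, hc, one_smul, two_mul, add_smul]
    abel
  · exact Or.inr ⟨lam, hl, hne, he⟩

variable {q p k : ℕ} [Fact p.Prime] [CharP K p]


/-- the involution of the field -/
def sig (hq : q = p ^ k) : K →+* K := iterateFrobenius K p k

theorem sig_apply (hq : q = p ^ k) (x : K) : sig hq x = x ^ q := by rw [sig, iterateFrobenius_def, hq]

theorem sig_sig (hq : q = p ^ k) (hK : Fintype.card K = q ^ 2) (x : K) : sig hq (sig hq x) = x := by
  rw [sig_apply, sig_apply, ← pow_mul, ← pow_two, ← hK, FiniteField.pow_card]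

/-- entrywise conjugation -/
def cj (hq : q = p ^ k) : M2 →+* M2 := (sig hq).mapMatrix

theorem cj_smul (hq : q = p ^ k) (c : K) (A : M2) : cj hq (c • A) = sig hq c • cj hq A := by
  ext i j; simp [cj]

theorem cj_cj (hq : q = p ^ k) (hK : Fintype.card K = q ^ 2) (A : M2) : cj hq (cj hq A) = A := by
  ext i j; simp [cj, sig_sig hq hK]

/-- the twisted adjoint -/
def star' (hq : q = p ^ k) (A : M2) : M2 := (cj hq A)ᵀ

theorem star'_mul (hq : q = p ^ k) (A B : M2) : star' hq (A * B) = star' hq B * star' hq A := by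
  rw [star', map_mul, Matrix.transpose_mul]; rfl

theorem star'_one (hq : q = p ^ k) : star' hq (1 : M2) = 1 := by rw [star', map_one, Matrix.transpose_one]

theorem star'_fin (hq : q = p ^ k) (a b c d : K) :
    star' hq (!![a, b; c, d] : M2) = !![sig hq a, sig hq c; sig hq b, sig hq d] := by
  ext i j
  fin_cases i <;> fin_cases j <;> simp [star', cj]

theorem rep_fin (hq : q = p ^ k) {g : SL} {a b c d x y z w : K} (hg : (g : M2) = !![a, b; c, d]) :
    (g : M2) * (!![x, y; z, w] * star' hq (g : M2)) =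
      !![a * (x * sig hq a + y * sig hq b) + b * (z * sig hq a + w * sig hq b),
        a * (x * sig hq c + y * sig hq d) + b * (z * sig hq c + w * sig hq d);
        c * (x * sig hq a + y * sig hq b) + d * (z * sig hq a + w * sig hq b),
        c * (x * sig hq c + y * sig hq d) + d * (z * sig hq c + w * sig hq d)] := by
  rw [hg, star'_fin, Matrix.mul_fin_two, Matrix.mul_fin_two]

/-- the representation -/
def rep0 (hq : q = p ^ k) : SL →* Module.End K M2 where
  toFun g := (LinearMap.mulLeft K (g : M2)).comp (LinearMap.mulRight K (star' hq (g : M2)))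
  map_one' := LinearMap.ext fun X => by
    show (1 : M2) * (X * star' hq (1 : M2)) = X
    rw [star'_one, one_mul, mul_one]
  map_mul' g h := LinearMap.ext fun X => by
    show ((g * h : SL) : M2) * (X * star' hq ((g * h : SL) : M2)) =
      (g : M2) * ((h : M2) * (X * star' hq (h : M2)) * star' hq (g : M2))
    rw [coe_mul_sl, star'_mul]
    simp only [Matrix.mul_assoc]

/-- the representation -/
def rep (hq : q = p ^ k) : SL →* (Module.End K M2)ˣ := (rep0 hq).toHomUnits

theorem rep_apply (hq : q = p ^ k) (g : SL) (X : M2) :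
    (rep hq g : Module.End K M2) X = (g : M2) * (X * star' hq (g : M2)) := rfl

/-- a nonzero fixed vector forces the trace into the small field -/
theorem trace_fixed (hq : q = p ^ k) (g : SL) {X : M2} (hX : X ≠ 0)
    (h : (rep hq g : Module.End K M2) X = X) : sig hq (g : M2).trace = (g : M2).trace := by
  by_contra hne
  rw [rep_apply] at h
  set C := star' hq ((g⁻¹ : SL) : M2) with hC
  have hgC : star' hq (g : M2) * C = 1 := by
    rw [hC, ← star'_mul, ← coe_mul_sl, inv_mul_cancel]; exact star'_one hq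
  have e1 : (g : M2) * X = X * C := by
    conv_rhs => rw [← h]
    rw [Matrix.mul_assoc, Matrix.mul_assoc, hgC, mul_one]
  have e2 : C * C = sig hq (g : M2).trace • C - 1 := by
    have h1 := congrArg (star' hq) (PSL2Spec.sl_sq g⁻¹)
    rw [star'_mul, trace_inv_sl] at h1
    rw [hC, h1]
    simp only [star', map_sub, map_one, cj_smul, Matrix.transpose_sub, Matrix.transpose_smul, Matrix.transpose_one]
  have e3 : (g : M2) * (g : M2) * X = X * (C * C) := by
    rw [Matrix.mul_assoc, e1, ← Matrix.mul_assoc, e1, Matrix.mul_assoc]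
  rw [PSL2Spec.sl_sq, e2, sub_mul, one_mul, mul_sub, mul_one, smul_mul_assoc, mul_smul_comm, sub_left_inj, ← e1,
    ← sub_eq_zero, ← sub_smul, smul_eq_zero, sub_eq_zero] at e3
  rcases e3 with e3 | e3
  · exact hne e3.symm
  · exact hX (by
      have := congrArg (((g⁻¹ : SL) : M2) * ·) e3
      simp only [← Matrix.mul_assoc, ← coe_mul_sl, inv_mul_cancel, mul_zero] at this
      exact (one_mul X).symm.trans this)

theorem rep_eq_one (hq : q = p ^ k) {g : SL} (h : rep hq g = 1) :
    ∃ c : K, c ^ 2 = 1 ∧ (g : M2) = c • 1 := by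
  have hX : ∀ X : M2, (g : M2) * (X * star' hq (g : M2)) = X := fun X => by
    rw [← rep_apply, h]; rfl
  have h1 := hX 1
  rw [one_mul] at h1
  have h2 : star' hq (g : M2) * (g : M2) = 1 := mul_eq_one_comm.1 h1
  have hc : ∀ X : M2, (g : M2) * X = X * (g : M2) := fun X => by
    conv_rhs => rw [← hX X]
    simp only [Matrix.mul_assoc, h2, mul_one]
  refine ⟨(g : M2) 0 0, ?_, ?_⟩
  all_goals
    have e01 := congrFun (congrFun (hc !![0, 1; 0, 0]) 0) 1
    have e00 := congrFun (congrFun (hc !![0, 1; 0, 0]) 0) 0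
    have e11 := congrFun (congrFun (hc !![0, 0; 1, 0]) 1) 1
    simp [Matrix.mul_apply, Fin.sum_univ_two] at e01 e00 e11
  · have hd := g.2
    rw [Matrix.det_fin_two, ← e01, e00.symm, mul_zero, sub_zero] at hd
    rw [pow_two]; exact hd
  · ext i j
    fin_cases i <;> fin_cases j <;> simp
    · exact e11.symm
    · exact e00.symm
    · exact e01.symm

end Cfsg.Agent.Recog.SpFourCover
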