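import Mathlib
import Cfsg.Agent.Lib.Recog.SpFourCoverBase

/-!
`Vⁿ⁺¹ ⋊ SL(2, q²)`, `q` even, has the element orders of `PSp(4, q)`.
-/

set_option autoImplicit false

namespace Cfsg.Agent.Recog.SpFourCover

open Matrix SpFourOrd

variable {K : Type*} [Field K] [Fintype K] {q k : ℕ} [CharP K 2]

local notation "SL" => Matrix.SpecialLinearGroup (Fin 2) K
local notation "M2" => Matrix (Fin 2) (Fin 2) K
local notation "Ω" => AlgebraicClosure K

theorem proj_injective : Function.Injective (PSL2Spec.proj : SL →* _) := by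
  rw [injective_iff_map_eq_one]
  intro g hg
  obtain ⟨c, hc, hM⟩ := (PSL2Spec.proj_eq_one_iff g).mp hg
  have : c = 1 := by
    rcases sq_eq_one_iff.1 hc with rfl | rfl
    · rfl
    · exact CharTwo.neg_eq 1
  exact Subtype.ext (by rw [hM, this, one_smul]; rfl)

theorem upper_even [Fact (Nat.Prime 2)] (hq : q = 2 ^ k) (hK : Fintype.card K = q ^ 2) {n : ℕ}
    (h : ModCover.H (rep hq : SL →* _) n) : ∃ N, OrdList q 2 N ∧ h ^ N = 1 := by
  haveI : CharP Ω 2 := inferInstance
  set g : SL := h.right with hg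
  rcases sl_kinds g with ⟨ε, hε, hnil⟩ | ⟨lam, hl, hne, hs⟩
  · refine ⟨2 * 2, by rw [OrdList, if_pos rfl]; left; rfl, ModCover.pow_mul_eq_one (p := 2) _ ?_⟩
    have he : ε = 1 := by
      rcases sq_eq_one_iff.1 hε with rfl | rfl
      · rfl
      · exact CharTwo.neg_eq 1
    rw [he, one_smul, ← pow_two, sub_pow_char_of_commute 2 (Commute.one_right _), one_pow, sub_eq_zero, ← coe_pow_sl] at hnil
    exact Subtype.ext hnil
  · have key : ∀ m, lam ^ m = 1 → g ^ m = 1 := fun m hm =>
      Subtype.ext (by rw [sl_scalar g hl hne hs (one_pow 2) (by rw [hm, map_one]), one_smul]; rfl)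
    by_cases hfix : ∀ X : M2, (rep hq g : Module.End K M2) X = X → X = 0
    · rcases root_cases 2 (Q := q ^ 2) (k := k * 2) (by rw [hq, pow_mul]) hl
          (by rw [← hs, ← map_pow, ← hK, FiniteField.pow_card]) with h' | h'
      · exact ⟨q ^ 2 - 1, by rw [OrdList, if_pos rfl]; simp,
          ModCover.pow_eq_one_of_sum _ (key _ h') (ModCover.sum_eq_zero _ (key _ h') hfix)⟩
      · exact ⟨q ^ 2 + 1, by rw [OrdList, if_pos rfl]; simp,
          ModCover.pow_eq_one_of_sum _ (key _ h') (ModCover.sum_eq_zero _ (key _ h') hfix)⟩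
    · push Not at hfix
      obtain ⟨X, hX, hX0⟩ := hfix
      have ht := trace_fixed hq g hX0 hX
      rw [sig_apply] at ht
      rcases root_cases 2 hq hl (by rw [← hs, ← map_pow, ht]) with h' | h'
      · exact ⟨2 * (q - 1), by rw [OrdList, if_pos rfl]; simp, by
          rw [mul_comm]; exact ModCover.pow_mul_eq_one (p := 2) _ (key _ h')⟩
      · exact ⟨2 * (q + 1), by rw [OrdList, if_pos rfl]; simp, by
          rw [mul_comm]; exact ModCover.pow_mul_eq_one (p := 2) _ (key _ h')⟩

theorem lower_even [Fact (Nat.Prime 2)] (hq : q = 2 ^ k) (hK : Fintype.card K = q ^ 2) (hk : k ≠ 0) {n : ℕ}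
    (N : ℕ) (hN : OrdList q 2 N) : ∃ h : ModCover.H (rep hq : SL →* _) n, N ∣ orderOf h := by
  classical
  have hdd : PSL2Spec.dd K = 1 := by
    have he : Even (Fintype.card K) := by rw [hK, hq]; simp [Nat.even_pow, hk]
    have h1 : 1 ≤ Fintype.card K := Fintype.card_pos
    have ho : Odd (Fintype.card K - 1) := Nat.Even.sub_odd h1 he odd_one
    exact Nat.coprime_two_left.mpr ho
  have top : ∀ d : ℕ, (∃ g : PSL2Spec.proj (F := K) |>.range, orderOf g = d) →
      ∃ h : ModCover.H (rep hq : SL →* _) n, d ∣ orderOf h := by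
    rintro d ⟨⟨x, g, rfl⟩, hg⟩
    obtain ⟨h, hh⟩ := ModCover.exists_order_inr (n := n) (rep hq) g
    refine ⟨h, hh ▸ ?_⟩
    rw [← hg, ← Subgroup.orderOf_coe]
    exact orderOf_map_dvd _ g
  have torus : ∀ d, (d = q - 1 ∨ d = q + 1) → ∃ h : ModCover.H (rep hq : SL →* _) n, 2 * d ∣ orderOf h := by
    intro d hd
    have hq2 : q % 2 = 0 := Nat.mod_eq_zero_of_dvd (hq ▸ dvd_pow_self 2 hk) |> id
    have hq1 : 2 ≤ q := hq ▸ Nat.le_self_pow hk 2
    obtain ⟨γ, hγ⟩ := IsCyclic.exists_generator (α := Kˣ)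
    have hoγ : orderOf γ = q ^ 2 - 1 := by
      rw [orderOf_eq_card_of_forall_mem_zpowers hγ, Nat.card_units, Nat.card_eq_fintype_card, hK]
    have hdK : d ∣ q ^ 2 - 1 := by
      rw [← one_pow 2, Nat.sq_sub_sq]
      rcases hd with rfl | rfl <;> simp
    have hpos : 0 < q ^ 2 - 1 := by
      have := Nat.le_self_pow two_ne_zero q
      omega
    set a := γ ^ (orderOf γ / d) with ha
    have hoa : orderOf a = d := orderOf_pow_orderOf_div (by omega) (hoγ ▸ hdK)
    let g : SL := ⟨!![(a : K), 0; 0, (a⁻¹ : Kˣ)], by simp [Matrix.det_fin_two]⟩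
    have hn : ∀ m : ℕ, ((g ^ m : SL) : M2) = !![((a ^ m : Kˣ) : K), 0; 0, ((a⁻¹ ^ m : Kˣ) : K)] := by
      intro m
      induction m with
      | zero => simp [Matrix.one_fin_two]
      | succ m ih =>
        rw [pow_succ, Matrix.SpecialLinearGroup.coe_mul, ih]
        show _ * !![(a : K), 0; 0, (a⁻¹ : Kˣ)] = _
        rw [Matrix.mul_fin_two]; simp [pow_succ]
    have hog : orderOf g = d := by
      refine hoa ▸ orderOf_eq_orderOf_iff.mpr fun m => ⟨fun h => ?_, fun h => Subtype.ext ?_⟩
      · have := congrFun (congrFun (congrArg Subtype.val h) 0) 0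
        rw [hn] at this
        exact Units.ext (by simpa using this)
      · rw [hn, inv_pow, h, inv_one]
        exact Matrix.one_fin_two.symm
    have had : (a : K) ^ d = 1 := by rw [← Units.val_pow_eq_pow_val, ← hoa, pow_orderOf_eq_one, Units.val_one]
    obtain ⟨X, hX0, hX⟩ : ∃ X : M2, X ≠ 0 ∧ (rep hq g : Module.End K M2) X = X := by
      rcases hd with rfl | rfl
      · have h1 : (a : K) ^ q = a := by
          conv_lhs => rw [show q = q - 1 + 1 by omega, pow_succ, had, one_mul]
        refine ⟨!![0, 1; 0, 0], fun h => by simpa using congrFun (congrFun h 0) 1, ?_⟩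
        rw [rep_apply, rep_fin hq (g := g) rfl]
        ext i j
        fin_cases i <;> fin_cases j <;> simp [sig_apply, h1, zero_pow (show q ≠ 0 by omega)]
      · have h1 : (a : K) * (a : K) ^ q = 1 := by rw [← pow_succ', had]
        refine ⟨!![1, 0; 0, 0], fun h => by simpa using congrFun (congrFun h 0) 0, ?_⟩
        rw [rep_apply, rep_fin hq (g := g) rfl]
        ext i j
        fin_cases i <;> fin_cases j <;>
          simp [sig_apply, h1, zero_pow (show q ≠ 0 by omega)]
    obtain ⟨h, hh⟩ := ModCover.exists_order_mul (p := 2) (n := n) (rep hq) g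
      (by rw [hog, Nat.coprime_two_left, Nat.odd_iff]; omega) hX0 hX
    exact ⟨h, by rw [hh, hog]⟩
  rw [OrdList, if_pos rfl] at hN
  rcases hN with rfl | rfl | rfl | rfl | rfl
  · let u : SL := ⟨!![1, 1; 0, 1], by simp [Matrix.det_fin_two]⟩
    have hu : orderOf u = 2 ^ 1 := by
      rw [pow_one]
      refine orderOf_eq_prime (Subtype.ext ?_) fun h => ?_
      · rw [coe_pow_sl, pow_two]
        show !![(1 : K), 1; 0, 1] * !![(1 : K), 1; 0, 1] = _
        rw [Matrix.mul_fin_two, Matrix.SpecialLinearGroup.coe_one, Matrix.one_fin_two]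
        simp [CharTwo.add_self_eq_zero]
      · simpa [u] using congrFun (congrFun (congrArg Subtype.val h) 0) 1
    obtain ⟨h, hh⟩ := ModCover.exists_order_pow (p := 2) (n := n) (rep hq) u hu (v := !![0, 0; 0, 1]) fun h => by
      rw [pow_one, Finset.sum_range_succ, Finset.sum_range_one, pow_zero, pow_one, LinearMap.add_apply,
        Module.End.one_apply, rep_apply, rep_fin hq (g := u) rfl] at h
      have := congrFun (congrFun h 0) 0
      simp at this
    exact ⟨h, by rw [hh]; norm_num⟩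
  · exact torus _ (Or.inl rfl)
  · exact torus _ (Or.inr rfl)
  · obtain ⟨g, hg⟩ := PSL2Spec.exists_order_split (F := K)
    obtain ⟨s, rfl⟩ := QuotientGroup.mk'_surjective _ g
    refine top _ ⟨⟨_, s, rfl⟩, ?_⟩
    rw [← Subgroup.orderOf_coe]
    exact hg.trans (by rw [hdd, Nat.div_one, hK])
  · obtain ⟨g, hg⟩ := PSL2Spec.exists_order_nonsplit (F := K) 2
    obtain ⟨s, rfl⟩ := QuotientGroup.mk'_surjective _ g
    refine top _ ⟨⟨_, s, rfl⟩, ?_⟩
    rw [← Subgroup.orderOf_coe]
    exact hg.trans (by rw [hdd, Nat.div_one, hK])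

end Cfsg.Agent.Recog.SpFourCover
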