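import Mathlib
import Cfsg.Agent.Lib.Recog.SpFourCoverBase

/-!
`Vⁿ⁺¹ ⋊ (PSL(2, q²) . 2)`, `q` a power of a prime `p ≥ 5`, has the element orders of `PSp(4, q)`.
-/

set_option autoImplicit false

namespace Cfsg.Agent.Recog.SpFourCover

open Matrix SpFourOrd

variable {K : Type*} [Field K] [Fintype K] {q p k : ℕ} [Fact p.Prime] [CharP K p]

local notation "SL" => Matrix.SpecialLinearGroup (Fin 2) K
local notation "M2" => Matrix (Fin 2) (Fin 2) K
local notation "Ω" => AlgebraicClosure K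

/-- the transposition -/
def tau : (Module.End K M2)ˣ where
  val := (Matrix.transposeLinearEquiv (Fin 2) (Fin 2) K K).toLinearMap
  inv := (Matrix.transposeLinearEquiv (Fin 2) (Fin 2) K K).toLinearMap
  val_inv := LinearMap.ext fun X => Matrix.transpose_transpose X
  inv_val := LinearMap.ext fun X => Matrix.transpose_transpose X

theorem tau_apply (X : M2) : (tau : (Module.End K M2)ˣ).val X = Xᵀ := rfl

theorem tau_mul_self : (tau : (Module.End K M2)ˣ) * tau = 1 :=
  Units.ext (LinearMap.ext fun X => Matrix.transpose_transpose X)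

/-- conjugation on `SL₂` -/
def cjs (hq : q = p ^ k) : SL →* SL := Matrix.SpecialLinearGroup.map (sig hq)

theorem coe_cjs (hq : q = p ^ k) (g : SL) : ((cjs hq g : SL) : M2) = cj hq (g : M2) := rfl

theorem tau_rep (hq : q = p ^ k) (hK : Fintype.card K = q ^ 2) (g : SL) :
    tau * rep hq g = rep hq (cjs hq g) * tau := by
  refine Units.ext (LinearMap.ext fun X => ?_)
  show ((g : M2) * (X * star' hq (g : M2)))ᵀ = ((cjs hq g : SL) : M2) * (Xᵀ * star' hq ((cjs hq g : SL) : M2))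
  rw [Matrix.transpose_mul, Matrix.transpose_mul, coe_cjs, star', star', cj_cj hq hK, Matrix.transpose_transpose,
    Matrix.mul_assoc]

/-- the group `PSL(2, q²) . 2` -/
def ext2 (hq : q = p ^ k) (hK : Fintype.card K = q ^ 2) : Subgroup (Module.End K M2)ˣ where
  carrier := {u | ∃ g, u = rep hq g ∨ u = rep hq g * tau}
  one_mem' := ⟨1, Or.inl (map_one _).symm⟩
  mul_mem' := by
    rintro a b ⟨g, rfl | rfl⟩ ⟨h, rfl | rfl⟩
    · exact ⟨g * h, Or.inl (map_mul _ _ _).symm⟩
    · exact ⟨g * h, Or.inr (by rw [map_mul, mul_assoc])⟩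
    · exact ⟨g * cjs hq h, Or.inr (by rw [map_mul, mul_assoc, tau_rep hq hK, mul_assoc])⟩
    · exact ⟨g * cjs hq h, Or.inl (by
        rw [map_mul, mul_assoc, ← mul_assoc tau, tau_rep hq hK, mul_assoc (rep hq (cjs hq h)), tau_mul_self, mul_one])⟩
  inv_mem' := by
    rintro a ⟨g, rfl | rfl⟩
    · exact ⟨g⁻¹, Or.inl (map_inv _ _).symm⟩
    · refine ⟨cjs hq g⁻¹, Or.inr ?_⟩
      rw [_root_.mul_inv_rev, ← map_inv, inv_eq_of_mul_eq_one_right tau_mul_self, tau_rep hq hK]

/-- the action -/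
def repR (hq : q = p ^ k) (hK : Fintype.card K = q ^ 2) : ext2 hq hK →* (Module.End K M2)ˣ := (ext2 hq hK).subtype

/-- the covering group -/
abbrev Cover (hq : q = p ^ k) (hK : Fintype.card K = q ^ 2) (n : ℕ) : Type _ := ModCover.H (repR hq hK) n

theorem rep_scalar (hq : q = p ^ k) {g : SL} {c : K} (hc : c ^ 2 = 1) (hg : (g : M2) = c • 1) : rep hq g = 1 := by
  refine Units.ext (LinearMap.ext fun X => ?_)
  show (g : M2) * (X * star' hq (g : M2)) = X
  rw [hg, star', cj_smul, map_one, Matrix.transpose_smul, Matrix.transpose_one, mul_smul_comm, mul_one, smul_mul_assoc,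
    one_mul, smul_smul]
  rcases sq_eq_one_iff.1 hc with rfl | rfl <;> simp

theorem sq_coset (hq : q = p ^ k) (hK : Fintype.card K = q ^ 2) (g : SL) :
    (rep hq g * tau) ^ 2 = rep hq (g * cjs hq g) := by
  rw [pow_two, mul_assoc, ← mul_assoc tau, tau_rep hq hK, mul_assoc (rep hq (cjs hq g)), tau_mul_self, mul_one, map_mul]

theorem trace_coset (hq : q = p ^ k) (hK : Fintype.card K = q ^ 2) (g : SL) :
    sig hq ((g * cjs hq g : SL) : M2).trace = ((g * cjs hq g : SL) : M2).trace := by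
  have h : ∀ M : M2, sig hq M.trace = (cj hq M).trace := fun M => by simp [Matrix.trace, cj, map_sum]
  rw [coe_mul_sl, coe_cjs, h, map_mul, cj_cj hq hK, Matrix.trace_mul_comm]

theorem unip_cube (hq : q = p ^ k) (g : SL) {ε : K} (hε : ε ^ 2 = 1)
    (hnil : ((g : M2) - ε • 1) * ((g : M2) - ε • 1) = 0) : ((rep hq g : Module.End K M2) - 1) ^ 3 = 0 := by
  set N := ε • ((g : M2) - ε • 1) with hN
  set M := star' hq N with hM
  have hgN : (g : M2) = ε • (1 + N) := by
    rw [hN, smul_add, smul_smul, ← pow_two, hε, one_smul]; abel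
  have hNN : N * N = 0 := by rw [hN, smul_mul_assoc, mul_smul_comm, hnil, smul_zero, smul_zero]
  have hMM : M * M = 0 := by rw [hM, ← star'_mul, hNN, star', map_zero, Matrix.transpose_zero]
  have hf : ∀ X, ((rep hq g : Module.End K M2) - 1) X = N * X + X * M + N * (X * M) := by
    intro X
    rw [LinearMap.sub_apply, Module.End.one_apply, rep_apply, hgN, hM, star', star', cj_smul, map_add, map_one,
      Matrix.transpose_smul, Matrix.transpose_add, Matrix.transpose_one, mul_smul_comm, smul_mul_assoc, mul_smul_comm,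
      smul_smul]
    have : ε * sig hq ε = 1 := by rcases sq_eq_one_iff.1 hε with rfl | rfl <;> simp
    rw [this, one_smul, Matrix.add_mul, one_mul, Matrix.mul_add, mul_one, Matrix.mul_add]
    abel
  refine LinearMap.ext fun X => ?_
  rw [pow_succ, pow_two, Module.End.mul_apply, Module.End.mul_apply, hf, hf, hf]
  simp only [Matrix.mul_add, Matrix.add_mul, ← Matrix.mul_assoc, hNN, Matrix.zero_mul, Matrix.mul_zero]
  simp only [Matrix.mul_assoc, hMM, Matrix.zero_mul, Matrix.mul_zero, LinearMap.zero_apply, add_zero, zero_add]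

theorem nil_pow (g : SL) {ε : K} (hε : ε ^ 2 = 1) (hnil : ((g : M2) - ε • 1) * ((g : M2) - ε • 1) = 0) :
    ((g ^ p : SL) : M2) = ε ^ p • 1 := by
  rw [coe_pow_sl]
  have hc : Commute (g : M2) (ε • 1) := (Commute.one_right _).smul_right ε
  have h := sub_pow_char_of_commute p hc
  rw [_root_.smul_pow, one_pow] at h
  rw [← sub_eq_zero, ← h]
  obtain ⟨r, hr⟩ := Nat.exists_eq_add_of_le (Fact.out : p.Prime).two_le
  rw [hr, pow_add, pow_two, hnil, zero_mul]

theorem odd_facts (hq : q = p ^ k) (h5 : 5 ≤ p) : p ≠ 2 ∧ Odd q ∧ Odd (q ^ 2) := by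
  have hp2 : p ≠ 2 := by omega
  have : Odd q := hq ▸ ((Fact.out : p.Prime).odd_of_ne_two hp2).pow
  exact ⟨hp2, this, this.pow⟩

theorem upper_odd (h5 : 5 ≤ p) (hq : q = p ^ k) (hK : Fintype.card K = q ^ 2) {n : ℕ} (h : Cover hq hK n) :
    ∃ N, OrdList q p N ∧ h ^ N = 1 := by
  haveI : CharP Ω p := inferInstance
  obtain ⟨hp2, hqo, hq2o⟩ := odd_facts (p := p) hq h5
  have hL : ∀ N, N = p * (q - 1) ∨ N = p * (q + 1) ∨ N = (q ^ 2 - 1) / 2 ∨ N = (q ^ 2 + 1) / 2 → OrdList q p N := by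
    intro N hN
    rw [OrdList, if_neg hp2]
    tauto
  have half : ∀ m, Odd m → 2 * ((m - 1) / 2) = m - 1 ∧ 2 * ((m + 1) / 2) = m + 1 := fun m hm =>
    ⟨Nat.mul_div_cancel' (Nat.Odd.sub_odd hm odd_one).two_dvd, Nat.mul_div_cancel' (hm.add_odd odd_one).two_dvd⟩
  have hval : repR hq hK h.right = (h.right : (Module.End K M2)ˣ) := rfl
  -- semisimple powers
  have ss : ∀ (g : SL) (lam : Ω), lam ≠ 0 → lam ≠ lam⁻¹ → algebraMap K Ω (g : M2).trace = lam + lam⁻¹ →
      ∀ m, lam ^ (2 * m) = 1 → rep hq g ^ m = 1 := by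
    intro g lam hl hne hs m hm
    obtain ⟨c, hc, hm'⟩ : ∃ c : K, c ^ 2 = 1 ∧ lam ^ m = algebraMap K Ω c := by
      rcases sq_eq_one_iff.1 (show (lam ^ m) ^ 2 = 1 by rw [← pow_mul, mul_comm, hm]) with h1 | h1
      · exact ⟨1, one_pow 2, h1.trans (map_one _).symm⟩
      · exact ⟨-1, neg_one_sq, by rw [h1]; simp⟩
    rw [← map_pow]
    exact rep_scalar hq hc (sl_scalar g hl hne hs hc hm')
  have small : ∀ (g : SL) (lam : Ω), lam ≠ 0 → lam ≠ lam⁻¹ → algebraMap K Ω (g : M2).trace = lam + lam⁻¹ →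
      sig hq (g : M2).trace = (g : M2).trace → rep hq g ^ ((q - 1) / 2) = 1 ∨ rep hq g ^ ((q + 1) / 2) = 1 := by
    intro g lam hl hne hs ht
    rw [sig_apply] at ht
    rcases root_cases p hq hl (by rw [← hs, ← map_pow, ht]) with h' | h'
    · exact Or.inl (ss g lam hl hne hs _ (by rw [(half q hqo).1, h']))
    · exact Or.inr (ss g lam hl hne hs _ (by rw [(half q hqo).2, h']))
  have fin : ∀ (m N : ℕ), (h.right : (Module.End K M2)ˣ) ^ m = 1 → m * p ∣ N → h ^ N = 1 := by
    intro m N hm hN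
    obtain ⟨e, rfl⟩ := hN
    rw [pow_mul, ModCover.pow_mul_eq_one (p := p) _ (m := m) (Subtype.ext (by rw [SubgroupClass.coe_pow, hm]; rfl)), one_pow]
  obtain ⟨g, hg | hg⟩ := h.right.2
  · rcases sl_kinds g with ⟨ε, hε, hnil⟩ | ⟨lam, hl, hne, hs⟩
    · refine ⟨p * (q - 1), hL _ (Or.inl rfl), ?_⟩
      rw [pow_mul, ModCover.pow_eq_one_of_sum _ (m := p) ?_ ?_, one_pow]
      · refine Subtype.ext ?_
        rw [SubgroupClass.coe_pow, hg, ← map_pow]
        exact rep_scalar hq (by rw [← pow_mul, mul_comm, pow_mul, hε, one_pow]) (nil_pow g hε hnil)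
      · rw [hval, hg]
        exact ModCover.sum_unipotent (by omega : 3 < p) (unip_cube hq g hε hnil)
    · by_cases hfix : ∀ X : M2, (rep hq g : Module.End K M2) X = X → X = 0
      · have mk : ∀ m, rep hq g ^ m = 1 → h ^ m = 1 := fun m hm => by
          have hr : h.right ^ m = 1 := Subtype.ext (by rw [SubgroupClass.coe_pow, hg, hm]; rfl)
          exact ModCover.pow_eq_one_of_sum _ hr (ModCover.sum_eq_zero _ hr (by rw [hval, hg]; exact hfix))
        rcases root_cases p (Q := q ^ 2) (k := k * 2) (by rw [hq, pow_mul]) hl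
            (by rw [← hs, ← map_pow, ← hK, FiniteField.pow_card]) with h' | h'
        · exact ⟨_, hL _ (Or.inr (Or.inr (Or.inl rfl))), mk _ (ss g lam hl hne hs _ (by rw [(half _ hq2o).1, h']))⟩
        · exact ⟨_, hL _ (Or.inr (Or.inr (Or.inr rfl))), mk _ (ss g lam hl hne hs _ (by rw [(half _ hq2o).2, h']))⟩
      · push Not at hfix
        obtain ⟨X, hX, hX0⟩ := hfix
        rcases small g lam hl hne hs (trace_fixed hq g hX0 hX) with h' | h'
        · exact ⟨_, hL _ (Or.inl rfl), fin _ _ (by rw [hg, h']) ⟨2, by rw [mul_comm _ p, mul_assoc, mul_comm _ 2, (half q hqo).1]⟩⟩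
        · exact ⟨_, hL _ (Or.inr (Or.inl rfl)), fin _ _ (by rw [hg, h']) ⟨2, by rw [mul_comm _ p, mul_assoc, mul_comm _ 2, (half q hqo).2]⟩⟩
  · have hsq := sq_coset hq hK g
    set t : SL := g * cjs hq g with ht
    rcases sl_kinds t with ⟨ε, hε, hnil⟩ | ⟨lam, hl, hne, hs⟩
    · refine ⟨p * (q - 1), hL _ (Or.inl rfl), ?_⟩
      rw [← (half q hqo).1, ← mul_assoc, pow_mul, mul_comm p 2, ModCover.pow_eq_one_of_sum _ (m := 2 * p) ?_ ?_, one_pow]
      · refine Subtype.ext ?_
        rw [SubgroupClass.coe_pow, hg, pow_mul, hsq, ← map_pow]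
        exact rep_scalar hq (by rw [← pow_mul, mul_comm, pow_mul, hε, one_pow]) (nil_pow t hε hnil)
      · rw [hval, hg]
        set E : Module.End K M2 := ((rep hq g * tau : (Module.End K M2)ˣ) : Module.End K M2)
        have hE : E ^ 2 = (rep hq t : Module.End K M2) := by rw [← Units.val_pow_eq_pow_val, hsq]
        have h0 := ModCover.sum_unipotent (by omega : 3 < p) (unip_cube hq t hε hnil) (E := (rep hq t : Module.End K M2))
        rw [← hE] at h0
        have hsplit : ∀ m, ∑ j ∈ Finset.range (2 * m), E ^ j = (1 + E) * ∑ j ∈ Finset.range m, (E ^ 2) ^ j := by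
          intro m
          induction m with
          | zero => simp
          | succ m ih =>
            rw [Nat.mul_succ, Finset.sum_range_succ, Finset.sum_range_succ, ih, Finset.sum_range_succ _ m, mul_add,
              ← pow_mul, add_mul 1 E (E ^ (2 * m)), one_mul, ← pow_succ']
            abel
        rw [hsplit, h0, mul_zero]
    · rcases small t lam hl hne hs (trace_coset hq hK g) with h' | h'
      · refine ⟨_, hL _ (Or.inl rfl), fin (q - 1) _ ?_ ⟨1, by ring⟩⟩
        rw [← (half q hqo).1, pow_mul, hg, hsq, h']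
      · refine ⟨_, hL _ (Or.inr (Or.inl rfl)), fin (q + 1) _ ?_ ⟨1, by ring⟩⟩
        rw [← (half q hqo).2, pow_mul, hg, hsq, h']

theorem rep_tau_ne_one (hq : q = p ^ k) (g : SL) : rep hq g * tau ≠ 1 := by
  intro h
  have hX : ∀ X : M2, (g : M2) * (Xᵀ * star' hq (g : M2)) = X := fun X =>
    congrArg (fun u : (Module.End K M2)ˣ => (u : Module.End K M2) X) h
  have h1 := hX 1
  rw [Matrix.transpose_one, one_mul] at h1
  have h2 : star' hq (g : M2) * (g : M2) = 1 := mul_eq_one_comm.1 h1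
  have hc : ∀ X : M2, (g : M2) * Xᵀ = X * (g : M2) := fun X => by
    conv_rhs => rw [← hX X]
    simp only [Matrix.mul_assoc, h2, mul_one]
  have a := congrFun (congrFun (hc !![1, 0; 0, 0]) 0) 1
  have b := congrFun (congrFun (hc !![0, 1; 0, 0]) 0) 1
  simp [Matrix.mul_apply, Fin.sum_univ_two] at a b
  have hd := g.2
  rw [Matrix.det_fin_two] at hd
  simp [← a, ← b] at hd

theorem lower_odd (h5 : 5 ≤ p) (hq : q = p ^ k) (hK : Fintype.card K = q ^ 2) (hk : k ≠ 0) {n : ℕ} (N : ℕ)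
    (hN : OrdList q p N) : ∃ h : Cover hq hK n, N ∣ orderOf h := by
  classical
  obtain ⟨hp2, hqo, hq2o⟩ := odd_facts (p := p) hq h5
  have hpp := (Fact.out : p.Prime)
  have hdd : PSL2Spec.dd K = 2 := by
    show Nat.gcd 2 (Fintype.card K - 1) = 2
    rw [hK]
    exact Nat.gcd_eq_left (Nat.Odd.sub_odd hq2o odd_one).two_dvd
  have top : ∀ (s : SL), ∃ h : Cover hq hK n, orderOf (PSL2Spec.proj s) ∣ orderOf h := by
    intro s
    obtain ⟨h, hh⟩ := ModCover.exists_order_inr (n := n) (repR hq hK) (⟨rep hq s, s, Or.inl rfl⟩ : ext2 hq hK)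
    refine ⟨h, hh ▸ orderOf_dvd_of_pow_eq_one ?_⟩
    have h1 : rep hq s ^ orderOf (⟨rep hq s, s, Or.inl rfl⟩ : ext2 hq hK) = 1 :=
      congrArg Subtype.val (pow_orderOf_eq_one (⟨rep hq s, s, Or.inl rfl⟩ : ext2 hq hK))
    rw [← map_pow] at h1
    obtain ⟨c, hc, hM⟩ := rep_eq_one hq h1
    rw [← map_pow, PSL2Spec.proj_eq_one_iff]
    exact ⟨c, hc, hM⟩
  have hq2 : 2 ≤ q := hq ▸ le_trans hpp.two_le (Nat.le_self_pow hk p)
  have coset : ∀ (d : ℕ) (g : SL) (a : Kˣ) (X : M2), (d = q - 1 ∨ d = q + 1) →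
      ((g * cjs hq g : SL) : M2) = !![(a : K), 0; 0, (a⁻¹ : Kˣ)] → orderOf a = d → X ≠ 0 →
      (g : M2) * (Xᵀ * star' hq (g : M2)) = X → ∃ h : Cover hq hK n, p * d ∣ orderOf h := by
    intro d g a X hd hga hoa hX0 hX
    set t : SL := g * cjs hq g
    have hn : ∀ m : ℕ, ((t ^ m : SL) : M2) = !![((a ^ m : Kˣ) : K), 0; 0, ((a⁻¹ ^ m : Kˣ) : K)] := by
      intro m
      induction m with
      | zero => simp [Matrix.one_fin_two]
      | succ m ih => rw [pow_succ, coe_mul_sl, ih, hga, Matrix.mul_fin_two]; simp [pow_succ]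
    let u : ext2 hq hK := ⟨rep hq g * tau, g, Or.inr rfl⟩
    have hdE : Even d := by
      rcases hd with rfl | rfl
      exacts [Nat.Odd.sub_odd hqo odd_one, hqo.add_odd odd_one]
    have hou : orderOf u = d := by
      refine Nat.dvd_antisymm (orderOf_dvd_of_pow_eq_one (Subtype.ext ?_)) ?_
      · obtain ⟨e, he⟩ := hdE
        rw [SubgroupClass.coe_pow, he, ← two_mul, pow_mul, sq_coset hq hK, ← map_pow]
        have hae : ((a ^ e : Kˣ) : K) ^ 2 = 1 := by
          rw [← Units.val_pow_eq_pow_val, ← pow_mul, show e * 2 = orderOf a by omega, pow_orderOf_eq_one, Units.val_one]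
        refine rep_scalar hq hae ?_
        rw [hn, inv_pow, Units.val_inv_eq_inv_val, inv_eq_of_mul_eq_one_right (by rw [← pow_two, hae])]
        ext i j; fin_cases i <;> fin_cases j <;> simp
      · have h1 : (rep hq g * tau) ^ orderOf u = 1 := congrArg Subtype.val (pow_orderOf_eq_one u)
        rcases Nat.even_or_odd (orderOf u) with ⟨i, hi⟩ | ⟨i, hi⟩
        · rw [hi, ← two_mul, pow_mul, sq_coset hq hK, ← map_pow] at h1
          obtain ⟨c, hc, hM⟩ := rep_eq_one hq h1
          rw [hn] at hM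
          have h00 := congrFun (congrFun hM 0) 0
          simp at h00
          rw [← hoa, hi, ← two_mul]
          refine orderOf_dvd_of_pow_eq_one (Units.ext ?_)
          rw [Units.val_pow_eq_pow_val, pow_mul', h00, hc, Units.val_one]
        · rw [hi, pow_succ, pow_mul, sq_coset hq hK, ← map_pow, ← mul_assoc, ← map_mul] at h1
          exact absurd h1 (rep_tau_ne_one hq _)
    obtain ⟨h, hh⟩ := ModCover.exists_order_mul (p := p) (n := n) (repR hq hK) u (by
      rw [hou, hpp.coprime_iff_not_dvd]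
      intro hdiv
      have hpq : p ∣ q := hq ▸ dvd_pow_self p hk
      rcases hd with rfl | rfl
      · have h' := Nat.dvd_sub hpq hdiv
        rw [show q - (q - 1) = 1 by omega] at h'
        exact hpp.not_dvd_one h'
      · exact hpp.not_dvd_one ((Nat.dvd_add_right hpq).mp hdiv)) hX0 hX
    exact ⟨h, by rw [hh, hou]⟩
  obtain ⟨γ, hγ⟩ := IsCyclic.exists_generator (α := Kˣ)
  have hoγ : orderOf γ = q ^ 2 - 1 := by
    rw [orderOf_eq_card_of_forall_mem_zpowers hγ, Nat.card_units, Nat.card_eq_fintype_card, hK]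
  have hprod : (q + 1) * (q - 1) = q ^ 2 - 1 := by rw [← Nat.sq_sub_sq, one_pow]
  rw [OrdList, if_neg hp2] at hN
  rcases hN with rfl | rfl | rfl | rfl | ⟨h3, -⟩
  · let b : Kˣ := γ
    let g : SL := ⟨!![(b : K), 0; 0, (b⁻¹ : Kˣ)], by simp [Matrix.det_fin_two]⟩
    refine coset _ g (γ ^ (q + 1)) !![0, 1; (b : K) ^ (q - 1), 0] (Or.inl rfl) ?_ ?_
      (fun h => by simpa using congrFun (congrFun h 0) 1) ?_
    · rw [coe_mul_sl, coe_cjs]
      show !![(b : K), 0; 0, (b⁻¹ : Kˣ)] * cj hq !![(b : K), 0; 0, (b⁻¹ : Kˣ)] = _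
      rw [show cj hq !![(b : K), 0; 0, (b⁻¹ : Kˣ)] = !![(b : K) ^ q, 0; 0, ((b⁻¹ : Kˣ) : K) ^ q] from by
        ext i j; fin_cases i <;> fin_cases j <;> simp [cj, sig_apply, zero_pow (show q ≠ 0 by omega)],
        Matrix.mul_fin_two]
      simp [pow_succ', b, mul_comm]
    · rw [orderOf_pow_of_dvd (by omega) (hoγ ▸ ⟨q - 1, hprod.symm⟩), hoγ, ← hprod, Nat.mul_div_cancel_left _ (by omega)]
    · rw [show (!![0, 1; (b : K) ^ (q - 1), 0] : M2)ᵀ = !![0, (b : K) ^ (q - 1); 1, 0] from by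
        ext i j; fin_cases i <;> fin_cases j <;> simp, rep_fin hq (g := g) rfl]
      have hb : (b : K) ^ q = (b : K) ^ (q - 1) * b := by rw [← pow_succ]; congr 1; omega
      have hb0 : (b : K) ≠ 0 := b.ne_zero
      ext i j
      fin_cases i <;> fin_cases j <;>
        simp [sig_apply, zero_pow (show q ≠ 0 by omega), inv_pow] <;>
        rw [hb] <;> field_simp
  · obtain ⟨e, he⟩ := hqo
    set δ := γ ^ (q - 1) with hδ
    have hoδ : orderOf δ = q + 1 := by
      rw [hδ, orderOf_pow_of_dvd (by omega) (hoγ ▸ ⟨q + 1, by rw [← hprod, mul_comm]⟩), hoγ, ← hprod,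
        Nat.mul_div_cancel _ (by omega)]
    let b : Kˣ := γ ^ (e + 1 + 1)
    have hbq : (b : K) ^ (q - 1) = -(δ : K) := by
      have h1 : (γ ^ ((q - 1) * (e + 1)) : Kˣ).val = -1 := by
        have hne : γ ^ ((q - 1) * (e + 1)) ≠ 1 := by
          intro h
          have h' := Nat.le_of_dvd (Nat.mul_pos (by omega) (by omega)) (orderOf_dvd_of_pow_eq_one h)
          rw [hoγ, ← hprod, mul_comm] at h'
          have := Nat.le_of_mul_le_mul_left h' (by omega)
          omega
        have hsq : (γ ^ ((q - 1) * (e + 1)) : Kˣ).val ^ 2 = 1 := by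
          rw [← Units.val_pow_eq_pow_val, ← pow_mul, show (q - 1) * (e + 1) * 2 = orderOf γ from by
            rw [hoγ, ← hprod, he]; simp; ring, pow_orderOf_eq_one, Units.val_one]
        exact (sq_eq_one_iff.1 hsq).resolve_left fun h => hne (Units.ext h)
      rw [← Units.val_pow_eq_pow_val, show b ^ (q - 1) = γ ^ ((q - 1) * (e + 1)) * δ from by
        rw [hδ, ← pow_add, ← pow_mul]; congr 1; ring, Units.val_mul, h1, neg_one_mul]
    let g : SL := ⟨!![0, (b : K); -((b⁻¹ : Kˣ) : K), 0], by simp [Matrix.det_fin_two]⟩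
    have hb0 : (b : K) ≠ 0 := b.ne_zero
    have hb : (b : K) ^ q = -(δ : K) * b := by rw [← hbq, ← pow_succ]; congr 1; omega
    refine coset _ g δ⁻¹ !![1, 0; 0, ((b⁻¹ : Kˣ) : K) ^ (q + 1)] (Or.inr rfl) ?_ (by rw [orderOf_inv, hoδ])
      (fun h => by simpa using congrFun (congrFun h 0) 0) ?_
    · rw [coe_mul_sl, coe_cjs]
      show !![0, (b : K); -((b⁻¹ : Kˣ) : K), 0] * cj hq !![0, (b : K); -((b⁻¹ : Kˣ) : K), 0] = _
      rw [show cj hq !![0, (b : K); -((b⁻¹ : Kˣ) : K), 0] = !![0, (b : K) ^ q; -(((b⁻¹ : Kˣ) : K) ^ q), 0] from by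
        ext i j
        fin_cases i <;> fin_cases j <;> simp [cj, sig_apply, zero_pow (show q ≠ 0 by omega), Odd.neg_pow ⟨e, he⟩],
        Matrix.mul_fin_two]
      ext i j
      fin_cases i <;> fin_cases j <;> simp [hb] <;> field_simp
    · rw [show (!![1, 0; 0, ((b⁻¹ : Kˣ) : K) ^ (q + 1)] : M2)ᵀ = !![1, 0; 0, ((b⁻¹ : Kˣ) : K) ^ (q + 1)] from by
        ext i j; fin_cases i <;> fin_cases j <;> simp, rep_fin hq (g := g) rfl]
      ext i j
      fin_cases i <;> fin_cases j <;>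
        simp [sig_apply, zero_pow (show q ≠ 0 by omega), pow_succ, Odd.neg_pow ⟨e, he⟩] <;> field_simp
  · obtain ⟨g, hg⟩ := PSL2Spec.exists_order_split (F := K)
    obtain ⟨s, rfl⟩ := QuotientGroup.mk'_surjective _ g
    obtain ⟨h, hh⟩ := top s
    exact ⟨h, dvd_trans (by rw [hdd, hK] at hg; exact hg.symm.dvd) hh⟩
  · obtain ⟨g, hg⟩ := PSL2Spec.exists_order_nonsplit (F := K) p
    obtain ⟨s, rfl⟩ := QuotientGroup.mk'_surjective _ g
    obtain ⟨h, hh⟩ := top s
    exact ⟨h, dvd_trans (by rw [hdd, hK] at hg; exact hg.symm.dvd) hh⟩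
  · omega

end Cfsg.Agent.Recog.SpFourCover
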