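import Mathlib
import Cfsg.Agent.Lib.Recog.SpFourCoverBase

/-!
`Wⁿ⁺¹ ⋊ PSL(2, q²)`, `q` an even power of `3`, `W = L(1) ⊗ L(1) ⊗ L(1)^{(q)} ⊗ L(1)^{(3q)}`, has the element
orders of `PSp(4, q)`.
-/

set_option autoImplicit false

namespace Cfsg.Agent.Recog.SpFourCover

open Matrix SpFourOrd
open scoped Kronecker

variable {K : Type*} [Field K] [Fintype K] {q k : ℕ} [Fact (Nat.Prime 3)] [CharP K 3]

local notation "SL" => Matrix.SpecialLinearGroup (Fin 2) K
local notation "M2" => Matrix (Fin 2) (Fin 2) K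
local notation "M4" => Matrix (Fin 2 × Fin 2) (Fin 2 × Fin 2)
local notation "Ω" => AlgebraicClosure K

/-- the Frobenius power `x ↦ x ^ (3q)` -/
def rho (hq : q = 3 ^ k) : K →+* K := iterateFrobenius K 3 (k + 1)

theorem rho_apply (hq : q = 3 ^ k) (x : K) : rho hq x = x ^ (3 * q) := by
  rw [rho, iterateFrobenius_def, hq, pow_succ']

/-- the left factor -/
def lft (g : M2) : M4 K := g ⊗ₖ g

/-- the right factor -/
def rgt (hq : q = 3 ^ k) (g : M2) : M4 K := ((sig hq).mapMatrix g)ᵀ ⊗ₖ ((rho hq).mapMatrix g)ᵀ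

theorem lft_mul (g h : M2) : lft (g * h) = lft g * lft h := by rw [lft, lft, lft, ← Matrix.mul_kronecker_mul]

theorem rgt_mul (hq : q = 3 ^ k) (g h : M2) : rgt hq (g * h) = rgt hq h * rgt hq g := by
  rw [rgt, rgt, rgt, ← Matrix.mul_kronecker_mul, map_mul, map_mul, Matrix.transpose_mul, Matrix.transpose_mul]

theorem lft_one : lft (1 : M2) = 1 := by rw [lft, Matrix.one_kronecker_one]

theorem rgt_one (hq : q = 3 ^ k) : rgt hq (1 : M2) = 1 := by
  rw [rgt, map_one, map_one, Matrix.transpose_one, Matrix.one_kronecker_one]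

/-- the representation -/
def rep30 (hq : q = 3 ^ k) : SL →* Module.End K (M4 K) where
  toFun g := (LinearMap.mulLeft K (lft (g : M2))).comp (LinearMap.mulRight K (rgt hq (g : M2)))
  map_one' := LinearMap.ext fun X => by
    show lft (1 : M2) * (X * rgt hq (1 : M2)) = X
    rw [lft_one, rgt_one, one_mul, mul_one]
  map_mul' g h := LinearMap.ext fun X => by
    show lft ((g * h : SL) : M2) * (X * rgt hq ((g * h : SL) : M2)) =
      lft (g : M2) * (lft (h : M2) * (X * rgt hq (h : M2)) * rgt hq (g : M2))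
    rw [coe_mul_sl, lft_mul, rgt_mul]
    simp only [Matrix.mul_assoc]

/-- the representation -/
def rep3 (hq : q = 3 ^ k) : SL →* (Module.End K (M4 K))ˣ := (rep30 hq).toHomUnits

theorem rep3_apply (hq : q = 3 ^ k) (g : SL) (X : M4 K) :
    (rep3 hq g : Module.End K (M4 K)) X = lft (g : M2) * (X * rgt hq (g : M2)) := rfl

/-- the acting group -/
def img3 (hq : q = 3 ^ k) : Subgroup (Module.End K (M4 K))ˣ := (rep3 (K := K) hq).range

/-- the action -/
def rep3R (hq : q = 3 ^ k) : img3 (K := K) hq →* (Module.End K (M4 K))ˣ := (img3 (K := K) hq).subtype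

/-- the covering group -/
abbrev Cover3 (hq : q = 3 ^ k) (n : ℕ) : Type _ := ModCover.H (rep3R (K := K) hq) n

theorem rep3_scalar (hq : q = 3 ^ k) {g : SL} {c : K} (hc : c ^ 2 = 1) (hg : (g : M2) = c • 1) : rep3 hq g = 1 := by
  rcases sq_eq_one_iff.1 hc with rfl | rfl
  · refine (congrArg (rep3 hq) (Subtype.ext ?_)).trans (map_one _)
    rw [hg, one_smul]; rfl
  · refine Units.ext (LinearMap.ext fun X => ?_)
    show lft (g : M2) * (X * rgt hq (g : M2)) = X
    have hL : lft (g : M2) = 1 := by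
      rw [lft, hg, neg_one_smul]; ext i j; simp [Matrix.one_apply, Prod.ext_iff, ite_and]; split_ifs <;> simp_all
    have hR : rgt hq (g : M2) = 1 := by
      rw [rgt, hg, neg_one_smul, map_neg, map_neg, map_one, map_one, Matrix.transpose_neg, Matrix.transpose_one]
      ext i j; simp [Matrix.one_apply, Prod.ext_iff, ite_and]; split_ifs <;> simp_all
    rw [hL, hR, one_mul, mul_one]

theorem rep3_eq_one (hq : q = 3 ^ k) {g : SL} (h : rep3 hq g = 1) : ∃ c : K, c ^ 2 = 1 ∧ (g : M2) = c • 1 := by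
  have hX : ∀ X : M4 K, lft (g : M2) * (X * rgt hq (g : M2)) = X := fun X => by
    rw [← rep3_apply, h]; rfl
  have h1 := hX 1
  rw [one_mul] at h1
  have h2 : rgt hq (g : M2) * lft (g : M2) = 1 := mul_eq_one_comm.1 h1
  have hc : ∀ X : M4 K, lft (g : M2) * X = X * lft (g : M2) := fun X => by
    conv_rhs => rw [← hX X]
    simp only [Matrix.mul_assoc, h2, mul_one]
  have a := congrFun (congrFun (hc (Matrix.single (0, 0) (0, 0) 1)) (0, 0)) (1, 1)
  have b := congrFun (congrFun (hc (Matrix.single (0, 0) (0, 0) 1)) (1, 1)) (0, 0)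
  have c := congrFun (congrFun (hc (Matrix.single (0, 0) (0, 1) 1)) (0, 0)) (0, 1)
  simp [lft, Matrix.mul_apply, Matrix.single_apply, Fintype.sum_prod_type, Fin.sum_univ_two] at a b c
  have hd := g.2
  rw [Matrix.det_fin_two, a, b, mul_zero, sub_zero] at hd
  have h00 : (g : M2) 0 0 ≠ 0 := fun h => by simp [h] at hd
  have he : (g : M2) 1 1 = (g : M2) 0 0 := by
    rcases c with c | c
    · exact c.symm
    · exact absurd c h00
  refine ⟨(g : M2) 0 0, by rw [pow_two]; rwa [he] at hd, ?_⟩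
  ext i j
  fin_cases i <;> fin_cases j <;> simp [a, b, he]

section Kron

variable {R : Type*} [Ring R] [Algebra K R]

theorem kron_relations {a b : R} {s t : K} (hab : Commute a b) (ha : a * a = s • a - 1) (hb : b * b = t • b - 1) :
    (a * b) ^ 4 - (s * t) • (a * b) ^ 3 + (s * s + t * t - 2) • (a * b) ^ 2 - (s * t) • (a * b) + 1 = 0 ∧
    (s = t → (a * b) ^ 3 - (s * s - 1) • (a * b) ^ 2 + (s * s - 1) • (a * b) - 1 = 0) := by
  have hA : a * b * a = s • (a * b) - b := by
    rw [mul_assoc, ← hab.eq, ← mul_assoc, ha, sub_mul, smul_mul_assoc, one_mul]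
  have hB : a * b * b = t • (a * b) - a := by
    rw [mul_assoc, hb, mul_sub, mul_smul_comm, mul_one]
  have hAA : a * b * (a * b) = (s * t) • (a * b) - s • a - t • b + 1 := by
    rw [← mul_assoc, hA, sub_mul, smul_mul_assoc, hB, hb, smul_sub, smul_smul]
    abel
  have e2 : (a * b) ^ 2 = (s * t) • (a * b) - s • a - t • b + 1 := by rw [pow_two, hAA]
  have e3 : (a * b) ^ 3 = (s * t) • ((s * t) • (a * b) - s • a - t • b + 1) - s • (s • (a * b) - b)
      - t • (t • (a * b) - a) + a * b := by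
    rw [pow_succ', e2, mul_add, mul_sub, mul_sub, mul_smul_comm, mul_smul_comm, mul_smul_comm, hAA, hA, hB, mul_one]
  have e4 : (a * b) ^ 4 = (s * t) • ((s * t) • ((s * t) • (a * b) - s • a - t • b + 1) - s • (s • (a * b) - b)
      - t • (t • (a * b) - a) + a * b) - s • (s • ((s * t) • (a * b) - s • a - t • b + 1) - (t • (a * b) - a))
      - t • (t • ((s * t) • (a * b) - s • a - t • b + 1) - (s • (a * b) - b))
      + ((s * t) • (a * b) - s • a - t • b + 1) := by
    rw [pow_succ', e3]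
    simp only [mul_add, mul_sub, mul_smul_comm, hAA, hA, hB, mul_one]
  refine ⟨?_, fun hst => ?_⟩
  · rw [e4, e3, e2]
    module
  · subst hst
    rw [e3, e2]
    module

end Kron

theorem lft_cubic (g : SL) : lft (g : M2) ^ 3 - ((g : M2).trace * (g : M2).trace - 1) • lft (g : M2) ^ 2
    + ((g : M2).trace * (g : M2).trace - 1) • lft (g : M2) - 1 = 0 := by
  have e : lft (g : M2) = ((g : M2) ⊗ₖ (1 : M2)) * ((1 : M2) ⊗ₖ (g : M2)) := by
    simp [lft, ← Matrix.mul_kronecker_mul]
  rw [e]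
  refine (kron_relations (s := (g : M2).trace) (t := (g : M2).trace) ?_ ?_ ?_).2 rfl
  · show _ * _ = _ * _
    simp [← Matrix.mul_kronecker_mul]
  · rw [← Matrix.mul_kronecker_mul, PSL2Spec.sl_sq, mul_one]
    ext i j; simp [Matrix.kroneckerMap_apply, Matrix.one_apply, Prod.ext_iff, ite_and]; split_ifs <;> ring
  · rw [← Matrix.mul_kronecker_mul, PSL2Spec.sl_sq, one_mul]
    ext i j; simp [Matrix.kroneckerMap_apply, Matrix.one_apply, Prod.ext_iff, ite_and]; split_ifs <;> ring

theorem rgt_quartic (hq : q = 3 ^ k) (g : SL) :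
    rgt hq (g : M2) ^ 4 - (sig hq (g : M2).trace * rho hq (g : M2).trace) • rgt hq (g : M2) ^ 3
      + (sig hq (g : M2).trace * sig hq (g : M2).trace + rho hq (g : M2).trace * rho hq (g : M2).trace - 2) •
        rgt hq (g : M2) ^ 2
      - (sig hq (g : M2).trace * rho hq (g : M2).trace) • rgt hq (g : M2) + 1 = 0 := by
  have hsq : ∀ f : K →+* K, (f.mapMatrix (g : M2))ᵀ * (f.mapMatrix (g : M2))ᵀ =
      f (g : M2).trace • (f.mapMatrix (g : M2))ᵀ - 1 := by
    intro f
    rw [← Matrix.transpose_mul, ← map_mul, PSL2Spec.sl_sq, map_sub, map_one, Matrix.transpose_sub, Matrix.transpose_one]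
    congr 1
    ext i j; simp
  have e : rgt hq (g : M2) = (((sig hq).mapMatrix (g : M2))ᵀ ⊗ₖ (1 : M2)) *
      ((1 : M2) ⊗ₖ ((rho hq).mapMatrix (g : M2))ᵀ) := by
    rw [← Matrix.mul_kronecker_mul, mul_one, one_mul]; rfl
  rw [e]
  refine (kron_relations (s := sig hq (g : M2).trace) (t := rho hq (g : M2).trace) ?_ ?_ ?_).1
  · show _ * _ = _ * _
    rw [← Matrix.mul_kronecker_mul, ← Matrix.mul_kronecker_mul, mul_one, one_mul, mul_one, one_mul]
  · rw [← Matrix.mul_kronecker_mul, hsq, mul_one]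
    ext i j; simp [Matrix.kroneckerMap_apply, Matrix.one_apply, Prod.ext_iff, ite_and]; split_ifs <;> ring
  · rw [← Matrix.mul_kronecker_mul, hsq, one_mul]
    ext i j; simp [Matrix.kroneckerMap_apply, Matrix.one_apply, Prod.ext_iff, ite_and]; split_ifs <;> ring

theorem quad_mul {L : Type*} [Field L] (x y : L) : quad x * quad y = Polynomial.X ^ 4 - Polynomial.C (x + y) * Polynomial.X ^ 3
    + Polynomial.C (x * y + 2) * Polynomial.X ^ 2 - Polynomial.C (x + y) * Polynomial.X + 1 := by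
  rw [quad, quad, map_add, map_add, map_mul, map_ofNat]; ring

theorem two_quad {L : Type*} [Field L] (x : L) : quad (2 : L) * quad x = (Polynomial.X - Polynomial.C 1) *
    (Polynomial.X ^ 3 - Polynomial.C (x + 1) * Polynomial.X ^ 2 + Polynomial.C (x + 1) * Polynomial.X - 1) := by
  rw [quad, quad, map_add, map_ofNat, Polynomial.C_1]; ring

theorem aeval_cubic {L R : Type*} [Field L] [Ring R] [Algebra L R] (x : R) (c : L)
    (h : x ^ 3 - c • x ^ 2 + c • x - 1 = 0) : Polynomial.aeval x (Polynomial.X ^ 3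
      - Polynomial.C c * Polynomial.X ^ 2 + Polynomial.C c * Polynomial.X - 1) = 0 := by
  simp only [Algebra.smul_def] at h
  simpa using h

theorem aeval_quartic {L R : Type*} [Field L] [Ring R] [Algebra L R] (x : R) (c d : L)
    (h : x ^ 4 - c • x ^ 3 + d • x ^ 2 - c • x + 1 = 0) : Polynomial.aeval x (Polynomial.X ^ 4
      - Polynomial.C c * Polynomial.X ^ 3 + Polynomial.C d * Polynomial.X ^ 2 - Polynomial.C c * Polynomial.X + 1) = 0 := by
  simp only [Algebra.smul_def] at h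
  simpa using h

theorem five_facts (hq : q = 3 ^ k) (hk : Even k) (hk0 : k ≠ 0) :
    (q % 3 = 0) ∧ (q % 5 = 1 ∨ q % 5 = 4) := by
  obtain ⟨j, rfl⟩ := hk
  refine ⟨hq ▸ Nat.mod_eq_zero_of_dvd (dvd_pow_self 3 hk0) |> id, ?_⟩
  have : q = 9 ^ j := by rw [hq, ← two_mul, pow_mul]; norm_num
  subst this
  clear hq hk0
  induction j with
  | zero => left; rfl
  | succ j ih => rw [pow_succ]; omega

set_option maxHeartbeats 1600000 in
/-- a fixed vector forces a small torus -/
theorem fixed_torus (hq : q = 3 ^ k) (hk : Even k) (hk0 : k ≠ 0) (hK : Fintype.card K = q ^ 2) (g : SL) {lam : Ω}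
    (hl : lam ≠ 0) (hs : algebraMap K Ω (g : M2).trace = lam + lam⁻¹) {X : M4 K} (hX0 : X ≠ 0)
    (hX : (rep3 hq g : Module.End K (M4 K)) X = X) : lam ^ (2 * (q - 1)) = 1 ∨ lam ^ (2 * (q + 1)) = 1 := by
  haveI : CharP Ω 3 := inferInstance
  haveI : DecidableEq Ω := Classical.decEq _
  rw [rep3_apply] at hX
  set C := rgt hq ((g⁻¹ : SL) : M2) with hC
  have hgC : rgt hq (g : M2) * C = 1 := by
    rw [hC, ← rgt_mul, ← coe_mul_sl, inv_mul_cancel]; exact rgt_one hq
  have e1 : lft (g : M2) * X = X * C := by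
    conv_rhs => rw [← hX]
    rw [Matrix.mul_assoc, Matrix.mul_assoc, hgC, mul_one]
  let f : M4 K →+* M4 Ω := (algebraMap K Ω).mapMatrix
  have hfs : ∀ (c : K) (M : M4 K), f (c • M) = algebraMap K Ω c • f M := fun c M => by ext i j; simp [f]
  set A' := f (lft (g : M2))
  set C' := f C
  set X' := f X
  have hX' : X' ≠ 0 := fun h => hX0 (Matrix.ext fun i j =>
    (algebraMap K Ω).injective (by simpa [X', f] using congrFun (congrFun h i) j))
  set σ : Ω := lam ^ q + (lam ^ q)⁻¹
  set ρ : Ω := lam ^ (3 * q) + (lam ^ (3 * q))⁻¹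
  set a : Ω := lam ^ 2 + (lam ^ 2)⁻¹
  set b : Ω := lam ^ (4 * q) + (lam ^ (4 * q))⁻¹
  set c : Ω := lam ^ (2 * q) + (lam ^ (2 * q))⁻¹
  have hσ : algebraMap K Ω (sig hq (g : M2).trace) = σ := by
    rw [sig_apply, map_pow, hs]; simp only [σ, hq, add_pow_char_pow, inv_pow]
  have hρ : algebraMap K Ω (rho hq (g : M2).trace) = ρ := by
    rw [rho_apply, map_pow, hs]; simp only [ρ, hq, ← pow_succ', add_pow_char_pow, inv_pow]
  have hQ : quad b * quad c = Polynomial.X ^ 4 - Polynomial.C (σ * ρ) * Polynomial.X ^ 3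
      + Polynomial.C (σ * σ + ρ * ρ - 2) * Polynomial.X ^ 2 - Polynomial.C (σ * ρ) * Polynomial.X + 1 := by
    have h1 : b + c = σ * ρ := by simp only [b, c, σ, ρ]; field_simp; ring
    have h2 : b * c + 2 = σ * σ + ρ * ρ - 2 := by simp only [b, c, σ, ρ]; field_simp; ring
    rw [← h1, ← h2]
    exact quad_mul b c
  have hP : (quad (2 : Ω)) * quad a = (Polynomial.X - Polynomial.C 1) * (Polynomial.X ^ 3
      - Polynomial.C ((lam + lam⁻¹) * (lam + lam⁻¹) - 1) * Polynomial.X ^ 2
      + Polynomial.C ((lam + lam⁻¹) * (lam + lam⁻¹) - 1) * Polynomial.X - 1) := by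
    have h1 : (lam + lam⁻¹) * (lam + lam⁻¹) - 1 = a + 1 := by simp only [a]; field_simp; ring
    rw [h1]
    exact two_quad a
  have hPA : Polynomial.aeval A' (quad (2 : Ω) * quad a) = 0 := by
    rw [hP, map_mul]
    refine mul_eq_zero_of_right _ (aeval_cubic A' _ ?_)
    have h := congrArg f (lft_cubic g)
    rw [map_zero, map_sub f, map_add f, map_sub f, map_one f, map_pow f, hfs, hfs, map_pow f, map_sub (algebraMap K Ω),
      map_mul (algebraMap K Ω), map_one (algebraMap K Ω), hs] at h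
    exact h
  have hQC : Polynomial.aeval C' (quad b * quad c) = 0 := by
    rw [hQ]
    refine aeval_quartic C' _ _ ?_
    have h := congrArg f (rgt_quartic hq g⁻¹)
    rw [trace_inv_sl, map_zero, map_add f, map_sub f, map_add f, map_sub f, map_one f, map_pow f, hfs, hfs, hfs, map_pow f,
      map_pow f, map_sub (algebraMap K Ω), map_add (algebraMap K Ω), map_mul (algebraMap K Ω), map_mul (algebraMap K Ω),
      map_mul (algebraMap K Ω), map_ofNat, hσ, hρ] at h
    exact h
  have hsc : ∀ P : Polynomial Ω, Polynomial.aeval A' P * X' = X' * Polynomial.aeval C' P := by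
    intro P
    have he : A' * X' = X' * C' := by simp only [A', X', C', ← map_mul, e1]
    induction P using Polynomial.induction_on with
    | C a => simp [Polynomial.aeval_C, Algebra.algebraMap_eq_smul_one]
    | add P Q hP hQ => simp only [map_add, add_mul, mul_add, hP, hQ]
    | monomial m a h =>
      rw [pow_succ, ← mul_assoc, map_mul _ _ Polynomial.X, map_mul _ _ Polynomial.X, Polynomial.aeval_X,
        Polynomial.aeval_X, Matrix.mul_assoc, he, ← Matrix.mul_assoc, h, Matrix.mul_assoc]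
  have hroot : a = b ∨ a = c ∨ b = 2 ∨ c = 2 := by
    by_contra hne
    push Not at hne
    obtain ⟨h1, h2, h3, h4⟩ := hne
    obtain ⟨u, v, huv⟩ : IsCoprime (quad (2 : Ω) * quad a) (quad b * quad c) :=
      ((quad_coprime h3.symm).mul_right (quad_coprime h4.symm)).mul_left
        ((quad_coprime h1).mul_right (quad_coprime h2))
    apply hX'
    have h5 := congrArg (Polynomial.aeval C') huv
    rw [map_add, map_mul _ u, map_mul _ v, hQC, mul_zero, add_zero, map_one, ← map_mul, mul_comm u, map_mul _ _ u] at h5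
    rw [← mul_one X', ← h5, ← Matrix.mul_assoc, ← hsc, hPA, zero_mul, zero_mul]
  obtain ⟨h3q, h5q⟩ := five_facts hq hk hk0
  have hq1 : 1 ≤ q := hq ▸ Nat.one_le_pow _ _ (by norm_num)
  have eqv : ∀ x y : Ω, x ≠ 0 → y ≠ 0 → x + x⁻¹ = y + y⁻¹ → x = y ∨ x * y = 1 := by
    intro x y hx hy h
    have e : (x - y) * (x * y - 1) = 0 := by
      field_simp at h
      linear_combination h
    exact (mul_eq_zero.mp e).imp sub_eq_zero.mp sub_eq_zero.mp
  have two : ∀ m, lam ^ m + (lam ^ m)⁻¹ = 2 → lam ^ m = 1 := by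
    intro m h
    have h0 := pow_ne_zero m hl
    have h' : (lam ^ m - 1) * (lam ^ m - 1) = 0 := by
      field_simp at h
      linear_combination h
    exact sub_eq_zero.mp ((mul_self_eq_zero).mp h')
  have hfour : lam ^ 4 = 1 → lam ^ (2 * (q - 1)) = 1 := fun h => by
    have hqo : Odd q := hq ▸ (by decide : Odd 3).pow
    obtain ⟨e, he⟩ := hqo
    rw [he, Nat.add_sub_cancel, show 2 * (2 * e) = 4 * e by ring, pow_mul, h, one_pow]
  have finj : ∀ x : Ω, x ^ q = 1 → x = 1 := fun x h => by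
    rw [hq] at h
    exact iterateFrobenius_inj Ω 3 k (show x ^ 3 ^ k = 1 ^ 3 ^ k by rw [h, one_pow])
  have hord : lam ^ (q ^ 2 - 1) = 1 ∨ lam ^ (q ^ 2 + 1) = 1 :=
    root_cases 3 (Q := q ^ 2) (k := k * 2) (by rw [hq, pow_mul]) hl (by rw [← hs, ← map_pow, ← hK, FiniteField.pow_card])
  have big : ∀ m, (m = 2 * q - 1 ∨ m = 2 * q + 1) → (lam ^ 2) ^ m = 1 → lam ^ (2 * (q - 1)) = 1 := by
    intro m hm h
    have hd1 : orderOf (lam ^ 2) ∣ m := orderOf_dvd_of_pow_eq_one h
    have hd2 : orderOf (lam ^ 2) ∣ q ^ 2 - 1 ∨ orderOf (lam ^ 2) ∣ q ^ 2 + 1 := by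
      rcases hord with h' | h'
      exacts [Or.inl (orderOf_dvd_of_pow_eq_one (by rw [← pow_mul, mul_comm, pow_mul, h', one_pow])),
        Or.inr (orderOf_dvd_of_pow_eq_one (by rw [← pow_mul, mul_comm, pow_mul, h', one_pow]))]
    set d := orderOf (lam ^ 2)
    have hq21 : 1 ≤ q ^ 2 := Nat.one_le_pow _ _ hq1
    have hm1 : (d : ℤ) ∣ (4 * (q : ℤ) ^ 2 - 1) := by
      have h1 : (d : ℤ) ∣ (m : ℤ) := by exact_mod_cast hd1
      rcases hm with rfl | rfl
      · rw [Nat.cast_sub (by omega)] at h1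
        push_cast at h1
        exact (h1.mul_left (2 * (q : ℤ) + 1)).trans (dvd_of_eq (by ring))
      · push_cast at h1
        exact (h1.mul_left (2 * (q : ℤ) - 1)).trans (dvd_of_eq (by ring))
    have hd35 : d ∣ 3 ∨ d ∣ 5 := by
      rcases hd2 with h' | h'
      · left
        have h1 : (d : ℤ) ∣ ((q ^ 2 - 1 : ℕ) : ℤ) := by exact_mod_cast h'
        rw [Nat.cast_sub hq21] at h1
        push_cast at h1
        have := dvd_sub hm1 (h1.mul_left 4)
        rw [show (4 * (q : ℤ) ^ 2 - 1) - 4 * ((q : ℤ) ^ 2 - 1) = ((3 : ℕ) : ℤ) by push_cast; ring] at this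
        exact_mod_cast this
      · right
        have h1 : (d : ℤ) ∣ ((q ^ 2 + 1 : ℕ) : ℤ) := by exact_mod_cast h'
        push_cast at h1
        have := dvd_sub (h1.mul_left 4) hm1
        rw [show 4 * ((q : ℤ) ^ 2 + 1) - (4 * (q : ℤ) ^ 2 - 1) = ((5 : ℕ) : ℤ) by push_cast; ring] at this
        exact_mod_cast this
    have hd : d = 1 := by
      rcases hd35 with h' | h'
      · rcases (Nat.dvd_prime Nat.prime_three).mp h' with h'' | h''
        · exact h''
        · rw [h''] at hd1; omega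
      · rcases (Nat.dvd_prime (by norm_num : Nat.Prime 5)).mp h' with h'' | h''
        · exact h''
        · rw [h''] at hd1; omega
    have : lam ^ 2 = 1 := orderOf_eq_one_iff.mp hd
    rw [pow_mul, this, one_pow]
  have h2 := pow_ne_zero 2 hl
  rcases hroot with h | h | h | h
  · left
    rcases eqv _ _ h2 (pow_ne_zero _ hl) h with e | e
    · refine big (2 * q - 1) (Or.inl rfl) (mul_right_cancel₀ h2 ?_)
      rw [one_mul, ← pow_succ, Nat.sub_add_cancel (by omega), ← pow_mul, show 2 * (2 * q) = 4 * q by ring, ← e]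
    · refine big (2 * q + 1) (Or.inr rfl) ?_
      rw [pow_succ', ← pow_mul, show 2 * (2 * q) = 4 * q by ring, e]
  · rcases eqv _ _ h2 (pow_ne_zero _ hl) h with e | e
    · left
      refine mul_right_cancel₀ h2 ?_
      rw [one_mul, ← pow_add, show 2 * (q - 1) + 2 = 2 * q by omega, ← e]
    · right
      rw [show 2 * (q + 1) = 2 + 2 * q by ring, pow_add, e]
  · left
    exact hfour (finj _ (by rw [← pow_mul]; exact two _ h))
  · left
    refine hfour ?_
    rw [show (4 : ℕ) = 2 * 2 from rfl, pow_mul, finj (lam ^ 2) (by rw [← pow_mul]; exact two _ h), one_pow]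

theorem upper_three (hq : q = 3 ^ k) (hk : Even k) (hk0 : k ≠ 0) (hK : Fintype.card K = q ^ 2) {n : ℕ}
    (h : Cover3 (K := K) hq n) : ∃ N, OrdList q 3 N ∧ h ^ N = 1 := by
  haveI : CharP Ω 3 := inferInstance
  have hqo : Odd q := hq ▸ (by decide : Odd 3).pow
  have half : ∀ m, Odd m → 2 * ((m - 1) / 2) = m - 1 ∧ 2 * ((m + 1) / 2) = m + 1 := fun m hm =>
    ⟨Nat.mul_div_cancel' (Nat.Odd.sub_odd hm odd_one).two_dvd, Nat.mul_div_cancel' (hm.add_odd odd_one).two_dvd⟩
  have hL : ∀ N, N = 3 * (q - 1) ∨ N = 3 * (q + 1) ∨ N = (q ^ 2 - 1) / 2 ∨ N = (q ^ 2 + 1) / 2 ∨ N = 9 →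
      OrdList q 3 N := by
    intro N hN
    rw [OrdList, if_neg (by norm_num)]
    tauto
  obtain ⟨g, hg⟩ := h.right.2
  have hpow : ∀ m, rep3 hq g ^ m = 1 → h.right ^ m = 1 := fun m hm =>
    Subtype.ext (by rw [SubgroupClass.coe_pow, ← hg, hm]; rfl)
  have hval : rep3R hq h.right = rep3 hq g := hg.symm
  rcases sl_kinds g with ⟨ε, hε, hnil⟩ | ⟨lam, hl, hne, hs⟩
  · refine ⟨9, hL _ (by simp), ?_⟩
    rw [show 9 = 3 * 3 from rfl]
    refine ModCover.pow_mul_eq_one (p := 3) _ (hpow 3 ?_)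
    rw [← map_pow]
    refine rep3_scalar hq (c := ε ^ 3) (by rw [← pow_mul, mul_comm, pow_mul, hε, one_pow]) ?_
    rw [coe_pow_sl]
    have h3 := sub_pow_char_of_commute 3 ((Commute.one_right (g : M2)).smul_right ε)
    rw [_root_.smul_pow, one_pow] at h3
    rw [← sub_eq_zero, ← h3, pow_succ, pow_two, hnil, zero_mul]
  · have ss : ∀ m, lam ^ (2 * m) = 1 → rep3 hq g ^ m = 1 := by
      intro m hm
      obtain ⟨c, hc, hm'⟩ : ∃ c : K, c ^ 2 = 1 ∧ lam ^ m = algebraMap K Ω c := by
        rcases sq_eq_one_iff.1 (show (lam ^ m) ^ 2 = 1 by rw [← pow_mul, mul_comm, hm]) with h1 | h1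
        · exact ⟨1, one_pow 2, h1.trans (map_one _).symm⟩
        · exact ⟨-1, neg_one_sq, by rw [h1]; simp⟩
      rw [← map_pow]
      exact rep3_scalar hq hc (sl_scalar g hl hne hs hc hm')
    by_cases hfix : ∀ X : M4 K, (rep3 hq g : Module.End K (M4 K)) X = X → X = 0
    · have mk : ∀ m, rep3 hq g ^ m = 1 → h ^ m = 1 := fun m hm =>
        ModCover.pow_eq_one_of_sum _ (hpow m hm) (ModCover.sum_eq_zero _ (hpow m hm) (by rw [hval]; exact hfix))
      rcases root_cases 3 (Q := q ^ 2) (k := k * 2) (by rw [hq, pow_mul]) hl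
          (by rw [← hs, ← map_pow, ← hK, FiniteField.pow_card]) with h' | h'
      · exact ⟨_, hL _ (Or.inr (Or.inr (Or.inl rfl))), mk _ (ss _ (by rw [(half _ hqo.pow).1, h']))⟩
      · exact ⟨_, hL _ (Or.inr (Or.inr (Or.inr (Or.inl rfl)))), mk _ (ss _ (by rw [(half _ hqo.pow).2, h']))⟩
    · push Not at hfix
      obtain ⟨X, hX, hX0⟩ := hfix
      rcases fixed_torus hq hk hk0 hK g hl hs hX0 hX with h' | h'
      · exact ⟨_, hL _ (Or.inl rfl), by rw [mul_comm]; exact ModCover.pow_mul_eq_one (p := 3) _ (hpow _ (ss _ h'))⟩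
      · exact ⟨_, hL _ (Or.inr (Or.inl rfl)), by rw [mul_comm]; exact ModCover.pow_mul_eq_one (p := 3) _ (hpow _ (ss _ h'))⟩

theorem entry_single (hq : q = 3 ^ k) (g : SL) (i j x y : Fin 2 × Fin 2) :
    (lft (g : M2) * (Matrix.single i j (1 : K) * rgt hq (g : M2))) x y = lft (g : M2) x i * rgt hq (g : M2) j y := by
  rw [← Matrix.mul_assoc, Matrix.mul_apply, Finset.sum_eq_single j]
  · rw [Matrix.mul_single_apply_same, mul_one]
  · intro z _ hz
    rw [Matrix.mul_single_apply_of_ne _ _ _ _ _ hz, zero_mul]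
  · simp

theorem lower_three (hq : q = 3 ^ k) (hk : Even k) (hk0 : k ≠ 0) (hK : Fintype.card K = q ^ 2) {n : ℕ} (N : ℕ)
    (hN : OrdList q 3 N) : ∃ h : Cover3 (K := K) hq n, N ∣ orderOf h := by
  classical
  have hqo : Odd q := hq ▸ (by decide : Odd 3).pow
  have hdd : PSL2Spec.dd K = 2 := by
    show Nat.gcd 2 (Fintype.card K - 1) = 2
    rw [hK]
    exact Nat.gcd_eq_left (Nat.Odd.sub_odd hqo.pow odd_one).two_dvd
  have ker : ∀ (s : SL) (m : ℕ), (⟨rep3 hq s, s, rfl⟩ : img3 (K := K) hq) ^ m = 1 →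
      ∃ c : K, c ^ 2 = 1 ∧ ((s ^ m : SL) : M2) = c • 1 := by
    intro s m h
    have h1 : rep3 hq s ^ m = 1 := congrArg Subtype.val h
    rw [← map_pow] at h1
    exact rep3_eq_one hq h1
  have top : ∀ (s : SL), ∃ h : Cover3 (K := K) hq n, orderOf (PSL2Spec.proj s) ∣ orderOf h := by
    intro s
    obtain ⟨h, hh⟩ := ModCover.exists_order_inr (n := n) (rep3R hq) (⟨rep3 hq s, s, rfl⟩ : img3 (K := K) hq)
    refine ⟨h, hh ▸ orderOf_dvd_of_pow_eq_one ?_⟩
    obtain ⟨c, hc, hM⟩ := ker s _ (pow_orderOf_eq_one _)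
    rw [← map_pow, PSL2Spec.proj_eq_one_iff]
    exact ⟨c, hc, hM⟩
  have h3q : 3 ∣ q := hq ▸ dvd_pow_self 3 hk0
  have hq3 : 3 ≤ q := Nat.le_of_dvd (by rw [hq]; positivity) h3q
  obtain ⟨γ, hγ⟩ := IsCyclic.exists_generator (α := Kˣ)
  have hoγ : orderOf γ = q ^ 2 - 1 := by
    rw [orderOf_eq_card_of_forall_mem_zpowers hγ, Nat.card_units, Nat.card_eq_fintype_card, hK]
  have hprod : (q + 1) * (q - 1) = q ^ 2 - 1 := by rw [← Nat.sq_sub_sq, one_pow]
  have torus : ∀ d, (d = q - 1 ∨ d = q + 1) → ∃ h : Cover3 (K := K) hq n, 3 * d ∣ orderOf h := by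
    intro d hd
    have hpos : 0 < q ^ 2 - 1 := by rw [← hprod]; exact Nat.mul_pos (by omega) (by omega)
    have hdK : 2 * d ∣ q ^ 2 - 1 := by
      rw [← hprod]
      rcases hd with rfl | rfl
      · exact Nat.mul_dvd_mul (hqo.add_odd odd_one).two_dvd dvd_rfl
      · rw [mul_comm (q + 1)]; exact Nat.mul_dvd_mul (Nat.Odd.sub_odd hqo odd_one).two_dvd dvd_rfl
    set a := γ ^ (orderOf γ / (2 * d)) with ha
    have hoa : orderOf a = 2 * d := orderOf_pow_orderOf_div (by omega) (hoγ ▸ hdK)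
    let g : SL := ⟨!![(a : K), 0; 0, (a⁻¹ : Kˣ)], by simp [Matrix.det_fin_two]⟩
    have hn : ∀ m : ℕ, ((g ^ m : SL) : M2) = !![((a ^ m : Kˣ) : K), 0; 0, ((a⁻¹ ^ m : Kˣ) : K)] := by
      intro m
      induction m with
      | zero => simp [Matrix.one_fin_two]
      | succ m ih =>
        rw [pow_succ, Matrix.SpecialLinearGroup.coe_mul, ih]
        show _ * !![(a : K), 0; 0, (a⁻¹ : Kˣ)] = _
        rw [Matrix.mul_fin_two]; simp [pow_succ]
    have had : (a : K) ^ (2 * d) = 1 := by rw [← Units.val_pow_eq_pow_val, ← hoa, pow_orderOf_eq_one, Units.val_one]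
    set u : img3 (K := K) hq := ⟨rep3 hq g, g, rfl⟩
    have hou : orderOf u = d := by
      refine Nat.dvd_antisymm (orderOf_dvd_of_pow_eq_one (Subtype.ext ?_)) ?_
      · rw [SubgroupClass.coe_pow, ← map_pow]
        have hsq : ((a ^ d : Kˣ) : K) ^ 2 = 1 := by rw [Units.val_pow_eq_pow_val, ← pow_mul, mul_comm d, had]
        refine rep3_scalar hq hsq ?_
        rw [hn, inv_pow, Units.val_inv_eq_inv_val, inv_eq_of_mul_eq_one_right (by rw [← pow_two, hsq])]
        ext i j; fin_cases i <;> fin_cases j <;> simp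
      · obtain ⟨c, hc, hM⟩ := ker g _ (pow_orderOf_eq_one u)
        rw [hn] at hM
        have h00 := congrFun (congrFun hM 0) 0
        simp at h00
        refine Nat.dvd_of_mul_dvd_mul_left two_pos (hoa ▸ orderOf_dvd_of_pow_eq_one (Units.ext ?_))
        rw [Units.val_pow_eq_pow_val, pow_mul', h00, hc, Units.val_one]
    have hco : Nat.Coprime 3 (orderOf u) := by
      rw [hou, Nat.prime_three.coprime_iff_not_dvd]
      omega
    obtain ⟨X, hX0, hX⟩ : ∃ X : M4 K, X ≠ 0 ∧ (rep3 hq g : Module.End K (M4 K)) X = X := by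
      have hz : q ≠ 0 ∧ 3 * q ≠ 0 := by omega
      have hai : ((a⁻¹ : Kˣ) : K) = (a : K)⁻¹ := by simp
      have ha0 : (a : K) ≠ 0 := a.ne_zero
      rcases hd with rfl | rfl
      · refine ⟨Matrix.single (1, 1) (1, 0) 1, fun h => by simpa using congrFun (congrFun h (1, 1)) (1, 0), ?_⟩
        rw [rep3_apply]
        ext ⟨x1, x2⟩ ⟨y1, y2⟩
        rw [entry_single]
        fin_cases x1 <;> fin_cases x2 <;> fin_cases y1 <;> fin_cases y2 <;>
          simp [g, lft, rgt, sig_apply, rho_apply, Matrix.single_apply, zero_pow hz.1, zero_pow hz.2]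
        have e : (a : K) ^ (3 * q) = (a : K) * (a : K) * (a : K) ^ q := by
          rw [show 3 * q = 2 * (q - 1) + (1 + 1 + q) by omega, pow_add, had, one_mul, pow_add, pow_add, pow_one]
        rw [e]; field_simp
      · refine ⟨Matrix.single (0, 0) (1, 0) 1, fun h => by simpa using congrFun (congrFun h (0, 0)) (1, 0), ?_⟩
        rw [rep3_apply]
        ext ⟨x1, x2⟩ ⟨y1, y2⟩
        rw [entry_single]
        fin_cases x1 <;> fin_cases x2 <;> fin_cases y1 <;> fin_cases y2 <;>
          simp [g, lft, rgt, sig_apply, rho_apply, Matrix.single_apply, zero_pow hz.1, zero_pow hz.2]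
        have e : (a : K) * (a : K) * (a : K) ^ (3 * q) = (a : K) ^ q := by
          rw [← pow_two, ← pow_add, show 2 + 3 * q = 2 * (q + 1) + q by omega, pow_add, had, one_mul]
        field_simp
        linear_combination e
    obtain ⟨h, hh⟩ := ModCover.exists_order_mul (p := 3) (n := n) (rep3R hq) u hco hX0 hX
    exact ⟨h, by rw [hh, hou]⟩
  rw [OrdList, if_neg (by norm_num : ¬ (3 : ℕ) = 2)] at hN
  rcases hN with rfl | rfl | rfl | rfl | ⟨-, rfl⟩
  · exact torus _ (Or.inl rfl)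
  · exact torus _ (Or.inr rfl)
  · obtain ⟨g, hg⟩ := PSL2Spec.exists_order_split (F := K)
    obtain ⟨s, rfl⟩ := QuotientGroup.mk'_surjective _ g
    obtain ⟨h, hh⟩ := top s
    exact ⟨h, dvd_trans (by rw [hdd, hK] at hg; exact hg.symm.dvd) hh⟩
  · obtain ⟨g, hg⟩ := PSL2Spec.exists_order_nonsplit (F := K) 3
    obtain ⟨s, rfl⟩ := QuotientGroup.mk'_surjective _ g
    obtain ⟨h, hh⟩ := top s
    exact ⟨h, dvd_trans (by rw [hdd, hK] at hg; exact hg.symm.dvd) hh⟩
  · let s : SL := ⟨!![1, 1; 0, 1], by simp [Matrix.det_fin_two]⟩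
    have hsn : ∀ m : ℕ, ((s ^ m : SL) : M2) = !![1, (m : K); 0, 1] := by
      intro m
      induction m with
      | zero => simp [Matrix.one_fin_two]
      | succ m ih =>
        rw [pow_succ, coe_mul_sl, ih]
        show _ * !![(1 : K), 1; 0, 1] = _
        rw [Matrix.mul_fin_two]; simp [add_comm]
    set u : img3 (K := K) hq := ⟨rep3 hq s, s, rfl⟩
    have hou : orderOf u = 3 ^ 1 := by
      rw [pow_one]
      refine orderOf_eq_prime (Subtype.ext ?_) fun h => ?_
      · rw [SubgroupClass.coe_pow, ← map_pow]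
        refine rep3_scalar hq (one_pow 2) ?_
        rw [hsn, CharP.cast_eq_zero, one_smul, Matrix.one_fin_two]
      · obtain ⟨c, -, hM⟩ := ker s 1 (by rw [pow_one]; exact h)
        rw [hsn] at hM
        simpa using congrFun (congrFun hM 0) 1
    obtain ⟨h, hh⟩ := ModCover.exists_order_pow (p := 3) (n := n) (rep3R hq) u hou
      (v := Matrix.single (1, 1) (1, 1) (1 : K)) fun h => by
      have h' := congrFun (congrFun h (0, 0)) (0, 0)
      have e : ∀ j : ℕ, ((rep3R hq u : Module.End K (M4 K)) ^ j) (Matrix.single (1, 1) (1, 1) (1 : K)) =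
          lft ((s ^ j : SL) : M2) * (Matrix.single (1, 1) (1, 1) (1 : K) * rgt hq ((s ^ j : SL) : M2)) := by
        intro j
        rw [← Units.val_pow_eq_pow_val, show rep3R hq u = rep3 hq s from rfl, ← map_pow, rep3_apply]
      rw [LinearMap.sum_apply, pow_one, Finset.sum_range_succ, Finset.sum_range_succ, Finset.sum_range_one, e, e, e,
        Matrix.add_apply, Matrix.add_apply, entry_single, entry_single, entry_single, hsn, hsn, hsn] at h'
      have h20 : (2 : K) ≠ 0 := fun h => by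
        have := (CharP.cast_eq_zero_iff K 3 2).mp (by exact_mod_cast h)
        omega
      simp [lft, rgt, sig_apply, rho_apply, one_pow, zero_pow (show q ≠ 0 by omega), zero_pow (show 3 * q ≠ 0 by omega)] at h'
      have h30 : (3 : K) = 0 := by exact_mod_cast CharP.cast_eq_zero K 3
      have e2 : (2 : K) = -1 := by linear_combination h30
      rw [e2, Odd.neg_pow (hqo), Odd.neg_pow ((by decide : Odd 3).mul hqo), one_pow, one_pow] at h'
      norm_num at h'
      exact h20 h'
    exact ⟨h, by rw [hh]; norm_num⟩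

end Cfsg.Agent.Recog.SpFourCover
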