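import Mathlib
import Cfsg.Agent.Lib.Recog.AffineSpectrum
import Cfsg.Agent.Lib.Recog.ProjLine
import Cfsg.Agent.Lib.Recog.SpFourOrders
import Cfsg.Agent.Lib.Recog.ModuleCover

/-!
`Vⁿ⁺¹ ⋊ (𝔽₄² ⋊ SL(2, 4))`, `V` the sum-zero functions `P¹(𝔽₄) → 𝔽₃`, has the element orders of `PSp(4, 3)`.
-/

set_option autoImplicit false

namespace Cfsg.Agent.Recog.SpFourCoverSmall

theorem five_smul_zmod : ∀ c : ZMod 3, 5 • c = 0 → c = 0 := by decide

theorem three_ones : (1 + 1 + 1 : ZMod 3) = 0 := by decide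

open Matrix
open ProjLine (P1 p0 p1 p01)
open scoped LinearAlgebra.Projectivization

variable (F : Type) [Field F] [Fintype F]

/-- `𝔽₄² ⋊ SL(2, 4)` -/
def aff : Subgroup (SpecialLinearGroup (Fin 2 ⊕ Fin 1) F) where
  carrier := {M | IsAff (M : Matrix (Fin 2 ⊕ Fin 1) (Fin 2 ⊕ Fin 1) F)}
  one_mem' := isAff_one
  mul_mem' ha hb := isAff_mul ha hb
  inv_mem' := by
    intro x hx
    obtain ⟨n, hn, hxn⟩ : ∃ n, 0 < n ∧ x ^ n = 1 := (isOfFinOrder_of_finite x).exists_pow_eq_one
    have : ∀ m : ℕ, IsAff ((x ^ m : SpecialLinearGroup (Fin 2 ⊕ Fin 1) F) : Matrix (Fin 2 ⊕ Fin 1) (Fin 2 ⊕ Fin 1) F) := by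
      intro m
      induction m with
      | zero => rw [pow_zero]; exact isAff_one
      | succ m ih => rw [pow_succ]; exact isAff_mul ih hx
    have e : x⁻¹ = x ^ (n - 1) := inv_eq_of_mul_eq_one_right (by rw [← pow_succ', Nat.sub_add_cancel hn, hxn])
    show IsAff _
    rw [e]
    exact this _

variable {F}

theorem blocks (x : aff F) : ∃ (g : Matrix (Fin 2) (Fin 2) F) (v : Matrix (Fin 2) (Fin 1) F),
    g.det = 1 ∧ (x.1.1 : Matrix (Fin 2 ⊕ Fin 1) (Fin 2 ⊕ Fin 1) F) = fromBlocks g v 0 1 := x.2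

/-- the linear part -/
def top : aff F →* GL (Fin 2) F := MonoidHom.toHomUnits
  { toFun := fun x => (x.1.1 : Matrix (Fin 2 ⊕ Fin 1) (Fin 2 ⊕ Fin 1) F).toBlocks₁₁
    map_one' := by
      show (1 : Matrix (Fin 2 ⊕ Fin 1) (Fin 2 ⊕ Fin 1) F).toBlocks₁₁ = 1
      rw [← fromBlocks_one, toBlocks_fromBlocks₁₁]
    map_mul' := fun x y => by
      obtain ⟨g, v, -, hx⟩ := blocks x
      obtain ⟨h, w, -, hy⟩ := blocks y
      show ((x.1.1 : Matrix (Fin 2 ⊕ Fin 1) (Fin 2 ⊕ Fin 1) F) * y.1.1).toBlocks₁₁ = _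
      rw [hx, hy, fromBlocks_multiply, toBlocks_fromBlocks₁₁, toBlocks_fromBlocks₁₁, toBlocks_fromBlocks₁₁,
        Matrix.mul_zero, add_zero] }

theorem top_apply (x : aff F) :
    (top x : Matrix (Fin 2) (Fin 2) F) = (x.1.1 : Matrix (Fin 2 ⊕ Fin 1) (Fin 2 ⊕ Fin 1) F).toBlocks₁₁ := rfl

/-- the action on the five points -/
noncomputable def pts : aff F →* Equiv.Perm (P1 F) := (MulAction.toPermHom (GL (Fin 2) F) (P1 F)).comp top

variable (F)

/-- the module -/
abbrev fns : Type := P1 F → ZMod 3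

variable [Fintype (P1 F)]

/-- the sum-zero functions -/
noncomputable def V : Submodule (ZMod 3) (fns F) where
  carrier := {f | ∑ x, f x = 0}
  add_mem' {a b} ha hb := by
    show ∑ x : P1 F, (a x + b x) = 0
    rw [Finset.sum_add_distrib, ha, hb, add_zero]
  zero_mem' := by
    show ∑ x : P1 F, (0 : fns F) x = 0
    exact Finset.sum_const_zero
  smul_mem' c f hf := by
    show ∑ x : P1 F, c • f x = 0
    rw [← Finset.smul_sum, hf, smul_zero]

/-- the representation -/
noncomputable def rep0 : aff F →* Module.End (ZMod 3) (V F) where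
  toFun g :=
    { toFun := fun f => ⟨fun x => f.1 ((pts g).symm x), (Equiv.sum_comp (pts g).symm f.1).trans f.2⟩
      map_add' := fun f f' => rfl
      map_smul' := fun c f => rfl }
  map_one' := LinearMap.ext fun f => Subtype.ext (funext fun x => by
    show f.1 ((pts (1 : aff F)).symm x) = f.1 x
    rw [map_one]; rfl)
  map_mul' g h := LinearMap.ext fun f => Subtype.ext (funext fun x => by
    show f.1 ((pts (g * h)).symm x) = f.1 ((pts h).symm ((pts g).symm x))
    rw [map_mul]; rfl)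

/-- the representation -/
noncomputable def rep : aff F →* (Module.End (ZMod 3) (V F))ˣ := (rep0 F).toHomUnits

variable {F}

theorem rep_apply (g : aff F) (f : V F) (x : P1 F) :
    ((rep F g : Module.End (ZMod 3) (V F)) f).1 x = f.1 ((pts g).symm x) := rfl

theorem card_points (hF : Fintype.card F = 4) : Fintype.card (P1 F) = 5 := by
  rw [← Nat.card_eq_fintype_card]
  exact (Projectivization.card_of_finrank_two F (Fin 2 → F) (Module.finrank_fin_fun F)).trans
    (by rw [Nat.card_eq_fintype_card, hF])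

theorem spectrum (hF : Fintype.card F = 4) : Set.range (orderOf : aff F → ℕ) = {1, 2, 3, 4, 5} :=
  spectrum_aff hF (aff F) fun _ => Iff.rfl

theorem five_fix (hF : Fintype.card F = 4) (g : aff F) (hg : orderOf g = 5) (f : V F)
    (hf : (rep F g : Module.End (ZMod 3) (V F)) f = f) : f = 0 := by
  classical
  haveI := charTwo_of_card_four hF
  haveI : Fact (Nat.Prime 5) := ⟨by norm_num⟩
  haveI : Fact (Nat.Prime 3) := ⟨Nat.prime_three⟩
  have hπ : pts g ≠ 1 := by
    intro h
    have hfix : ∀ x : P1 F, top g • x = x := fun x => Equiv.Perm.ext_iff.mp h x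
    obtain ⟨u, hu⟩ := ProjLine.scalar_of_fix (hfix p0) (hfix p1) (hfix p01)
    obtain ⟨A, v, hA, hx⟩ := blocks g
    have htop : (top g : Matrix (Fin 2) (Fin 2) F) = A := by rw [top_apply, hx, toBlocks_fromBlocks₁₁]
    rw [← hu, GeneralLinearGroup.coe_scalar] at htop
    have hu1 : (u : F) = 1 := by
      have hd := hA
      rw [← htop] at hd
      simp [Matrix.det_fin_two] at hd
      rcases hd with hd | hd
      · exact congrArg Units.val hd
      · rw [hd, Units.val_neg, Units.val_one, CharTwo.neg_eq]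
    have hA1 : A = 1 := by rw [← htop, hu1]; simp
    have h2 : g ^ 2 = 1 := by
      refine Subtype.ext (Subtype.ext ?_)
      show ((g.1 ^ 2 : SpecialLinearGroup (Fin 2 ⊕ Fin 1) F) : Matrix (Fin 2 ⊕ Fin 1) (Fin 2 ⊕ Fin 1) F) = 1
      rw [Matrix.SpecialLinearGroup.coe_pow, hx, hA1, pow_two, fromBlocks_multiply, ← fromBlocks_one]
      congr 1 <;> ext i j <;> simp [CharTwo.add_self_eq_zero]
    have := orderOf_dvd_of_pow_eq_one h2
    rw [hg] at this
    omega
  have ho : orderOf (pts g) = 5 := by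
    refine orderOf_eq_prime ?_ hπ
    rw [← map_pow, ← hg, pow_orderOf_eq_one, map_one]
  have hc : (pts g).IsCycle := Equiv.Perm.isCycle_of_prime_order''
    (by rw [card_points hF]; norm_num) (by rw [card_points hF, ho])
  have hsupp : (pts g).support = Finset.univ := by
    apply Finset.eq_univ_of_card
    rw [← hc.orderOf, ho, card_points hF]
  have hinv : ∀ x, f.1 ((pts g) x) = f.1 x := fun x => by
    have h := congrFun (congrArg Subtype.val hf) ((pts g) x)
    rw [rep_apply, Equiv.symm_apply_apply] at h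
    exact h.symm
  have hconst : ∀ x y, f.1 x = f.1 y := by
    intro x y
    have hm : ∀ z, pts g z ≠ z := fun z => Equiv.Perm.mem_support.mp (hsupp ▸ Finset.mem_univ z)
    obtain ⟨i, rfl⟩ := (hc.sameCycle (hm x) (hm y)).exists_pow_eq'' |>.elim fun i hi => (⟨i, hi.2.2⟩ : ∃ i, (pts g ^ i) x = y)
    clear hm
    induction i with
    | zero => rfl
    | succ i ih => rw [pow_succ', Equiv.Perm.mul_apply, hinv]; exact ih
  refine Subtype.ext (funext fun x => ?_)
  have hsum := f.2
  change ∑ z, f.1 z = 0 at hsum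
  rw [Finset.sum_congr rfl fun z _ => hconst z x, Finset.sum_const, Finset.card_univ, card_points hF] at hsum
  show f.1 x = 0
  exact five_smul_zmod _ hsum

open SpFourOrd in
theorem upper_small (hF : Fintype.card F = 4) {n : ℕ} (h : ModCover.H (rep F) n) :
    ∃ N, OrdList 3 3 N ∧ h ^ N = 1 := by
  haveI : Fact (Nat.Prime 3) := ⟨Nat.prime_three⟩
  have hr : orderOf h.right ∈ ({1, 2, 3, 4, 5} : Set ℕ) := spectrum hF ▸ ⟨h.right, rfl⟩
  simp only [Set.mem_insert_iff, Set.mem_singleton_iff] at hr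
  have hp := pow_orderOf_eq_one h.right
  have hL : ∀ N, N = 6 ∨ N = 12 ∨ N = 9 ∨ N = 5 → OrdList 3 3 N := by
    intro N hN
    rw [OrdList, if_neg (by norm_num)]
    norm_num
    tauto
  rcases hr with e | e | e | e | e <;> rw [e] at hp
  · refine ⟨6, hL _ (by simp), ?_⟩
    rw [show 6 = 1 * 3 * 2 from rfl, pow_mul, ModCover.pow_mul_eq_one (p := 3) _ hp, one_pow]
  · exact ⟨6, hL _ (by simp), ModCover.pow_mul_eq_one (p := 3) _ (m := 2) hp⟩
  · exact ⟨9, hL _ (by simp), ModCover.pow_mul_eq_one (p := 3) _ (m := 3) hp⟩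
  · exact ⟨12, hL _ (by simp), ModCover.pow_mul_eq_one (p := 3) _ (m := 4) hp⟩
  · exact ⟨5, hL _ (by simp), ModCover.pow_eq_one_of_sum _ hp (ModCover.sum_eq_zero _ hp fun f hf => five_fix hF _ e f hf)⟩

omit [Fintype (P1 F)] in
theorem exists_aff (g : Matrix (Fin 2) (Fin 2) F) (v : Matrix (Fin 2) (Fin 1) F) (hg : g.det = 1) :
    ∃ x : aff F, (x.1.1 : Matrix (Fin 2 ⊕ Fin 1) (Fin 2 ⊕ Fin 1) F) = fromBlocks g v 0 1 :=
  ⟨⟨⟨fromBlocks g v 0 1, by rw [det_fromBlocks_zero₂₁, hg, det_one, one_mul]⟩, g, v, hg, rfl⟩, rfl⟩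

open SpFourOrd in
theorem lower_small (hF : Fintype.card F = 4) {n : ℕ} (N : ℕ) (hN : OrdList 3 3 N) :
    ∃ h : ModCover.H (rep F) n, N ∣ orderOf h := by
  classical
  haveI := charTwo_of_card_four hF
  haveI : Fact (Nat.Prime 3) := ⟨Nat.prime_three⟩
  have h2 : (2 : F) = 0 := by exact_mod_cast CharP.cast_eq_zero F 2
  have inr : ∀ d, d ∈ ({1, 2, 3, 4, 5} : Set ℕ) → ∃ h : ModCover.H (rep F) n, orderOf h = d := by
    intro d hd
    obtain ⟨g, rfl⟩ := (spectrum hF).symm ▸ hd
    exact ModCover.exists_order_inr _ g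
  obtain ⟨hne0, hne1, hne2⟩ := ProjLine.ne01 (F := F)
  have twelve : ∃ h : ModCover.H (rep F) n, orderOf h = 12 := by
    obtain ⟨x, hx⟩ := exists_aff (F := F) !![1, 1; 0, 1] (Matrix.of fun i _ => ![0, 1] i) (by simp)
    have hx4 : x ^ 4 = 1 := by
      refine Subtype.ext (Subtype.ext ?_)
      show ((x.1 ^ 4 : SpecialLinearGroup (Fin 2 ⊕ Fin 1) F) : Matrix (Fin 2 ⊕ Fin 1) (Fin 2 ⊕ Fin 1) F) = 1
      rw [Matrix.SpecialLinearGroup.coe_pow, hx, show (4 : ℕ) = 2 * 2 by norm_num, pow_mul, pow_two, pow_two,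
        fromBlocks_multiply, fromBlocks_multiply, ← fromBlocks_one]
      congr 1 <;> simp [← Matrix.ext_iff, Fin.forall_fin_two, Matrix.one_fin_two, Matrix.mul_apply, Fin.sum_univ_two,
        one_add_one_eq_two, h2, vecHead, vecTail]
    have hx2 : x ^ 2 ≠ 1 := fun h => by
      have h' : ((x.1 ^ 2 : SpecialLinearGroup (Fin 2 ⊕ Fin 1) F) : Matrix (Fin 2 ⊕ Fin 1) (Fin 2 ⊕ Fin 1) F) = 1 :=
        congrArg (fun z : aff F => (z.1.1 : Matrix (Fin 2 ⊕ Fin 1) (Fin 2 ⊕ Fin 1) F)) h
      rw [Matrix.SpecialLinearGroup.coe_pow, hx, pow_two, fromBlocks_multiply, ← fromBlocks_one, fromBlocks_inj] at h'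
      have := congrFun (congrFun h'.2.1 0) 0
      simp [Matrix.mul_apply, Fin.sum_univ_two, vecHead, vecTail] at this
    haveI : Fact (Nat.Prime 2) := ⟨Nat.prime_two⟩
    have ho : orderOf x = 4 := orderOf_eq_prime_pow (p := 2) (n := 1) (by simpa using hx2) hx4
    have htop : (top x : Matrix (Fin 2) (Fin 2) F) = !![1, 1; 0, 1] := by rw [top_apply, hx, toBlocks_fromBlocks₁₁]
    have e0' : pts x p0 = p0 := by
      show top x • (p0 : P1 F) = p0
      rw [p0, Projectivization.smul_mk, Projectivization.mk_eq_mk_iff']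
      exact ⟨1, funext fun i => by fin_cases i <;> simp [Units.smul_def, htop, ProjLine.e0, vecHead, vecTail]⟩
    have e1' : pts x p1 = p01 := by
      show top x • (p1 : P1 F) = p01
      rw [p1, p01, Projectivization.smul_mk, Projectivization.mk_eq_mk_iff']
      exact ⟨1, funext fun i => by fin_cases i <;> simp [Units.smul_def, htop, ProjLine.e1, ProjLine.e01, vecHead, vecTail]⟩
    have e2' : pts x p01 = p1 := by
      show top x • (p01 : P1 F) = p1
      rw [p1, p01, Projectivization.smul_mk, Projectivization.mk_eq_mk_iff']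
      exact ⟨1, funext fun i => by
        fin_cases i <;> simp [Units.smul_def, htop, ProjLine.e1, ProjLine.e01, vecHead, vecTail, one_add_one_eq_two, h2]⟩
    let f : fns F := fun z => (if z = p0 then 1 else 0) + (if z = p1 then 1 else 0) + (if z = p01 then 1 else 0)
    have hf : f ∈ V F := by
      show ∑ z, f z = 0
      simp only [f, Finset.sum_add_distrib, Finset.sum_ite_eq', Finset.mem_univ, if_true]
      exact three_ones
    have hinv : ∀ z, f ((pts x) z) = f z := fun z => by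
      have ea : pts x z = p0 ↔ z = p0 := ⟨fun h => (pts x).injective (h.trans e0'.symm), fun h => h ▸ e0'⟩
      have eb : pts x z = p1 ↔ z = p01 := ⟨fun h => (pts x).injective (h.trans e2'.symm), fun h => h ▸ e2'⟩
      have ec : pts x z = p01 ↔ z = p1 := ⟨fun h => (pts x).injective (h.trans e1'.symm), fun h => h ▸ e1'⟩
      simp only [f, ea, eb, ec]
      ring
    obtain ⟨h, hh⟩ := ModCover.exists_order_mul (p := 3) (n := n) (rep F) x (by rw [ho]; norm_num) (v := ⟨f, hf⟩)
      (fun h0 => by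
        have := congrFun (congrArg Subtype.val h0) p0
        simp [f, hne0, hne1] at this)
      (Subtype.ext (funext fun z => by
        rw [rep_apply]
        conv_rhs => rw [← (pts x).apply_symm_apply z]
        exact (hinv _).symm))
    exact ⟨h, by rw [hh, ho]⟩
  rw [OrdList, if_neg (by norm_num : ¬ (3 : ℕ) = 2)] at hN
  rcases hN with rfl | rfl | rfl | rfl | ⟨-, rfl⟩
  · obtain ⟨h, hh⟩ := twelve; exact ⟨h, by rw [hh]; norm_num⟩
  · obtain ⟨h, hh⟩ := twelve; exact ⟨h, by rw [hh]⟩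
  · obtain ⟨h, hh⟩ := inr 4 (by simp); exact ⟨h, by rw [hh]; norm_num⟩
  · obtain ⟨h, hh⟩ := inr 5 (by simp); exact ⟨h, by rw [hh]; norm_num⟩
  · obtain ⟨x, hx⟩ := exists_aff (F := F) !![1, 1; 1, 0] 0 (by simp [Matrix.det_fin_two]; linear_combination -h2)
    have hx3 : x ^ 3 = 1 := by
      refine Subtype.ext (Subtype.ext ?_)
      show ((x.1 ^ 3 : SpecialLinearGroup (Fin 2 ⊕ Fin 1) F) : Matrix (Fin 2 ⊕ Fin 1) (Fin 2 ⊕ Fin 1) F) = 1
      rw [Matrix.SpecialLinearGroup.coe_pow, hx, pow_three, fromBlocks_multiply, fromBlocks_multiply, ← fromBlocks_one]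
      congr 1 <;> simp [← Matrix.ext_iff, Fin.forall_fin_two, Matrix.one_fin_two, one_add_one_eq_two, h2, vecHead, vecTail]
    have htop : (top x : Matrix (Fin 2) (Fin 2) F) = !![1, 1; 1, 0] := by rw [top_apply, hx, toBlocks_fromBlocks₁₁]
    have ea : pts x p0 = p01 := by
      show top x • (p0 : P1 F) = p01
      rw [p0, p01, Projectivization.smul_mk, Projectivization.mk_eq_mk_iff']
      exact ⟨1, funext fun i => by fin_cases i <;> simp [Units.smul_def, htop, ProjLine.e0, ProjLine.e01, vecHead, vecTail]⟩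
    have eb : pts x p01 = p1 := by
      show top x • (p01 : P1 F) = p1
      rw [p1, p01, Projectivization.smul_mk, Projectivization.mk_eq_mk_iff']
      exact ⟨1, funext fun i => by
        fin_cases i <;> simp [Units.smul_def, htop, ProjLine.e1, ProjLine.e01, vecHead, vecTail, one_add_one_eq_two, h2]⟩
    have ec : pts x p1 = p0 := by
      show top x • (p1 : P1 F) = p0
      rw [p0, p1, Projectivization.smul_mk, Projectivization.mk_eq_mk_iff']
      exact ⟨1, funext fun i => by fin_cases i <;> simp [Units.smul_def, htop, ProjLine.e0, ProjLine.e1, vecHead, vecTail]⟩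
    obtain ⟨r, hr0, hr1, hr2⟩ : ∃ r : P1 F, r ≠ p0 ∧ r ≠ p1 ∧ r ≠ p01 := by
      by_contra hcon
      push Not at hcon
      have hsub : (Finset.univ : Finset (P1 F)) ⊆ {p0, p1, p01} := fun z _ => by
        by_cases hz0 : z = p0
        · simp [hz0]
        by_cases hz1 : z = p1
        · simp [hz1]
        · simp [hcon z hz0 hz1]
      have h3 := (Finset.card_le_card hsub).trans Finset.card_le_three
      rw [Finset.card_univ, card_points hF] at h3
      omega
    have ho : orderOf x = 3 ^ 1 := by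
      rw [pow_one]
      refine orderOf_eq_prime hx3 fun h => hne1 ?_
      rw [← ea, h, map_one]; rfl
    let f : fns F := fun z => (if z = p0 then 1 else 0) - (if z = r then 1 else 0)
    have hf : f ∈ V F := by
      show ∑ z, f z = 0
      simp [f, Finset.sum_sub_distrib]
    obtain ⟨h, hh⟩ := ModCover.exists_order_pow (p := 3) (n := n) (rep F) x ho (v := ⟨f, hf⟩) fun h => by
      have h' := congrFun (congrArg Subtype.val h) p0
      have e : ∀ j : ℕ, (((rep F x : Module.End (ZMod 3) (V F)) ^ j) ⟨f, hf⟩).1 p0 = f ((pts (x ^ j)).symm p0) := by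
        intro j
        rw [← Units.val_pow_eq_pow_val, ← map_pow]; rfl
      have i1 : (pts x).symm p0 = p1 := by rw [Equiv.symm_apply_eq, ec]
      have i2 : (pts (x ^ 2)).symm p0 = p01 := by
        rw [Equiv.symm_apply_eq, map_pow, pow_two, Equiv.Perm.mul_apply, eb, ec]
      rw [pow_one, Finset.sum_range_succ, Finset.sum_range_succ, Finset.sum_range_one, LinearMap.add_apply,
        LinearMap.add_apply] at h'
      simp only [Submodule.coe_add, Pi.add_apply, Submodule.coe_zero, Pi.zero_apply] at h'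
      rw [e, e, e, pow_zero, pow_one, i1, i2, map_one] at h'
      simp [f, Equiv.Perm.one_symm, hne0.symm, hne1.symm, hr0.symm, hr1.symm, hr2.symm] at h'
    exact ⟨h, by rw [hh]; norm_num⟩

end Cfsg.Agent.Recog.SpFourCoverSmall
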