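import Cfsg.Agent.Lib.Recog.SpSlimHeis

/-! The amalgam data, the intervals and their generated groups, and the elements realising the
exchange of two neighbouring planes. -/

set_option autoImplicit false

namespace Cfsg.Agent.Recog.SpSlim

open Matrix Cfsg.Agent.Classical

variable {F : Type*} [Field F] {n : ℕ} {H : Type*} [Group H]

local notation "Vec" => (Fin n ⊕ Fin n → F)
set_option quotPrecheck false in
local notation "Sp" => ↥(Matrix.symplecticGroup (Fin n) F)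

/-- The indices in `[a, b)`. -/
def Iv (n a b : ℕ) : Set (Fin n) := {k | a ≤ k.1 ∧ k.1 < b}

theorem mem_Iv {a b : ℕ} {k : Fin n} : k ∈ Iv n a b ↔ a ≤ k.1 ∧ k.1 < b := Iff.rfl

theorem insert_Iv {a : Fin n} {b : ℕ} (h : a.1 < b) : insert a (Iv n (a.1 + 1) b) = Iv n a.1 b := by
  ext k
  simp only [Set.mem_insert_iff, mem_Iv, Fin.ext_iff]
  omega

theorem Iv_succ (a : Fin n) : Iv n a.1 (a.1 + 1) = {a} := by
  ext k
  simp only [Set.mem_singleton_iff, mem_Iv, Fin.ext_iff]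
  omega

theorem Iv_two {a a2 : Fin n} (h : a2.1 = a.1 + 1) : Iv n a.1 (a.1 + 2) = insert a2 {a} := by
  ext k
  simp only [Set.mem_insert_iff, Set.mem_singleton_iff, mem_Iv, Fin.ext_iff]
  omega

/-- Lifts of the plane groups and of the abelian groups of neighbouring planes, with the pairwise
compatibility. -/
structure Amal (S M : Fin n → Subgroup (Pr n F H)) : Prop where
  S_sub : ∀ j, ∀ x ∈ S j, x.1 ∈ fixS {j}
  S_surj : ∀ j, ∀ g ∈ fixS ({j} : Set (Fin n)), ∃ x ∈ S j, x.1 = g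
  M_sub : ∀ i i' : Fin n, i'.1 = i.1 + 1 → ∀ x ∈ M i,
    x.1 ∈ fixS {i, i'} ∧ ∀ k, act x.1 (e k) = e k
  M_surj : ∀ i i' : Fin n, i'.1 = i.1 + 1 → ∀ g ∈ fixS ({i, i'} : Set (Fin n)),
    act g (e i) = e i → act g (e i') = e i' → ∃ x ∈ M i, x.1 = g
  fnSS : ∀ j l, j ≠ l → Fn (S j ⊔ S l)
  fnMM : ∀ i i' : Fin n, i ≠ i' → i.1 + 1 < n → i'.1 + 1 < n → Fn (M i ⊔ M i')
  fnMS : ∀ i j : Fin n, i.1 + 1 < n → Fn (M i ⊔ S j)

/-- The generators with all indices in `[a, b)`. -/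
def gens (S M : Fin n → Subgroup (Pr n F H)) (a b : ℕ) : Set (Pr n F H) :=
  {x | (∃ j : Fin n, a ≤ j.1 ∧ j.1 < b ∧ x ∈ S j) ∨ ∃ i : Fin n, a ≤ i.1 ∧ i.1 + 1 < b ∧ x ∈ M i}

/-- The group generated by the lifts with all indices in `[a, b)`. -/
def Gam (S M : Fin n → Subgroup (Pr n F H)) (a b : ℕ) : Subgroup (Pr n F H) :=
  Subgroup.closure (gens S M a b)

variable {S M : Fin n → Subgroup (Pr n F H)}

theorem S_le_Gam {a b : ℕ} {j : Fin n} (h1 : a ≤ j.1) (h2 : j.1 < b) : S j ≤ Gam S M a b :=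
  fun _ hx => Subgroup.subset_closure (Or.inl ⟨j, h1, h2, hx⟩)

theorem M_le_Gam {a b : ℕ} {i : Fin n} (h1 : a ≤ i.1) (h2 : i.1 + 1 < b) : M i ≤ Gam S M a b :=
  fun _ hx => Subgroup.subset_closure (Or.inr ⟨i, h1, h2, hx⟩)

theorem Gam_mono {a a' b b' : ℕ} (h1 : a ≤ a') (h2 : b' ≤ b) : Gam S M a' b' ≤ Gam S M a b := by
  refine (Subgroup.closure_le _).2 fun x hx => ?_
  rcases hx with ⟨j, h3, h4, hx⟩ | ⟨i, h3, h4, hx⟩
  · exact S_le_Gam (h1.trans h3) (h4.trans_le h2) hx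
  · exact M_le_Gam (h1.trans h3) (h4.trans_le h2) hx

theorem Gam_comm {a b : ℕ} {y : Pr n F H}
    (hS : ∀ j : Fin n, a ≤ j.1 → j.1 < b → ∀ x ∈ S j, x * y = y * x)
    (hM : ∀ i : Fin n, a ≤ i.1 → i.1 + 1 < b → ∀ x ∈ M i, x * y = y * x) {x : Pr n F H}
    (hx : x ∈ Gam S M a b) : x * y = y * x := by
  have : Gam S M a b ≤ Subgroup.centralizer {y} := by
    refine (Subgroup.closure_le _).2 fun z hz => Subgroup.mem_centralizer_singleton_iff.2 ?_
    rcases hz with ⟨j, h3, h4, hz⟩ | ⟨i, h3, h4, hz⟩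
    · exact hS j h3 h4 z hz
    · exact hM i h3 h4 z hz
  exact Subgroup.mem_centralizer_singleton_iff.1 (this hx)

namespace Amal

variable (A : Amal S M)
include A

theorem S_fn (j : Fin n) (hn : 2 ≤ n) : Fn (S j) := by
  obtain ⟨l, hl⟩ : ∃ l : Fin n, j ≠ l := by
    by_cases h : j.1 = 0
    · exact ⟨⟨1, by omega⟩, fun hh => by simp [Fin.ext_iff, h] at hh⟩
    · exact ⟨⟨0, by omega⟩, fun hh => h (by simpa [Fin.ext_iff] using hh)⟩
  exact (A.fnSS j l hl).mono le_sup_left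

theorem commSS {j l : Fin n} (h : j ≠ l) {x y : Pr n F H} (hx : x ∈ S j) (hy : y ∈ S l) :
    x * y = y * x :=
  (A.fnSS j l h).commute (Subgroup.mem_sup_left hx) (Subgroup.mem_sup_right hy)
    (fixS_commute (Set.disjoint_singleton.2 h) (A.S_sub j x hx) (A.S_sub l y hy))

theorem commMS {i i' j : Fin n} (h : i'.1 = i.1 + 1) (h1 : j ≠ i) (h2 : j ≠ i') {x y : Pr n F H}
    (hx : x ∈ M i) (hy : y ∈ S j) : x * y = y * x :=
  (A.fnMS i j (by omega)).commute (Subgroup.mem_sup_left hx) (Subgroup.mem_sup_right hy)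
    (fixS_commute (by simp [Set.disjoint_singleton_right, h1, h2]) (A.M_sub i i' h x hx).1
      (A.S_sub j y hy))

theorem commMM {i i' k k' : Fin n} (h : i'.1 = i.1 + 1) (h' : k'.1 = k.1 + 1) {x y : Pr n F H}
    (hx : x ∈ M i) (hy : y ∈ M k) : x * y = y * x := by
  have hc := siegel_commute (A.M_sub i i' h x hx).2 (A.M_sub k k' h' y hy).2
  by_cases hik : i = k
  · subst hik
    exact ((A.fnMS i i (by omega)).mono le_sup_left).commute hx hy hc
  · exact (A.fnMM i k hik (by omega) (by omega)).commute (Subgroup.mem_sup_left hx)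
      (Subgroup.mem_sup_right hy) hc

theorem U_mem {i i' j : Fin n} (h : i'.1 = i.1 + 1) (hj : j = i ∨ j = i') {x : Pr n F H}
    (hx : x ∈ S j) (hxe : act x.1 (e j) = e j) : x ∈ M i := by
  have hne : i ≠ i' := fun hh => by rw [hh] at h; omega
  have hfix : ∀ k, act x.1 (e k) = e k := fun k => by
    by_cases hk : k = j
    · exact hk ▸ hxe
    · exact (A.S_sub j x hx k (by simpa using hk)).1
  obtain ⟨m, hm, hm1⟩ := A.M_surj i i' h x.1
    (fixS_mono (by rcases hj with rfl | rfl <;> simp) (A.S_sub j x hx)) (hfix i) (hfix i')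
  rwa [(A.fnMS i j (by omega)).eq (Subgroup.mem_sup_right hx) (Subgroup.mem_sup_left hm) hm1.symm]

theorem mem_S_of_fix {i i' j : Fin n} (h : i'.1 = i.1 + 1) {x : Pr n F H}
    (hx : x ∈ M i) (hxf : x.1 ∈ fixS ({j} : Set (Fin n))) : x ∈ S j := by
  obtain ⟨s, hs, hs1⟩ := A.S_surj j x.1 hxf
  rwa [(A.fnMS i j (by omega)).eq (Subgroup.mem_sup_left hx) (Subgroup.mem_sup_right hs) hs1.symm]

theorem Gam_sub {a b : ℕ} (hb : b ≤ n) {x : Pr n F H} (hx : x ∈ Gam S M a b) :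
    x.1 ∈ fixS (Iv n a b) := by
  have : Gam S M a b ≤ (fixS (Iv n a b) : Subgroup Sp).comap (MonoidHom.fst _ _) := by
    refine (Subgroup.closure_le _).2 fun z hz => ?_
    rcases hz with ⟨j, h3, h4, hz⟩ | ⟨i, h3, h4, hz⟩
    · exact fixS_mono (Set.singleton_subset_iff.2 (mem_Iv.2 ⟨h3, h4⟩)) (A.S_sub j z hz)
    · refine fixS_mono ?_ (A.M_sub i ⟨i.1 + 1, by omega⟩ rfl z hz).1
      simp only [Set.insert_subset_iff, Set.singleton_subset_iff, mem_Iv]
      omega
  exact this hx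

/-- The commutation of a group on `{a, a+1}` with the group on `[a+2, b)`. -/
theorem pair_comm_far {a a2 : Fin n} (h : a2.1 = a.1 + 1) {b : ℕ} (hb : b ≤ n) {g x : Pr n F H}
    (hg : g ∈ Gam S M (a.1 + 2) b) (hx : x ∈ S a ⊔ S a2 ⊔ M a) : g * x = x * g := by
  refine Gam_comm (fun j h1 h2 y hy => ?_) (fun i h1 h2 y hy => ?_) hg
  · have : S a ⊔ S a2 ⊔ M a ≤ Subgroup.centralizer {y} := by
      refine sup_le (sup_le ?_ ?_) ?_ <;> intro z hz <;> rw [Subgroup.mem_centralizer_singleton_iff]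
      · exact A.commSS (fun hh => by subst hh; omega) hz hy
      · exact A.commSS (fun hh => by subst hh; omega) hz hy
      · exact A.commMS h (fun hh => by subst hh; omega) (fun hh => by subst hh; omega) hz hy
    exact (Subgroup.mem_centralizer_singleton_iff.1 (this hx)).symm
  · have hi' : (⟨i.1 + 1, by omega⟩ : Fin n).1 = i.1 + 1 := rfl
    have : S a ⊔ S a2 ⊔ M a ≤ Subgroup.centralizer {y} := by
      refine sup_le (sup_le ?_ ?_) ?_ <;> intro z hz <;> rw [Subgroup.mem_centralizer_singleton_iff]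
      · exact (A.commMS hi' (fun hh => by subst hh; omega)
          (fun hh => by simp [Fin.ext_iff] at hh; omega) hy hz).symm
      · exact (A.commMS hi' (fun hh => by subst hh; omega)
          (fun hh => by simp [Fin.ext_iff] at hh; omega) hy hz).symm
      · exact A.commMM h hi' hz hy
    exact (Subgroup.mem_centralizer_singleton_iff.1 (this hx)).symm

end Amal

/-- What is proved by induction for the interval `[a, b)`. -/
structure Good (S M : Fin n → Subgroup (Pr n F H)) (a : Fin n) (b : ℕ) : Prop where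
  fn : Fn (Gam S M a.1 b)
  surj : ∀ g ∈ fixS (Iv n a.1 b), ∃ x ∈ Gam S M a.1 b, x.1 = g
  stab : ∀ x ∈ Gam S M a.1 b, act x.1 (e a) = e a →
    ∀ i : Fin n, i.1 + 1 = a.1 → ∀ m ∈ M i, x * m = m * x

theorem Amal.good_base (A : Amal S M) (hn : 2 ≤ n) (a : Fin n) : Good S M a (a.1 + 1) := by
  have hle : Gam S M a.1 (a.1 + 1) = S a := by
    refine le_antisymm ((Subgroup.closure_le _).2 fun z hz => ?_) (S_le_Gam le_rfl (by omega))
    rcases hz with ⟨j, h3, h4, hz⟩ | ⟨i, h3, h4, hz⟩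
    · rwa [show j = a from Fin.ext (by omega)] at hz
    · omega
  refine ⟨hle ▸ A.S_fn a hn, fun g hg => ?_, fun x hx hxe i hi m hm => ?_⟩
  · rw [Iv_succ] at hg
    rw [hle]
    exact A.S_surj a g hg
  · rw [hle] at hx
    exact A.commMM hi.symm hi.symm (A.U_mem hi.symm (Or.inr rfl) hx hxe) hm

end Cfsg.Agent.Recog.SpSlim
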