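import Cfsg.Agent.Lib.Classical.Symp

/-! The symplectic group acting on column vectors: root elements `Q c v z`, subgroups fixing all basis
vectors outside a set of indices, and transitivity inside them. -/

set_option autoImplicit false

namespace Cfsg.Agent.Recog.SpSlim

open Matrix Cfsg.Agent.Classical

variable {F : Type*} [Field F] {n : ℕ}

local notation "Vec" => (Fin n ⊕ Fin n → F)
set_option quotPrecheck false in
local notation "Sp" => ↥(Matrix.symplecticGroup (Fin n) F)

/-- The basis vector `e_k`. -/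
def e (k : Fin n) : Vec := Pi.single (Sum.inl k) 1

/-- The basis vector `f_k`. -/
def f (k : Fin n) : Vec := Pi.single (Sum.inr k) 1

/-- The form, normalised by `om (e k) (f k) = 1`. -/
noncomputable def om (x y : Vec) : F := sympForm n F y x

/-- The action on column vectors. -/
def act (g : Sp) (x : Vec) : Vec := (g : Matrix (Fin n ⊕ Fin n) (Fin n ⊕ Fin n) F) *ᵥ x

theorem act_mul (g h : Sp) (x : Vec) : act (g * h) x = act g (act h x) := by
  simp [act, Matrix.mulVec_mulVec]

@[simp] theorem act_one (x : Vec) : act (1 : Sp) x = x := by simp [act]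

@[simp] theorem act_inv_act (g : Sp) (x : Vec) : act g⁻¹ (act g x) = x := by
  rw [← act_mul, inv_mul_cancel, act_one]

@[simp] theorem act_act_inv (g : Sp) (x : Vec) : act g (act g⁻¹ x) = x := by
  rw [← act_mul, mul_inv_cancel, act_one]

theorem act_inv_eq {g : Sp} {x y : Vec} (h : act g x = y) : act g⁻¹ y = x := by
  rw [← h, act_inv_act]

theorem act_add (g : Sp) (x y : Vec) : act g (x + y) = act g x + act g y := Matrix.mulVec_add _ _ _

theorem act_sub (g : Sp) (x y : Vec) : act g (x - y) = act g x - act g y := Matrix.mulVec_sub _ _ _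

theorem act_smul (g : Sp) (c : F) (x : Vec) : act g (c • x) = c • act g x := Matrix.mulVec_smul _ _ _

theorem act_neg (g : Sp) (x : Vec) : act g (-x) = -act g x := Matrix.mulVec_neg _ _

@[simp] theorem act_zero (g : Sp) : act g (0 : Vec) = 0 := Matrix.mulVec_zero _

theorem ext_act {g h : Sp} (H : ∀ x, act g x = act h x) : g = h :=
  Subtype.ext (Matrix.ext_iff_mulVec.2 H)

theorem ext_basis {g h : Sp} (he : ∀ k, act g (e k) = act h (e k))
    (hf : ∀ k, act g (f k) = act h (f k)) : g = h := by
  refine Subtype.ext (Matrix.ext fun i j => ?_)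
  rcases j with k | k
  · simpa [act, e] using congrFun (he k) i
  · simpa [act, f] using congrFun (hf k) i

theorem om_swap (x y : Vec) : om x y = -om y x := sympForm_swap _ _

@[simp] theorem om_self (x : Vec) : om x x = 0 := sympForm_self _

@[simp] theorem om_zero_left (x : Vec) : om 0 x = 0 := sympForm_zero_right _

@[simp] theorem om_zero_right (x : Vec) : om x 0 = 0 := sympForm_zero_left _

theorem om_add_left (x x' y : Vec) : om (x + x') y = om x y + om x' y := sympForm_add_right _ _ _

theorem om_add_right (x y y' : Vec) : om x (y + y') = om x y + om x y' := sympForm_add_left _ _ _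

theorem om_sub_left (x x' y : Vec) : om (x - x') y = om x y - om x' y := sympForm_sub_right _ _ _

theorem om_sub_right (x y y' : Vec) : om x (y - y') = om x y - om x y' := sympForm_sub_left _ _ _

theorem om_smul_left (c : F) (x y : Vec) : om (c • x) y = c * om x y := sympForm_smul_right _ _ _

theorem om_smul_right (c : F) (x y : Vec) : om x (c • y) = c * om x y := sympForm_smul_left _ _ _

theorem om_neg_left (x y : Vec) : om (-x) y = -om x y := by
  rw [← neg_one_smul F x, om_smul_left, neg_one_mul]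

theorem om_neg_right (x y : Vec) : om x (-y) = -om x y := by
  rw [← neg_one_smul F y, om_smul_right, neg_one_mul]

theorem om_act (g : Sp) (x y : Vec) : om (act g x) (act g y) = om x y := sympForm_map _ _ _

theorem om_e (x : Vec) (k : Fin n) : om x (e k) = -x (Sum.inr k) := by
  rw [om, e, sympForm_swap, sympForm_single_inl, mul_one]

theorem om_f (x : Vec) (k : Fin n) : om x (f k) = x (Sum.inl k) := by
  rw [om, f, sympForm_swap, sympForm_single_inr, mul_one, neg_neg]

theorem om_e_left (x : Vec) (k : Fin n) : om (e k) x = x (Sum.inr k) := by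
  rw [om_swap, om_e, neg_neg]

theorem om_f_left (x : Vec) (k : Fin n) : om (f k) x = -x (Sum.inl k) := by
  rw [om_swap, om_f]

theorem eq_of_om {x y : Vec} (h : ∀ z, om x z = om y z) : x = y := by
  refine sub_eq_zero.1 (eq_zero_of_sympForm_eq_zero fun z => ?_)
  have h2 : om (x - y) z = 0 := by rw [om_sub_left, h, sub_self]
  rw [sympForm_swap]
  simpa [om] using h2

/-- The matrix of `x ↦ x + om x c • v + om x v • c + (z * om x c) • c`. -/
noncomputable def qMat (c v : Vec) (z : F) : Matrix (Fin n ⊕ Fin n) (Fin n ⊕ Fin n) F :=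
  LinearMap.toMatrix'
    { toFun := fun x => x + om x c • v + om x v • c + (z * om x c) • c
      map_add' := fun x y => by
        simp only [om_add_left, add_smul, mul_add]
        abel
      map_smul' := fun a x => by
        simp only [om_smul_left, RingHom.id_apply, smul_add, smul_smul]
        congr 2
        ring }

theorem qMat_mulVec (c v : Vec) (z : F) (x : Vec) :
    qMat c v z *ᵥ x = x + om x c • v + om x v • c + (z * om x c) • c := by
  rw [qMat, LinearMap.toMatrix'_mulVec]
  rfl

theorem qMat_mem {c v : Vec} (h : om c v = 0) (z : F) :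
    qMat c v z ∈ Matrix.symplecticGroup (Fin n) F := by
  refine mem_symplecticGroup_iff_form.2 fun u w => ?_
  show om (qMat c v z *ᵥ w) (qMat c v z *ᵥ u) = om w u
  have hvc : om v c = 0 := by rw [om_swap, h, neg_zero]
  simp only [qMat_mulVec, om_add_left, om_add_right, om_smul_left, om_smul_right, om_self, h, hvc,
    om_swap c u, om_swap v u]
  ring

/-- The root element attached to `c`, `v`, `z`. -/
noncomputable def Q (c v : Vec) (z : F) : Sp :=
  open _root_.Classical in
  if h : om c v = 0 then ⟨qMat c v z, qMat_mem h z⟩ else 1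

theorem act_Q {c v : Vec} (h : om c v = 0) (z : F) (x : Vec) :
    act (Q c v z) x = x + om x c • v + om x v • c + (z * om x c) • c := by
  rw [Q, dif_pos h]
  exact qMat_mulVec c v z x

theorem act_Q_of_om {c v : Vec} (h : om c v = 0) (z : F) {x : Vec} (h1 : om x c = 0)
    (h2 : om x v = 0) : act (Q c v z) x = x := by
  simp [act_Q h, h1, h2]

theorem Q_conj (g : Sp) {c v : Vec} (h : om c v = 0) (z : F) :
    g * Q c v z * g⁻¹ = Q (act g c) (act g v) z := by
  refine ext_act fun x => ?_
  have e1 : ∀ y, om (act g⁻¹ x) y = om x (act g y) := fun y => by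
    rw [← om_act g (act g⁻¹ x) y, act_act_inv]
  rw [act_mul, act_mul, act_Q h, act_Q (by rw [om_act]; exact h)]
  simp [act_add, act_smul, e1]

theorem Q_mul {c v v' : Vec} (h : om c v = 0) (h' : om c v' = 0) (z z' : F) :
    Q c v z * Q c v' z' = Q c (v + v') (z + z' + om v' v) := by
  refine ext_act fun x => ?_
  have hs : om c (v + v') = 0 := by rw [om_add_right, h, h', add_zero]
  have hvc : om v' c = 0 := by rw [om_swap, h', neg_zero]
  rw [act_mul, act_Q h', act_Q h, act_Q hs]
  ext i
  simp only [om_add_left, om_smul_left, om_self, hvc, h, om_add_right, Pi.add_apply, Pi.smul_apply,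
    smul_eq_mul]
  ring

@[simp] theorem Q_zero (c : Vec) : Q c 0 0 = 1 := by
  refine ext_act fun x => ?_
  simp [act_Q (om_zero_right c)]

theorem Q_inv {c v : Vec} (h : om c v = 0) (z : F) : (Q c v z)⁻¹ = Q c (-v) (-z) := by
  refine inv_eq_of_mul_eq_one_right ?_
  rw [Q_mul h (by rw [om_neg_right, h, neg_zero])]
  simp [om_neg_left]

theorem Q_comm {c v : Vec} (h : om c v = 0) : Q c v 0 = Q v c 0 := by
  refine ext_act fun x => ?_
  rw [act_Q h, act_Q (by rw [om_swap, h, neg_zero])]
  simp only [zero_mul, zero_smul, add_zero]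
  abel

theorem Q_smul_left {c v : Vec} (h : om c v = 0) (a : F) : Q (a • c) v 0 = Q c (a • v) 0 := by
  refine ext_act fun x => ?_
  rw [act_Q (by rw [om_smul_left, h, mul_zero]), act_Q (by rw [om_smul_right, h, mul_zero])]
  ext i
  simp only [om_smul_right, Pi.add_apply, Pi.smul_apply, smul_eq_mul]
  ring

/-- The transvection `x ↦ x + (z * om x c) • c`. -/
noncomputable def T (c : Vec) (z : F) : Sp := Q c 0 z

theorem act_T (c : Vec) (z : F) (x : Vec) : act (T c z) x = x + (z * om x c) • c := by
  simp [T, act_Q (om_zero_right c)]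

/-- The subgroup fixing the basis vectors with index outside `I`. -/
def fixS (I : Set (Fin n)) : Subgroup Sp where
  carrier := {g | ∀ k, k ∉ I → act g (e k) = e k ∧ act g (f k) = f k}
  one_mem' := fun k _ => ⟨act_one _, act_one _⟩
  mul_mem' := fun {g h} hg hh k hk => ⟨by rw [act_mul, (hh k hk).1, (hg k hk).1],
    by rw [act_mul, (hh k hk).2, (hg k hk).2]⟩
  inv_mem' := fun {g} hg k hk => ⟨act_inv_eq (hg k hk).1, act_inv_eq (hg k hk).2⟩

theorem fixS_mono {I J : Set (Fin n)} (h : I ⊆ J) : (fixS I : Subgroup Sp) ≤ fixS J :=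
  fun _ hg k hk => hg k fun hI => hk (h hI)

theorem fixS_univ (g : Sp) : g ∈ fixS (Set.univ : Set (Fin n)) := fun k hk => absurd (Set.mem_univ k) hk

/-- Vectors supported on `I`. -/
def VS (I : Set (Fin n)) : Submodule F Vec where
  carrier := {x | ∀ k, k ∉ I → x (Sum.inl k) = 0 ∧ x (Sum.inr k) = 0}
  zero_mem' := fun k _ => ⟨rfl, rfl⟩
  add_mem' := fun {x y} hx hy k hk => ⟨by simp [(hx k hk).1, (hy k hk).1],
    by simp [(hx k hk).2, (hy k hk).2]⟩
  smul_mem' := fun c x hx k hk => ⟨by simp [(hx k hk).1], by simp [(hx k hk).2]⟩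

theorem VS_mono {I J : Set (Fin n)} (h : I ⊆ J) : (VS I : Submodule F Vec) ≤ VS J :=
  fun _ hx k hk => hx k fun hI => hk (h hI)

theorem e_mem_VS {I : Set (Fin n)} {k : Fin n} (hk : k ∈ I) : (e k : Vec) ∈ VS I := fun j hj => by
  have : j ≠ k := fun h => hj (h ▸ hk)
  simp [e, this]

theorem f_mem_VS {I : Set (Fin n)} {k : Fin n} (hk : k ∈ I) : (f k : Vec) ∈ VS I := fun j hj => by
  have : j ≠ k := fun h => hj (h ▸ hk)
  simp [f, this]

theorem om_eq_zero_of_VS {I : Set (Fin n)} {x y : Vec} (hx : x ∈ VS I) (hy : y ∈ VS Iᶜ) :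
    om x y = 0 := by
  rw [om, sympForm_eq_sum]
  refine Finset.sum_eq_zero fun k _ => ?_
  by_cases hk : k ∈ I
  · obtain ⟨h1, h2⟩ := hy k (not_not_intro hk)
    simp [h1, h2]
  · obtain ⟨h1, h2⟩ := hx k hk
    simp [h1, h2]

theorem om_VS_e {I : Set (Fin n)} {x : Vec} (hx : x ∈ VS I) {k : Fin n} (hk : k ∉ I) :
    om x (e k) = 0 ∧ om x (f k) = 0 := by
  simp [om_e, om_f, hx k hk]

theorem act_mem_VS {I : Set (Fin n)} {g : Sp} (hg : g ∈ fixS I) {x : Vec} (hx : x ∈ VS I) :
    act g x ∈ VS I := by
  intro k hk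
  have h1 := om_act g x (e k)
  have h2 := om_act g x (f k)
  rw [(hg k hk).1, om_e, om_e, (hx k hk).2] at h1
  rw [(hg k hk).2, om_f, om_f, (hx k hk).1] at h2
  exact ⟨h2, by simpa using h1⟩

theorem act_fix_of_VS {I : Set (Fin n)} {g : Sp} (hg : g ∈ fixS I) {x : Vec} (hx : x ∈ VS Iᶜ) :
    act g x = x := by
  refine eq_of_om fun y => ?_
  have h : act g⁻¹ y - y ∈ VS I := by
    intro k hk
    have h1 := om_act g⁻¹ y (e k)
    have h2 := om_act g⁻¹ y (f k)
    rw [((fixS I).inv_mem hg k hk).1, om_e, om_e, neg_inj] at h1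
    rw [((fixS I).inv_mem hg k hk).2, om_f, om_f] at h2
    simp [h1, h2]
  have h3 := om_eq_zero_of_VS h hx
  rw [om_sub_left, sub_eq_zero] at h3
  rw [← om_act g⁻¹ (act g x) y, act_inv_act, om_swap, h3, ← om_swap]

theorem Q_mem_fixS {I : Set (Fin n)} {c v : Vec} (h : om c v = 0) (hc : c ∈ VS I) (hv : v ∈ VS I)
    (z : F) : Q c v z ∈ fixS I := by
  intro k hk
  have hc' := om_VS_e hc hk
  have hv' := om_VS_e hv hk
  constructor <;> refine act_Q_of_om h z ?_ ?_ <;> rw [om_swap] <;>
    simp [hc'.1, hc'.2, hv'.1, hv'.2]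

theorem T_mem_fixS {I : Set (Fin n)} {c : Vec} (hc : c ∈ VS I) (z : F) : T c z ∈ fixS I :=
  Q_mem_fixS (om_zero_right c) hc (Submodule.zero_mem _) z

theorem fixS_commute {I J : Set (Fin n)} (hIJ : Disjoint I J) {g h : Sp} (hg : g ∈ fixS I)
    (hh : h ∈ fixS J) : g * h = h * g := by
  have key : ∀ {I J : Set (Fin n)} {g h : Sp}, Disjoint I J → g ∈ fixS I → h ∈ fixS J →
      ∀ x : Vec, x ∈ VS I → act (g * h) x = act (h * g) x := by
    intro I J g h hd hg hh x hx
    have hs : I ⊆ Jᶜ := fun k hk hJ => Set.disjoint_left.1 hd hk hJ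
    rw [act_mul, act_mul, act_fix_of_VS hh (VS_mono hs hx),
      act_fix_of_VS hh (VS_mono hs (act_mem_VS hg hx))]
  have hout : ∀ k, k ∉ I → k ∉ J → ∀ x : Vec, (x = e k ∨ x = f k) →
      act (g * h) x = act (h * g) x := by
    rintro k h1 h2 x (rfl | rfl) <;>
      simp [act_mul, hg k h1, hh k h2]
  refine ext_basis (fun k => ?_) (fun k => ?_)
  · by_cases h1 : k ∈ I
    · exact key hIJ hg hh _ (e_mem_VS h1)
    by_cases h2 : k ∈ J
    · exact (key hIJ.symm hh hg _ (e_mem_VS h2)).symm
    exact hout k h1 h2 _ (Or.inl rfl)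
  · by_cases h1 : k ∈ I
    · exact key hIJ hg hh _ (f_mem_VS h1)
    by_cases h2 : k ∈ J
    · exact (key hIJ.symm hh hg _ (f_mem_VS h2)).symm
    exact hout k h1 h2 _ (Or.inr rfl)

/-- Elements fixing every `e_k` commute. -/
theorem siegel_commute {g h : Sp} (hg : ∀ k, act g (e k) = e k) (hh : ∀ k, act h (e k) = e k) :
    g * h = h * g := by
  have fixd : ∀ (g : Sp), (∀ k, act g (e k) = e k) → ∀ d : Vec, (∀ k, d (Sum.inr k) = 0) →
      act g d = d := by
    intro g hg d hd
    refine eq_of_om fun y => ?_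
    rw [← om_act g⁻¹ (act g d) y, act_inv_act, om, om, sympForm_eq_sum, sympForm_eq_sum]
    refine Finset.sum_congr rfl fun k _ => ?_
    have h1 : (act g⁻¹ y) (Sum.inr k) = y (Sum.inr k) := by
      have := om_act g⁻¹ y (e k)
      rw [act_inv_eq (hg k), om_e, om_e, neg_inj] at this
      exact this
    simp [hd k, h1]
  have lin : ∀ (g : Sp), (∀ k, act g (e k) = e k) → ∀ j k,
      ((act g (f j) - f j : Vec)) (Sum.inr k) = 0 := by
    intro g hg j k
    have := om_act g (f j) (e k)
    rw [hg k, om_e, om_e, neg_inj] at this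
    simp [this]
  refine ext_basis (fun k => by simp [act_mul, hg, hh]) (fun j => ?_)
  rw [act_mul, act_mul]
  have e1 : act h (f j) = f j + (act h (f j) - f j) := by abel
  have e2 : act g (f j) = f j + (act g (f j) - f j) := by abel
  rw [e1, act_add, fixd g hg _ (lin h hh j), e2, act_add, fixd h hh _ (lin g hg j)]
  abel

/-- `fixS I` is transitive on the nonzero vectors supported on `I`. -/
theorem exists_act_eq {I : Set (Fin n)} {b : Fin n} (hb : b ∈ I) {v : Vec} (hv : v ∈ VS I)
    (hv0 : v ≠ 0) : ∃ g : Sp, g ∈ fixS I ∧ act g (e b) = v := by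
  have step : ∀ x y : Vec, x ∈ VS I → y ∈ VS I → om x y ≠ 0 →
      ∃ g : Sp, g ∈ fixS I ∧ act g x = y := by
    intro x y hx hy hxy
    refine ⟨T (y - x) (om x y)⁻¹, T_mem_fixS (Submodule.sub_mem _ hy hx) _, ?_⟩
    rw [act_T, om_sub_right, om_self, sub_zero, inv_mul_cancel₀ hxy, one_smul]
    abel
  by_cases h : om (e b) v = 0
  · have : ∃ y : Vec, y ∈ VS I ∧ om (e b) y ≠ 0 ∧ om y v ≠ 0 := by
      rw [om_e_left] at h
      by_cases hl : v (Sum.inl b) = 0
      · obtain ⟨i, hi⟩ := Function.ne_iff.1 hv0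
        rcases i with k | k
        · have hk : k ∈ I := by
            by_contra hk
            exact hi (hv k hk).1
          have hkb : k ≠ b := fun hh => hi (hh ▸ hl)
          refine ⟨f b + f k, Submodule.add_mem _ (f_mem_VS hb) (f_mem_VS hk), ?_, ?_⟩
          · rw [om_add_right, om_e_left, om_e_left]
            simp [f, hkb]
          · rw [om_add_left, om_f_left, om_f_left, hl]
            simpa using hi
        · have hk : k ∈ I := by
            by_contra hk
            exact hi (hv k hk).2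
          have hkb : k ≠ b := fun hh => hi (hh ▸ h)
          refine ⟨f b + e k, Submodule.add_mem _ (f_mem_VS hb) (e_mem_VS hk), ?_, ?_⟩
          · rw [om_add_right, om_e_left, om_e_left]
            simp [f, e]
          · rw [om_add_left, om_f_left, om_e_left, hl]
            simpa using hi
      · refine ⟨f b, f_mem_VS hb, ?_, ?_⟩
        · rw [om_e_left]; simp [f]
        · rw [om_f_left]; simpa using hl
    obtain ⟨y, hy, h1, h2⟩ := this
    obtain ⟨g, hg, hge⟩ := step _ _ (e_mem_VS hb) hy h1
    obtain ⟨g', hg', hge'⟩ := step _ _ hy hv h2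
    exact ⟨g' * g, mul_mem hg' hg, by rw [act_mul, hge, hge']⟩
  · exact step _ _ (e_mem_VS hb) hv h

/-- An element fixing `e_c` is a root element times an element fixing `e_c` and `f_c`. -/
theorem stab_form {I : Set (Fin n)} {c : Fin n} (hc : c ∉ I) {g : Sp}
    (hg : g ∈ fixS (insert c I)) (hge : act g (e c) = e c) :
    ∃ (v : Vec) (z : F) (r : Sp), v ∈ VS I ∧ r ∈ fixS I ∧ om (e c) v = 0 ∧
      g = Q (e c) v z * r := by
  set y := act g (f c) with hy
  have hyc : y (Sum.inr c) = 1 := by
    have := om_act g (e c) (f c)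
    rw [hge, om_e_left, om_e_left] at this
    rw [hy]
    simpa [f] using this
  have hyV : y ∈ VS (insert c I) := act_mem_VS hg (f_mem_VS (Set.mem_insert c I))
  set v : Vec := f c + y (Sum.inl c) • e c - y with hv
  have hvV : v ∈ VS I := by
    intro k hk
    by_cases hkc : k = c
    · subst hkc; simp [hv, e, f, hyc]
    · have := hyV k (by simp [hkc, hk])
      simp [hv, e, f, this, hkc]
  have hov : om (e c) v = 0 := by rw [om_e_left]; exact (hvV c hc).2
  refine ⟨v, -y (Sum.inl c), (Q (e c) v (-y (Sum.inl c)))⁻¹ * g, hvV, ?_, hov,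
    (mul_inv_cancel_left _ _).symm⟩
  intro k hk
  by_cases hkc : k = c
  · subst hkc
    refine ⟨?_, ?_⟩
    · rw [act_mul, hge]
      exact act_inv_eq (act_Q_of_om hov _ (om_self _) hov)
    · rw [act_mul, ← hy]
      apply act_inv_eq
      rw [act_Q hov, om_f_left, om_f_left, (hvV k hc).1]
      simp only [e, f, hv]
      ext i
      rcases i with j | j <;> by_cases hj : j = k <;> simp [hj]
  · have hk' : k ∉ insert c I := by simp [hkc, hk]
    have hQ : Q (e c) v (-y (Sum.inl c)) ∈ fixS (insert c I) :=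
      Q_mem_fixS hov (e_mem_VS (Set.mem_insert _ _)) (VS_mono (Set.subset_insert _ _) hvV) _
    exact mul_mem (inv_mem hQ) hg k hk'

/-- The elements fixing all basis vectors outside one plane are products of the two unipotent kinds. -/
theorem fixS_singleton_le (k : Fin n) :
    (fixS {k} : Subgroup Sp) ≤
      Subgroup.closure {g : Sp | g ∈ fixS {k} ∧ (act g (e k) = e k ∨ act g (f k) = f k)} := by
  intro g hg
  set S : Subgroup Sp := Subgroup.closure {g : Sp | g ∈ fixS {k} ∧
    (act g (e k) = e k ∨ act g (f k) = f k)}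
  have hTe : ∀ z : F, T (e k) z ∈ S := fun z => Subgroup.subset_closure
    ⟨T_mem_fixS (e_mem_VS (Set.mem_singleton k)) z, Or.inl (by simp [act_T])⟩
  have hTf : ∀ z : F, T (f k) z ∈ S := fun z => Subgroup.subset_closure
    ⟨T_mem_fixS (f_mem_VS (Set.mem_singleton k)) z, Or.inr (by simp [act_T])⟩
  have hxe : ∀ x : Vec, x ∈ VS {k} → x (Sum.inr k) ≠ 0 →
      ∃ t ∈ S, t ∈ fixS {k} ∧ act t (e k) = x := by
    intro x hx hβ
    refine ⟨T (e k) ((1 - x (Sum.inl k)) / x (Sum.inr k)) * T (f k) (x (Sum.inr k)),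
      mul_mem (hTe _) (hTf _), mul_mem (T_mem_fixS (e_mem_VS (Set.mem_singleton k)) _) (T_mem_fixS (f_mem_VS (Set.mem_singleton k)) _), ?_⟩
    rw [act_mul, act_T (f k), om_f, act_T, om_e]
    ext i
    rcases i with j | j <;> by_cases hj : j = k
    · subst hj; simp [e, f]; field_simp; ring
    · simp [e, f, hj, (hx j hj).1]
    · subst hj; simp [e, f]
    · simp [e, f, hj, (hx j hj).2]
  have fin : ∀ h : Sp, h ∈ fixS {k} → (act h (e k)) (Sum.inr k) ≠ 0 → h ∈ S := by
    intro h hh hβ
    obtain ⟨t, ht, htf, hte⟩ := hxe _ (act_mem_VS hh (e_mem_VS (Set.mem_singleton k))) hβ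
    have : t⁻¹ * h ∈ S := Subgroup.subset_closure
      ⟨mul_mem (inv_mem htf) hh, Or.inl (by rw [act_mul]; exact act_inv_eq hte)⟩
    simpa using mul_mem ht this
  by_cases hβ : (act g (e k)) (Sum.inr k) = 0
  · have hα : (act g (e k)) (Sum.inl k) ≠ 0 := by
      intro hα
      have h0 : act g (e k) = 0 := by
        ext i
        rcases i with j | j <;> by_cases hj : j = k
        · subst hj; exact hα
        · exact (act_mem_VS hg (e_mem_VS (Set.mem_singleton k)) j hj).1
        · subst hj; exact hβ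
        · exact (act_mem_VS hg (e_mem_VS (Set.mem_singleton k)) j hj).2
      have h1 := congrArg (act g⁻¹) h0
      rw [act_inv_act, act_zero] at h1
      simpa [e] using congrFun h1 (Sum.inl k)
    have h2 := fin (T (f k) 1 * g) (mul_mem (T_mem_fixS (f_mem_VS (Set.mem_singleton k)) _) hg) (by
      rw [act_mul, act_T, om_f]
      simpa [f, hβ] using hα)
    simpa using mul_mem (inv_mem (hTf 1)) h2
  · exact fin g hg hβ

end Cfsg.Agent.Recog.SpSlim
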