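import Cfsg.Agent.Lib.Recog.SpSlimStep

/-! From compatible homomorphisms to the homomorphism on the symplectic group. -/

set_option autoImplicit false

namespace Cfsg.Agent.Recog.SpSlim

/-- The graph of a homomorphism defined on a subgroup. -/
def graph {G H : Type*} [Group G] [Group H] (K : Subgroup G) (φ : ↥K →* H) : Subgroup (G × H) :=
  (MonoidHom.prod K.subtype φ).range

theorem fn_graph_sup {G H : Type*} [Group G] [Group H] {K L : Subgroup G} {φ : ↥K →* H} {ψ : ↥L →* H}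
    (Ψ : ↥(K ⊔ L) →* H) (h1 : ∀ (g : G) (hg : g ∈ K), Ψ ⟨g, Subgroup.mem_sup_left hg⟩ = φ ⟨g, hg⟩)
    (h2 : ∀ (g : G) (hg : g ∈ L), Ψ ⟨g, Subgroup.mem_sup_right hg⟩ = ψ ⟨g, hg⟩) :
    Fn (graph K φ ⊔ graph L ψ) := by
  have hle : graph K φ ⊔ graph L ψ ≤ graph (K ⊔ L) Ψ := by
    refine sup_le ?_ ?_
    · rintro _ ⟨g, rfl⟩
      exact ⟨⟨g.1, Subgroup.mem_sup_left g.2⟩, Prod.ext rfl (h1 g.1 g.2)⟩
    · rintro _ ⟨g, rfl⟩
      exact ⟨⟨g.1, Subgroup.mem_sup_right g.2⟩, Prod.ext rfl (h2 g.1 g.2)⟩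
  intro x hx hx1
  obtain ⟨g, rfl⟩ := hle hx
  have : g = 1 := Subtype.ext hx1
  simp [this]

variable {F : Type*} [Field F] {n : ℕ} {H : Type*} [Group H]

theorem exists_unique_hom {S M : Fin n → Subgroup (Pr n F H)} (A : Amal S M)
    (hF : ∃ x : F, x ≠ 0 ∧ x ≠ 1) (hn : 2 ≤ n) :
    ∃! Φ : ↥(Matrix.symplecticGroup (Fin n) F) →* H,
      (∀ j, ∀ x ∈ S j, Φ x.1 = x.2) ∧
        ∀ i : Fin n, i.1 + 1 < n → ∀ x ∈ M i, Φ x.1 = x.2 := by
  have hG := A.good hF hn (n - 1) ⟨0, by omega⟩ n le_rfl (by simp; omega)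
  change Good S M _ _ at hG
  have hI : ∀ g : ↥(Matrix.symplecticGroup (Fin n) F), g ∈ fixS (Iv n 0 n) := fun g k hk =>
    absurd (mem_Iv.2 ⟨Nat.zero_le _, k.2⟩) hk
  let E := Gam S M 0 n
  let π : ↥E →* ↥(Matrix.symplecticGroup (Fin n) F) := (MonoidHom.fst _ _).comp E.subtype
  have hbij : Function.Bijective π := by
    refine ⟨fun x y h => Subtype.ext (hG.fn.eq x.2 y.2 h), fun g => ?_⟩
    obtain ⟨x, hx, hx1⟩ := hG.surj g (hI g)
    exact ⟨⟨x, hx⟩, hx1⟩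
  let e' := MulEquiv.ofBijective π hbij
  let Φ : ↥(Matrix.symplecticGroup (Fin n) F) →* H :=
    ((MonoidHom.snd _ _).comp E.subtype).comp e'.symm.toMonoidHom
  have hΦ : ∀ x ∈ E, Φ x.1 = x.2 := by
    intro x hx
    have : e'.symm x.1 = ⟨x, hx⟩ := (MulEquiv.symm_apply_eq e').2 rfl
    show (e'.symm x.1 : Pr n F H).2 = x.2
    rw [this]
  refine ⟨Φ, ⟨fun j x hx => hΦ x (S_le_Gam (Nat.zero_le _) j.2 hx),
    fun i hi x hx => hΦ x (M_le_Gam (Nat.zero_le _) hi hx)⟩, fun Ψ hΨ => ?_⟩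
  refine MonoidHom.ext fun g => ?_
  obtain ⟨x, hx, rfl⟩ := hG.surj g (hI g)
  rw [hΦ x hx]
  have hle : Gam S M 0 n ≤
      MonoidHom.eqLocus (Ψ.comp (MonoidHom.fst _ H)) (MonoidHom.snd _ _) := by
    refine (Subgroup.closure_le _).2 fun z hz => ?_
    rcases hz with ⟨j, -, -, hz⟩ | ⟨i, -, hi, hz⟩
    · exact hΨ.1 j z hz
    · exact hΨ.2 i hi z hz
  exact hle hx

end Cfsg.Agent.Recog.SpSlim
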