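import Cfsg.Agent.Lib.Recog.SpSlimBase

/-! Lifts of the stabiliser of a vector to a group glued from a plane group and a smaller symplectic
group. -/

set_option autoImplicit false

namespace Cfsg.Agent.Recog.SpSlim

open Matrix Cfsg.Agent.Classical

variable {F : Type*} [Field F] {n : ℕ} {H : Type*} [Group H]

local notation "Vec" => (Fin n ⊕ Fin n → F)
set_option quotPrecheck false in
local notation "Sp" => ↥(Matrix.symplecticGroup (Fin n) F)

/-- Pairs of a symplectic matrix and an element of the target. -/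
abbrev Pr (n : ℕ) (F : Type*) [Field F] (H : Type*) : Type _ :=
  ↥(Matrix.symplecticGroup (Fin n) F) × H

/-- A subgroup of pairs that is the graph of a function on its projection. -/
def Fn {G H : Type*} [Group G] [Group H] (K : Subgroup (G × H)) : Prop :=
  ∀ x ∈ K, x.1 = 1 → x = 1

theorem Fn.eq {G H : Type*} [Group G] [Group H] {K : Subgroup (G × H)} (hK : Fn K) {x y : G × H}
    (hx : x ∈ K) (hy : y ∈ K) (h : x.1 = y.1) : x = y :=
  inv_mul_eq_one.1 (hK _ (mul_mem (inv_mem hx) hy) (by simp [h]))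

theorem Fn.mono {G H : Type*} [Group G] [Group H] {K L : Subgroup (G × H)} (hK : Fn K) (h : L ≤ K) :
    Fn L :=
  fun x hx => hK x (h hx)

theorem Fn.commute {G H : Type*} [Group G] [Group H] {K : Subgroup (G × H)} (hK : Fn K) {x y : G × H}
    (hx : x ∈ K) (hy : y ∈ K) (h : x.1 * y.1 = y.1 * x.1) : x * y = y * x :=
  hK.eq (mul_mem hx hy) (mul_mem hy hx) (by simpa using h)

/-- The hypotheses: `K` lifts `fixS I`, `M` lifts the elements of `fixS {c, b}` fixing `e_c, e_b`. -/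
structure Heis (c b : Fin n) (I : Set (Fin n)) (K M S0 : Subgroup (Pr n F H)) : Prop where
  c_not : c ∉ I
  b_mem : b ∈ I
  fnK : Fn K
  K_sub : ∀ x ∈ K, x.1 ∈ fixS I
  K_surj : ∀ g ∈ fixS I, ∃ x ∈ K, x.1 = g
  M_sub : ∀ x ∈ M, x.1 ∈ fixS {c, b} ∧ act x.1 (e c) = e c ∧ act x.1 (e b) = e b
  M_surj : ∀ g ∈ fixS {c, b}, act g (e c) = e c → act g (e b) = e b → ∃ x ∈ M, x.1 = g
  S0_le : S0 ≤ K
  S0_surj : ∀ g ∈ fixS ({b} : Set (Fin n)), ∃ x ∈ S0, x.1 = g
  fnMS : Fn (M ⊔ S0)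
  stab_comm : ∀ k ∈ K, act k.1 (e b) = e b → ∀ m ∈ M, k * m = m * k
  centre_comm : ∀ u ∈ M, u.1 ∈ fixS {c} → ∀ k ∈ K, k * u = u * k

namespace Heis

variable {c b : Fin n} {I : Set (Fin n)} {K M S0 : Subgroup (Pr n F H)} (D : Heis c b I K M S0)
include D

theorem c_ne_b : c ≠ b := fun h => D.c_not (h ▸ D.b_mem)

theorem M_comm {x y : Pr n F H} (hx : x ∈ M) (hy : y ∈ M) : x * y = y * x := by
  refine (D.fnMS.mono le_sup_left).commute hx hy (siegel_commute (fun k => ?_) (fun k => ?_))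
  · obtain ⟨h1, h2, h3⟩ := D.M_sub x hx
    by_cases hc : k = c
    · exact hc ▸ h2
    by_cases hb : k = b
    · exact hb ▸ h3
    exact (h1 k (by simp [hc, hb])).1
  · obtain ⟨h1, h2, h3⟩ := D.M_sub y hy
    by_cases hc : k = c
    · exact hc ▸ h2
    by_cases hb : k = b
    · exact hb ▸ h3
    exact (h1 k (by simp [hc, hb])).1

theorem K_fix_ec {x : Pr n F H} (hx : x ∈ K) : act x.1 (e c) = e c ∧ act x.1 (f c) = f c :=
  D.K_sub x hx c D.c_not

theorem om_ec {v : Vec} (hv : v ∈ VS I) : om (e c) v = 0 := by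
  rw [om_e_left]; exact (hv c D.c_not).2

theorem exists_m (t z : F) : ∃ x ∈ M, x.1 = Q (e c) (t • e b) z := by
  have h : om (e c) (t • e b : Vec) = 0 := D.om_ec (Submodule.smul_mem _ _ (e_mem_VS D.b_mem))
  refine D.M_surj _ (Q_mem_fixS h (e_mem_VS (by simp)) (Submodule.smul_mem _ _ (e_mem_VS (by simp))) z)
    (act_Q_of_om h z (om_self _) h) (act_Q_of_om h z ?_ ?_)
  · rw [om_e]; simp [e]
  · rw [om_smul_right, om_self, mul_zero]

/-- The lift of the basic root element. -/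
noncomputable def m1 : Pr n F H := (D.exists_m 1 0).choose

theorem m1_mem : D.m1 ∈ M := (D.exists_m 1 0).choose_spec.1

theorem m1_fst : D.m1.1 = Q (e c) (e b) 0 := by
  simpa [m1] using (D.exists_m 1 0).choose_spec.2

theorem exists_k {v : Vec} (hv : v ∈ VS I) (h0 : v ≠ 0) : ∃ k ∈ K, act k.1 (e b) = v := by
  obtain ⟨g, hg, hge⟩ := exists_act_eq D.b_mem hv h0
  obtain ⟨k, hk, hk1⟩ := D.K_surj g hg
  exact ⟨k, hk, hk1 ▸ hge⟩

/-- The lift of `Q (e c) v 0`, obtained by conjugation. -/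
noncomputable def dd (v : Vec) : Pr n F H :=
  open _root_.Classical in
  if h : v ∈ VS I ∧ v ≠ 0 then
    (D.exists_k h.1 h.2).choose * D.m1 * (D.exists_k h.1 h.2).choose⁻¹
  else 1

theorem dd_eq {k : Pr n F H} (hk : k ∈ K) {v : Vec} (hv : act k.1 (e b) = v) :
    D.dd v = k * D.m1 * k⁻¹ := by
  have hV : v ∈ VS I := hv ▸ act_mem_VS (D.K_sub k hk) (e_mem_VS D.b_mem)
  have h0 : v ≠ 0 := by
    intro h
    have := congrArg (act k.1⁻¹) (hv.trans h)
    rw [act_inv_act, act_zero] at this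
    simpa [e] using congrFun this (Sum.inl b)
  obtain ⟨h1, h2⟩ := (D.exists_k hV h0).choose_spec
  rw [dd, dif_pos ⟨hV, h0⟩]
  set k0 := (D.exists_k hV h0).choose
  have hst : act (k⁻¹ * k0).1 (e b) = e b := by
    simp only [Prod.fst_mul, Prod.fst_inv, act_mul, h2]
    exact act_inv_eq hv
  have hc := D.stab_comm _ (mul_mem (inv_mem hk) h1) hst _ D.m1_mem
  calc k0 * D.m1 * k0⁻¹ = k * ((k⁻¹ * k0) * D.m1) * k0⁻¹ := by group
    _ = k * (D.m1 * (k⁻¹ * k0)) * k0⁻¹ := by rw [hc]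
    _ = k * D.m1 * k⁻¹ := by group

@[simp] theorem dd_zero : D.dd 0 = 1 := by simp [dd]

theorem dd_conj {k : Pr n F H} (hk : k ∈ K) {v : Vec} (hv : v ∈ VS I) :
    k * D.dd v * k⁻¹ = D.dd (act k.1 v) := by
  by_cases h0 : v = 0
  · simp [h0]
  obtain ⟨k0, hk0, hk0e⟩ := D.exists_k hv h0
  rw [D.dd_eq hk0 hk0e, D.dd_eq (mul_mem hk hk0) (by rw [Prod.fst_mul, act_mul, hk0e])]
  group

theorem dd_fst {v : Vec} (hv : v ∈ VS I) : (D.dd v).1 = Q (e c) v 0 := by
  by_cases h0 : v = 0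
  · simp [h0]
  obtain ⟨k, hk, hke⟩ := D.exists_k hv h0
  rw [D.dd_eq hk hke]
  simp only [Prod.fst_mul, Prod.fst_inv, D.m1_fst]
  rw [Q_conj _ (D.om_ec (e_mem_VS D.b_mem)), (D.K_fix_ec hk).1, hke]

theorem dd_plane {w : Vec} (hw : w ∈ VS ({b} : Set (Fin n))) : D.dd w ∈ M ⊔ S0 := by
  by_cases h0 : w = 0
  · simp [h0]
  obtain ⟨g, hg, hge⟩ := exists_act_eq (Set.mem_singleton b) hw h0
  obtain ⟨s, hs, hs1⟩ := D.S0_surj g hg
  rw [D.dd_eq (D.S0_le hs) (hs1 ▸ hge)]
  exact mul_mem (mul_mem (Subgroup.mem_sup_right hs) (Subgroup.mem_sup_left D.m1_mem))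
    (inv_mem (Subgroup.mem_sup_right hs))

/-- The lifts of the transvections of `e_c`. -/
def cen (_D : Heis c b I K M S0) : Subgroup (Pr n F H) := M ⊓ (fixS ({c} : Set (Fin n))).comap (MonoidHom.fst _ _)

theorem exists_cen (z : F) : ∃ u ∈ D.cen, u.1 = T (e c) z := by
  obtain ⟨u, hu, hu1⟩ := D.exists_m 0 z
  refine ⟨u, ⟨hu, ?_⟩, by simpa [T] using hu1⟩
  show u.1 ∈ fixS _
  rw [hu1]
  simpa using Q_mem_fixS (om_zero_right (e c)) (e_mem_VS (Set.mem_singleton c)) (Submodule.zero_mem _) z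

theorem cen_comm {u k : Pr n F H} (hu : u ∈ D.cen) (hk : k ∈ K) : k * u = u * k :=
  D.centre_comm u hu.1 hu.2 k hk

theorem cen_comm_dd {u : Pr n F H} (hu : u ∈ D.cen) {v : Vec} (hv : v ∈ VS I) :
    u * D.dd v = D.dd v * u := by
  by_cases h0 : v = 0
  · simp [h0]
  obtain ⟨k, hk, hke⟩ := D.exists_k hv h0
  rw [D.dd_eq hk hke]
  have a : Commute u k := (D.cen_comm hu hk).symm
  have b : Commute u D.m1 := D.M_comm hu.1 D.m1_mem
  exact ((a.mul_right b).mul_right a.inv_right).eq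

theorem add_of_om_ne {v v' : Vec} (hv : v ∈ VS I) (hv' : v' ∈ VS I) (h : om v v' ≠ 0) :
    ∃ u ∈ D.cen, D.dd v * D.dd v' = D.dd (v + v') * u := by
  have h0 : v ≠ 0 := by rintro rfl; simp at h
  obtain ⟨k, hk, hke⟩ := D.exists_k hv h0
  set w := act k.1⁻¹ v' with hw
  have hwV : w ∈ VS I := act_mem_VS (inv_mem (D.K_sub k hk)) hv'
  set a : F := om v v' with ha
  have hwa : w (Sum.inr b) = a := by
    rw [← om_e_left w b, hw, ha, ← om_act k.1, act_act_inv, hke]
  set y : Vec := a⁻¹ • w with hy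
  have hyb : y (Sum.inr b) = 1 := by simp [hy, hwa, inv_mul_cancel₀ h]
  have hyV : y ∈ VS I := Submodule.smul_mem _ _ hwV
  set u0 : Vec := f b + y (Sum.inl b) • e b - y with hu0
  have hu0V : u0 ∈ VS I := Submodule.sub_mem _
    (Submodule.add_mem _ (f_mem_VS D.b_mem) (Submodule.smul_mem _ _ (e_mem_VS D.b_mem))) hyV
  have hou : om (e b) u0 = 0 := by rw [om_e_left]; simp [hu0, e, f, hyb]
  obtain ⟨r, hr, hr1⟩ := D.K_surj _ (Q_mem_fixS hou (e_mem_VS D.b_mem) hu0V (-y (Sum.inl b)))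
  have hre : act r.1 (e b) = e b := by rw [hr1, act_Q_of_om hou _ (om_self _) hou]
  have hrf : act r.1 (a • f b) = w := by
    have hu0l : u0 (Sum.inl b) = 0 := by simp [hu0, e, f]
    rw [act_smul, hr1, act_Q hou, om_f_left, om_f_left, hu0l]
    have : (f b : Vec) + -((e b : Vec) (Sum.inl b)) • u0 + -(0 : F) • e b
        + (-y (Sum.inl b) * -((e b : Vec) (Sum.inl b))) • e b = y := by
      ext i
      simp [hu0, e, f]
      ring
    rw [this, hy, smul_smul, mul_inv_cancel₀ h, one_smul]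
  have hbV : (a • f b : Vec) ∈ VS ({b} : Set (Fin n)) :=
    Submodule.smul_mem _ _ (f_mem_VS (Set.mem_singleton b))
  have heV : (e b : Vec) ∈ VS ({b} : Set (Fin n)) := e_mem_VS (Set.mem_singleton b)
  have sub : VS ({b} : Set (Fin n)) ≤ (VS I : Submodule F Vec) :=
    VS_mono (Set.singleton_subset_iff.2 D.b_mem)
  have hsV : (e b + a • f b : Vec) ∈ VS ({b} : Set (Fin n)) := Submodule.add_mem _ heV hbV
  obtain ⟨u, hu, hu1⟩ := D.exists_cen (om (a • f b : Vec) (e b))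
  have key : D.dd (e b) * D.dd (a • f b) = D.dd (e b + a • f b) * u := by
    refine D.fnMS.eq (mul_mem (D.dd_plane heV) (D.dd_plane hbV))
      (mul_mem (D.dd_plane hsV) (Subgroup.mem_sup_left hu.1)) ?_
    rw [Prod.fst_mul, Prod.fst_mul, D.dd_fst (sub heV), D.dd_fst (sub hbV), D.dd_fst (sub hsV), hu1, T,
      Q_mul (D.om_ec (sub heV)) (D.om_ec (sub hbV)), Q_mul (D.om_ec (sub hsV)) (om_zero_right _)]
    simp
  refine ⟨u, hu, ?_⟩
  have hkr : k * r ∈ K := mul_mem hk hr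
  have e1 : act (k * r).1 (e b) = v := by rw [Prod.fst_mul, act_mul, hre, hke]
  have e2 : act (k * r).1 (a • f b) = v' := by rw [Prod.fst_mul, act_mul, hrf, hw, act_act_inv]
  have c1 := D.dd_conj hkr (sub heV)
  have c2 := D.dd_conj hkr (sub hbV)
  have c3 := D.dd_conj hkr (sub hsV)
  rw [e1] at c1
  rw [e2] at c2
  rw [act_add, e1, e2] at c3
  rw [← c1, ← c2, ← c3]
  calc k * r * D.dd (e b) * (k * r)⁻¹ * (k * r * D.dd (a • f b) * (k * r)⁻¹)
      = k * r * (D.dd (e b) * D.dd (a • f b)) * (k * r)⁻¹ := by group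
    _ = k * r * D.dd (e b + a • f b) * (u * (k * r)⁻¹) := by rw [key]; group
    _ = k * r * D.dd (e b + a • f b) * (k * r)⁻¹ * u := by
      rw [← D.cen_comm hu (inv_mem hkr), mul_assoc]
      group

theorem dd_smul_e (t : F) : D.dd (t • e b) ∈ M := by
  obtain ⟨m, hm, hm1⟩ := D.exists_m t 0
  have hV : (t • e b : Vec) ∈ VS ({b} : Set (Fin n)) :=
    Submodule.smul_mem _ _ (e_mem_VS (Set.mem_singleton b))
  rw [D.fnMS.eq (D.dd_plane hV) (Subgroup.mem_sup_left hm)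
    (by rw [D.dd_fst (VS_mono (Set.singleton_subset_iff.2 D.b_mem) hV), hm1])]
  exact hm

theorem dd_add (hF : ∃ a : F, a ≠ 0 ∧ a ≠ 1) {v v' : Vec} (hv : v ∈ VS I) (hv' : v' ∈ VS I) :
    ∃ u ∈ D.cen, D.dd v * D.dd v' = D.dd (v + v') * u := by
  by_cases h : om v v' = 0
  swap
  · exact D.add_of_om_ne hv hv' h
  by_cases h0 : v = 0
  · exact ⟨1, one_mem _, by simp [h0]⟩
  obtain ⟨k, hk, hke⟩ := D.exists_k hv h0
  set w := act k.1⁻¹ v' with hw
  have hwV : w ∈ VS I := act_mem_VS (inv_mem (D.K_sub k hk)) hv'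
  have hwr : w (Sum.inr b) = 0 := by
    rw [← om_e_left w b, hw, ← om_act k.1, act_act_inv, hke, h]
  have hev : (e b : Vec) ∈ VS I := e_mem_VS D.b_mem
  have back : ∀ u ∈ D.cen, D.dd (e b) * D.dd w = D.dd (e b + w) * u →
      D.dd v * D.dd v' = D.dd (v + v') * u := by
    intro u hu hkey
    have c1 := D.dd_conj hk hev
    have c2 := D.dd_conj hk hwV
    have c3 := D.dd_conj hk (Submodule.add_mem _ hev hwV)
    rw [hke] at c1
    rw [hw, act_act_inv, ← hw] at c2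
    rw [act_add, hke, hw, act_act_inv, ← hw] at c3
    rw [← c1, ← c2, ← c3]
    calc k * D.dd (e b) * k⁻¹ * (k * D.dd w * k⁻¹) = k * (D.dd (e b) * D.dd w) * k⁻¹ := by group
      _ = k * D.dd (e b + w) * (u * k⁻¹) := by rw [hkey]; group
      _ = k * D.dd (e b + w) * k⁻¹ * u := by rw [← D.cen_comm hu (inv_mem hk)]; group
  by_cases hex : ∃ j, j ≠ b ∧ (w (Sum.inl j) ≠ 0 ∨ w (Sum.inr j) ≠ 0)
  swap
  · push Not at hex
    have hwe : w = w (Sum.inl b) • e b := by
      ext i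
      rcases i with j | j <;> by_cases hj : j = b
      · subst hj; simp [e]
      · simp [e, hj, (hex j hj).1]
      · subst hj; simp [e, hwr]
      · simp [e, hj, (hex j hj).2]
    set t := w (Sum.inl b)
    have heV : (e b : Vec) = (1 : F) • e b := (one_smul F _).symm
    obtain ⟨u, hu, hu1⟩ := D.exists_cen (om w (e b))
    refine ⟨u, hu, back u hu ?_⟩
    have m1' : D.dd (e b) ∈ M := by rw [heV]; exact D.dd_smul_e 1
    have m2' : D.dd w ∈ M := by rw [hwe]; exact D.dd_smul_e t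
    have m3' : D.dd (e b + w) ∈ M := by
      rw [hwe, show (e b : Vec) + t • e b = (1 + t) • e b by rw [add_smul, one_smul]]
      exact D.dd_smul_e _
    refine (D.fnMS.mono le_sup_left).eq (mul_mem m1' m2') (mul_mem m3' hu.1) ?_
    rw [Prod.fst_mul, Prod.fst_mul, D.dd_fst hev, D.dd_fst hwV, D.dd_fst (Submodule.add_mem _ hev hwV),
      hu1, T, Q_mul (D.om_ec hev) (D.om_ec hwV),
      Q_mul (D.om_ec (Submodule.add_mem _ hev hwV)) (om_zero_right _)]
    simp
  obtain ⟨a0, ha0, ha1⟩ := hF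
  set lam : F := -a0
  obtain ⟨j, hjb, hj⟩ := hex
  have hjI : j ∈ I := by
    by_contra hjI
    exact hj.elim (fun hh => hh (hwV j hjI).1) fun hh => hh (hwV j hjI).2
  have hb' : ∃ y : Vec, y ∈ VS I ∧ om (e b) y = 1 ∧ om w y = lam := by
    rcases hj with hj | hj
    · refine ⟨f b + ((lam - w (Sum.inl b)) / w (Sum.inl j)) • f j, Submodule.add_mem _
        (f_mem_VS D.b_mem) (Submodule.smul_mem _ _ (f_mem_VS hjI)), ?_, ?_⟩
      · rw [om_e_left]; simp [f, hjb.symm]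
      · rw [om_add_right, om_smul_right, om_f, om_f, div_mul_cancel₀ _ hj]; ring
    · refine ⟨f b + ((lam - w (Sum.inl b)) / -w (Sum.inr j)) • e j, Submodule.add_mem _
        (f_mem_VS D.b_mem) (Submodule.smul_mem _ _ (e_mem_VS hjI)), ?_, ?_⟩
      · rw [om_e_left]; simp [f, e]
      · rw [om_add_right, om_smul_right, om_f, om_e, div_mul_cancel₀ _ (neg_ne_zero.2 hj)]; ring
  obtain ⟨y, hyV, hy1, hy2⟩ := hb'
  have hew : om (e b) w = 0 := by rw [om_e_left, hwr]
  set x : Vec := w - y with hx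
  have hxV : x ∈ VS I := Submodule.sub_mem _ hwV hyV
  obtain ⟨u1, hu1, k1⟩ := D.add_of_om_ne hxV hyV (by
    rw [hx, om_sub_left, hy2, om_self, sub_zero]
    simpa [lam] using ha0)
  obtain ⟨u2, hu2, k2⟩ := D.add_of_om_ne hev hxV (by
    rw [hx, om_sub_right, hy1, hew, zero_sub]
    exact neg_ne_zero.2 one_ne_zero)
  obtain ⟨u3, hu3, k3⟩ := D.add_of_om_ne (Submodule.add_mem _ hev hxV) hyV (by
    rw [hx, om_add_left, om_sub_left, hy1, hy2, om_self, sub_zero]
    intro hc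
    apply ha1
    simp only [lam] at hc
    linear_combination -hc)
  have hxy : x + y = w := by simp [hx]
  have hsum : e b + x + y = e b + w := by rw [add_assoc, hxy]
  rw [hxy] at k1
  rw [hsum] at k3
  refine ⟨u3 * u2 * u1⁻¹, mul_mem (mul_mem hu3 hu2) (inv_mem hu1), back _
    (mul_mem (mul_mem hu3 hu2) (inv_mem hu1)) ?_⟩
  have k1' : D.dd w = D.dd x * D.dd y * u1⁻¹ := by rw [k1, mul_inv_cancel_right]
  have cu : u2 * D.dd y = D.dd y * u2 := D.cen_comm_dd hu2 hyV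
  calc D.dd (e b) * D.dd w = D.dd (e b) * D.dd x * D.dd y * u1⁻¹ := by rw [k1']; group
    _ = D.dd (e b + x) * (u2 * D.dd y) * u1⁻¹ := by rw [k2]; group
    _ = D.dd (e b + x) * D.dd y * u2 * u1⁻¹ := by rw [cu]; group
    _ = D.dd (e b + w) * (u3 * u2 * u1⁻¹) := by rw [k3]; group

/-- The shape of the elements of `M ⊔ K`. -/
def IsNF (x : Pr n F H) : Prop := ∃ v ∈ VS I, ∃ u ∈ D.cen, ∃ k ∈ K, x = D.dd v * u * k

theorem M_decomp {m : Pr n F H} (hm : m ∈ M) :
    ∃ t : F, ∃ u ∈ D.cen, ∃ s ∈ S0, m = D.dd (t • e b) * u * s := by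
  obtain ⟨h1, h2, h3⟩ := D.M_sub m hm
  obtain ⟨v, z, r, hv, hr, hov, hg⟩ := stab_form (I := ({b} : Set (Fin n))) (by simp [D.c_ne_b]) h1 h2
  have hreb : act r (e b) ∈ VS ({b} : Set (Fin n)) := act_mem_VS hr (e_mem_VS (Set.mem_singleton b))
  have hr0 : om (act r (e b)) (e c) = 0 := (om_VS_e hreb (by simp [D.c_ne_b])).1
  have h3' : act r (e b) + om (act r (e b)) v • e c = e b := by
    have h3'' := h3
    rw [hg, act_mul, act_Q hov, hr0] at h3''
    simpa using h3''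
  have hov2 : om (act r (e b)) v = 0 := by
    have := congrFun h3' (Sum.inl c)
    simp only [Pi.add_apply, Pi.smul_apply, (hreb c (by simp [D.c_ne_b])).1, smul_eq_mul] at this
    simpa [e, D.c_ne_b] using this
  have hrb : act r (e b) = e b := by simpa [hov2] using h3'
  have hvr : v (Sum.inr b) = 0 := by rw [← om_e_left v b, ← hrb]; exact hov2
  have hve : v = v (Sum.inl b) • e b := by
    ext i
    rcases i with j | j <;> by_cases hj : j = b
    · subst hj; simp [e]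
    · simp [e, hj, (hv j hj).1]
    · subst hj; simp [e, hvr]
    · simp [e, hj, (hv j hj).2]
  obtain ⟨u, hu, hu1⟩ := D.exists_cen z
  obtain ⟨s, hs, hs1⟩ := D.S0_surj r hr
  have hv0 : (v (Sum.inl b) • e b : Vec) ∈ VS I := Submodule.smul_mem _ _ (e_mem_VS D.b_mem)
  refine ⟨v (Sum.inl b), u, hu, s, hs, D.fnMS.eq (Subgroup.mem_sup_left hm) (mul_mem (mul_mem
    (Subgroup.mem_sup_left (D.dd_smul_e _)) (Subgroup.mem_sup_left hu.1))
    (Subgroup.mem_sup_right hs)) ?_⟩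
  rw [Prod.fst_mul, Prod.fst_mul, D.dd_fst hv0, hu1, hs1, T,
    Q_mul (D.om_ec hv0) (om_zero_right _), hg, ← hve]
  simp

theorem isNF_of_mem (hF : ∃ a : F, a ≠ 0 ∧ a ≠ 1) {x : Pr n F H} (hx : x ∈ M ⊔ K) : D.IsNF x := by
  have hone : D.IsNF 1 := ⟨0, Submodule.zero_mem _, 1, one_mem _, 1, one_mem _, by simp⟩
  have stepK : ∀ k ∈ K, ∀ y, D.IsNF y → D.IsNF (k * y) := by
    rintro k hk y ⟨v, hv, u, hu, k', hk', rfl⟩
    refine ⟨act k.1 v, act_mem_VS (D.K_sub k hk) hv, u, hu, k * k', mul_mem hk hk', ?_⟩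
    rw [← D.dd_conj hk hv]
    calc k * (D.dd v * u * k') = k * D.dd v * k⁻¹ * (k * u) * k' := by group
      _ = k * D.dd v * k⁻¹ * (u * k) * k' := by rw [D.cen_comm hu hk]
      _ = k * D.dd v * k⁻¹ * u * (k * k') := by group
  have stepC : ∀ w ∈ D.cen, ∀ y, D.IsNF y → D.IsNF (w * y) := by
    rintro w hw y ⟨v, hv, u, hu, k', hk', rfl⟩
    refine ⟨v, hv, w * u, mul_mem hw hu, k', hk', ?_⟩
    calc w * (D.dd v * u * k') = (w * D.dd v) * u * k' := by group
      _ = D.dd v * (w * u) * k' := by rw [D.cen_comm_dd hw hv]; group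
  have stepD : ∀ t : F, ∀ y, D.IsNF y → D.IsNF (D.dd (t • e b) * y) := by
    rintro t y ⟨v, hv, u, hu, k', hk', rfl⟩
    have ht : (t • e b : Vec) ∈ VS I := Submodule.smul_mem _ _ (e_mem_VS D.b_mem)
    obtain ⟨w, hw, hww⟩ := D.dd_add hF ht hv
    refine ⟨t • e b + v, Submodule.add_mem _ ht hv, w * u, mul_mem hw hu, k', hk', ?_⟩
    calc D.dd (t • e b) * (D.dd v * u * k') = D.dd (t • e b) * D.dd v * u * k' := by group
      _ = D.dd (t • e b + v) * (w * u) * k' := by rw [hww]; group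
  have stepM : ∀ m ∈ M, ∀ y, D.IsNF y → D.IsNF (m * y) := by
    intro m hm y hy
    obtain ⟨t, u, hu, s, hs, rfl⟩ := D.M_decomp hm
    have := stepD t _ (stepC u hu _ (stepK s (D.S0_le hs) y hy))
    simpa [mul_assoc] using this
  suffices ∀ y, D.IsNF y → D.IsNF (x * y) by simpa using this 1 hone
  rw [Subgroup.sup_eq_closure] at hx
  induction hx using Subgroup.closure_induction'' with
  | mem z hz => exact hz.elim (stepM z) (stepK z)
  | inv_mem z hz =>
    exact hz.elim (fun h => stepM _ (inv_mem h)) fun h => stepK _ (inv_mem h)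
  | one => simp
  | mul a a' _ _ iha iha' => intro y hy; rw [mul_assoc]; exact iha _ (iha' _ hy)

theorem fn (hF : ∃ a : F, a ≠ 0 ∧ a ≠ 1) : Fn (M ⊔ K) := by
  intro x hx hx1
  obtain ⟨v, hv, u, hu, k, hk, rfl⟩ := D.isNF_of_mem hF hx
  obtain ⟨hu2, hu3, -⟩ := D.M_sub u hu.1
  obtain ⟨v', z, r, hv', hr, hov', hg⟩ := stab_form (I := (∅ : Set (Fin n))) (by simp)
    (show u.1 ∈ fixS (insert c ∅) by simpa using hu.2) hu3
  have hv'0 : v' = 0 := by
    ext i
    rcases i with j | j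
    · exact (hv' j (by simp)).1
    · exact (hv' j (by simp)).2
  have hrf : r = 1 := ext_basis (fun j => by simpa using (hr j (by simp)).1)
    (fun j => by simpa using (hr j (by simp)).2)
  rw [hv'0, hrf, mul_one] at hg
  simp only [Prod.fst_mul, hg, D.dd_fst hv, Q_mul (D.om_ec hv) (om_zero_right _)] at hx1
  have hf := congrArg (fun g => act g (f c)) hx1
  simp only [act_mul, (D.K_fix_ec hk).2, act_one, add_zero, zero_add, om_zero_left] at hf
  rw [act_Q (D.om_ec hv), om_f_left, om_f_left, (hv c D.c_not).1] at hf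
  simp [e, f] at hf
  have hz : z = 0 := by
    have := congrFun hf (Sum.inl c)
    simpa [(hv c D.c_not).1] using this
  subst hz
  have hv0 : v = 0 := by simpa using hf
  subst hv0
  have hu1 : u = 1 := (D.fnMS.mono le_sup_left) u hu.1 (by simp [hg])
  subst hu1
  simp only [dd_zero, one_mul] at hx1 ⊢
  exact D.fnK k hk (by simpa using hx1)

theorem surj {g : Sp} (hg : g ∈ fixS (insert c I)) (hge : act g (e c) = e c) :
    ∃ x ∈ M ⊔ K, x.1 = g := by
  obtain ⟨v, z, r, hv, hr, hov, rfl⟩ := stab_form D.c_not hg hge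
  obtain ⟨u, hu, hu1⟩ := D.exists_cen z
  obtain ⟨k, hk, hk1⟩ := D.K_surj r hr
  refine ⟨D.dd v * u * k, mul_mem (mul_mem ?_ (Subgroup.mem_sup_left hu.1))
    (Subgroup.mem_sup_right hk), ?_⟩
  · by_cases h0 : v = 0
    · simp [h0]
    obtain ⟨k0, hk0, hk0e⟩ := D.exists_k hv h0
    rw [D.dd_eq hk0 hk0e]
    exact mul_mem (mul_mem (Subgroup.mem_sup_right hk0) (Subgroup.mem_sup_left D.m1_mem))
      (inv_mem (Subgroup.mem_sup_right hk0))
  · simp only [Prod.fst_mul, D.dd_fst hv, hu1, hk1, T, Q_mul hov (om_zero_right _)]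
    simp

theorem sup_sub {x : Pr n F H} (hx : x ∈ M ⊔ K) : x.1 ∈ fixS (insert c I) ∧ act x.1 (e c) = e c := by
  let P : Subgroup (Pr n F H) :=
    ((fixS (insert c I) : Subgroup Sp).comap (MonoidHom.fst _ _)) ⊓
    { carrier := {y : Pr n F H | act y.1 (e c) = e c}
      one_mem' := act_one _
      mul_mem' := fun {p q} hp hq => by
        simp only [Set.mem_setOf_eq, Prod.fst_mul, act_mul] at *; rw [hq, hp]
      inv_mem' := fun {p} hp => act_inv_eq hp }
  have : M ⊔ K ≤ P := sup_le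
    (fun y hy => ⟨fixS_mono (Set.insert_subset_insert (Set.singleton_subset_iff.2 D.b_mem))
      (D.M_sub y hy).1, (D.M_sub y hy).2.1⟩)
    (fun y hy => ⟨fixS_mono (Set.subset_insert _ _) (D.K_sub y hy), (D.K_fix_ec hy).1⟩)
  exact this hx

end Heis

end Cfsg.Agent.Recog.SpSlim
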