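import Cfsg.Agent.Lib.Recog.SpSlimWeyl

/-! The two double cosets form a group: the inductive step, and the lifts for every interval. -/

set_option autoImplicit false
set_option linter.unusedSectionVars false

namespace Cfsg.Agent.Recog.SpSlim

open Matrix Cfsg.Agent.Classical

variable {F : Type*} [Field F] {n : ℕ} {H : Type*} [Group H]

local notation "Vec" => (Fin n ⊕ Fin n → F)
set_option quotPrecheck false in
local notation "Sp" => ↥(Matrix.symplecticGroup (Fin n) F)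

namespace Ctx

variable {S M : Fin n → Subgroup (Pr n F H)} {a a2 : Fin n} {b : ℕ} (C : Ctx S M a a2 b)
include C

/-- Elements of the plane group mapping `e_a` to a multiple of itself. -/
def IsBo (_C : Ctx S M a a2 b) (s : Pr n F H) : Prop :=
  s ∈ S a ∧ ∃ c : F, act s.1 (e a) = c • e a

theorem isBo_inv {s : Pr n F H} (hs : C.IsBo s) : C.IsBo s⁻¹ := by
  obtain ⟨h, c, hc⟩ := hs
  refine ⟨inv_mem h, c⁻¹, ?_⟩
  have h1 : c • act s.1⁻¹ (e a) = e a := by rw [← act_smul, ← hc, act_inv_act]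
  have hc0 : c ≠ 0 := by
    rintro rfl
    simpa [e] using congrFun h1 (Sum.inl a)
  calc act s⁻¹.1 (e a) = c⁻¹ • c • act s.1⁻¹ (e a) := by rw [inv_smul_smul₀ hc0, Prod.fst_inv]
    _ = _ := by rw [h1]

theorem bo_conj {s p : Pr n F H} (hs : C.IsBo s) (hp : p ∈ C.P) : s * p * s⁻¹ ∈ C.P := by
  have : C.P ≤ C.P.comap (MulAut.conj s).toMonoidHom := by
    refine sup_le ?_ ?_
    · intro m hm
      obtain ⟨hmf, hm1, hm2⟩ := C.M_fix hm
      obtain ⟨-, c, hc⟩ := C.isBo_inv hs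
      obtain ⟨c', hc'⟩ := hs.2
      have hs2 : act s.1 (e a2) = e a2 ∧ act s.1⁻¹ (e a2) = e a2 :=
        ⟨(C.am.S_sub a s hs.1 a2 (by simpa using C.ne.symm)).1,
          (inv_mem (C.am.S_sub a s hs.1) a2 (by simpa using C.ne.symm)).1⟩
      show s * m * s⁻¹ ∈ C.P
      refine C.M_le_P (C.M_of_A2 (mul_mem (mul_mem (Subgroup.mem_sup_right hs.1)
        (Subgroup.mem_sup_left hm)) (inv_mem (Subgroup.mem_sup_right hs.1)))
        (mul_mem (mul_mem (fixS_mono (by simp) (C.am.S_sub a s hs.1)) hmf)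
          (inv_mem (fixS_mono (by simp) (C.am.S_sub a s hs.1)))) ?_ ?_)
      · have h0 := congrArg (act s.1) hc
        rw [Prod.fst_inv, act_act_inv, act_smul, hc'] at h0
        rw [Prod.fst_inv] at hc
        rw [Prod.fst_mul, Prod.fst_mul, Prod.fst_inv, act_mul, act_mul, hc, act_smul, hm1, act_smul, hc',
          ← h0]
      · simp only [Prod.fst_mul, Prod.fst_inv, act_mul, hs2.2, hm2, hs2.1]
    · intro g hg
      show s * g * s⁻¹ ∈ C.P
      rw [← C.S1_comm_B hs.1 hg, mul_inv_cancel_right]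
      exact C.B_le_P hg
  exact this hp

theorem bo_swap {s p : Pr n F H} (hs : C.IsBo s) (hp : p ∈ C.P) :
    ∃ p' ∈ C.P, p * s = s * p' := by
  refine ⟨s⁻¹ * p * s, ?_, by group⟩
  simpa using C.bo_conj (C.isBo_inv hs) hp

/-- The union of the double cosets of the plane group and of the exchanging element. -/
def InC (C : Ctx S M a a2 b) (x : Pr n F H) : Prop :=
  ∃ p ∈ C.P, ∃ p' ∈ C.P, (∃ s ∈ S a, x = p * s * p') ∨ x = p * C.nn 1 * p'

theorem inC_S {s : Pr n F H} (hs : s ∈ S a) : C.InC s :=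
  ⟨1, one_mem _, 1, one_mem _, Or.inl ⟨s, hs, by simp⟩⟩

theorem inC_left {x q : Pr n F H} (hq : q ∈ C.P) (hx : C.InC x) : C.InC (q * x) := by
  obtain ⟨p, hp, p', hp', h⟩ := hx
  refine ⟨q * p, mul_mem hq hp, p', hp', ?_⟩
  rcases h with ⟨s, hs, rfl⟩ | rfl
  · exact Or.inl ⟨s, hs, by group⟩
  · exact Or.inr (by group)

theorem inC_right {x q : Pr n F H} (hq : q ∈ C.P) (hx : C.InC x) : C.InC (x * q) := by
  obtain ⟨p, hp, p', hp', h⟩ := hx
  refine ⟨p, hp, p' * q, mul_mem hp' hq, ?_⟩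
  rcases h with ⟨s, hs, rfl⟩ | rfl
  · exact Or.inl ⟨s, hs, by group⟩
  · exact Or.inr (by group)

theorem nn_S1 {s : Pr n F H} (hs : s ∈ S a) :
    (C.nn 1)⁻¹ * s * C.nn 1 ∈ S a2 ∧ C.nn 1 * s * (C.nn 1)⁻¹ ∈ S a2 := by
  refine ⟨C.nn_conj_S1 (one_mul 1) hs, ?_⟩
  have := C.nn_conj_S1 (t := -1) (by simp) hs
  rwa [← C.nn_inv, inv_inv] at this

theorem bo_left {x s : Pr n F H} (hs : C.IsBo s) (hx : C.InC x) : C.InC (s * x) := by
  obtain ⟨p, hp, p', hp', h⟩ := hx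
  rcases h with ⟨r, hr, rfl⟩ | rfl
  · exact ⟨s * p * s⁻¹, C.bo_conj hs hp, p', hp', Or.inl ⟨s * r, mul_mem hs.1 hr, by group⟩⟩
  · exact ⟨s * p * s⁻¹, C.bo_conj hs hp, _, mul_mem (C.S2_le_P (C.nn_S1 hs.1).1) hp',
      Or.inr (by group)⟩

theorem bo_right {x s : Pr n F H} (hs : C.IsBo s) (hx : C.InC x) : C.InC (x * s) := by
  obtain ⟨p, hp, p', hp', h⟩ := hx
  obtain ⟨q, hq, hqs⟩ := C.bo_swap hs hp'
  rcases h with ⟨r, hr, rfl⟩ | rfl
  · refine ⟨p, hp, q, hq, Or.inl ⟨r * s, mul_mem hr hs.1, ?_⟩⟩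
    rw [mul_assoc (p * r) p' s, hqs]; group
  · refine ⟨p * (C.nn 1 * s * (C.nn 1)⁻¹), mul_mem hp (C.S2_le_P (C.nn_S1 hs.1).2), q, hq, Or.inr ?_⟩
    rw [mul_assoc (p * C.nn 1) p' s, hqs]; group

theorem S_decomp {s : Pr n F H} (hs : s ∈ S a) :
    C.IsBo s ∨ ∃ u bo : Pr n F H, u ∈ S a ∧ u ∈ M a ∧ C.IsBo bo ∧ s = u * C.w * bo := by
  set x := act s.1 (e a) with hx
  have hxV : x ∈ VS ({a} : Set (Fin n)) :=
    act_mem_VS (C.am.S_sub a s hs) (e_mem_VS (Set.mem_singleton a))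
  have hxe : x = x (Sum.inl a) • e a + x (Sum.inr a) • f a := by
    ext i
    rcases i with j | j <;> by_cases hj : j = a
    · subst hj; simp [e, f]
    · simp [e, f, hj, (hxV j hj).1]
    · subst hj; simp [e, f]
    · simp [e, f, hj, (hxV j hj).2]
  set β := x (Sum.inr a) with hβ
  by_cases h0 : β = 0
  · exact Or.inl ⟨hs, x (Sum.inl a), by rw [← hx]; simpa [h0] using hxe⟩
  obtain ⟨u, hu, hu1⟩ := C.am.S_surj a (T (e a) (-(x (Sum.inl a)) / β))
    (T_mem_fixS (e_mem_VS (Set.mem_singleton a)) _)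
  have h9 : om (f a) (e a : Vec) = -1 := (C.basics (F := F)).2.2.2.2.1.2
  have huf : act u.1 (β • f a) = x := by
    conv_rhs => rw [hxe]
    rw [hu1, act_T, om_smul_left, h9]
    rw [show -x (Sum.inl a) / β * (β * -1) = x (Sum.inl a) by field_simp]
    abel
  refine Or.inr ⟨u, C.w⁻¹ * u⁻¹ * s, hu,
    C.am.U_mem C.succ (Or.inl rfl) hu (by rw [hu1, act_T]; simp), ⟨?_, β, ?_⟩, by group⟩
  · exact mul_mem (mul_mem (inv_mem C.w_mem) (inv_mem hu)) hs
  · simp only [Prod.fst_mul, Prod.fst_inv, act_mul]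
    rw [← hx, act_inv_eq huf, act_smul, act_inv_eq C.w_act.1]

theorem w_sq : C.IsBo (C.w * C.w) := by
  refine ⟨mul_mem C.w_mem C.w_mem, -1, ?_⟩
  rw [Prod.fst_mul, act_mul, C.w_act.1, C.w_act.2.1, neg_one_smul]

theorem kk_w : C.kk 1 * C.w = C.w * C.mM 1 := by
  simp only [kk]; group

theorem kk_mem_C : C.InC (C.kk 1) :=
  ⟨(C.xx 1)⁻¹, inv_mem (C.xx_mem _), (C.xx 1)⁻¹, inv_mem (C.xx_mem _),
    Or.inr (by simp only [nn]; group)⟩

theorem kk_S {s : Pr n F H} (hs : s ∈ S a) : C.InC (C.kk 1 * s) := by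
  rcases C.S_decomp hs with hb | ⟨u, bo, hu, huM, hbo, rfl⟩
  · exact C.bo_right hb C.kk_mem_C
  obtain ⟨k1, k2, -, -⟩ := C.kk_act 1
  obtain ⟨l1, l2, -, -⟩ := C.kk_act (-1 : F)
  obtain ⟨huf, hu1, hu2⟩ := C.M_fix huM
  have hm : C.kk 1 * u * (C.kk 1)⁻¹ ∈ M a := by
    refine C.M_of_A2 (mul_mem (mul_mem (C.kk_mem 1) (Subgroup.mem_sup_left huM)) (inv_mem (C.kk_mem 1)))
      (mul_mem (mul_mem (C.kk_sub 1) huf) (inv_mem (C.kk_sub 1))) ?_ ?_
    · simp only [C.kk_inv, Prod.fst_mul, act_mul, l1, act_add, act_smul, hu1, hu2, k1, k2]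
      simp
    · simp only [C.kk_inv, Prod.fst_mul, act_mul, l2, hu2, k2]
  refine C.bo_right hbo (x := C.kk 1 * (u * C.w)) ?_ |> fun h => by simpa [mul_assoc] using h
  exact ⟨_, C.M_le_P hm, C.mM 1, C.M_le_P (C.mM_mem 1), Or.inl ⟨C.w, C.w_mem, by
    rw [mul_assoc (C.kk 1 * u * (C.kk 1)⁻¹) C.w, ← C.kk_w]; group⟩⟩

theorem wPw {q : Pr n F H} (hq : q ∈ C.P) : C.InC (C.w * q * C.w) := by
  obtain ⟨v, hv, u, hu, k, hk, rfl⟩ := C.heis.isNF_of_mem C.field hq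
  have hwk : k * C.w = C.w * k := C.S1_comm_B C.w_mem hk
  by_cases h0 : v = 0
  · have hus : u ∈ S a := C.am.mem_S_of_fix C.succ hu.1 hu.2
    have : C.w * (C.heis.dd v * u * k) * C.w = C.w * u * C.w * k := by
      rw [h0, C.heis.dd_zero, one_mul, mul_assoc C.w (u * k), mul_assoc u k, hwk]; group
    rw [this]
    exact C.inC_right (C.B_le_P hk) (C.inC_S (mul_mem (mul_mem C.w_mem hus) C.w_mem))
  obtain ⟨g, hg, hge⟩ := C.heis.exists_k hv h0
  rw [C.heis.dd_eq hg hge]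
  have hwg : g * C.w = C.w * g := C.S1_comm_B C.w_mem hg
  have hug : g * u = u * g := C.heis.cen_comm hu hg
  have hm1 : C.heis.m1 = C.mM 1 := by
    refine C.fnM.eq C.heis.m1_mem (C.mM_mem 1) ?_
    rw [C.heis.m1_fst, C.mM_fst, one_smul]
  have hus : u ∈ S a := C.am.mem_S_of_fix C.succ hu.1 hu.2
  have c1 : g⁻¹ * u = u * g⁻¹ := by
    rw [inv_mul_eq_iff_eq_mul, ← mul_assoc, hug, mul_inv_cancel_right]
  have c2 : g⁻¹ * C.w = C.w * g⁻¹ := by
    rw [inv_mul_eq_iff_eq_mul, ← mul_assoc, hwg, mul_inv_cancel_right]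
  have key : C.w * (g * C.heis.m1 * g⁻¹ * u * k) * C.w =
      g * (C.kk 1 * (C.w * u * C.w)) * (g⁻¹ * k) := by
    calc C.w * (g * C.heis.m1 * g⁻¹ * u * k) * C.w
        = (C.w * g) * C.heis.m1 * (g⁻¹ * u) * (k * C.w) := by group
      _ = (g * C.w) * C.heis.m1 * (u * g⁻¹) * (C.w * k) := by rw [hwg, c1, hwk]
      _ = g * (C.w * C.heis.m1 * u) * (g⁻¹ * C.w) * k := by group
      _ = g * (C.w * C.mM 1 * u) * (C.w * g⁻¹) * k := by rw [c2, hm1]
      _ = _ := by simp only [kk]; group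
  rw [key]
  exact C.inC_right (mul_mem (inv_mem (C.B_le_P hg)) (C.B_le_P hk))
    (C.inC_left (C.B_le_P hg) (C.kk_S (mul_mem (mul_mem C.w_mem hus) C.w_mem)))

theorem SPS {s p s' : Pr n F H} (hs : s ∈ S a) (hp : p ∈ C.P) (hs' : s' ∈ S a) :
    C.InC (s * p * s') := by
  rcases C.S_decomp hs with hb | ⟨u, bo, hu, huM, hbo, rfl⟩
  · exact ⟨s * p * s⁻¹, C.bo_conj hb hp, 1, one_mem _, Or.inl ⟨s * s', mul_mem hs hs', by group⟩⟩
  have key : u * C.w * bo * p * s' = u * (C.w * (bo * p * bo⁻¹) * (bo * s')) := by group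
  rw [key]
  refine C.inC_left (C.M_le_P huM) ?_
  have hp' := C.bo_conj hbo hp
  rcases C.S_decomp (mul_mem hbo.1 hs') with hb | ⟨u', bo', hu', huM', hbo', h⟩
  · obtain ⟨q, hq, hqs⟩ := C.bo_swap hb hp'
    exact ⟨1, one_mem _, q, hq, Or.inl ⟨C.w * (bo * s'), mul_mem C.w_mem (mul_mem hbo.1 hs'), by
      rw [mul_assoc, hqs]; group⟩⟩
  · rw [h, show C.w * (bo * p * bo⁻¹) * (u' * C.w * bo') =
      C.w * (bo * p * bo⁻¹ * u') * C.w * bo' by group]
    exact C.bo_right hbo' (C.wPw (mul_mem hp' (C.M_le_P huM')))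

theorem w_nn {p : Pr n F H} (hp : p ∈ C.P) : C.InC (C.w * p * C.nn 1) := by
  have hpf := C.heis.sup_sub (inv_mem hp)
  obtain ⟨v, z, r, hv, hr, hov, hg⟩ := stab_form C.a_not hpf.1 hpf.2
  obtain ⟨k, hk, hk1⟩ := C.hB.surj r hr
  set q := k * p with hq
  have hqP : q ∈ C.P := mul_mem (C.B_le_P hk) hp
  have hov' : om (e a) (-v) = 0 := by rw [om_neg_right, hov, neg_zero]
  have hq1 : q.1 = Q (e a) (-v) (-z) := by
    rw [Prod.fst_inv, inv_eq_iff_eq_inv] at hg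
    rw [hq, Prod.fst_mul, hg, hk1, _root_.mul_inv_rev, mul_inv_cancel_left, Q_inv hov]
  have hwk : k⁻¹ * C.w = C.w * k⁻¹ := C.S1_comm_B C.w_mem (inv_mem hk)
  have e0 : C.w * p * C.nn 1 = k⁻¹ * (C.w * q * C.nn 1) := by
    rw [hq, ← mul_assoc, ← mul_assoc, hwk]; group
  rw [e0]
  refine C.inC_left (inv_mem (C.B_le_P hk)) ?_
  set c : F := (-v) (Sum.inr a2) with hc
  set q0 := (C.xx (-c))⁻¹ * q with hq0
  have hq0P : q0 ∈ C.P := mul_mem (inv_mem (C.xx_mem _)) hqP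
  have hnv : -v ∈ VS (Iv n a2.1 b) := Submodule.neg_mem _ hv
  have hcf : (c • f a2 : Vec) ∈ VS (Iv n a2.1 b) := Submodule.smul_mem _ _ (f_mem_VS C.a2_mem)
  have hq01 : q0.1 = Q (e a) (-v - c • f a2) (-z + om (-v) (-(c • f a2))) := by
    rw [hq0, Prod.fst_mul, Prod.fst_inv, C.xx_fst, hq1, Q_inv (C.om_e_f2 _),
      Q_mul (by rw [om_neg_right, C.om_e_f2, neg_zero]) hov']
    simp only [neg_neg, neg_smul, neg_zero, zero_add]
    rw [neg_add_eq_sub]
  have hn0 := C.nn_conj_P (one_mul 1) (Submodule.sub_mem _ hnv hcf) (by simp [hc, f]) _ hq0P hq01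
  rw [show C.w * q * C.nn 1 = C.w * C.xx (-c) * C.nn 1 * ((C.nn 1)⁻¹ * q0 * C.nn 1) by
    rw [hq0]; group]
  refine C.inC_right hn0 ?_
  by_cases h0 : c = 0
  · have hx1 : C.xx (-c) = 1 := C.fnP _ (C.xx_mem _) (by rw [C.xx_fst]; simp [h0])
    refine ⟨1, one_mem _, (C.nn 1)⁻¹ * C.w * C.nn 1, C.S2_le_P (C.nn_S1 C.w_mem).1, Or.inr ?_⟩
    rw [hx1]; group
  obtain ⟨g, hg', hge⟩ := exists_act_eq (Set.mem_singleton a)
    (Submodule.smul_mem (VS ({a} : Set (Fin n))) c (e_mem_VS (Set.mem_singleton a)))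
    (fun h => h0 (by simpa [e] using congrFun h (Sum.inl a)))
  obtain ⟨h, hh, hh1⟩ := C.am.S_surj a g hg'
  subst hh1
  have hbo : C.IsBo h := ⟨hh, c, hge⟩
  have hxc : C.xx (-c) = h * C.xx (-1) * h⁻¹ := by
    refine C.fnP.eq (C.xx_mem _) (C.bo_conj hbo (C.xx_mem _)) ?_
    simp only [Prod.fst_mul, Prod.fst_inv, C.xx_fst, neg_neg, one_smul]
    rw [Q_conj _ (C.basics (F := F)).2.1.1, hge,
      (C.am.S_sub a h hh a2 (by simpa using C.ne.symm)).2, Q_smul_left (C.basics (F := F)).2.1.1]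
  obtain ⟨hs2, -⟩ := C.nn_S1 (inv_mem hh)
  have key : C.w * C.xx (-c) * C.nn 1 =
      C.w * h * C.w * C.mM 1 * C.w⁻¹ * (C.xx 1 * ((C.nn 1)⁻¹ * h⁻¹ * C.nn 1)) := by
    rw [hxc, ← C.xx_inv]
    simp only [nn, kk]
    group
  rw [key]
  exact C.inC_right (mul_mem (C.xx_mem _) (C.S2_le_P hs2))
    (C.SPS (mul_mem (mul_mem C.w_mem hh) C.w_mem) (C.M_le_P (C.mM_mem 1)) (inv_mem C.w_mem))

theorem S_mul_inC {s x : Pr n F H} (hs : s ∈ S a) (hx : C.InC x) : C.InC (s * x) := by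
  obtain ⟨p, hp, p', hp', h⟩ := hx
  rcases h with ⟨r, hr, rfl⟩ | rfl
  · rw [show s * (p * r * p') = s * p * r * p' by group]
    exact C.inC_right hp' (C.SPS hs hp hr)
  rw [show s * (p * C.nn 1 * p') = s * (p * C.nn 1) * p' by group]
  refine C.inC_right hp' ?_
  rcases C.S_decomp hs with hb | ⟨u, bo, -, huM, hbo, rfl⟩
  · exact C.bo_left hb ⟨p, hp, 1, one_mem _, Or.inr (by group)⟩
  have hbn : (C.nn 1)⁻¹ * bo * C.nn 1 ∈ C.P := C.S2_le_P (C.nn_S1 hbo.1).1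
  rw [show u * C.w * bo * (p * C.nn 1) =
    u * (C.w * (bo * p * bo⁻¹) * C.nn 1) * ((C.nn 1)⁻¹ * bo * C.nn 1) by group]
  exact C.inC_right hbn (C.inC_left (C.M_le_P huM) (C.w_nn (C.bo_conj hbo hp)))

theorem inC_of_mem {x : Pr n F H} (hx : x ∈ Gam S M a.1 b) : C.InC x := by
  have hgen : ∀ z ∈ gens S M a.1 b, z ∈ S a ∨ z ∈ C.P := by
    have hs := C.succ
    rintro z (⟨j, h1, h2, hz⟩ | ⟨i, h1, h2, hz⟩)
    · by_cases hj : j = a
      · exact Or.inl (hj ▸ hz)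
      · exact Or.inr (C.B_le_P (S_le_Gam (by rw [Fin.ext_iff] at hj; omega) h2 hz))
    · by_cases hi : i = a
      · exact Or.inr (C.M_le_P (hi ▸ hz))
      · exact Or.inr (C.B_le_P (M_le_Gam (by rw [Fin.ext_iff] at hi; omega) h2 hz))
  suffices ∀ y, C.InC y → C.InC (x * y) by simpa using this 1 (C.inC_S (one_mem _))
  induction hx using Subgroup.closure_induction'' with
  | mem z hz => exact fun y hy => (hgen z hz).elim (fun h => C.S_mul_inC h hy) (fun h => C.inC_left h hy)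
  | inv_mem z hz =>
    exact fun y hy => (hgen z hz).elim (fun h => C.S_mul_inC (inv_mem h) hy)
      (fun h => C.inC_left (inv_mem h) hy)
  | one => simp
  | mul c d _ _ ihc ihd => intro y hy; rw [mul_assoc]; exact ihc _ (ihd _ hy)

theorem mem_P_of_stab {x : Pr n F H} (hx : x ∈ Gam S M a.1 b) (hxe : act x.1 (e a) = e a) :
    x ∈ C.P := by
  obtain ⟨p, hp, p', hp', h⟩ := C.inC_of_mem hx
  have hp1 := C.P_fix hp
  have hp1' := C.P_fix hp'
  rcases h with ⟨s, hs, rfl⟩ | rfl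
  · simp only [Prod.fst_mul, act_mul, hp1'] at hxe
    have := congrArg (act p.1⁻¹) hxe
    rw [act_inv_act, act_inv_eq hp1] at this
    exact mul_mem (mul_mem hp (C.M_le_P (C.am.U_mem C.succ (Or.inl rfl) hs this))) hp'
  · exfalso
    simp only [Prod.fst_mul, act_mul, hp1'] at hxe
    have := congrArg (act p.1⁻¹) hxe
    rw [act_inv_act, act_inv_eq hp1, (C.nn_act (one_mul 1)).1] at this
    simpa [e, C.ne] using congrFun this (Sum.inl a)

theorem P_le_Gam : C.P ≤ Gam S M a.1 b :=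
  sup_le (M_le_Gam le_rfl (by have := C.succ; have := C.lt; omega))
    (Gam_mono (by have := C.succ; omega) le_rfl)

theorem exists_orbit {v : Vec} (hv : v ∈ VS (Iv n a.1 b)) (hv0 : v ≠ 0) :
    ∃ x ∈ Gam S M a.1 b, act x.1 (e a) = v := by
  have hs := C.succ
  have hlt := C.lt
  have hSle : S a ≤ Gam S M a.1 b := S_le_Gam le_rfl (by omega)
  have hBle : Gam S M a2.1 b ≤ Gam S M a.1 b := Gam_mono (by omega) le_rfl
  have hI : insert a (Iv n a2.1 b) = Iv n a.1 b := by rw [C.succ, insert_Iv (by omega)]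
  set v1 : Vec := v (Sum.inl a) • e a + v (Sum.inr a) • f a with hv1
  have hv1V : v1 ∈ VS ({a} : Set (Fin n)) := Submodule.add_mem _
    (Submodule.smul_mem _ _ (e_mem_VS (Set.mem_singleton a)))
    (Submodule.smul_mem _ _ (f_mem_VS (Set.mem_singleton a)))
  set v2 : Vec := v - v1 with hv2
  have hv2V : v2 ∈ VS (Iv n a2.1 b) := by
    intro k hk
    by_cases hka : k = a
    · subst hka; simp [hv2, hv1, e, f]
    · have hk' : k ∉ Iv n a.1 b := by rw [← hI]; simp [hka, hk]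
      simp [hv2, hv1, e, f, hka, hv k hk']
  have hsum : v = v1 + v2 := by simp [hv2]
  by_cases h2 : v2 = 0
  · obtain ⟨g, hg, hge⟩ := exists_act_eq (Set.mem_singleton a) hv1V
      (fun h => hv0 (by rw [hsum, h, h2, add_zero]))
    obtain ⟨x, hx, rfl⟩ := C.am.S_surj a g hg
    exact ⟨x, hSle hx, by rw [hge, hsum, h2, add_zero]⟩
  obtain ⟨g, hg, hge⟩ := exists_act_eq C.a2_mem hv2V h2
  obtain ⟨t, ht, rfl⟩ := C.hB.surj g hg
  have hle3 : S a ⊔ S a2 ⊔ M a ≤ Gam S M a.1 b :=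
    sup_le (sup_le hSle (S_le_Gam (by omega) hlt)) (M_le_Gam le_rfl (by omega))
  by_cases h1 : v1 = 0
  · refine ⟨t * C.nn 1, mul_mem (hBle ht) (hle3 (C.nn_G3 1)), ?_⟩
    rw [Prod.fst_mul, act_mul, (C.nn_act (one_mul 1)).1, one_smul, hge, hsum, h1, zero_add]
  obtain ⟨g', hg', hge'⟩ := exists_act_eq (Set.mem_singleton a) hv1V h1
  obtain ⟨s, hsS, rfl⟩ := C.am.S_surj a g' hg'
  have hk : C.kk 1 ∈ Gam S M a.1 b :=
    mul_mem (mul_mem (hSle C.w_mem) (M_le_Gam le_rfl (by omega) (C.mM_mem 1))) (inv_mem (hSle C.w_mem))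
  refine ⟨s * t * C.kk 1, mul_mem (mul_mem (hSle hsS) (hBle ht)) hk, ?_⟩
  rw [Prod.fst_mul, Prod.fst_mul, act_mul, act_mul, (C.kk_act 1).1, one_smul, act_add,
    (C.heis.K_fix_ec ht).1, hge, act_add, hge',
    act_fix_of_VS (C.am.S_sub a s hsS) (VS_mono (show Iv n a2.1 b ⊆ ({a} : Set (Fin n))ᶜ from fun k hk h => C.a_not (Set.mem_singleton_iff.1 h ▸ hk)) hv2V), ← hsum]

theorem good : Good S M a b where
  fn x hx hx1 := by
    refine C.fnP x (C.mem_P_of_stab hx (by rw [hx1, act_one])) hx1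
  surj g hg := by
    have hs := C.succ
    have hv0 : act g (e a) ≠ (0 : Vec) := fun h => by
      have := congrArg (act g⁻¹) h
      rw [act_inv_act, act_zero] at this
      simpa [e] using congrFun this (Sum.inl a)
    obtain ⟨x, hx, hxe⟩ := C.exists_orbit
      (act_mem_VS hg (e_mem_VS (mem_Iv.2 ⟨le_rfl, by have := C.lt; omega⟩))) hv0
    obtain ⟨p, hp, hp1⟩ := C.P_surj (g := x.1⁻¹ * g)
      (mul_mem (inv_mem (C.am.Gam_sub C.le hx)) hg) (by rw [act_mul, ← hxe, act_inv_act])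
    exact ⟨x * p, mul_mem hx (C.P_le_Gam hp), by rw [Prod.fst_mul, hp1, mul_inv_cancel_left]⟩
  stab x hx hxe i hi m hm := by
    have hle : C.P ≤ Subgroup.centralizer {m} := by
      refine sup_le (fun y hy => ?_) (fun y hy => ?_) <;> rw [Subgroup.mem_centralizer_singleton_iff]
      · exact C.am.commMM C.succ hi.symm hy hm
      · refine Gam_comm (fun j h1 h2 z hz => ?_) (fun k h1 h2 z hz => ?_) hy
        · exact (C.am.commMS hi.symm (fun hh => by subst hh; have := C.succ; omega)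
            (fun hh => by subst hh; have := C.succ; omega) hm hz).symm
        · have hkn : k.1 + 1 < n := by have := C.le; omega
          exact C.am.commMM (i' := ⟨k.1 + 1, hkn⟩) rfl hi.symm hz hm
    exact Subgroup.mem_centralizer_singleton_iff.1 (hle (C.mem_P_of_stab hx hxe))

end Ctx

theorem Amal.good {S M : Fin n → Subgroup (Pr n F H)} (A : Amal S M)
    (hF : ∃ x : F, x ≠ 0 ∧ x ≠ 1) (hn : 2 ≤ n) :
    ∀ (L : ℕ) (a : Fin n) (b : ℕ), b ≤ n → a.1 + L + 1 = b → Good S M a b := by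
  intro L
  induction L using Nat.strong_induction_on with
  | _ L ih =>
    intro a b hb hab
    rcases L with _ | L
    · rw [← hab]; exact A.good_base hn a
    have ha : a.1 + 1 < n := by omega
    exact Ctx.good (a2 := ⟨a.1 + 1, ha⟩)
      { am := A
        field := hF
        succ := rfl
        lt := by show a.1 + 1 < b; omega
        le := hb
        hB := ih L (by omega) ⟨a.1 + 1, ha⟩ b hb (by show a.1 + 1 + L + 1 = b; omega)
        hsmall := fun h => ih 1 (by omega) a (a.1 + 2) (by omega) (by omega)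
        hfar := fun c hc hcb => ih (L - 1) (by omega) c b hb (by omega) }

end Cfsg.Agent.Recog.SpSlim
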