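import Cfsg.Agent.Lib.Recog.SpSlimAmalgam

/-! The element exchanging two neighbouring planes and its action on the lifts. -/

set_option autoImplicit false
set_option linter.unusedSectionVars false

namespace Cfsg.Agent.Recog.SpSlim

open Matrix Cfsg.Agent.Classical

variable {F : Type*} [Field F] {n : ℕ} {H : Type*} [Group H]

local notation "Vec" => (Fin n ⊕ Fin n → F)
set_option quotPrecheck false in
local notation "Sp" => ↥(Matrix.symplecticGroup (Fin n) F)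

/-- The setting of the inductive step. -/
structure Ctx (S M : Fin n → Subgroup (Pr n F H)) (a a2 : Fin n) (b : ℕ) : Prop where
  am : Amal S M
  field : ∃ x : F, x ≠ 0 ∧ x ≠ 1
  succ : a2.1 = a.1 + 1
  lt : a2.1 < b
  le : b ≤ n
  hB : Good S M a2 b
  hsmall : a.1 + 2 < b → Good S M a (a.1 + 2)
  hfar : ∀ c : Fin n, c.1 = a.1 + 2 → c.1 < b → Good S M c b

theorem Amal.exists_weyl {S M : Fin n → Subgroup (Pr n F H)} (A : Amal S M) (j : Fin n) :
    ∃ x ∈ S j, x.1 = T (e j) 1 * T (f j) 1 * T (e j) 1 :=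
  A.S_surj j _ (mul_mem (mul_mem (T_mem_fixS (e_mem_VS (Set.mem_singleton j)) _)
    (T_mem_fixS (f_mem_VS (Set.mem_singleton j)) _)) (T_mem_fixS (e_mem_VS (Set.mem_singleton j)) _))

namespace Ctx

variable {S M : Fin n → Subgroup (Pr n F H)} {a a2 : Fin n} {b : ℕ} (C : Ctx S M a a2 b)
include C

theorem ne : a ≠ a2 := fun h => by have := C.succ; rw [← h] at this; omega

theorem two_le : 2 ≤ n := by have := C.succ; have := a2.2; omega

theorem a_lt : a.1 + 1 < n := by have := C.succ; have := a2.2; omega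

theorem a2_mem : a2 ∈ Iv n a2.1 b := mem_Iv.2 ⟨le_rfl, C.lt⟩

theorem a_not : a ∉ Iv n a2.1 b := fun h => by have := C.succ; have := (mem_Iv.1 h).1; omega

theorem heis : Heis a a2 (Iv n a2.1 b) (Gam S M a2.1 b) (M a) (S a2) where
  c_not := C.a_not
  b_mem := C.a2_mem
  fnK := C.hB.fn
  K_sub _ hx := C.am.Gam_sub C.le hx
  K_surj := C.hB.surj
  M_sub x hx := ⟨(C.am.M_sub a a2 C.succ x hx).1, (C.am.M_sub a a2 C.succ x hx).2 a,
    (C.am.M_sub a a2 C.succ x hx).2 a2⟩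
  M_surj := C.am.M_surj a a2 C.succ
  S0_le := S_le_Gam le_rfl C.lt
  S0_surj := C.am.S_surj a2
  fnMS := C.am.fnMS a a2 C.a_lt
  stab_comm k hk hke m hm := C.hB.stab k hk hke a C.succ.symm m hm
  centre_comm u hu huf k hk := by
    have hus : u ∈ S a := C.am.mem_S_of_fix C.succ hu huf
    refine Gam_comm (fun j h1 h2 x hx => ?_) (fun i h1 h2 x hx => ?_) hk
    · exact C.am.commSS (fun hh => by subst hh; have := C.succ; omega) hx hus
    · have hin : i.1 + 1 < n := by have := C.le; omega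
      exact C.am.commMS (i' := ⟨i.1 + 1, hin⟩) rfl (fun hh => by subst hh; have := C.succ; omega)
        (fun hh => by have := C.succ; simp [Fin.ext_iff] at hh; omega) hx hus

/-- The lift of the stabiliser of `e_a`. -/
def P (_C : Ctx S M a a2 b) : Subgroup (Pr n F H) := M a ⊔ Gam S M a2.1 b

/-- The lift of the stabiliser of `e_(a+1)` in the group of the two planes. -/
def A2 (_C : Ctx S M a a2 b) : Subgroup (Pr n F H) := M a ⊔ S a

theorem fnP : Fn C.P := C.heis.fn C.field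

theorem fnA2 : Fn C.A2 := C.am.fnMS a a C.a_lt

theorem fnM : Fn (M a) := C.fnA2.mono le_sup_left

theorem fnS1 : Fn (S a) := C.am.S_fn a C.two_le

theorem fnS2 : Fn (S a2) := C.am.S_fn a2 C.two_le

theorem M_le_P : M a ≤ C.P := le_sup_left

theorem B_le_P : Gam S M a2.1 b ≤ C.P := le_sup_right

theorem S2_le_P : S a2 ≤ C.P := (S_le_Gam le_rfl C.lt).trans C.B_le_P

theorem P_fix {x : Pr n F H} (hx : x ∈ C.P) : act x.1 (e a) = e a := (C.heis.sup_sub hx).2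

theorem P_sub {x : Pr n F H} (hx : x ∈ C.P) : x.1 ∈ fixS (Iv n a.1 b) := by
  have h := (C.heis.sup_sub hx).1
  rwa [C.succ, insert_Iv (by have := C.succ; have := C.lt; omega)] at h

theorem P_surj {g : Sp} (hg : g ∈ fixS (Iv n a.1 b)) (hge : act g (e a) = e a) :
    ∃ x ∈ C.P, x.1 = g := by
  refine C.heis.surj ?_ hge
  rwa [C.succ, insert_Iv (by have := C.succ; have := C.lt; omega)]

theorem S1_comm_B {s x : Pr n F H} (hs : s ∈ S a) (hx : x ∈ Gam S M a2.1 b) : x * s = s * x := by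
  refine Gam_comm (fun j h1 h2 y hy => ?_) (fun i h1 h2 y hy => ?_) hx
  · exact C.am.commSS (fun hh => by subst hh; have := C.succ; omega) hy hs
  · have hin : i.1 + 1 < n := by have := C.le; omega
    exact C.am.commMS (i' := ⟨i.1 + 1, hin⟩) rfl (fun hh => by subst hh; have := C.succ; omega)
      (fun hh => by have := C.succ; simp [Fin.ext_iff] at hh; omega) hy hs

theorem e_pair {k : Fin n} (hk : k = a ∨ k = a2) : (e k : Vec) ∈ VS ({a, a2} : Set (Fin n)) :=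
  e_mem_VS (by simpa using hk)

theorem f_pair {k : Fin n} (hk : k = a ∨ k = a2) : (f k : Vec) ∈ VS ({a, a2} : Set (Fin n)) :=
  f_mem_VS (by simpa using hk)

theorem basics : (om (e a) (e a2 : Vec) = 0 ∧ om (e a2) (e a : Vec) = 0) ∧
    (om (e a) (f a2 : Vec) = 0 ∧ om (f a2) (e a : Vec) = 0) ∧
    (om (f a) (e a2 : Vec) = 0 ∧ om (e a2) (f a : Vec) = 0) ∧
    (om (f a) (f a2 : Vec) = 0 ∧ om (f a2) (f a : Vec) = 0) ∧
    (om (e a) (f a : Vec) = 1 ∧ om (f a) (e a : Vec) = -1) ∧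
    (om (e a2) (f a2 : Vec) = 1 ∧ om (f a2) (e a2 : Vec) = -1) := by
  simp only [om_e_left, om_f_left]
  simp [e, f, C.ne, C.ne.symm]

/-- The Weyl element of the plane `a`. -/
noncomputable def w (C : Ctx S M a a2 b) : Pr n F H := (C.am.exists_weyl a).choose

theorem w_mem : C.w ∈ S a := (C.am.exists_weyl a).choose_spec.1

theorem w_fst : C.w.1 = T (e a) 1 * T (f a) 1 * T (e a) 1 := (C.am.exists_weyl a).choose_spec.2

theorem w_act : act C.w.1 (e a) = f a ∧ act C.w.1 (f a) = -e a ∧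
    act C.w.1 (e a2) = e a2 ∧ act C.w.1 (f a2) = f a2 := by
  obtain ⟨⟨h1, h2⟩, ⟨h3, h4⟩, ⟨h5, h6⟩, ⟨h7, h8⟩, ⟨h9, h10⟩, -⟩ := C.basics (F := F)
  simp [C.w_fst, act_mul, act_T, om_add_left, om_smul_left, om_neg_left, h2, h4, h6, h8, h9, h10]

/-- The Weyl element of the plane `a + 1`. -/
noncomputable def w2 (C : Ctx S M a a2 b) : Pr n F H := (C.am.exists_weyl a2).choose

theorem w2_mem : C.w2 ∈ S a2 := (C.am.exists_weyl a2).choose_spec.1

theorem w2_fst : C.w2.1 = T (e a2) 1 * T (f a2) 1 * T (e a2) 1 := (C.am.exists_weyl a2).choose_spec.2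

theorem w2_act : act C.w2.1 (e a) = e a ∧ act C.w2.1 (f a) = f a ∧
    act C.w2.1 (e a2) = f a2 ∧ act C.w2.1 (f a2) = -e a2 := by
  obtain ⟨⟨h1, h2⟩, ⟨h3, h4⟩, ⟨h5, h6⟩, ⟨h7, h8⟩, -, ⟨h9, h10⟩⟩ := C.basics (F := F)
  simp [C.w2_fst, act_mul, act_T, om_add_left, om_smul_left, om_neg_left, h1, h3, h5, h7, h9, h10]

/-- The lift in `M a` of a short root element. -/
noncomputable def mM (C : Ctx S M a a2 b) (t : F) : Pr n F H := (C.heis.exists_m t 0).choose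

theorem mM_mem (t : F) : C.mM t ∈ M a := (C.heis.exists_m t 0).choose_spec.1

theorem mM_fst (t : F) : (C.mM t).1 = Q (e a) (t • e a2) 0 := (C.heis.exists_m t 0).choose_spec.2

theorem om_e_e2 (t : F) : om (e a) (t • e a2 : Vec) = 0 := by
  rw [om_smul_right, (C.basics (F := F)).1.1, mul_zero]

theorem mM_neg (t : F) : (C.mM t)⁻¹ = C.mM (-t) := by
  refine C.fnM.eq (inv_mem (C.mM_mem t)) (C.mM_mem _) ?_
  rw [Prod.fst_inv, C.mM_fst, C.mM_fst, Q_inv (C.om_e_e2 t)]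
  simp

/-- The negative short root element moving `e_a` to `e_a + t • e_(a+1)`. -/
noncomputable def kk (C : Ctx S M a a2 b) (t : F) : Pr n F H := C.w * C.mM t * C.w⁻¹

theorem kk_mem (t : F) : C.kk t ∈ C.A2 :=
  mul_mem (mul_mem (Subgroup.mem_sup_right C.w_mem) (Subgroup.mem_sup_left (C.mM_mem t)))
    (inv_mem (Subgroup.mem_sup_right C.w_mem))

theorem kk_fst (t : F) : (C.kk t).1 = Q (f a) (t • e a2) 0 := by
  simp only [kk, Prod.fst_mul, Prod.fst_inv, C.mM_fst]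
  rw [Q_conj _ (C.om_e_e2 t), act_smul, C.w_act.1, C.w_act.2.2.1]

theorem kk_inv (t : F) : (C.kk t)⁻¹ = C.kk (-t) := by
  simp only [kk, _root_.mul_inv_rev, inv_inv, C.mM_neg, mul_assoc]

theorem kk_sub (t : F) : (C.kk t).1 ∈ fixS ({a, a2} : Set (Fin n)) := by
  rw [C.kk_fst]
  exact Q_mem_fixS (by rw [om_smul_right, (C.basics (F := F)).2.2.1.1, mul_zero])
    (C.f_pair (Or.inl rfl)) (Submodule.smul_mem _ _ (C.e_pair (Or.inr rfl))) _

theorem kk_act (t : F) : act (C.kk t).1 (e a) = e a + t • e a2 ∧ act (C.kk t).1 (e a2) = e a2 ∧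
    act (C.kk t).1 (f a) = f a ∧ act (C.kk t).1 (f a2) = f a2 - t • f a := by
  obtain ⟨⟨h1, h2⟩, ⟨h3, h4⟩, ⟨h5, h6⟩, ⟨h7, h8⟩, ⟨h9, h10⟩, ⟨h11, h12⟩⟩ := C.basics (F := F)
  have h : om (f a) (t • e a2 : Vec) = 0 := by rw [om_smul_right, h5, mul_zero]
  simp [C.kk_fst, act_Q h, om_smul_right, h1, h6, h8, h9, h5, h12, sub_eq_add_neg]

theorem om_e_f2 (t : F) : om (e a) (t • f a2 : Vec) = 0 := by
  rw [om_smul_right, (C.basics (F := F)).2.1.1, mul_zero]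

theorem exists_xx (t : F) : ∃ x ∈ C.P, x.1 = Q (e a) (-t • f a2) 0 := by
  refine C.P_surj (fixS_mono ?_ (Q_mem_fixS (C.om_e_f2 _) (C.e_pair (Or.inl rfl))
    (Submodule.smul_mem _ _ (C.f_pair (Or.inr rfl))) _)) (act_Q_of_om (C.om_e_f2 _) _ (om_self _)
    (C.om_e_f2 _))
  have := C.succ; have := C.lt
  simp only [Set.insert_subset_iff, Set.singleton_subset_iff, mem_Iv]
  omega

/-- The short root element moving `f_a` to `f_a + t • f_(a+1)`. -/
noncomputable def xx (C : Ctx S M a a2 b) (t : F) : Pr n F H := (C.exists_xx t).choose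

theorem xx_mem (t : F) : C.xx t ∈ C.P := (C.exists_xx t).choose_spec.1

theorem xx_fst (t : F) : (C.xx t).1 = Q (e a) (-t • f a2) 0 := (C.exists_xx t).choose_spec.2

theorem xx_inv (t : F) : (C.xx t)⁻¹ = C.xx (-t) := by
  refine C.fnP.eq (inv_mem (C.xx_mem t)) (C.xx_mem _) ?_
  rw [Prod.fst_inv, C.xx_fst, C.xx_fst, Q_inv (C.om_e_f2 _)]
  simp

theorem xx_act (t : F) : act (C.xx t).1 (e a) = e a ∧ act (C.xx t).1 (e a2) = e a2 - t • e a ∧
    act (C.xx t).1 (f a) = f a + t • f a2 ∧ act (C.xx t).1 (f a2) = f a2 := by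
  obtain ⟨⟨h1, h2⟩, ⟨h3, h4⟩, ⟨h5, h6⟩, ⟨h7, h8⟩, ⟨h9, h10⟩, ⟨h11, h12⟩⟩ := C.basics (F := F)
  rw [C.xx_fst]
  simp only [act_Q (C.om_e_f2 (-t))]
  simp [om_neg_right, om_smul_right, om_self, h2, h3, h4, h7, h10, h11, sub_eq_add_neg]

theorem xx_sub (t : F) : (C.xx t).1 ∈ fixS ({a, a2} : Set (Fin n)) := by
  rw [C.xx_fst]
  exact Q_mem_fixS (C.om_e_f2 _) (C.e_pair (Or.inl rfl))
    (Submodule.smul_mem _ _ (C.f_pair (Or.inr rfl))) _

theorem xx_eq (t : F) : C.xx t = C.w2 * C.mM (-t) * C.w2⁻¹ := by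
  refine C.fnP.eq (C.xx_mem t) (mul_mem (mul_mem (C.S2_le_P C.w2_mem) (C.M_le_P (C.mM_mem _)))
    (inv_mem (C.S2_le_P C.w2_mem))) ?_
  simp only [Prod.fst_mul, Prod.fst_inv, C.mM_fst, C.xx_fst]
  rw [Q_conj _ (C.om_e_e2 _), act_smul, C.w2_act.1, C.w2_act.2.2.1]

/-- The element exchanging the planes `a` and `a + 1`, for `t * t = 1`. -/
noncomputable def nn (C : Ctx S M a a2 b) (t : F) : Pr n F H := C.xx t * C.kk t * C.xx t

theorem nn_act {t : F} (ht : t * t = 1) : act (C.nn t).1 (e a) = t • e a2 ∧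
    act (C.nn t).1 (e a2) = -(t • e a) ∧ act (C.nn t).1 (f a) = t • f a2 ∧
    act (C.nn t).1 (f a2) = -(t • f a) := by
  obtain ⟨x1, x2, x3, x4⟩ := C.xx_act t
  obtain ⟨k1, k2, k3, k4⟩ := C.kk_act t
  refine ⟨?_, ?_, ?_, ?_⟩ <;>
    simp only [nn, Prod.fst_mul, act_mul, x1, x2, x3, x4, k1, k2, k3, k4, act_add, act_sub, act_smul,
      smul_sub, smul_add, smul_smul, ht, one_smul] <;> abel

theorem nn_sub (t : F) : (C.nn t).1 ∈ fixS ({a, a2} : Set (Fin n)) :=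
  mul_mem (mul_mem (C.xx_sub t) (C.kk_sub t)) (C.xx_sub t)

theorem nn_inv (t : F) : (C.nn t)⁻¹ = C.nn (-t) := by
  simp only [nn, _root_.mul_inv_rev, C.xx_inv, C.kk_inv, mul_assoc]

theorem nn_G3 (t : F) : C.nn t ∈ S a ⊔ S a2 ⊔ M a := by
  have hx : C.xx t ∈ S a ⊔ S a2 ⊔ M a := by
    rw [C.xx_eq]
    exact mul_mem (mul_mem (Subgroup.mem_sup_left (Subgroup.mem_sup_right C.w2_mem))
      (Subgroup.mem_sup_right (C.mM_mem _)))
      (inv_mem (Subgroup.mem_sup_left (Subgroup.mem_sup_right C.w2_mem)))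
  refine mul_mem (mul_mem hx ?_) hx
  exact mul_mem (mul_mem (Subgroup.mem_sup_left (Subgroup.mem_sup_left C.w_mem))
    (Subgroup.mem_sup_right (C.mM_mem t))) (inv_mem (Subgroup.mem_sup_left (Subgroup.mem_sup_left C.w_mem)))

theorem M_of_P {x : Pr n F H} (hx : x ∈ C.P) (hf : x.1 ∈ fixS ({a, a2} : Set (Fin n)))
    (h2 : act x.1 (e a2) = e a2) : x ∈ M a := by
  obtain ⟨m, hm, hm1⟩ := C.am.M_surj a a2 C.succ x.1 hf (C.P_fix hx) h2
  rwa [C.fnP.eq hx (C.M_le_P hm) hm1.symm]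

theorem M_of_A2 {x : Pr n F H} (hx : x ∈ C.A2) (hf : x.1 ∈ fixS ({a, a2} : Set (Fin n)))
    (h1 : act x.1 (e a) = e a) (h2 : act x.1 (e a2) = e a2) : x ∈ M a := by
  obtain ⟨m, hm, hm1⟩ := C.am.M_surj a a2 C.succ x.1 hf h1 h2
  rwa [C.fnA2.eq hx (Subgroup.mem_sup_left hm) hm1.symm]

theorem M_fix {m : Pr n F H} (hm : m ∈ M a) : m.1 ∈ fixS ({a, a2} : Set (Fin n)) ∧
    act m.1 (e a) = e a ∧ act m.1 (e a2) = e a2 :=
  C.heis.M_sub m hm

theorem nn_conj_M {t : F} {m : Pr n F H} (hm : m ∈ M a) :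
    C.nn t * m * (C.nn t)⁻¹ ∈ C.P := by
  obtain ⟨hmf, hm1, hm2⟩ := C.M_fix hm
  obtain ⟨x1, x2, -, -⟩ := C.xx_act t
  obtain ⟨y1, y2, -, -⟩ := C.xx_act (-t)
  obtain ⟨k1, k2, -, -⟩ := C.kk_act t
  obtain ⟨l1, l2, -, -⟩ := C.kk_act (-t)
  have hm' : C.xx t * m * (C.xx t)⁻¹ ∈ M a := by
    refine C.M_of_P (mul_mem (mul_mem (C.xx_mem t) (C.M_le_P hm)) (inv_mem (C.xx_mem t)))
      (mul_mem (mul_mem (C.xx_sub t) hmf) (inv_mem (C.xx_sub t))) ?_
    simp only [C.xx_inv, Prod.fst_mul, act_mul, y2, act_sub, act_smul, hm1, hm2, x1, x2]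
    simp
  set m1 := C.xx t * m * (C.xx t)⁻¹ with hm1'
  obtain ⟨hnf, hn1, hn2⟩ := C.M_fix hm'
  have hm'' : C.kk t * m1 * (C.kk t)⁻¹ ∈ M a := by
    refine C.M_of_A2 (mul_mem (mul_mem (C.kk_mem t) (Subgroup.mem_sup_left hm')) (inv_mem (C.kk_mem t)))
      (mul_mem (mul_mem (C.kk_sub t) hnf) (inv_mem (C.kk_sub t))) ?_ ?_
    · simp only [C.kk_inv, Prod.fst_mul, act_mul, l1, act_add, act_smul, hn1, hn2, k1, k2]
      simp
    · simp only [C.kk_inv, Prod.fst_mul, act_mul, l2, hn2, k2]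
  have key : C.nn t * m * (C.nn t)⁻¹ = C.xx t * (C.kk t * m1 * (C.kk t)⁻¹) * (C.xx t)⁻¹ := by
    simp only [hm1', nn]; group
  rw [key]
  exact mul_mem (mul_mem (C.xx_mem t) (C.M_le_P hm'')) (inv_mem (C.xx_mem t))

/-- The conjugate of `A2` by the Weyl element of the plane `a + 1`. -/
noncomputable def A2' (C : Ctx S M a a2 b) : Subgroup (Pr n F H) :=
  C.A2.map (MulAut.conj C.w2).toMonoidHom

theorem mem_A2' {y : Pr n F H} (hy : y ∈ C.A2) : C.w2 * y * C.w2⁻¹ ∈ C.A2' :=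
  ⟨y, hy, rfl⟩

theorem fnA2' : Fn C.A2' := by
  rintro x ⟨y, hy, rfl⟩ h
  have hy1 : y.1 = 1 := by simpa using h
  simp [C.fnA2 y hy hy1]

theorem S1_le_A2' : S a ≤ C.A2' := fun s hs => by
  have := C.mem_A2' (Subgroup.mem_sup_right hs)
  rwa [C.am.commSS C.ne.symm C.w2_mem hs, mul_inv_cancel_right] at this

theorem nn_conj_lower {t : F} (ht : t * t = 1) {y : Pr n F H} (hy : y ∈ S a2)
    (hyf : act y.1 (f a2) = f a2) :
    C.nn t * y * (C.nn t)⁻¹ ∈ C.A2' := by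
  have hye : act y.1 (e a) = e a ∧ act y.1 (f a) = f a :=
    C.am.S_sub a2 y hy a (by simpa using C.ne)
  have hxy : C.xx t * y = y * C.xx t := by
    refine C.fnP.commute (C.xx_mem t) (C.S2_le_P hy) ?_
    have := mul_inv_eq_iff_eq_mul.1 (Q_conj y.1 (C.om_e_f2 (-t)) 0)
    rw [act_smul, hye.1, hyf] at this
    rw [C.xx_fst, this]
  obtain ⟨hmf, hm1, hm2⟩ := C.M_fix (C.mM_mem t)
  set m := C.mM t with hm
  have hyP := C.S2_le_P hy
  have hmP := C.M_le_P (C.mM_mem t)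
  have hwy : C.w * y = y * C.w := C.am.commSS C.ne C.w_mem hy
  obtain ⟨-, -, u3, u4⟩ := C.w2_act
  obtain ⟨⟨h1, h2⟩, ⟨h3, h4⟩, -, -, ⟨h9, h10⟩, ⟨h11, h12⟩⟩ := C.basics (F := F)
  have hm'f : act (C.mM (-t)).1 (f a2) = f a2 + t • e a := by
    rw [C.mM_fst, act_Q (C.om_e_e2 _), h4, om_smul_right, h12]
    simp
  have hmt : act m.1 (f a2) = f a2 - t • e a := by
    rw [hm, C.mM_fst, act_Q (C.om_e_e2 _), h4, om_smul_right, h12]
    simp [sub_eq_add_neg]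
  have hsub2 : ({a2} : Set (Fin n)) ⊆ {a, a2} := by simp
  have hZ : C.w2⁻¹ * (m * y * m⁻¹) * C.w2 ∈ M a := by
    refine C.M_of_P (mul_mem (mul_mem (inv_mem (C.S2_le_P C.w2_mem))
      (mul_mem (mul_mem hmP hyP) (inv_mem hmP))) (C.S2_le_P C.w2_mem)) ?_ ?_
    · exact mul_mem (mul_mem (inv_mem (fixS_mono hsub2 (C.am.S_sub a2 _ C.w2_mem)))
        (mul_mem (mul_mem hmf (fixS_mono hsub2 (C.am.S_sub a2 y hy))) (inv_mem hmf)))
        (fixS_mono hsub2 (C.am.S_sub a2 _ C.w2_mem))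
    · rw [hm, C.mM_neg, ← hm]
      simp only [Prod.fst_mul, Prod.fst_inv, act_mul, u3, hm'f, act_add, act_smul, hyf, hye.1, hm1, hmt]
      simp [act_sub, act_smul, act_inv_eq u3]
  have hZ' := C.mem_A2' (Subgroup.mem_sup_left hZ)
  rw [show C.w2 * (C.w2⁻¹ * (m * y * m⁻¹) * C.w2) * C.w2⁻¹ = m * y * m⁻¹ by group] at hZ'
  have hw : C.w ∈ C.A2' := C.S1_le_A2' C.w_mem
  have hx : C.xx t ∈ C.A2' := by
    rw [C.xx_eq]
    exact C.mem_A2' (Subgroup.mem_sup_left (C.mM_mem _))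
  have e1 : C.xx t * y * (C.xx t)⁻¹ = y := by rw [hxy, mul_inv_cancel_right]
  have e2 : C.w⁻¹ * y * C.w = y := by rw [mul_assoc, ← hwy, inv_mul_cancel_left]
  have key : C.nn t * y * (C.nn t)⁻¹ =
      C.xx t * (C.w * (m * y * m⁻¹) * C.w⁻¹) * (C.xx t)⁻¹ := by
    calc C.nn t * y * (C.nn t)⁻¹
        = C.xx t * (C.kk t * (C.xx t * y * (C.xx t)⁻¹) * (C.kk t)⁻¹) * (C.xx t)⁻¹ := by
          simp only [nn]; group
      _ = C.xx t * (C.w * (m * (C.w⁻¹ * y * C.w) * m⁻¹) * C.w⁻¹) * (C.xx t)⁻¹ := by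
          rw [e1, hm]; simp only [kk]; group
      _ = _ := by rw [e2]
  rw [key]
  exact mul_mem (mul_mem hx (mul_mem (mul_mem hw hZ') (inv_mem hw))) (inv_mem hx)

theorem nn_conj_fix {t : F} (ht : t * t = 1) {y : Pr n F H} (hy : y ∈ S a2) :
    (C.nn t * y * (C.nn t)⁻¹).1 ∈ fixS ({a} : Set (Fin n)) := by
  have hye : act y.1 (e a) = e a ∧ act y.1 (f a) = f a :=
    C.am.S_sub a2 y hy a (by simpa using C.ne)
  obtain ⟨n1, -, n3, -⟩ := C.nn_act ht
  obtain ⟨-, i2, -, i4⟩ := C.nn_act (t := -t) (by rwa [neg_mul_neg])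
  intro k hk
  by_cases hk2 : k = a2
  · subst hk2
    simp only [C.nn_inv, Prod.fst_mul, act_mul, i2, i4, act_neg, act_smul, hye, n1, n3, smul_smul,
      neg_smul, neg_neg, ht, one_smul, and_self]
  · have hka : k ∉ ({a, a2} : Set (Fin n)) := by simp [hk2, Set.mem_singleton_iff.not.1 hk]
    exact mul_mem (mul_mem (C.nn_sub t) (fixS_mono (by simp) (C.am.S_sub a2 y hy)))
      (inv_mem (C.nn_sub t)) k hka

theorem nn_conj_S2 {t : F} (ht : t * t = 1) {y : Pr n F H} (hy : y ∈ S a2) :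
    C.nn t * y * (C.nn t)⁻¹ ∈ S a := by
  let R : Subgroup (Pr n F H) := S a2 ⊓ (S a).comap (MulAut.conj (C.nn t)).toMonoidHom
  suffices h : (fixS {a2} : Subgroup Sp) ≤ R.map (MonoidHom.fst _ _) by
    obtain ⟨y', ⟨hy1, hy2⟩, hy3⟩ := h (C.am.S_sub a2 y hy)
    rwa [C.fnS2.eq hy hy1 hy3.symm]
  refine (fixS_singleton_le a2).trans ((Subgroup.closure_le _).2 ?_)
  rintro g ⟨hg, hgf⟩
  obtain ⟨y', hy', hy1⟩ := C.am.S_surj a2 g hg
  refine ⟨y', ⟨hy', ?_⟩, hy1⟩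
  show C.nn t * y' * (C.nn t)⁻¹ ∈ S a
  obtain ⟨s, hs, hs1⟩ := C.am.S_surj a _ (C.nn_conj_fix ht hy')
  subst hy1
  rcases hgf with hgf | hgf
  · have hr := C.nn_conj_M (t := t) (C.am.U_mem C.succ (Or.inr rfl) hy' hgf)
    have hse : act s.1 (e a) = e a := by rw [hs1]; exact C.P_fix hr
    rwa [C.fnP.eq hr (C.M_le_P (C.am.U_mem C.succ (Or.inl rfl) hs hse)) hs1.symm]
  · rwa [C.fnA2'.eq (C.nn_conj_lower ht hy' hgf) (C.S1_le_A2' hs) hs1.symm]

theorem nn_conj_S1 {t : F} (ht : t * t = 1) {y : Pr n F H} (hy : y ∈ S a) :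
    (C.nn t)⁻¹ * y * C.nn t ∈ S a2 := by
  have hye : act y.1 (e a2) = e a2 ∧ act y.1 (f a2) = f a2 :=
    C.am.S_sub a y hy a2 (by simpa using C.ne.symm)
  obtain ⟨n1, -, n3, -⟩ := C.nn_act ht
  obtain ⟨-, i2, -, i4⟩ := C.nn_act (t := -t) (by rwa [neg_mul_neg])
  have hf : ((C.nn t)⁻¹ * y * C.nn t).1 ∈ fixS ({a2} : Set (Fin n)) := by
    intro k hk
    by_cases hk1 : k = a
    · subst hk1
      simp only [C.nn_inv, Prod.fst_mul, act_mul, n1, n3, act_smul, hye, i2, i4, neg_smul, neg_neg,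
        smul_smul, ht, one_smul, and_self]
    · have hka : k ∉ ({a, a2} : Set (Fin n)) := by simp [hk1, Set.mem_singleton_iff.not.1 hk]
      exact mul_mem (mul_mem (inv_mem (C.nn_sub t)) (fixS_mono (by simp) (C.am.S_sub a y hy)))
        (C.nn_sub t) k hka
  obtain ⟨s, hs, hs1⟩ := C.am.S_surj a2 _ hf
  have h2 : C.nn t * s * (C.nn t)⁻¹ = y :=
    C.fnS1.eq (C.nn_conj_S2 ht hs) hy (by simp [hs1, mul_assoc])
  rwa [← h2, show (C.nn t)⁻¹ * (C.nn t * s * (C.nn t)⁻¹) * C.nn t = s by group]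

theorem nn_far {t : F} {g : Pr n F H} (hg : g ∈ Gam S M (a.1 + 2) b) : g * C.nn t = C.nn t * g :=
  C.am.pair_comm_far C.succ C.le hg (C.nn_G3 t)

theorem far_conj {a3 : Fin n} (h3 : a3.1 = a.1 + 2) (hb : a3.1 < b) {t : F} (ht : t * t = 1) :
    ∃ q ∈ C.P, q.1 = Q (e a) (e a3) 0 ∧ (C.nn t)⁻¹ * q * C.nn t ∈ C.P := by
  have hs := C.succ
  have h23 : a3.1 = a2.1 + 1 := by omega
  have hG := C.hsmall (by omega)
  have hI : Iv n a.1 (a.1 + 2) = insert a2 {a} := Iv_two C.succ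
  have heisI : Heis a2 a {a} (S a) (M a) (S a) :=
    { c_not := by simpa using C.ne.symm
      b_mem := Set.mem_singleton a
      fnK := C.fnS1
      K_sub := C.am.S_sub a
      K_surj := C.am.S_surj a
      M_sub := fun x hx => ⟨Set.pair_comm a a2 ▸ (C.M_fix hx).1, (C.M_fix hx).2.2, (C.M_fix hx).2.1⟩
      M_surj := fun g hg h1 h2 => C.am.M_surj a a2 C.succ g (Set.pair_comm a2 a ▸ hg) h2 h1
      S0_le := le_rfl
      S0_surj := C.am.S_surj a
      fnMS := C.fnA2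
      stab_comm := fun k hk hke m hm =>
        C.am.commMM C.succ C.succ (C.am.U_mem C.succ (Or.inl rfl) hk hke) hm
      centre_comm := fun u hu huf k hk => C.am.commSS C.ne hk (C.am.mem_S_of_fix C.succ hu huf) }
  have heis3 : Heis a3 a2 (Iv n a.1 (a.1 + 2)) (Gam S M a.1 (a.1 + 2)) (M a2) (S a2) :=
    { c_not := fun h => by have := (mem_Iv.1 h).2; omega
      b_mem := mem_Iv.2 ⟨by omega, by omega⟩
      fnK := hG.fn
      K_sub := fun x hx => C.am.Gam_sub (by have := C.le; omega) hx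
      K_surj := hG.surj
      M_sub := fun x hx => ⟨Set.pair_comm a2 a3 ▸ (C.am.M_sub a2 a3 h23 x hx).1,
        (C.am.M_sub a2 a3 h23 x hx).2 a3, (C.am.M_sub a2 a3 h23 x hx).2 a2⟩
      M_surj := fun g hg h1 h2 => C.am.M_surj a2 a3 h23 g (Set.pair_comm a3 a2 ▸ hg) h2 h1
      S0_le := S_le_Gam (by omega) (by omega)
      S0_surj := C.am.S_surj a2
      fnMS := C.am.fnMS a2 a2 (by have := C.le; omega)
      stab_comm := fun k hk hke m hm => by
        obtain ⟨x, hx, hx1⟩ := heisI.surj (hI ▸ C.am.Gam_sub (by have := C.le; omega) hk) hke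
        have hle : M a ⊔ S a ≤ Gam S M a.1 (a.1 + 2) :=
          sup_le (M_le_Gam le_rfl (by omega)) (S_le_Gam le_rfl (by omega))
        have hcomm : M a ⊔ S a ≤ Subgroup.centralizer {m} := by
          refine sup_le ?_ ?_ <;> intro z hz <;> rw [Subgroup.mem_centralizer_singleton_iff]
          · exact C.am.commMM C.succ h23 hz hm
          · exact (C.am.commMS h23 C.ne (fun hh => by subst hh; omega) hm hz).symm
        rw [← hG.fn.eq (hle hx) hk hx1]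
        exact Subgroup.mem_centralizer_singleton_iff.1 (hcomm hx)
      centre_comm := fun u hu huf k hk => by
        have hus : u ∈ S a3 := C.am.mem_S_of_fix h23 hu huf
        refine Gam_comm (fun j h1 h2 x hx => C.am.commSS (fun hh => by subst hh; omega) hx hus)
          (fun i h1 h2 x hx => ?_) hk
        rw [show i = a from Fin.ext (by omega)] at hx
        exact C.am.commMS C.succ (fun hh => by subst hh; omega) (fun hh => by subst hh; omega) hx hus }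
  have hb2 := C.lt
  obtain ⟨m, hm, hm1⟩ := heis3.exists_m (-t) 0
  have hB : m ∈ C.P := C.B_le_P (M_le_Gam le_rfl (by omega) hm)
  have hnG : C.nn t ∈ Gam S M a.1 (a.1 + 2) := by
    have hle : S a ⊔ S a2 ⊔ M a ≤ Gam S M a.1 (a.1 + 2) :=
      sup_le (sup_le (S_le_Gam le_rfl (by omega)) (S_le_Gam (by omega) (by omega)))
        (M_le_Gam le_rfl (by omega))
    exact hle (C.nn_G3 t)
  have hxG : C.xx t ∈ Gam S M a.1 (a.1 + 2) := by
    rw [C.xx_eq]
    exact mul_mem (mul_mem (S_le_Gam (by omega) (by omega) C.w2_mem)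
      (M_le_Gam le_rfl (by omega) (C.mM_mem _))) (inv_mem (S_le_Gam (by omega) (by omega) C.w2_mem))
  set P' := M a2 ⊔ Gam S M a.1 (a.1 + 2)
  have hfn' : Fn P' := heis3.fn C.field
  have hmP' : m ∈ P' := Subgroup.mem_sup_left hm
  set r := C.nn t * m * (C.nn t)⁻¹ with hr
  set y := C.xx t * m * (C.xx t)⁻¹ with hy
  obtain ⟨-, n2, -, -⟩ := C.nn_act ht
  obtain ⟨-, x2, -, -⟩ := C.xx_act t
  have h33 : act (C.nn t).1 (e a3) = e a3 ∧ act (C.xx t).1 (e a3) = e a3 := by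
    have : a3 ∉ ({a, a2} : Set (Fin n)) := by simp [Fin.ext_iff]; omega
    exact ⟨(C.nn_sub t a3 this).1, (C.xx_sub t a3 this).1⟩
  have ho : ∀ i j : Fin n, om (e i) (e j : Vec) = 0 := fun i j => by rw [om_e_left]; simp [e]
  have hm1' : m.1 = Q (e a3) (-t • e a2) 0 := hm1
  have r1 : r.1 = Q (e a3) (e a) 0 := by
    rw [hr, Prod.fst_mul, Prod.fst_mul, Prod.fst_inv, hm1',
      Q_conj _ (by rw [om_smul_right, ho, mul_zero]), act_smul, h33.1, n2, neg_smul, smul_neg, neg_neg,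
      smul_smul, ht, one_smul]
  have y1 : y.1 = Q (e a3) (-t • e a2 + e a) 0 := by
    rw [hy, Prod.fst_mul, Prod.fst_mul, Prod.fst_inv, hm1',
      Q_conj _ (by rw [om_smul_right, ho, mul_zero]), act_smul, h33.2, x2, smul_sub, smul_smul,
      neg_mul, ht]
    simp [sub_eq_add_neg]
  have e1 : y = r * m := by
    refine hfn'.eq (mul_mem (mul_mem (Subgroup.mem_sup_right hxG) hmP') (inv_mem
      (Subgroup.mem_sup_right hxG))) (mul_mem (mul_mem (mul_mem (Subgroup.mem_sup_right hnG) hmP')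
      (inv_mem (Subgroup.mem_sup_right hnG))) hmP') ?_
    rw [Prod.fst_mul r m, y1, r1, hm1', Q_mul (ho _ _) (by rw [om_smul_right, ho, mul_zero])]
    simp [om_neg_left, om_smul_left, ho, add_comm]
  refine ⟨r, ?_, by rw [r1, Q_comm (ho _ _)], ?_⟩
  · have : r = y * m⁻¹ := by rw [e1, mul_inv_cancel_right]
    rw [this]
    exact mul_mem (mul_mem (mul_mem (C.xx_mem t) hB) (inv_mem (C.xx_mem t))) (inv_mem hB)
  · rwa [hr, show (C.nn t)⁻¹ * (C.nn t * m * (C.nn t)⁻¹) * C.nn t = m by group]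

/-- Root elements without an `f_(a+1)` component stay in `P` under the exchange. -/
theorem nn_conj_P {t : F} (ht : t * t = 1) {v : Vec} (hv : v ∈ VS (Iv n a2.1 b))
    (hv2 : v (Sum.inr a2) = 0) (z : F) {q : Pr n F H} (hq : q ∈ C.P) (hq1 : q.1 = Q (e a) v z) :
    (C.nn t)⁻¹ * q * C.nn t ∈ C.P := by
  set v' : Vec := v - v (Sum.inl a2) • e a2 with hv'
  obtain ⟨m, hm, hm1⟩ := C.heis.exists_m (v (Sum.inl a2)) z
  have hmc : (C.nn t)⁻¹ * m * C.nn t ∈ C.P := by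
    have := C.nn_conj_M (t := -t) hm
    rwa [← C.nn_inv, inv_inv] at this
  have hv'' : v' ∈ VS (Iv n (a.1 + 2) b) := by
    intro k hk
    by_cases hk2 : k = a2
    · subst hk2; simp [hv', e, hv2]
    · have hk' : k ∉ Iv n a2.1 b := fun hh => hk (mem_Iv.2
        ⟨by have := (mem_Iv.1 hh).1; have := C.succ; rw [Fin.ext_iff] at hk2; omega, (mem_Iv.1 hh).2⟩)
      simp [hv', e, hk2, hv k hk']
  have hev : (e a2 : Vec) ∈ VS (Iv n a2.1 b) := e_mem_VS C.a2_mem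
  have ho : om (e a) (v (Sum.inl a2) • e a2 : Vec) = 0 := C.om_e_e2 _
  by_cases h0 : v' = 0
  · rw [hv', sub_eq_zero] at h0
    rwa [C.fnP.eq hq (C.M_le_P hm) (by rw [hq1, hm1, ← h0])]
  obtain ⟨i, hi⟩ := Function.ne_iff.1 h0
  have h3 : a.1 + 2 < b := by
    by_contra h3
    rcases i with k | k
    · exact hi (hv'' k (fun hh => by have := mem_Iv.1 hh; omega)).1
    · exact hi (hv'' k (fun hh => by have := mem_Iv.1 hh; omega)).2
  obtain ⟨a3, ha3⟩ : ∃ a3 : Fin n, a3.1 = a.1 + 2 := ⟨⟨a.1 + 2, by have := C.le; omega⟩, rfl⟩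
  obtain ⟨g0, hg0, hge⟩ := exists_act_eq (show a3 ∈ Iv n (a.1 + 2) b from mem_Iv.2 ⟨ha3.ge, by omega⟩)
    hv'' h0
  have hGood := C.hfar a3 ha3 (by omega)
  rw [← ha3] at hg0
  obtain ⟨g, hg, hg1⟩ := hGood.surj g0 hg0
  obtain ⟨r, hr, hr1, hrn⟩ := C.far_conj ha3 (by omega) ht
  have hgB : g ∈ Gam S M a2.1 b := Gam_mono (by have := C.succ; omega) le_rfl hg
  have hgn : g * C.nn t = C.nn t * g := C.nn_far (Gam_mono ha3.ge le_rfl hg)
  have ho3 : om (e a) (e a3 : Vec) = 0 := by rw [om_e_left]; simp [e]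
  have hq3 : (g * r * g⁻¹).1 = Q (e a) v' 0 := by
    rw [Prod.fst_mul, Prod.fst_mul, Prod.fst_inv, hr1, Q_conj _ ho3,
      (C.heis.K_fix_ec hgB).1, hg1, hge]
  have hr3 : g * r * g⁻¹ ∈ C.P :=
    mul_mem (mul_mem (C.B_le_P hgB) hr) (inv_mem (C.B_le_P hgB))
  have hsplit : q = m * (g * r * g⁻¹) := by
    refine C.fnP.eq hq (mul_mem (C.M_le_P hm) hr3) ?_
    have ho' : om (e a) v' = 0 :=
      C.heis.om_ec (Submodule.sub_mem _ hv (Submodule.smul_mem _ _ hev))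
    have hz : om v' (v (Sum.inl a2) • e a2 : Vec) = 0 := by
      rw [om_smul_right, om_e]
      simp [hv', e, hv2]
    rw [Prod.fst_mul, hm1, hq3, hq1, Q_mul ho ho', hz, add_zero, add_zero, hv', add_sub_cancel]
  rw [hsplit, show (C.nn t)⁻¹ * (m * (g * r * g⁻¹)) * C.nn t =
    (C.nn t)⁻¹ * m * C.nn t * ((C.nn t)⁻¹ * g * r * (g⁻¹ * C.nn t)) by group]
  refine mul_mem hmc ?_
  have e1 : (C.nn t)⁻¹ * g = g * (C.nn t)⁻¹ := by
    rw [eq_mul_inv_iff_mul_eq, mul_assoc, hgn, inv_mul_cancel_left]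
  have e2 : g⁻¹ * C.nn t = C.nn t * g⁻¹ := by
    rw [eq_mul_inv_iff_mul_eq, mul_assoc, ← hgn, inv_mul_cancel_left]
  rw [e1, e2, show g * (C.nn t)⁻¹ * r * (C.nn t * g⁻¹) =
    g * ((C.nn t)⁻¹ * r * C.nn t) * g⁻¹ by group]
  exact mul_mem (mul_mem (C.B_le_P hgB) hrn) (inv_mem (C.B_le_P hgB))

end Ctx

end Cfsg.Agent.Recog.SpSlim
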