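import Mathlib

set_option autoImplicit false

namespace Cfsg.Agent.Recog

variable {G : Type*} [Group G] [Finite G]

/-- a `p`-subgroup which is self-normalizing inside a larger `p`-subgroup is equal to it -/
theorem eq_of_inf_normalizer_le {p : ℕ} [Fact p.Prime] {Q S : Subgroup G} (hS : IsPGroup p S) (hQS : Q ≤ S)
    (h : S ⊓ Subgroup.normalizer (Q : Set G) ≤ Q) : Q = S := by
  by_contra hne
  haveI := hS.isNilpotent
  have hlt : Q.subgroupOf S < ⊤ := lt_top_iff_ne_top.mpr fun he =>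
    hne (le_antisymm hQS (Subgroup.subgroupOf_eq_top.mp he))
  obtain ⟨x, hx, hxQ⟩ := SetLike.exists_of_lt (normalizerCondition_of_isNilpotent _ hlt)
  apply hxQ
  refine Subgroup.mem_subgroupOf.mpr (h ⟨x.2, ?_⟩)
  show (x : G) ∈ Subgroup.normalizer (Q : Set G)
  rw [Subgroup.mem_normalizer_iff]
  intro y
  rw [Subgroup.mem_normalizer_iff] at hx
  constructor
  · intro hy
    exact (hx ⟨y, hQS hy⟩).mp hy
  · intro hy
    have hyS : y ∈ S := by
      have := S.mul_mem (S.mul_mem (S.inv_mem x.2) (hQS hy)) x.2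
      simpa [mul_assoc] using this
    exact (hx ⟨y, hyS⟩).mpr hy

/-- if the `p`-elements normalizing a Sylow `p`-subgroup `Q` of `L` lie in `L`, then `Q` is Sylow in `G` -/
theorem exists_sylow_eq_of_normalizer_le {p : ℕ} [Fact p.Prime] {L : Subgroup G} (Q : Sylow p L)
    (h : ∀ g : G, g ∈ Subgroup.normalizer (((Q : Subgroup L).map L.subtype : Subgroup G) : Set G) →
      (∃ n : ℕ, orderOf g = p ^ n) → g ∈ L) :
    ∃ S : Sylow p G, (S : Subgroup G) = (Q : Subgroup L).map L.subtype := by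
  obtain ⟨S, hS⟩ := (Q.2.map L.subtype).exists_le_sylow
  refine ⟨S, (eq_of_inf_normalizer_le S.2 hS ?_).symm⟩
  intro g hg
  have hgL : g ∈ L := h g hg.2 (by
    obtain ⟨n, hn⟩ := IsPGroup.iff_orderOf.mp S.2 ⟨g, hg.1⟩
    exact ⟨n, by rw [← hn, ← Subgroup.orderOf_coe]⟩)
  have hp : IsPGroup p (((S : Subgroup G)).subgroupOf L) := S.2.comap_subtype
  have he : ((S : Subgroup G)).subgroupOf L = Q := Q.3 hp (fun x hx => by
    rw [Subgroup.mem_subgroupOf]
    exact hS ⟨x, hx, rfl⟩)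
  exact ⟨⟨g, hgL⟩, by rw [SetLike.mem_coe, ← he, Subgroup.mem_subgroupOf]; exact hg.1, rfl⟩

end Cfsg.Agent.Recog
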