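import Cfsg.Agent.Lib.Recog.TICubeModel
import Cfsg.Agent.Lib.Char.Exceptional
import Cfsg.Agent.Lib.Char.Schur
import Cfsg.Agent.Lib.Block.PrimeMultiplicative

/-!
A group with a trivial-intersection Sylow 3-subgroup of order 27 whose normalizer is `3³:2²`,
containing the centralizers of its non-trivial elements, coincides with that normalizer.
-/

namespace Cfsg.Agent.Recog.TICube

open Cfsg Cfsg.Agent.Char

universe u

section

variable {G : Type u} [Group G] [Fintype G]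

/-- The hypotheses. -/
structure Setup (H T : Subgroup G) : Prop where
  iso : Nonempty (H ≃* M)
  le : T ≤ H
  card : Nat.card T = 27
  norm : Subgroup.normalizer (T : Set G) = H
  cent : ∀ t ∈ T, t ≠ 1 → Subgroup.centralizer ({t} : Set G) ≤ H

noncomputable def proj {H : Subgroup G} (e : H ≃* M) (i : Fin 3) : H →* D :=
  (Pi.evalMonoidHom (fun _ : Fin 3 => D) i).comp (M.subtype.comp e.toMonoidHom)

theorem proj_ext {H : Subgroup G} (e : H ≃* M) {a b : H} (h : ∀ i, proj e i a = proj e i b) :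
    a = b :=
  e.injective (Subtype.ext (funext h))

theorem proj_symm {H : Subgroup G} (e : H ≃* M) (f : Fin 3 → D) (hf : f ∈ M) (i : Fin 3) :
    proj e i (e.symm ⟨f, hf⟩) = f i := by
  show ((e (e.symm ⟨f, hf⟩) : M) : Fin 3 → D) i = f i
  rw [e.apply_symm_apply]

theorem surj_aux : ∀ (i : Fin 3) (σ : D), (∏ k, Equiv.Perm.sign
    (Function.update (Function.update (1 : Fin 3 → D) i σ) (i + 1)
      (if Equiv.Perm.sign σ = 1 then 1 else tau) k)) = 1 := by decide

theorem proj_surjective {H : Subgroup G} (e : H ≃* M) (i : Fin 3) :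
    Function.Surjective (proj e i) := by
  intro σ
  refine ⟨e.symm ⟨_, surj_aux i σ⟩, ?_⟩
  refine (proj_symm e _ (surj_aux i σ) i).trans ?_
  rw [Function.update_of_ne (by revert i; decide), Function.update_self]

theorem even_pow_three : ∀ σ : D, Equiv.Perm.sign σ = 1 → σ ^ 3 = 1 := by decide
theorem even_comm : ∀ σ τ : D, Equiv.Perm.sign σ = 1 → Equiv.Perm.sign τ = 1 →
    σ * τ = τ * σ := by decide
theorem sq_even : ∀ σ : D, Equiv.Perm.sign (σ ^ 2) = 1 := by decide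
theorem sq_ne_one : ∀ σ : D, Equiv.Perm.sign σ = 1 → σ ≠ 1 → σ ^ 2 ≠ 1 := by decide
theorem even_odd_comm : ∀ σ τ : D, Equiv.Perm.sign σ = 1 → Equiv.Perm.sign τ = -1 →
    σ * τ = τ * σ → σ = 1 := by decide
theorem invol_cases : ∀ a : D, a ^ 2 = 1 → a = 1 ∨ Equiv.Perm.sign a = -1 := by decide

theorem invol_pattern (a b c : D) (ha : a ^ 2 = 1) (hb : b ^ 2 = 1) (hc : c ^ 2 = 1)
    (hp : Equiv.Perm.sign a * Equiv.Perm.sign b * Equiv.Perm.sign c = 1)
    (hne : ¬ (a = 1 ∧ b = 1 ∧ c = 1)) :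
    (a = 1 ∧ Equiv.Perm.sign b = -1 ∧ Equiv.Perm.sign c = -1) ∨
    (b = 1 ∧ Equiv.Perm.sign a = -1 ∧ Equiv.Perm.sign c = -1) ∨
    (c = 1 ∧ Equiv.Perm.sign a = -1 ∧ Equiv.Perm.sign b = -1) := by
  rcases invol_cases a ha with rfl | ha' <;> rcases invol_cases b hb with rfl | hb' <;>
    rcases invol_cases c hc with rfl | hc' <;> simp_all

/-- `h` fixes the coordinate `i` and is odd on the two others. -/
def Pat {H : Subgroup G} (e : H ≃* M) (i : Fin 3) (h : H) : Prop :=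
  proj e i h = 1 ∧ ∀ k, k ≠ i → Equiv.Perm.sign (proj e k h) = -1

theorem exists_pat {H : Subgroup G} (e : H ≃* M) {h : H} (h1 : h ≠ 1) (h2 : h ^ 2 = 1) :
    ∃ i, Pat e i h := by
  have hs : ∀ i, proj e i h ^ 2 = 1 := fun i => by rw [← map_pow, h2, map_one]
  have hp : Equiv.Perm.sign (proj e 0 h) * Equiv.Perm.sign (proj e 1 h) *
      Equiv.Perm.sign (proj e 2 h) = 1 := by
    have h3 : ∏ k : Fin 3, Equiv.Perm.sign ((e h : Fin 3 → D) k) = 1 := (e h).2
    rw [Fin.prod_univ_three] at h3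
    exact h3
  have hne : ¬ (proj e 0 h = 1 ∧ proj e 1 h = 1 ∧ proj e 2 h = 1) := fun ⟨a, b, c⟩ =>
    h1 (proj_ext e fun i => by fin_cases i <;> simpa)
  rcases invol_pattern _ _ _ (hs 0) (hs 1) (hs 2) hp hne with ⟨a, b, c⟩ | ⟨a, b, c⟩ | ⟨a, b, c⟩
  · exact ⟨0, a, fun k hk => by fin_cases k <;> simp_all⟩
  · exact ⟨1, a, fun k hk => by fin_cases k <;> simp_all⟩
  · exact ⟨2, a, fun k hk => by fin_cases k <;> simp_all⟩

variable {H T : Subgroup G}

theorem Setup.cardH (S : Setup H T) : Nat.card H = 108 := by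
  obtain ⟨e⟩ := S.iso
  rw [Nat.card_congr e.toEquiv, card_M]

theorem Setup.normalH (S : Setup H T) : (T.subgroupOf H).Normal := by
  refine Subgroup.normal_subgroupOf_iff_le_normalizer S.le |>.2 ?_
  rw [S.norm]

theorem Setup.index_four (S : Setup H T) : (T.subgroupOf H).index = 4 := by
  have h := (T.subgroupOf H).index_mul_card
  rw [Nat.card_congr (Subgroup.subgroupOfEquivOfLe S.le).toEquiv, S.card, S.cardH] at h
  omega

theorem Setup.three_mem (S : Setup H T) {g : G} (hg : g ∈ H) {k : ℕ} (hk : g ^ 3 ^ k = 1) :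
    g ∈ T := by
  haveI := S.normalH
  have h4 : (⟨g, hg⟩ : H) ^ (T.subgroupOf H).index ∈ T.subgroupOf H := Subgroup.pow_index_mem _ _
  rw [S.index_four, Subgroup.mem_subgroupOf, Subgroup.coe_pow] at h4
  have hco : (4 : ℕ).Coprime (orderOf g) :=
    Nat.Coprime.coprime_dvd_right (orderOf_dvd_of_pow_eq_one hk) (Nat.Coprime.pow_right _ (by norm_num))
  obtain ⟨m, hm⟩ := exists_pow_eq_self_of_coprime hco
  rw [← hm]
  exact pow_mem h4 m

theorem Setup.pow27 (S : Setup H T) {g : G} (hg : g ∈ T) : g ^ 3 ^ 3 = 1 := by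
  have h : (⟨g, hg⟩ : T) ^ Nat.card T = 1 := pow_card_eq_one'
  rw [S.card] at h
  exact congrArg Subtype.val h

theorem Setup.mem_T_iff (S : Setup H T) (e : H ≃* M) (h : H) :
    (h : G) ∈ T ↔ ∀ i, Equiv.Perm.sign (proj e i h) = 1 := by
  constructor
  · intro ht i
    have h1 : h ^ 27 = 1 := Subtype.ext (by simpa using S.pow27 ht)
    have h2 := congrArg (fun x => Equiv.Perm.sign (proj e i x)) h1
    simp only [map_pow, map_one] at h2
    rcases Int.units_eq_one_or (Equiv.Perm.sign (proj e i h)) with h3 | h3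
    · exact h3
    · rw [h3] at h2; exact absurd h2 (by decide)
  · intro hs
    refine S.three_mem h.2 (k := 1) ?_
    have : h ^ 3 = 1 := proj_ext e fun i => by rw [map_pow, map_one]; exact even_pow_three _ (hs i)
    simpa using congrArg Subtype.val this

theorem Setup.comm (S : Setup H T) {a b : G} (ha : a ∈ T) (hb : b ∈ T) : a * b = b * a := by
  obtain ⟨e⟩ := S.iso
  have h : (⟨a, S.le ha⟩ : H) * ⟨b, S.le hb⟩ = ⟨b, S.le hb⟩ * ⟨a, S.le ha⟩ :=
    proj_ext e fun i => by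
      rw [map_mul, map_mul]
      exact even_comm _ _ ((S.mem_T_iff e ⟨a, S.le ha⟩).1 ha i) ((S.mem_T_iff e ⟨b, S.le hb⟩).1 hb i)
  exact congrArg Subtype.val h

theorem Setup.ti (S : Setup H T) {t g : G} (ht : t ∈ T) (h1 : t ≠ 1) (hg : g * t * g⁻¹ ∈ T) :
    g ∈ H := by
  have hle : T.map (MulAut.conj g⁻¹).toMonoidHom ≤ T := by
    rintro _ ⟨s, hs, rfl⟩
    simp only [MulEquiv.coe_toMonoidHom, MulAut.conj_apply, inv_inv]
    refine S.three_mem (S.cent t ht h1 ?_) (k := 3) ?_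
    · rw [Subgroup.mem_centralizer_singleton_iff]
      have h2 := S.comm hs hg
      calc g⁻¹ * s * g * t = g⁻¹ * (s * (g * t * g⁻¹)) * g := by group
        _ = g⁻¹ * (g * t * g⁻¹ * s) * g := by rw [h2]
        _ = t * (g⁻¹ * s * g) := by group
    · have h3 : (MulAut.conj g⁻¹) s ^ 3 ^ 3 = 1 := by rw [← map_pow, S.pow27 hs, map_one]
      simpa [MulAut.conj_apply] using h3
  have heq : T.map (MulAut.conj g⁻¹).toMonoidHom = T := by
    refine Subgroup.eq_of_le_of_card_ge hle ?_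
    rw [Subgroup.card_map_of_injective (MulAut.conj g⁻¹).injective]
  have h : g⁻¹ ∈ Subgroup.normalizer (T : Set G) := by
    rw [Subgroup.mem_normalizer_iff_map_conj_eq]
    exact heq
  rw [S.norm] at h
  simpa using inv_mem h

theorem Setup.inv_mem_H (S : Setup H T) {t g : G} (ht : t ∈ T) (h1 : t ≠ 1)
    (hg : g * t * g⁻¹ = t⁻¹) : g ∈ H :=
  S.ti ht h1 (hg ▸ inv_mem ht)

theorem Setup.pgroup_le (S : Setup H T) {P : Subgroup G} (hP : IsPGroup 3 P) {u : G}
    (huP : u ∈ P) (huT : u ∈ T) (hu : u ≠ 1) : P ≤ T := by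
  haveI : Fact (Nat.Prime 3) := ⟨by norm_num⟩
  haveI : Nontrivial P := ⟨⟨⟨u, huP⟩, 1, fun h => hu (congrArg Subtype.val h)⟩⟩
  obtain ⟨z, hz, hz1⟩ := (Subgroup.nontrivial_iff_exists_ne_one _).1 hP.center_nontrivial
  have hzu : (z : G) * u = u * z :=
    congrArg Subtype.val ((Subgroup.mem_center_iff.1 hz ⟨u, huP⟩).symm)
  have hzH : (z : G) ∈ H := S.cent u huT hu (Subgroup.mem_centralizer_singleton_iff.2 hzu)
  obtain ⟨k, hk⟩ := hP z
  have hzT : (z : G) ∈ T := S.three_mem hzH (k := k) (by simpa using congrArg Subtype.val hk)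
  intro x hx
  have hxH : x ∈ H := S.cent z hzT (fun h => hz1 (Subtype.ext h))
    (Subgroup.mem_centralizer_singleton_iff.2
      (congrArg Subtype.val (Subgroup.mem_center_iff.1 hz ⟨x, hx⟩)))
  obtain ⟨k, hk⟩ := hP ⟨x, hx⟩
  exact S.three_mem hxH (k := k) (by simpa using congrArg Subtype.val hk)

/-- The standard elements. -/
noncomputable def uE (e : H ≃* M) (i : Fin 3) : H := e.symm ⟨uF i, uF_mem i⟩
noncomputable def jE (e : H ≃* M) (i : Fin 3) : H := e.symm ⟨jF i, jF_mem i⟩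

theorem proj_uE (e : H ≃* M) (i k : Fin 3) : proj e k (uE e i) = if k = i then c3 else 1 := by
  rw [uE, proj_symm, uF, Function.update_apply, Pi.one_apply]

theorem proj_jE (e : H ≃* M) (i k : Fin 3) : proj e k (jE e i) = if k = i then 1 else tau := by
  rw [jE, proj_symm, jF, Function.update_apply]

theorem pat_jE (e : H ≃* M) (i : Fin 3) : Pat e i (jE e i) := by
  refine ⟨by rw [proj_jE, if_pos rfl], fun k hk => ?_⟩
  rw [proj_jE, if_neg hk]
  decide

theorem jE_sq (e : H ≃* M) (i : Fin 3) : jE e i ^ 2 = 1 := by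
  refine proj_ext e fun k => ?_
  rw [map_pow, proj_jE, map_one]
  split_ifs <;> decide

theorem uE_mem (S : Setup H T) (e : H ≃* M) (i : Fin 3) : (uE e i : G) ∈ T := by
  rw [S.mem_T_iff e]
  intro k
  rw [proj_uE]
  split_ifs <;> decide

theorem uE_ne (e : H ≃* M) (i : Fin 3) : (uE e i : G) ≠ 1 := by
  intro h
  have h1 := congrArg (proj e i) (show uE e i = 1 from Subtype.ext h)
  rw [proj_uE, if_pos rfl, map_one] at h1
  exact absurd h1 (by decide)

theorem pat_comm (e : H ≃* M) {i : Fin 3} {h : H} (hp : Pat e i h) :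
    (uE e i : G) * h = h * uE e i := by
  refine congrArg Subtype.val (proj_ext e (a := uE e i * h) (b := h * uE e i) fun k => ?_)
  rw [map_mul, map_mul, proj_uE]
  split_ifs with hk
  · subst hk; rw [hp.1, mul_one, one_mul]
  · rw [mul_one, one_mul]

/-- Involutions of different patterns are not conjugate. -/
theorem Setup.pat_eq (S : Setup H T) (e : H ≃* M) {i k : Fin 3} {h h' : H} (hi : Pat e i h)
    (hk : Pat e k h') {g : G} (hg : g * h * g⁻¹ = h') : i = k := by
  by_contra hik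
  haveI : Fact (Nat.Prime 3) := ⟨by norm_num⟩
  let C := Subgroup.centralizer ({(h' : G)} : Set G)
  have huk : (uE e k : G) ∈ C := Subgroup.mem_centralizer_singleton_iff.2 (pat_comm e hk)
  have hv : g * uE e i * g⁻¹ ∈ C := by
    rw [Subgroup.mem_centralizer_singleton_iff, ← hg]
    calc g * uE e i * g⁻¹ * (g * h * g⁻¹) = g * (uE e i * h) * g⁻¹ := by group
      _ = g * (h * uE e i) * g⁻¹ := by rw [pat_comm e hi]
      _ = g * h * g⁻¹ * (g * uE e i * g⁻¹) := by group
  have hP : IsPGroup 3 (Subgroup.zpowers (⟨uE e k, huk⟩ : C)) := by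
    refine IsPGroup.of_card (n := (orderOf (⟨uE e k, huk⟩ : C)).factorization 3) ?_
    have hd : orderOf (⟨uE e k, huk⟩ : C) ∣ 3 ^ 3 :=
      orderOf_dvd_of_pow_eq_one (Subtype.ext (by simpa using S.pow27 (uE_mem S e k)))
    obtain ⟨n, -, hn⟩ := (Nat.dvd_prime_pow (by norm_num)).1 hd
    rw [Nat.card_zpowers, hn, Nat.Prime.factorization_pow (by norm_num), Finsupp.single_eq_same]
  have hQ : IsPGroup 3 (Subgroup.zpowers (⟨g * uE e i * g⁻¹, hv⟩ : C)) := by
    refine IsPGroup.of_card (n := (orderOf (⟨g * uE e i * g⁻¹, hv⟩ : C)).factorization 3) ?_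
    have h0 : (MulAut.conj g) (uE e i : G) ^ 3 ^ 3 = 1 := by
      rw [← map_pow, S.pow27 (uE_mem S e i), map_one]
    have hd : orderOf (⟨g * uE e i * g⁻¹, hv⟩ : C) ∣ 3 ^ 3 :=
      orderOf_dvd_of_pow_eq_one (Subtype.ext (by simpa [MulAut.conj_apply] using h0))
    obtain ⟨n, -, hn⟩ := (Nat.dvd_prime_pow (by norm_num)).1 hd
    rw [Nat.card_zpowers, hn, Nat.Prime.factorization_pow (by norm_num), Finsupp.single_eq_same]
  obtain ⟨P, hPle⟩ := hP.exists_le_sylow
  obtain ⟨Q, hQle⟩ := hQ.exists_le_sylow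
  obtain ⟨c, hc⟩ := MulAction.exists_smul_eq C Q P
  have hPT : (P : Subgroup C).map C.subtype ≤ T :=
    S.pgroup_le (P.2.map C.subtype) ⟨_, hPle (Subgroup.mem_zpowers _), rfl⟩ (uE_mem S e k) (uE_ne e k)
  have hw : c * ⟨g * uE e i * g⁻¹, hv⟩ * c⁻¹ ∈ (P : Subgroup C) := by
    rw [← hc, Sylow.coe_subgroup_smul]
    exact Subgroup.smul_mem_pointwise_smul _ (MulAut.conj c) _ (hQle (Subgroup.mem_zpowers _))
  have hwT : (c : G) * (g * uE e i * g⁻¹) * (c : G)⁻¹ ∈ T := hPT ⟨_, hw, rfl⟩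
  have hwC : (c : G) * (g * uE e i * g⁻¹) * (c : G)⁻¹ ∈ C := (c * ⟨_, hv⟩ * c⁻¹ : C).2
  have hcg : (c : G) * g ∈ H := S.ti (uE_mem S e i) (uE_ne e i) (by
    convert hwT using 1; group)
  let w : H := ⟨_, S.le hwT⟩
  have h1 : w = ⟨(c : G) * g, hcg⟩ * uE e i * ⟨(c : G) * g, hcg⟩⁻¹ := Subtype.ext (by
    simp [w, mul_assoc])
  have h2 : proj e i w = 1 := by
    refine even_odd_comm _ (proj e i h') ((S.mem_T_iff e w).1 hwT i) (hk.2 i hik) ?_
    rw [← map_mul, ← map_mul]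
    exact congrArg (proj e i) (Subtype.ext (Subgroup.mem_centralizer_singleton_iff.1 hwC))
  have h3 := congrArg (proj e i) h1
  rw [h2, map_mul, map_mul, map_inv, proj_uE, if_pos rfl, eq_mul_inv_iff_mul_eq, one_mul,
    left_eq_mul] at h3
  exact absurd h3 (by decide)

end

end Cfsg.Agent.Recog.TICube
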