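import Mathlib
import Cfsg.Agent.Lib.Char.StarWeights
import Cfsg.Agent.Lib.Char.Constituent

/-!
The model of the group `3³:2²` inside three copies of `Sym(3)`, and the virtual character
`1 + sgn - χ₂` of `Sym(3)`.
-/

namespace Cfsg.Agent.Recog.TICube

open Cfsg Cfsg.Agent.Char

abbrev D := Equiv.Perm (Fin 3)

/-- The even part of the triple product. -/
def M : Subgroup (Fin 3 → D) where
  carrier := {f | ∏ i, Equiv.Perm.sign (f i) = 1}
  mul_mem' := fun {a b} ha hb => by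
    simp only [Set.mem_setOf_eq, Pi.mul_apply, map_mul, Finset.prod_mul_distrib] at *
    rw [ha, hb, one_mul]
  one_mem' := by simp
  inv_mem' := fun {a} ha => by
    simp only [Set.mem_setOf_eq, Pi.inv_apply, map_inv, Finset.prod_inv_distrib] at *
    rw [ha, inv_one]

def c3 : D := Equiv.swap 0 1 * Equiv.swap 1 2
def tau : D := Equiv.swap 0 1

def uF (i : Fin 3) : Fin 3 → D := Function.update 1 i c3
def jF (i : Fin 3) : Fin 3 → D := Function.update (fun _ => tau) i 1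

theorem uF_mem (i : Fin 3) : uF i ∈ M := by
  show ∏ k, Equiv.Perm.sign (uF i k) = 1
  fin_cases i <;> decide

theorem jF_mem (i : Fin 3) : jF i ∈ M := by
  show ∏ k, Equiv.Perm.sign (jF i k) = 1
  fin_cases i <;> decide

theorem perm3_sign (σ : D) : ∃ x : Fin 3, (Equiv.Perm.sign σ = 1 ∧ σ = c3 ^ (x : ℕ)) ∨
    (Equiv.Perm.sign σ = -1 ∧ σ = c3 ^ (x : ℕ) * tau) := by
  revert σ; decide

theorem M_gen (f : Fin 3 → D) (hf : f ∈ M) : ∃ (x : Fin 3 → Fin 3) (s : Fin 4),
    f = uF 0 ^ (x 0 : ℕ) * uF 1 ^ (x 1 : ℕ) * uF 2 ^ (x 2 : ℕ) * ![1, jF 0, jF 1, jF 2] s := by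
  have hp : Equiv.Perm.sign (f 0) * Equiv.Perm.sign (f 1) * Equiv.Perm.sign (f 2) = 1 := by
    have h : ∏ k, Equiv.Perm.sign (f k) = 1 := hf
    rwa [Fin.prod_univ_three] at h
  obtain ⟨a, ha⟩ := perm3_sign (f 0)
  obtain ⟨b, hb⟩ := perm3_sign (f 1)
  obtain ⟨c, hc⟩ := perm3_sign (f 2)
  have key : ∀ s : Fin 4, ∀ p : Fin 3 → D, (∀ k, p k = (![1, jF 0, jF 1, jF 2] s) k) →
      f 0 = c3 ^ (a : ℕ) * p 0 → f 1 = c3 ^ (b : ℕ) * p 1 → f 2 = c3 ^ (c : ℕ) * p 2 →
      ∃ (x : Fin 3 → Fin 3) (s : Fin 4),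
      f = uF 0 ^ (x 0 : ℕ) * uF 1 ^ (x 1 : ℕ) * uF 2 ^ (x 2 : ℕ) * ![1, jF 0, jF 1, jF 2] s := by
    intro s p hps h0 h1 h2
    refine ⟨![a, b, c], s, funext fun k => ?_⟩
    fin_cases k <;> simp [uF, h0, h1, h2, hps]
  rcases ha with ⟨sa, ea⟩ | ⟨sa, ea⟩ <;> rcases hb with ⟨sb, eb⟩ | ⟨sb, eb⟩ <;>
    rcases hc with ⟨sc, ec⟩ | ⟨sc, ec⟩ <;> rw [sa, sb, sc] at hp <;>
    first
    | exact key 0 1 (fun k => rfl) (by rw [ea]; rfl) (by rw [eb]; rfl) (by rw [ec]; rfl)
    | exact key 1 (jF 0) (fun k => rfl) (by rw [ea]; rfl) (by rw [eb]; rfl) (by rw [ec]; rfl)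
    | exact key 2 (jF 1) (fun k => rfl) (by rw [ea]; rfl) (by rw [eb]; rfl) (by rw [ec]; rfl)
    | exact key 3 (jF 2) (fun k => rfl) (by rw [ea]; rfl) (by rw [eb]; rfl) (by rw [ec]; rfl)
    | exact absurd hp (by decide)

theorem card_M : Nat.card M = 108 := by
  let χ : (Fin 3 → D) →* ℤˣ :=
    { toFun := fun f => ∏ i, Equiv.Perm.sign (f i)
      map_one' := by simp
      map_mul' := fun a b => by simp [Finset.prod_mul_distrib] }
  have hker : χ.ker = M := by ext f; rfl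
  have hsurj : Function.Surjective χ := by
    intro z
    rcases Int.units_eq_one_or z with rfl | rfl
    · exact ⟨1, map_one χ⟩
    · exact ⟨Function.update 1 0 tau, by show (∏ i : Fin 3, Equiv.Perm.sign (Function.update (1 : Fin 3 → D) 0 tau i)) = -1; decide⟩
  have h1 := χ.ker.index_mul_card
  rw [Subgroup.index_ker, MonoidHom.range_eq_top.2 hsurj, hker] at h1
  simp only [Subgroup.card_top, Nat.card_eq_fintype_card, Fintype.card_units_int,
    Fintype.card_pi, Fintype.card_perm, Fintype.card_fin, Finset.prod_const, Finset.card_univ] at h1 ⊢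
  norm_num [Nat.factorial] at h1
  omega

/-- The embedding into the permutations of nine points, in three blocks. -/
def iota : (Fin 3 → D) →* Equiv.Perm (Fin 9) where
  toFun f := finProdFinEquiv.permCongr (Equiv.prodCongrRight f)
  map_one' := by
    ext x
    simp [Equiv.permCongr_apply, Equiv.prodCongrRight]
  map_mul' f g := by
    ext x
    simp [Equiv.permCongr_apply, Equiv.prodCongrRight]

theorem iota_injective : Function.Injective iota := by
  intro f g h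
  funext a
  ext b
  have h1 := DFunLike.congr_fun (finProdFinEquiv.permCongr.injective h) (a, b)
  simp [Equiv.prodCongrRight] at h1
  rw [h1]

theorem iota_uF : iota (uF 0) = Equiv.swap (0 : Fin 9) 1 * Equiv.swap 1 2 ∧
    iota (uF 1) = Equiv.swap (3 : Fin 9) 4 * Equiv.swap 4 5 ∧
    iota (uF 2) = Equiv.swap (6 : Fin 9) 7 * Equiv.swap 7 8 ∧
    iota (jF 2) = Equiv.swap (0 : Fin 9) 1 * Equiv.swap 3 4 ∧
    iota (jF 1) = Equiv.swap (0 : Fin 9) 1 * Equiv.swap 6 7 ∧
    jF 0 = jF 1 * jF 2 := by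
  refine ⟨?_, ?_, ?_, ?_, ?_, ?_⟩ <;> first | (ext x; revert x; decide) | decide

theorem model_iso : Nonempty (↥(Subgroup.closure ({Equiv.swap (0 : Fin 9) 1 * Equiv.swap 1 2,
    Equiv.swap (3 : Fin 9) 4 * Equiv.swap 4 5, Equiv.swap (6 : Fin 9) 7 * Equiv.swap 7 8,
    Equiv.swap (0 : Fin 9) 1 * Equiv.swap 3 4, Equiv.swap (0 : Fin 9) 1 * Equiv.swap 6 7} :
    Set (Equiv.Perm (Fin 9)))) ≃* M) := by
  obtain ⟨h0, h1, h2, h3, h4, h5⟩ := iota_uF
  have he : M.map iota = Subgroup.closure ({Equiv.swap (0 : Fin 9) 1 * Equiv.swap 1 2,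
      Equiv.swap (3 : Fin 9) 4 * Equiv.swap 4 5, Equiv.swap (6 : Fin 9) 7 * Equiv.swap 7 8,
      Equiv.swap (0 : Fin 9) 1 * Equiv.swap 3 4, Equiv.swap (0 : Fin 9) 1 * Equiv.swap 6 7} :
      Set (Equiv.Perm (Fin 9))) := by
    refine le_antisymm ?_ ((Subgroup.closure_le _).2 ?_)
    · rintro _ ⟨f, hf, rfl⟩
      obtain ⟨x, s, rfl⟩ := M_gen f hf
      simp only [map_mul, map_pow, h0, h1, h2]
      refine mul_mem (mul_mem (mul_mem (pow_mem (Subgroup.subset_closure ?_) _)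
        (pow_mem (Subgroup.subset_closure ?_) _)) (pow_mem (Subgroup.subset_closure ?_) _)) ?_
      iterate 3 simp
      fin_cases s
      · simp
      · show iota (jF 0) ∈ _
        rw [h5, map_mul, h3, h4]
        exact mul_mem (Subgroup.subset_closure (by simp)) (Subgroup.subset_closure (by simp))
      · show iota (jF 1) ∈ _
        rw [h4]; exact Subgroup.subset_closure (by simp)
      · show iota (jF 2) ∈ _
        rw [h3]; exact Subgroup.subset_closure (by simp)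
    · rintro g (rfl | rfl | rfl | rfl | rfl)
      · exact ⟨_, uF_mem 0, h0⟩
      · exact ⟨_, uF_mem 1, h1⟩
      · exact ⟨_, uF_mem 2, h2⟩
      · exact ⟨_, jF_mem 2, h3⟩
      · exact ⟨_, jF_mem 1, h4⟩
  exact ⟨((M.equivMapOfInjective iota iota_injective).trans (MulEquiv.subgroupCongr he)).symm⟩

/-- `1 + sgn - χ₂` on `Sym(3)`. -/
noncomputable def F (σ : D) : ℂ := if Equiv.Perm.sign σ = 1 ∧ σ ≠ 1 then 3 else 0

def fixN (σ : D) : ℕ := (Finset.univ.filter fun i => σ i = i).card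

theorem isCharacter_fix : IsCharacter D (fun σ => (fixN σ : ℂ)) := by
  let ρ : Representation ℂ D (Fin 3 → ℂ) :=
    { toFun := fun σ => LinearMap.funLeft ℂ ℂ σ.symm
      map_one' := by ext; rfl
      map_mul' := fun σ τ => by ext; rfl }
  refine ⟨3, ρ, funext fun σ => ?_⟩
  show LinearMap.trace ℂ (Fin 3 → ℂ) (ρ σ) = _
  rw [LinearMap.trace_eq_matrix_trace ℂ (Pi.basisFun ℂ (Fin 3)), Matrix.trace]
  simp only [Matrix.diag, LinearMap.toMatrix_apply, Pi.basisFun_apply, Pi.basisFun_repr]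
  have h : ∀ x, ρ σ (Pi.single x (1 : ℂ)) x = if σ x = x then 1 else 0 := by
    intro x
    show (Pi.single x (1 : ℂ) : Fin 3 → ℂ) (σ.symm x) = _
    rw [Pi.single_apply]
    by_cases hx : σ x = x
    · rw [if_pos hx, if_pos (by rw [Equiv.symm_apply_eq]; exact hx.symm)]
    · rw [if_neg hx, if_neg (fun e => hx (by rw [Equiv.symm_apply_eq] at e; exact e.symm))]
  simp only [h, Finset.sum_boole, fixN]

theorem F_formula (σ : D) : (if Equiv.Perm.sign σ = 1 ∧ σ ≠ 1 then (3 : ℤ) else 0) =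
    2 + (Equiv.Perm.sign σ : ℤ) - fixN σ := by
  revert σ; decide

theorem isGenChar_F : IsGeneralizedCharacter D F := by
  let l : D →* ℂˣ := (Units.map (Int.castRingHom ℂ).toMonoidHom).comp Equiv.Perm.sign
  have h1 : IsCharacter D (fun _ => (1 : ℂ)) := Star.isCharacter_hom (1 : D →* ℂˣ)
  refine ⟨_, _, IsChar.add (IsChar.add h1 h1) (Star.isCharacter_hom l), isCharacter_fix, funext fun σ => ?_⟩
  have h := congrArg (fun z : ℤ => (z : ℂ)) (F_formula σ)
  simp only [F]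
  push_cast at h
  rw [h]
  simp [l]
  ring

end Cfsg.Agent.Recog.TICube
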