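import Mathlib

set_option autoImplicit false

namespace Cfsg.Agent.Recog

/-- Frobenius partition argument: a group `Z ⋊ ⟨y⟩` in which every element of `Z \ 1` and `y` acts
fixed point freely on `V` forces `V = 1`. -/
theorem trivial_of_partition {L V : Type*} [Group L] [CommGroup V] [Finite V] [Finite L]
    (φ : L →* MulAut V) (Z : Subgroup L) (y : L) {r : ℕ} (hr : r.Prime) (hy : orderOf y = r)
    (hyZ : y ∈ Subgroup.normalizer (Z : Set L)) (hZ : Z ≠ ⊥) (hZab : ∀ a ∈ Z, ∀ b ∈ Z, a * b = b * a)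
    (hfZ : ∀ z ∈ Z, z ≠ 1 → ∀ v : V, φ z v = v → v = 1) (hfy : ∀ v : V, φ y v = v → v = 1)
    (hcy : ∀ z ∈ Z, y * z = z * y → z = 1) (hcop : (Nat.card Z).Coprime (Nat.card V)) :
    ∀ v : V, v = 1 := by
  classical
  let _ := Fintype.ofFinite Z
  -- products over Z
  have hS : ∀ u : V, ∏ z : Z, φ (z : L) u = 1 := by
    intro u
    obtain ⟨z₀, hz₀, hz₁⟩ := (Subgroup.bot_or_exists_ne_one Z).resolve_left hZ
    refine hfZ z₀ hz₀ hz₁ _ ?_
    rw [map_prod]
    exact Fintype.prod_equiv (Equiv.mulLeft ⟨z₀, hz₀⟩) _ _ (fun z => by simp [map_mul])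
  -- products over ⟨y⟩
  have hT : ∀ u : V, ∏ j ∈ Finset.range r, φ (y ^ j) u = 1 := by
    intro u
    refine hfy _ ?_
    rw [map_prod]
    have hshift : ∀ j, φ y (φ (y ^ j) u) = φ (y ^ (j + 1)) u := fun j => by
      rw [pow_succ', map_mul]; rfl
    simp only [hshift]
    have h1 := Finset.prod_range_succ' (fun j => φ (y ^ j) u) r
    have h2 := Finset.prod_range_succ (fun j => φ (y ^ j) u) r
    rw [h2, pow_zero] at h1
    have hyr' : y ^ r = 1 := hy ▸ pow_orderOf_eq_one y
    rw [hyr'] at h1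
    exact (mul_right_cancel h1).symm
  intro v
  have htot : ∏ z : Z, ∏ j ∈ Finset.range r, φ ((z : L) * y ^ j * (z : L)⁻¹) v = 1 := by
    refine Finset.prod_eq_one fun z _ => ?_
    have : ∀ j : ℕ, φ ((z : L) * y ^ j * (z : L)⁻¹) v = φ (z : L) (φ (y ^ j) (φ (z : L)⁻¹ v)) := fun j => by
      simp only [map_mul]; rfl
    rw [Finset.prod_congr rfl fun j _ => this j, ← map_prod, hT, map_one]
  rw [Finset.prod_comm, Finset.prod_eq_single 0 ?_ (fun h => absurd (Finset.mem_range.mpr hr.pos) h)] at htot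
  · simp only [pow_zero, mul_one, mul_inv_cancel, map_one, MulAut.one_apply, Finset.prod_const,
      Finset.card_univ] at htot
    rw [← Nat.card_eq_fintype_card, ← orderOf_dvd_iff_pow_eq_one] at htot
    exact orderOf_eq_one_iff.mp (Nat.eq_one_of_dvd_coprimes hcop htot (orderOf_dvd_natCard v))
  intro j hj hj0
  have hyj : y ^ j ∈ Subgroup.normalizer (Z : Set L) := pow_mem hyZ j
  have hmem : ∀ z : Z, (z : L) * y ^ j * (z : L)⁻¹ * (y ^ j)⁻¹ ∈ Z := fun z => by
    have h1 := (Subgroup.mem_normalizer_iff.mp hyj (z : L)⁻¹).mp (inv_mem z.2)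
    have := Z.mul_mem z.2 h1
    simpa [mul_assoc] using this
  let f : Z → Z := fun z => ⟨_, hmem z⟩
  have hfinj : Function.Injective f := by
    intro a b hab
    have h : (a : L) * y ^ j * (a : L)⁻¹ * (y ^ j)⁻¹ = (b : L) * y ^ j * (b : L)⁻¹ * (y ^ j)⁻¹ :=
      congrArg Subtype.val hab
    replace h := mul_right_cancel h
    set z := (b : L)⁻¹ * (a : L) with hz
    have hzm : z ∈ Z := Z.mul_mem (inv_mem b.2) a.2
    have hcomm : Commute (y ^ j) z := by
      show y ^ j * z = z * y ^ j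
      rw [hz]
      calc y ^ j * ((b : L)⁻¹ * (a : L)) = (b : L)⁻¹ * ((b : L) * y ^ j * (b : L)⁻¹) * (a : L) := by group
        _ = (b : L)⁻¹ * ((a : L) * y ^ j * (a : L)⁻¹) * (a : L) := by rw [h]
        _ = (b : L)⁻¹ * (a : L) * y ^ j := by group
    have hgen : y ∈ Subgroup.zpowers (y ^ j) := by
      have hjr : j < r := Finset.mem_range.mp hj
      have hco : j.Coprime (orderOf y) := by
        rw [hy]; exact ((Nat.Prime.coprime_iff_not_dvd hr).mpr fun hd => absurd (Nat.le_of_dvd (Nat.pos_of_ne_zero hj0) hd) (by omega)).symm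
      obtain ⟨m, hm⟩ := exists_pow_eq_self_of_coprime hco
      exact ⟨m, by simpa using hm⟩
    obtain ⟨m, hm⟩ := hgen
    have hcy' : Commute y z := hm ▸ hcomm.zpow_left m
    exact Subtype.ext (inv_mul_eq_one.mp (hcy z hzm hcy'.eq)).symm
  have hfb : Function.Bijective f := Finite.injective_iff_bijective.mp hfinj
  rw [← hS (φ (y ^ j) v)]
  refine Fintype.prod_bijective f hfb _ _ fun z => ?_
  show _ = φ ((z : L) * y ^ j * (z : L)⁻¹ * (y ^ j)⁻¹) (φ (y ^ j) v)
  rw [← MulAut.mul_apply, ← map_mul, inv_mul_cancel_right]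

/-- the elements killed by `p` in the centre of a subgroup -/
theorem exists_elementary_in {G : Type*} [Group G] [Finite G] {p : ℕ} [Fact p.Prime] (P : Subgroup G)
    (hP : IsPGroup p P) (hne : P ≠ ⊥) :
    ∃ V : Subgroup G, V ≤ P ∧ V ≠ ⊥ ∧ (∀ a ∈ V, ∀ b ∈ V, a * b = b * a) ∧ (∀ a ∈ V, a ^ p = 1) ∧
      Subgroup.normalizer (P : Set G) ≤ Subgroup.normalizer (V : Set G) := by
  let V : Subgroup G :=
    { carrier := {x | x ∈ P ∧ (∀ y ∈ P, x * y = y * x) ∧ x ^ p = 1}
      mul_mem' := by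
        rintro a b ⟨ha, hac, hap⟩ ⟨hb, hbc, hbp⟩
        refine ⟨P.mul_mem ha hb, fun y hy => by rw [mul_assoc, hbc y hy, ← mul_assoc, hac y hy, mul_assoc], ?_⟩
        rw [(show Commute a b from hac b hb).mul_pow, hap, hbp, one_mul]
      one_mem' := ⟨P.one_mem, fun y _ => by simp, by simp⟩
      inv_mem' := by
        rintro a ⟨ha, hac, hap⟩
        exact ⟨P.inv_mem ha, fun y hy => ((show Commute a y from hac y hy).inv_left).eq, by rw [inv_pow, hap, inv_one]⟩ }
  refine ⟨V, fun x hx => hx.1, ?_, fun a ha b hb => ha.2.1 b hb.1, fun a ha => ha.2.2, ?_⟩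
  · haveI : Nontrivial P := (Subgroup.nontrivial_iff_ne_bot P).mpr hne
    haveI := hP.center_nontrivial
    have hd : p ∣ Nat.card (Subgroup.center P) := by
      obtain ⟨n, hn⟩ := IsPGroup.exists_card_eq (hP.to_subgroup (Subgroup.center P))
      have : n ≠ 0 := fun h => by
        rw [h, pow_zero] at hn
        exact (Finite.one_lt_card (α := Subgroup.center P)).ne' hn
      rw [hn]; exact dvd_pow_self p this
    obtain ⟨x, hx⟩ := exists_prime_orderOf_dvd_card' p hd
    intro hV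
    have hxV : ((x : P) : G) ∈ V := ⟨(x : P).2,
      fun y hy => congrArg Subtype.val (Subgroup.mem_center_iff.mp x.2 ⟨y, hy⟩).symm,
      by rw [← hx, ← Subgroup.orderOf_coe x, ← Subgroup.orderOf_coe (x : P)]; exact pow_orderOf_eq_one _⟩
    rw [hV, Subgroup.mem_bot] at hxV
    rw [← Subgroup.orderOf_coe x, ← Subgroup.orderOf_coe (x : P), hxV, orderOf_one] at hx
    exact (Fact.out : p.Prime).one_lt.ne hx
  · intro g hg
    rw [Subgroup.mem_normalizer_iff]
    have key : ∀ h ∈ Subgroup.normalizer (P : Set G), ∀ x ∈ V, h * x * h⁻¹ ∈ V := by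
      intro h hh x hx
      refine ⟨(Subgroup.mem_normalizer_iff.mp hh x).mp hx.1, fun y hy => ?_, by rw [conj_pow, hx.2.2]; group⟩
      have hy' : h⁻¹ * y * h ∈ P := by
        have := (Subgroup.mem_normalizer_iff.mp (inv_mem hh) y).mp hy
        simpa using this
      calc h * x * h⁻¹ * y = h * (x * (h⁻¹ * y * h)) * h⁻¹ := by group
        _ = h * ((h⁻¹ * y * h) * x) * h⁻¹ := by rw [hx.2.1 _ hy']
        _ = y * (h * x * h⁻¹) := by group
    intro x
    refine ⟨key g hg x, fun hx => ?_⟩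
    have := key g⁻¹ (inv_mem hg) _ hx
    simpa [mul_assoc] using this

/-- Higman's three primes lemma -/
theorem three_primes {G : Type*} [Group G] [Finite G] (K M : Subgroup G) [K.Normal] [M.Normal]
    (hKM : K ≤ M) {p q r : ℕ} (hp : p.Prime) (hq : q.Prime) (hr : r.Prime) (hpq : p ≠ q) (hpr : p ≠ r)
    (hqr : q ≠ r) (hpK : p ∣ Nat.card K) (hqM : q ∣ Nat.card M / Nat.card K)
    (hrG : r ∣ Nat.card G / Nat.card M) :
    (∃ x : G, orderOf x = p * q) ∨ (∃ x : G, orderOf x = p * r) ∨ (∃ x : G, orderOf x = q * r) := by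
  haveI := Fact.mk hp
  haveI := Fact.mk hq
  haveI := Fact.mk hr
  by_contra hcon
  simp only [not_or, not_exists] at hcon
  obtain ⟨hnpq, hnpr, hnqr⟩ := hcon
  obtain ⟨P⟩ : Nonempty (Sylow p K) := inferInstance
  set P' := (P : Subgroup K).map K.subtype with hP'
  have hF := Sylow.normalizer_sup_eq_top P
  rw [← hP'] at hF
  set N := Subgroup.normalizer (P' : Set G) with hN
  have hKidx : Nat.card M / Nat.card K = K.relIndex M := by
    conv_lhs => rw [← Subgroup.relIndex_bot_left M, ← Subgroup.relIndex_mul_relIndex ⊥ K M bot_le hKM,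
      Subgroup.relIndex_bot_left]
    exact Nat.mul_div_cancel_left _ Nat.card_pos
  have hMidx : Nat.card G / Nat.card M = M.index := by
    rw [← M.card_mul_index, Nat.mul_div_cancel_left _ Nat.card_pos]
  rw [hKidx] at hqM
  rw [hMidx] at hrG
  have hM1 : q ∣ Nat.card (M ⊓ N : Subgroup G) := by
    refine hqM.trans ?_
    have hsup : (M ⊓ N) ⊔ K = M := by
      refine le_antisymm (sup_le inf_le_left hKM) fun m hm => ?_
      obtain ⟨a, ha, b, hb, rfl⟩ := Subgroup.mem_sup_of_normal_right.mp (hF.symm ▸ Subgroup.mem_top m : m ∈ N ⊔ K)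
      refine Subgroup.mem_sup_of_normal_right.mpr ⟨a, ⟨?_, ha⟩, b, hb, rfl⟩
      have := M.mul_mem hm (M.inv_mem (hKM hb))
      simpa using this
    have := Subgroup.relIndex_sup_right (M ⊓ N) K
    rw [hsup] at this
    rw [this]
    exact Subgroup.relIndex_dvd_card _ _
  set M1 := (M ⊓ N : Subgroup G).subgroupOf N with hM1def
  haveI : M1.Normal := by
    rw [hM1def, Subgroup.inf_subgroupOf_right]
    infer_instance
  obtain ⟨Q⟩ : Nonempty (Sylow q M1) := inferInstance
  have hF2 := Sylow.normalizer_sup_eq_top Q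
  set Q1 := (Q : Subgroup M1).map M1.subtype with hQ1
  set Q' := Q1.map N.subtype with hQ'
  have hcM1 : Nat.card M1 = Nat.card (M ⊓ N : Subgroup G) := Nat.card_congr (Subgroup.subgroupOfEquivOfLe inf_le_right).toEquiv
  have hr1 : r ∣ Nat.card (Subgroup.normalizer (Q1 : Set N)) := by
    have h1 := Subgroup.relIndex_sup_right (Subgroup.normalizer (Q1 : Set N)) M1
    rw [hF2, Subgroup.relIndex_top_right] at h1
    have h2 : r ∣ M1.index := by
      have e : M1.index = M.relIndex N := by rw [hM1def, Subgroup.inf_subgroupOf_right]; rfl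
      rw [e]
      have := Subgroup.relIndex_sup_right N M
      rw [show N ⊔ M = ⊤ from top_le_iff.mp (hF ▸ sup_le_sup_left hKM N), Subgroup.relIndex_top_right] at this
      exact this ▸ hrG
    rw [h1] at h2
    exact h2.trans (Subgroup.relIndex_dvd_card _ _)
  obtain ⟨y1, hy1⟩ := exists_prime_orderOf_dvd_card' r hr1
  set y : G := ((y1 : N) : G) with hy
  have hyo : orderOf y = r := by rw [hy, Subgroup.orderOf_coe, Subgroup.orderOf_coe, hy1]
  have hyQ : y ∈ Subgroup.normalizer (Q' : Set G) := by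
    have := Subgroup.le_normalizer_map N.subtype (Subgroup.mem_map_of_mem N.subtype y1.2)
    exact this
  have hyP : y ∈ N := (y1 : N).2
  have hQP : Q' ≤ N := Subgroup.map_subtype_le _
  have hQne : Q' ≠ ⊥ := by
    intro h
    have hd := Q.dvd_card_of_dvd_card (hcM1 ▸ hM1)
    rw [Nat.card_congr (Subgroup.equivMapOfInjective (Q : Subgroup M1) _ M1.subtype_injective).toEquiv,
      Nat.card_congr (Subgroup.equivMapOfInjective _ _ N.subtype_injective).toEquiv] at hd
    change q ∣ Nat.card Q' at hd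
    rw [h, Subgroup.card_bot] at hd
    exact hq.one_lt.ne' (Nat.dvd_one.mp hd)
  have hPne : P' ≠ ⊥ := by
    intro h
    have hd := P.dvd_card_of_dvd_card hpK
    rw [Nat.card_congr (Subgroup.equivMapOfInjective (P : Subgroup K) _ K.subtype_injective).toEquiv, ← hP'] at hd
    rw [h, Subgroup.card_bot] at hd
    exact hp.one_lt.ne' (Nat.dvd_one.mp hd)
  have hQp : IsPGroup q Q' := (Q.2.map _).map _
  have hPp : IsPGroup p P' := P.2.map _
  obtain ⟨Z, hZQ, hZne, hZab, hZq, hZn⟩ := exists_elementary_in Q' hQp hQne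
  obtain ⟨V, hVP, hVne, hVab, hVp, hVn⟩ := exists_elementary_in P' hPp hPne
  have hZp : IsPGroup q Z := hQp.to_le hZQ
  have hVpg : IsPGroup p V := hPp.to_le hVP
  let L := Subgroup.normalizer (V : Set G)
  letI : CommGroup V := { (inferInstance : Group V) with mul_comm := fun a b => Subtype.ext (hVab a a.2 b b.2) }
  have hord : ∀ (a b : G) (m n : ℕ), m.Prime → n.Prime → m ≠ n → a ≠ 1 → b ≠ 1 → a ^ m = 1 → b ^ n = 1 →
      Commute a b → orderOf (a * b) = m * n := by
    intro a b m n hm hn hmn ha hb ham hbn hc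
    haveI := Fact.mk hm
    haveI := Fact.mk hn
    rw [hc.orderOf_mul_eq_mul_orderOf_of_coprime, orderOf_eq_prime ham ha, orderOf_eq_prime hbn hb]
    rw [orderOf_eq_prime ham ha, orderOf_eq_prime hbn hb]
    exact (Nat.coprime_primes hm hn).mpr hmn
  have hyr : y ^ r = 1 := hyo ▸ pow_orderOf_eq_one y
  have hy0 : y ≠ 1 := fun h => by rw [h, orderOf_one] at hyo; exact hr.one_lt.ne hyo
  let ZL := Z.subgroupOf L
  have hfixcomm : ∀ (x : L) (v : V), Subgroup.normalizerMonoidHom V x v = v → Commute (v : G) (x : G) := by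
    intro x v h
    have h' : (x : G) * v * (x : G)⁻¹ = v := congrArg Subtype.val h
    exact (mul_inv_eq_iff_eq_mul.mp h').symm
  have hVtriv := trivial_of_partition (Subgroup.normalizerMonoidHom V) ZL ⟨y, hVn hyP⟩ hr
    (by rw [← hyo, ← Subgroup.orderOf_coe]) ?_ ?_ ?_ ?_ ?_ ?_ ?_
  · obtain ⟨v, hv, hv1⟩ := (Subgroup.bot_or_exists_ne_one V).resolve_left hVne
    exact hv1 (congrArg Subtype.val (hVtriv ⟨v, hv⟩))
  · rw [Subgroup.mem_normalizer_iff]
    intro x
    exact Subgroup.mem_normalizer_iff.mp (hZn hyQ) (x : G)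
  · intro h
    rw [Subgroup.subgroupOf_eq_bot, disjoint_iff, inf_eq_left.mpr (hZQ.trans (hQP.trans hVn))] at h
    exact hZne h
  · exact fun a ha b hb => Subtype.ext (hZab a ha b hb)
  · intro z hz hz1 v hv
    by_contra hv1
    exact hnpq _ (hord v z p q hp hq hpq (fun h => hv1 (Subtype.ext h)) (fun h => hz1 (Subtype.ext h))
      (hVp v v.2) (hZq z hz) (hfixcomm z v hv))
  · intro v hv
    by_contra hv1
    exact hnpr _ (hord v y p r hp hr hpr (fun h => hv1 (Subtype.ext h)) hy0 (hVp v v.2) hyr (hfixcomm _ v hv))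
  · intro z hz hc
    by_contra hz1
    exact hnqr _ (hord z y q r hq hr hqr (fun h => hz1 (Subtype.ext h)) hy0 (hZq z hz) hyr (congrArg Subtype.val hc).symm)
  · obtain ⟨a, ha⟩ := hZp.exists_card_eq
    obtain ⟨b, hb⟩ := hVpg.exists_card_eq
    rw [Nat.card_congr (Subgroup.subgroupOfEquivOfLe (hZQ.trans (hQP.trans hVn))).toEquiv, ha, hb]
    exact ((Nat.coprime_primes hq hp).mpr hpq.symm).pow _ _

end Cfsg.Agent.Recog
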