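import Mathlib

/-! For `m ≥ 6` there are two primes in `(m, 2m]`. -/

set_option autoImplicit false

namespace Cfsg.Agent.Recog.TwoPrimes

open Nat

theorem two_primes_large (n : ℕ) (h512 : 512 ≤ n) :
    ∃ p q : ℕ, p.Prime ∧ q.Prime ∧ n < p ∧ p < q ∧ q ≤ 2 * n := by
  obtain ⟨p0, hp0, hp0n, hp0le⟩ := Nat.bertrand n (by omega)
  by_contra hno
  push Not at hno
  have huniq : ∀ p : ℕ, p.Prime → n < p → p ≤ 2 * n → p = p0 := by
    intro p hp h1 h2
    rcases lt_trichotomy p p0 with h | h | h
    · exact absurd hp0le (not_le.mpr (hno p p0 hp hp0 h1 h))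
    · exact h
    · exact absurd h2 (not_le.mpr (hno p0 p hp0 hp hp0n h))
  have n_pos : 0 < n := by omega
  let f : ℕ → ℕ := fun x => x ^ n.centralBinom.factorization x
  let S := {p ∈ Finset.range (2 * n / 3 + 1) | Nat.Prime p}
  have hnot : p0 ∉ S := fun h => by
    have := Finset.mem_range.mp (Finset.mem_filter.mp h).1
    omega
  have hprod : n.centralBinom = ∏ x ∈ insert p0 S, f x := by
    refine (Eq.trans ?_ n.prod_pow_factorization_centralBinom).symm
    apply Finset.prod_subset
    · intro x hx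
      rcases Finset.mem_insert.mp hx with rfl | hx
      · exact Finset.mem_range.mpr (by omega)
      · have := Finset.mem_range.mp (Finset.mem_filter.mp hx).1
        exact Finset.mem_range.mpr (by omega)
    intro x hx hxS
    rw [Finset.mem_range, Nat.lt_succ_iff] at hx
    by_cases hxp : x.Prime
    swap
    · simp [f, Nat.factorization_eq_zero_of_not_prime n.centralBinom hxp]
    have hx3 : 2 * n < 3 * x := by
      by_contra h
      exact hxS (Finset.mem_insert_of_mem (Finset.mem_filter.mpr ⟨Finset.mem_range.mpr (by omega), hxp⟩))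
    rcases le_or_gt x n with h | h
    · simp [f, Nat.factorization_centralBinom_of_two_mul_self_lt_three_mul (by omega) h hx3]
    · exact absurd (Finset.mem_insert.mpr (Or.inl (huniq x hxp h hx))) hxS
  have hf2n : ∀ x, f x ≤ 2 * n := fun x => Nat.pow_factorization_choose_le (by omega)
  have hs : 1 ≤ Nat.sqrt (2 * n) := Nat.sqrt_pos.mpr (by omega)
  have hsmall : ∏ x ∈ S.filter (· ≤ Nat.sqrt (2 * n)), f x ≤ (2 * n) ^ (Nat.sqrt (2 * n) - 1) := by
    refine (Finset.prod_le_prod' fun x _ => hf2n x).trans ?_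
    rw [Finset.prod_const]
    refine Nat.pow_le_pow_right (by omega) ?_
    refine (Finset.card_le_card (t := Finset.Icc 2 (Nat.sqrt (2 * n))) fun x hx => ?_).trans (by rw [Nat.card_Icc]; omega)
    obtain ⟨h1, h2⟩ := Finset.mem_filter.1 hx
    exact Finset.mem_Icc.mpr ⟨(Finset.mem_filter.1 h1).2.two_le, h2⟩
  have hbig : ∏ x ∈ S.filter (fun x => ¬ x ≤ Nat.sqrt (2 * n)), f x ≤ 4 ^ (2 * n / 3) := by
    refine le_trans ?_ (primorial_le_four_pow (2 * n / 3))
    refine (Finset.prod_le_prod' fun p hp => (?_ : f p ≤ p)).trans ?_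
    · obtain ⟨h1, h2⟩ := Finset.mem_filter.1 hp
      refine (pow_right_mono₀ (Finset.mem_filter.1 h1).2.one_lt.le ?_).trans (pow_one p).le
      exact Nat.factorization_choose_le_one (Nat.sqrt_lt'.mp <| not_le.1 h2)
    refine Finset.prod_le_prod_of_subset_of_one_le' (Finset.filter_subset _ _) ?_
    exact fun p hp _ => (Finset.mem_filter.1 hp).2.one_lt.le
  have hle : n.centralBinom ≤ (2 * n) ^ Nat.sqrt (2 * n) * 4 ^ (2 * n / 3) := by
    rw [hprod, Finset.prod_insert hnot, ← Finset.prod_filter_mul_prod_filter_not S (· ≤ Nat.sqrt (2 * n))]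
    calc f p0 * ((∏ x ∈ S.filter (· ≤ Nat.sqrt (2 * n)), f x) * ∏ x ∈ S.filter (fun x => ¬ x ≤ Nat.sqrt (2 * n)), f x)
        ≤ 2 * n * ((2 * n) ^ (Nat.sqrt (2 * n) - 1) * 4 ^ (2 * n / 3)) :=
          Nat.mul_le_mul (hf2n p0) (Nat.mul_le_mul hsmall hbig)
      _ = (2 * n) ^ Nat.sqrt (2 * n) * 4 ^ (2 * n / 3) := by
          rw [← mul_assoc, ← pow_succ', Nat.succ_eq_add_one, Nat.sub_add_cancel hs]
  have h1 := Nat.four_pow_lt_mul_centralBinom n (by omega)
  have h2 := bertrand_main_inequality (n := n) (by omega)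
  have h3 := Nat.mul_le_mul_left n hle
  rw [← mul_assoc] at h3
  omega

theorem two_primes (m : ℕ) (h : 6 ≤ m) : ∃ p q : ℕ, p.Prime ∧ q.Prime ∧ m < p ∧ p < q ∧ q ≤ 2 * m := by
  rcases le_or_gt 512 m with h512 | h512
  · exact two_primes_large m h512
  rcases Nat.lt_or_ge m 7 with h | _
  · exact ⟨7, 11, by norm_num, by norm_num, by omega, by norm_num, by omega⟩
  rcases Nat.lt_or_ge m 11 with h | _
  · exact ⟨11, 13, by norm_num, by norm_num, by omega, by norm_num, by omega⟩
  rcases Nat.lt_or_ge m 17 with h | _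
  · exact ⟨17, 19, by norm_num, by norm_num, by omega, by norm_num, by omega⟩
  rcases Nat.lt_or_ge m 29 with h | _
  · exact ⟨29, 31, by norm_num, by norm_num, by omega, by norm_num, by omega⟩
  rcases Nat.lt_or_ge m 47 with h | _
  · exact ⟨47, 53, by norm_num, by norm_num, by omega, by norm_num, by omega⟩
  rcases Nat.lt_or_ge m 83 with h | _
  · exact ⟨83, 89, by norm_num, by norm_num, by omega, by norm_num, by omega⟩
  rcases Nat.lt_or_ge m 157 with h | _
  · exact ⟨157, 163, by norm_num, by norm_num, by omega, by norm_num, by omega⟩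
  rcases Nat.lt_or_ge m 311 with h | _
  · exact ⟨311, 313, by norm_num, by norm_num, by omega, by norm_num, by omega⟩
  exact ⟨617, 619, by norm_num, by norm_num, by omega, by norm_num, by omega⟩

end Cfsg.Agent.Recog.TwoPrimes
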