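import Mathlib

/-!
A copy of the double cover `2.S₅⁻` (order 240, unique involution) inside `GL₄(7)`, acting without fixed
points, given by the list of its elements.
-/

set_option autoImplicit false

namespace Cfsg.Agent.TwoS5

/-- a row -/
abbrev Row := ℕ × ℕ × ℕ × ℕ

/-- a `4 × 4` matrix of naturals, read modulo 7 -/
abbrev M4 := Row × Row × Row × Row

set_option synthInstance.maxSize 1000

instance decEqRow : DecidableEq Row := inferInstanceAs (DecidableEq (ℕ × ℕ × ℕ × ℕ))

instance decEqM4 : DecidableEq M4 := inferInstanceAs (DecidableEq (Row × Row × Row × Row))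

def rowMul (r : Row) : M4 → Row
  | ((a00, a01, a02, a03), (a10, a11, a12, a13), (a20, a21, a22, a23), (a30, a31, a32, a33)) =>
    match r with
    | (r0, r1, r2, r3) =>
      ((r0 * a00 + r1 * a10 + r2 * a20 + r3 * a30) % 7, (r0 * a01 + r1 * a11 + r2 * a21 + r3 * a31) % 7,
       (r0 * a02 + r1 * a12 + r2 * a22 + r3 * a32) % 7, (r0 * a03 + r1 * a13 + r2 * a23 + r3 * a33) % 7)

def mulT : M4 → M4 → M4
  | (a, b, c, d), t => (rowMul a t, rowMul b t, rowMul c t, rowMul d t)

def oneT : M4 := ((1, 0, 0, 0), (0, 1, 0, 0), (0, 0, 1, 0), (0, 0, 0, 1))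
def negT : M4 := ((6, 0, 0, 0), (0, 6, 0, 0), (0, 0, 6, 0), (0, 0, 0, 6))

def powT (t : M4) : ℕ → M4
  | 0 => oneT
  | n + 1 => mulT (powT t n) t

def addRow : Row → Row → Row
  | (a, b, c, d), (a', b', c', d') => ((a + a') % 7, (b + b') % 7, (c + c') % 7, (d + d') % 7)

def addT : M4 → M4 → M4
  | (a, b, c, d), (a', b', c', d') => (addRow a a', addRow b b', addRow c c', addRow d d')

def codeRow : Row → ℕ
  | (a, b, c, d) => a + 7 * (b + 7 * (c + 7 * d))

def code : M4 → ℕ
  | (a, b, c, d) => codeRow a + 2401 * (codeRow b + 2401 * (codeRow c + 2401 * codeRow d))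

def ofCodeRow (n : ℕ) : Row := (n % 7, n / 7 % 7, n / 49 % 7, n / 343 % 7)

def ofCode (n : ℕ) : M4 :=
  (ofCodeRow n, ofCodeRow (n / 2401), ofCodeRow (n / 2401 / 2401), ofCodeRow (n / 2401 / 2401 / 2401))

abbrev Mat := Matrix (Fin 4) (Fin 4) (ZMod 7)

def toMat : M4 → Mat
  | ((a00, a01, a02, a03), (a10, a11, a12, a13), (a20, a21, a22, a23), (a30, a31, a32, a33)) =>
    !![(a00 : ZMod 7), (a01 : ZMod 7), (a02 : ZMod 7), (a03 : ZMod 7);
       (a10 : ZMod 7), (a11 : ZMod 7), (a12 : ZMod 7), (a13 : ZMod 7);
       (a20 : ZMod 7), (a21 : ZMod 7), (a22 : ZMod 7), (a23 : ZMod 7);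
       (a30 : ZMod 7), (a31 : ZMod 7), (a32 : ZMod 7), (a33 : ZMod 7)]

def redRow : Row → Row
  | (a, b, c, d) => (a % 7, b % 7, c % 7, d % 7)

def red : M4 → M4
  | (a, b, c, d) => (redRow a, redRow b, redRow c, redRow d)

def ofMat (M : Mat) : M4 :=
  (((M 0 0).val, (M 0 1).val, (M 0 2).val, (M 0 3).val), ((M 1 0).val, (M 1 1).val, (M 1 2).val, (M 1 3).val),
   ((M 2 0).val, (M 2 1).val, (M 2 2).val, (M 2 3).val), ((M 3 0).val, (M 3 1).val, (M 3 2).val, (M 3 3).val))

theorem ofMat_toMat (t : M4) : ofMat (toMat t) = red t := by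
  obtain ⟨⟨a, b, c, d⟩, ⟨e, f, g, h⟩, ⟨i, j, k, l⟩, ⟨m, n, o, p⟩⟩ := t
  simp [ofMat, toMat, red, redRow, ZMod.val_natCast]

theorem toMat_red (t : M4) : toMat (red t) = toMat t := by
  obtain ⟨⟨a, b, c, d⟩, ⟨e, f, g, h⟩, ⟨i, j, k, l⟩, ⟨m, n, o, p⟩⟩ := t
  ext i j
  fin_cases i <;> fin_cases j <;> simp [toMat, red, redRow, ZMod.natCast_mod]

theorem toMat_mulT (s t : M4) : toMat (mulT s t) = toMat s * toMat t := by
  obtain ⟨⟨a, b, c, d⟩, ⟨e, f, g, h⟩, ⟨i, j, k, l⟩, ⟨m, n, o, p⟩⟩ := t
  obtain ⟨⟨a', b', c', d'⟩, ⟨e', f', g', h'⟩, ⟨i', j', k', l'⟩, ⟨m', n', o', p'⟩⟩ := s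
  ext u v
  fin_cases u <;> fin_cases v <;>
    simp [toMat, mulT, rowMul, Matrix.mul_apply, Fin.sum_univ_four, ZMod.natCast_mod]

theorem toMat_oneT : toMat oneT = 1 := by decide +kernel

theorem toMat_negT : toMat negT = -1 := by decide +kernel

theorem toMat_addT (s t : M4) : toMat (addT s t) = toMat s + toMat t := by
  obtain ⟨⟨a, b, c, d⟩, ⟨e, f, g, h⟩, ⟨i, j, k, l⟩, ⟨m, n, o, p⟩⟩ := t
  obtain ⟨⟨a', b', c', d'⟩, ⟨e', f', g', h'⟩, ⟨i', j', k', l'⟩, ⟨m', n', o', p'⟩⟩ := s
  ext u v
  fin_cases u <;> fin_cases v <;> simp [toMat, addT, addRow, ZMod.natCast_mod]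

theorem toMat_powT (t : M4) (n : ℕ) : toMat (powT t n) = toMat t ^ n := by
  induction n with
  | zero => rw [powT, toMat_oneT, pow_zero]
  | succ n ih => rw [powT, toMat_mulT, ih, pow_succ]

def codes : List ℕ := [
  4747844002000, 15201114128122, 4099202596301, 8793570391158, 777127379569, 7760753135974,
  32586266490645, 17797266663277, 10063254785887, 22469534741549, 19586316532590, 13677986783316,
  32830073024432, 25889781417059, 28487064012000, 4045726506814, 6262112196898, 30678704218378,
  6709633095979, 13785431596222, 24223698777168, 14354510271353, 23570638203078, 11537138401073,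
  10462657239756, 2623952127944, 25749526069714, 5673410118672, 32052986116119, 759377586155,
  3371553684755, 10725737462028, 27701856804781, 26459179018015, 83088838311, 33092955958913,
  17644817796637, 29978176057242, 26569027292316, 24709267933945, 11634062790161, 6612739144363,
  29318307459458, 14257616319737, 4662544743687, 9675673197471, 26930039535972, 1532515399638,
  3011492673873, 27025607180220, 30913827709570, 32509640134302, 1077666838331, 18234059104282,
  6165187807803, 5507221470499, 5484984935321, 28359560043941, 12202725038884, 32149870151950,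
  32849064240069, 24334676336585, 20974479076835, 31121476780626, 2898808715918, 3464362797118,
  2511469361805, 1477311150403, 23947094748169, 13008344688252, 22912609683697, 15784429261329,
  24623102071387, 3385435257989, 15623948263539, 28046014869172, 23307748660996, 14285461587839,
  581369474840, 14424032984610, 9218034597106, 15859142630647, 9772567149087, 14048601998070,
  15394878596147, 25093765547884, 32491387164418, 28721103826951, 28295011486093, 5941679306768,
  11069895509563, 29484306258001, 28736341869253, 27319590201154, 12671379400923, 12881969970541,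
  5232322063232, 7650274724630, 25079964432139, 360101381695, 25763407642948, 1491112162898,
  20517830823796, 27416474354284, 5936490340944, 29456545422494, 23933011140368, 32871428100654,
  2815719877656, 17728107709059, 3478163792757, 8093048112822, 32608503969423, 26100372104333,
  32062119218365, 8943943071117, 5900324230546, 4496540180679, 29592614890574, 24986320734978,
  7885398107755, 1435621448022, 8120808382398, 9689478428432, 10412192152747, 28542550609210,
  24637185659980, 23736928172046, 19655833379903, 1040304254177, 6280359283982, 19489432496759,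
  30213370424350, 13056941391134, 20351499622451, 96899716760, 28309095091444, 8274948772937,
  31149242805078, 9052030034098, 1380417198787, 13022226261486, 6621882179250, 5825510722675,
  14866800507558, 33098342212528, 9453444854886, 14134566671220, 6718760449937, 23127824444423,
  9303634772157, 9980166065232, 2165290750101, 26363169853757, 10675075104434, 29827808434139,
  8655275858466, 27040517937727, 20966966938066, 28499535598229, 15034824159154, 539985244661,
  30116476472734, 2428180275327, 14083607801, 31910023454722, 24972439161744, 5678790590287,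
  28680855142368, 5289239941961, 8558381906850, 30886354088933, 29232640716686, 23543164582441,
  24723150333130, 13965311967999, 10739537768587, 4832550492515, 32159013169981, 13691787073117,
  415340256017, 4389884434341, 4059527502453, 14520911255297, 19074469670207, 8860848188058,
  15228587631103, 30496803440607, 4071318474069, 30261393283620, 20537693109262, 11841712795228,
  4004323270074, 29881282105626, 8510359047580, 1146953291771, 18253921507404, 11746145150980,
  11355277976916, 32835261990256, 9592584476816, 23376867969909, 4362000345725, 15464003670204,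
  28096677226766, 31928301096941, 29719722297102, 235456393051, 1394218211282, 10379569359451,
  25714810940066, 14051478774157, 3422959560378, 6183465332366, 2638035718938, 12104883062235,
  3025374247107, 14965664443465, 29370946073387, 7622509526122, 5274007664803, 19046624519761,
  22987317304727, 12311410991787, 2151409176867, 9179131675482, 690090931019, 8212206681462,
  30650943948802, 11452162130046, 24237782384969, 19143549026498, 17804785393134, 9287445955543,
  4789529716390, 20365381195685, 13799313169456, 28032213736669, 24320592728784, 26666862677877]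

def gT : M4 := ofCode 15201114128122
def hT : M4 := ofCode 4099202596301

theorem check_closed : ∀ a ∈ codes,
    code (mulT (ofCode a) gT) ∈ codes ∧ ofCode (code (mulT (ofCode a) gT)) = mulT (ofCode a) gT ∧
    code (mulT (ofCode a) hT) ∈ codes ∧ ofCode (code (mulT (ofCode a) hT)) = mulT (ofCode a) hT := by
  decide +kernel

theorem check_orders : ∀ a ∈ codes,
    powT (ofCode a) 8 = oneT ∨ powT (ofCode a) 10 = oneT ∨ powT (ofCode a) 12 = oneT := by
  decide +kernel

theorem check_involution : ∀ a ∈ codes,
    powT (ofCode a) 2 = oneT → ofCode a = oneT ∨ ofCode a = negT := by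
  decide +kernel

theorem check_three : ∀ a ∈ codes, powT (ofCode a) 3 = oneT →
    ofCode a = oneT ∨ addT (addT oneT (ofCode a)) (powT (ofCode a) 2) = ((0,0,0,0),(0,0,0,0),(0,0,0,0),(0,0,0,0)) := by
  decide +kernel

theorem check_five : ∀ a ∈ codes, powT (ofCode a) 5 = oneT →
    ofCode a = oneT ∨ addT (addT (addT (addT oneT (ofCode a)) (powT (ofCode a) 2)) (powT (ofCode a) 3))
      (powT (ofCode a) 4) = ((0,0,0,0),(0,0,0,0),(0,0,0,0),(0,0,0,0)) := by
  decide +kernel

theorem check_red : ∀ a ∈ codes, ∀ n ∈ [1, 2, 3, 5], red (powT (ofCode a) n) = powT (ofCode a) n := by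
  decide +kernel

theorem check_gens : powT gT 12 = oneT ∧ powT hT 6 = oneT ∧ powT gT 6 = negT ∧
    powT (mulT gT hT) 8 = oneT ∧ powT (mulT gT hT) 4 ≠ oneT ∧ red (powT (mulT gT hT) 4) = powT (mulT gT hT) 4 ∧
    powT (mulT (mulT gT gT) hT) 10 = oneT ∧ powT (mulT (mulT gT gT) hT) 5 ≠ oneT ∧
    powT (mulT (mulT gT gT) hT) 2 ≠ oneT ∧ powT gT 4 ≠ oneT ∧ powT gT 6 ≠ oneT := by
  decide +kernel

theorem check_one : code oneT ∈ codes ∧ ofCode (code oneT) = oneT := by decide +kernel

end Cfsg.Agent.TwoS5
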